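import Cfsg.Agent.Lib.Geometry.OmegaIndex

/-! `Omega` is generated by Siegel transformations. -/

set_option autoImplicit false

namespace CfsgLib.Geometry

open QuadraticMap

variable {F V : Type*} [Field F] [AddCommGroup V] [Module F V]

/-- The group generated by all Siegel transformations. -/
noncomputable def siegelGroup (Q : QuadraticForm F V) : Subgroup (V ≃ₗ[F] V) :=
  Subgroup.closure {g | ∃ (e w : V) (he : Q e = 0) (hw : polar Q e w = 0), g = siegel Q e w he hw}

variable {Q : QuadraticForm F V}

theorem siegel_mem (e w : V) (he : Q e = 0) (hw : polar Q e w = 0) :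
    siegel Q e w he hw ∈ siegelGroup Q :=
  Subgroup.subset_closure ⟨e, w, he, hw, rfl⟩

theorem siegelGroup_le_orth : siegelGroup Q ≤ orth Q := by
  rw [siegelGroup, Subgroup.closure_le]
  rintro _ ⟨e, w, he, hw, rfl⟩
  exact siegel_mem_orth Q e w he hw

/-- Conjugating a Siegel transformation. -/
theorem siegel_conj {g : V ≃ₗ[F] V} (hg : g ∈ orth Q) (e w : V) (he : Q e = 0)
    (hw : polar Q e w = 0) :
    g * siegel Q e w he hw * g⁻¹ =
      siegel Q (g e) (g w) (by rw [mem_orth.1 hg, he]) (by rw [orth_polar hg, hw]) := by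
  refine LinearEquiv.ext fun v => ?_
  show g (siegel Q e w he hw (g.symm v)) = _
  rw [siegel_apply, siegel_apply]
  simp only [map_sub, map_add, map_smul, g.apply_symm_apply, mem_orth.1 hg]
  rw [← orth_polar hg (g.symm v) e, ← orth_polar hg (g.symm v) w, g.apply_symm_apply]

theorem siegelGroup_normal {g s : V ≃ₗ[F] V} (hg : g ∈ orth Q) (hs : s ∈ siegelGroup Q) :
    g * s * g⁻¹ ∈ siegelGroup Q := by
  induction hs using Subgroup.closure_induction with
  | mem s hs =>
    obtain ⟨e, w, he, hw, rfl⟩ := hs
    rw [siegel_conj hg]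
    exact siegel_mem _ _ _ _
  | one => simp
  | mul a b _ _ iha ihb =>
    rw [show g * (a * b) * g⁻¹ = (g * a * g⁻¹) * (g * b * g⁻¹) by group]
    exact mul_mem iha ihb
  | inv a _ iha =>
    rw [show g * a⁻¹ * g⁻¹ = (g * a * g⁻¹)⁻¹ by group]
    exact inv_mem iha

theorem siegel_smul_left (e w : V) (t : F) (he : Q e = 0) (hte : Q (t • e) = 0)
    (hw : polar Q (t • e) w = 0) (htw : polar Q e (t • w) = 0) :
    siegel Q (t • e) w hte hw = siegel Q e (t • w) he htw := by
  refine LinearEquiv.ext fun v => ?_
  rw [siegel_apply, siegel_apply, map_smul', polar_smul_right', polar_smul_right']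
  module

theorem siegel_mul (e w₁ w₂ : V) (he : Q e = 0) (h₁ : polar Q e w₁ = 0) (h₂ : polar Q e w₂ = 0) :
    siegel Q e w₁ he h₁ * siegel Q e w₂ he h₂ =
      siegel Q e (w₁ + w₂) he (by rw [polar_add_right, h₁, h₂, add_zero]) :=
  LinearEquiv.ext fun v => siegelMap_comp Q he h₁ h₂ v

/-- A Siegel transformation carrying `e` to `z`. -/
theorem exists_siegel_move {e z f : V} (he : Q e = 0) (hz : Q z = 0) (hf : Q f = 0)
    (hef : polar Q e f = 1) (hzf : polar Q z f = 1) :
    ∃ s ∈ siegelGroup Q, s e = z ∧ s f = f ∧
      ∀ t, polar Q t e = 0 → polar Q t z = 0 → polar Q t f = 0 → s t = t := by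
  have hw : polar Q f (z - e) = 0 := by
    rw [polar_sub_right, polar_comm Q f z, hzf, polar_comm Q f e, hef, sub_self]
  refine ⟨siegel Q f (z - e) hf hw, siegel_mem _ _ _ _, ?_, ?_, fun t h1 h2 h3 => ?_⟩
  · rw [siegel_apply, hef, map_sub', polar_sub_right, polar_self', he, hz, polar_comm Q z e]
    module
  · exact siegel_eq_self Q _ _ hf hw (by rw [polar_self', hf, mul_zero]) hw
  · exact siegel_eq_self Q _ _ hf hw h3 (by rw [polar_sub_right, h1, h2, sub_zero])

theorem finrank_pair_le [FiniteDimensional F V] (e z : V) :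
    Module.finrank F (Submodule.span F ({e, z} : Set V)) ≤ 2 := by
  classical
  refine le_trans (finrank_span_le_card ({e, z} : Set V)) ?_
  rw [Set.toFinset_insert, Set.toFinset_singleton]
  exact Finset.card_insert_le _ _

variable [FiniteDimensional F V]

/-- A nondegenerate proper subspace has a non-singular vector orthogonal to it. -/
theorem exists_nonsingular_perp (hQ : (polarBilin Q).Nondegenerate) (T : Submodule F V)
    (hnd : ∀ t ∈ T, (∀ s ∈ T, polar Q t s = 0) → t = 0)
    (hlt : Module.finrank F T < Module.finrank F V) :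
    ∃ w, (∀ t ∈ T, polar Q w t = 0) ∧ Q w ≠ 0 := by
  obtain ⟨x, hx⟩ : ∃ x, x ∉ T := by
    by_contra hc
    push Not at hc
    have : T = ⊤ := eq_top_iff.2 fun z _ => hc z
    rw [this, finrank_top] at hlt
    exact lt_irrefl _ hlt
  obtain ⟨w₀, hw₀, hw₀x⟩ := exists_polar hQ T hx 1
  have hw₀T : w₀ ∉ T := fun hm => by
    rw [hnd w₀ hm hw₀, QuadraticMap.polar_zero_left] at hw₀x
    exact zero_ne_one hw₀x
  by_cases h0 : Q w₀ = 0
  · obtain ⟨w₁, hw₁, hw₁w₀⟩ := exists_polar hQ T hw₀T 1
    by_cases h1 : Q w₁ = 0
    · refine ⟨w₁ + w₀, fun t ht => by rw [polar_add_left, hw₁ t ht, hw₀ t ht, add_zero], ?_⟩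
      rw [map_add', h0, h1, hw₁w₀]; simp
    · exact ⟨w₁, hw₁, h1⟩
  · exact ⟨w₀, hw₀, h0⟩

/-- Every non-zero vector pairs non-trivially with some singular vector. -/
theorem exists_singular_polar (hQ : (polarBilin Q).Nondegenerate) {e : V} (he0 : e ≠ 0)
    (he : Q e = 0) {u : V} (hu : u ≠ 0) : ∃ f, Q f = 0 ∧ polar Q f u ≠ 0 := by
  by_cases h : polar Q e u = 0
  · obtain ⟨y, -, hye, hyu⟩ := exists_polar₂ hQ ⊥ (x := e) (y := u) (by simpa using he0)
      (by simpa using hu)
    refine ⟨y - (Q y / polar Q y e) • e, ?_, ?_⟩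
    · rw [map_sub', map_smul', he, polar_smul_right']; field_simp; ring
    · rw [polar_sub_left, polar_smul_left', h, mul_zero, sub_zero]; exact hyu
  · exact ⟨e, he, h⟩

section Finite

variable [Finite F]

/-- Over a finite field every form of dimension at least three is isotropic. -/
theorem exists_singular (hQ : (polarBilin Q).Nondegenerate) (hn : 3 ≤ Module.finrank F V) :
    ∃ e, e ≠ 0 ∧ Q e = 0 := by
  haveI := Fintype.ofFinite F
  by_contra hiso
  push Not at hiso
  haveI : Nontrivial V := Module.nontrivial_of_finrank_pos (R := F) (by omega)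
  obtain ⟨u, hu⟩ := exists_ne (0 : V)
  have hQu := hiso u hu
  have kerdim : ∀ a, Module.finrank F V ≤ Module.finrank F (LinearMap.ker (polarBilin Q a)) + 1 := fun a => by
    have h := LinearMap.finrank_range_add_finrank_ker (polarBilin Q a)
    have h' : Module.finrank F (LinearMap.range (polarBilin Q a)) ≤ 1 :=
      le_trans (Submodule.finrank_le _) (by simp)
    omega
  by_cases h2 : ringChar F = 2
  · haveI := ringChar.of_eq h2
    have huu : polar Q u u = 0 := by rw [polar_self', CharTwo.two_eq_zero, zero_mul]
    obtain ⟨w, hw, hwu⟩ : ∃ w, polar Q u w = 0 ∧ w ∉ Submodule.span F {u} := by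
      by_contra hc
      push Not at hc
      have := Submodule.finrank_mono (show LinearMap.ker (polarBilin Q u) ≤ Submodule.span F {u} from
        fun w hw => hc w hw)
      have := kerdim u
      have := finrank_span_singleton (K := F) hu
      omega
    obtain ⟨t, ht⟩ := FiniteField.isSquare_of_char_two h2 (Q w / Q u)
    refine hiso (w + t • u) (fun h => hwu ?_) ?_
    · rw [eq_neg_of_add_eq_zero_left h, ← neg_smul]
      exact Submodule.smul_mem _ _ (Submodule.mem_span_singleton_self u)
    · rw [map_add', map_smul', polar_smul_right', polar_comm, hw, ← ht, div_mul_cancel₀ _ hQu]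
      simp [CharTwo.add_self_eq_zero]
  have h2' : (2 : F) ≠ 0 := fun h => h2 (by
    haveI := CharTwo.of_one_ne_zero_of_two_eq_zero (one_ne_zero (α := F)) h
    exact ringChar.eq F 2)
  obtain ⟨w₁, hw₁0, hw₁⟩ : ∃ w, w ≠ 0 ∧ polar Q u w = 0 := by
    have := kerdim u
    haveI : Nontrivial (LinearMap.ker (polarBilin Q u)) :=
      Module.nontrivial_of_finrank_pos (R := F) (by omega)
    obtain ⟨w, hw⟩ := exists_ne (0 : LinearMap.ker (polarBilin Q u))
    exact ⟨w, fun h => hw (Subtype.ext h), w.2⟩
  obtain ⟨w₂, hw₂0, hw₂, hw₂'⟩ : ∃ w, w ≠ 0 ∧ polar Q u w = 0 ∧ polar Q w₁ w = 0 := by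
    have h1 := kerdim u
    have h2 := kerdim w₁
    have h3 := Submodule.finrank_sup_add_finrank_inf_eq (LinearMap.ker (polarBilin Q u))
      (LinearMap.ker (polarBilin Q w₁))
    have h4 := Submodule.finrank_le (LinearMap.ker (polarBilin Q u) ⊔ LinearMap.ker (polarBilin Q w₁))
    haveI : Nontrivial ↥(LinearMap.ker (polarBilin Q u) ⊓ LinearMap.ker (polarBilin Q w₁)) :=
      Module.nontrivial_of_finrank_pos (R := F) (by omega)
    obtain ⟨w, hw⟩ := exists_ne
      (0 : ↥(LinearMap.ker (polarBilin Q u) ⊓ LinearMap.ker (polarBilin Q w₁)))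
    exact ⟨w, fun h => hw (Subtype.ext h), w.2.1, w.2.2⟩
  have hq1 := hiso _ hw₁0
  have hq2 := hiso _ hw₂0
  obtain ⟨x, y, hxy⟩ := FiniteField.exists_root_sum_quadratic (R := F)
    (f := Polynomial.C (Q w₁) * Polynomial.X ^ 2)
    (g := Polynomial.C (Q w₂) * Polynomial.X ^ 2 - Polynomial.C (-Q u))
    (Polynomial.degree_C_mul_X_pow 2 hq1)
    (by rw [Polynomial.degree_sub_C (by rw [Polynomial.degree_C_mul_X_pow 2 hq2]; decide),
      Polynomial.degree_C_mul_X_pow 2 hq2]; rfl)
    (FiniteField.odd_card_of_char_ne_two h2)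
  simp only [Polynomial.eval_sub, Polynomial.eval_mul, Polynomial.eval_C, Polynomial.eval_pow,
    Polynomial.eval_X] at hxy
  refine hiso (u + x • w₁ + y • w₂) (fun h => hQu ?_) ?_
  · have := congrArg (fun z => polar Q u z) h
    simp [polar_add_right, polar_smul_right', polar_self', hw₁, hw₂, h2'] at this
    exact this
  · rw [polar_add_smul_add_smul, hw₁, hw₂, hw₂']
    linear_combination hxy

/-- The Siegel group is transitive on non-zero singular vectors. -/
theorem siegel_trans_singular (hQ : (polarBilin Q).Nondegenerate) (hn : 4 ≤ Module.finrank F V)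
    {e z : V} (he0 : e ≠ 0) (hz0 : z ≠ 0) (he : Q e = 0) (hz : Q z = 0) :
    ∃ s ∈ siegelGroup Q, s e = z := by
  have indep : ∀ e z : V, e ≠ 0 → z ∉ Submodule.span F {e} → Q e = 0 → Q z = 0 →
      ∃ s ∈ siegelGroup Q, s e = z := by
    intro e z he0 hze he hz
    have hee : polar Q e e = 0 := by rw [polar_self', he, mul_zero]
    have hzz : polar Q z z = 0 := by rw [polar_self', hz, mul_zero]
    by_cases hp : polar Q e z = 0
    · have hez : e ∉ Submodule.span F {z} := fun h => by
        obtain ⟨c, hc⟩ := Submodule.mem_span_singleton.1 h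
        have hc0 : c ≠ 0 := fun h0 => he0 (by rw [← hc, h0, zero_smul])
        exact hze (Submodule.mem_span_singleton.2 ⟨c⁻¹, by rw [← hc, inv_smul_smul₀ hc0]⟩)
      obtain ⟨e', he', hee', he'z⟩ := exists_partner hQ _ hez he (fun h hh => by
        obtain ⟨c, rfl⟩ := Submodule.mem_span_singleton.1 hh
        rw [polar_smul_right', hp, mul_zero])
      obtain ⟨z', hz', hzz', hz'e⟩ := exists_partner hQ _ hze hz (fun h hh => by
        obtain ⟨c, rfl⟩ := Submodule.mem_span_singleton.1 hh
        rw [polar_smul_right', polar_comm Q z e, hp, mul_zero])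
      have a1 := he'z z (Submodule.mem_span_singleton_self z)
      have a2 := hz'e e (Submodule.mem_span_singleton_self e)
      let f := e' + z' + (-(polar Q e' z')) • e
      have hf : Q f = 0 := by
        simp only [f, map_add', map_smul', he, he', hz', polar_add_left, polar_smul_right',
          polar_comm Q e' e, hee', a2]
        ring
      obtain ⟨s, hs, h1, -, -⟩ := exists_siegel_move he hz hf
        (by simp only [f, polar_add_right, polar_smul_right', hee', polar_comm Q e z', a2, hee]; ring)
        (by simp only [f, polar_add_right, polar_smul_right', hzz', polar_comm Q z e', a1,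
          polar_comm Q z e, hp]; ring)
      exact ⟨s, hs, h1⟩
    · have hnd : ∀ t ∈ Submodule.span F ({e, z} : Set V),
          (∀ s ∈ Submodule.span F ({e, z} : Set V), polar Q t s = 0) → t = 0 := by
        intro t ht hts
        obtain ⟨a, b, rfl⟩ := Submodule.mem_span_pair.1 ht
        have h1 := hts e (Submodule.subset_span (by simp))
        have h2 := hts z (Submodule.subset_span (by simp))
        simp [polar_add_left, polar_smul_left', hee, hzz, polar_comm Q z e, hp] at h1 h2
        simp [h1, h2]
      have hd := finrank_pair_le (F := F) e z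
      obtain ⟨x, hxT, hx⟩ := exists_nonsingular_perp hQ _ hnd (by omega)
      obtain ⟨y, hyT, hy⟩ : ∃ y, (∀ t ∈ Submodule.span F ({e, z} : Set V), polar Q y t = 0) ∧
          Q y = -(polar Q e z)⁻¹ := by
        obtain ⟨y, hy, hyx⟩ : ∃ y, (∀ t ∈ Submodule.span F ({e, z} : Set V), polar Q y t = 0) ∧
            y ∉ Submodule.span F {x} := by
          by_contra hc
          push Not at hc
          have h1 := LinearMap.finrank_range_add_finrank_ker
            ((polarBilin Q e).prod (polarBilin Q z))
          have h2 : Module.finrank F (LinearMap.range ((polarBilin Q e).prod (polarBilin Q z))) ≤ 2 :=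
            le_trans (Submodule.finrank_le _) (by simp)
          have h3 : LinearMap.ker ((polarBilin Q e).prod (polarBilin Q z)) ≤ Submodule.span F {x} := by
            intro w hw
            simp only [LinearMap.mem_ker, LinearMap.prod_apply, Pi.prod, Prod.mk_eq_zero] at hw
            refine hc w fun t ht => ?_
            obtain ⟨a, b, rfl⟩ := Submodule.mem_span_pair.1 ht
            rw [polar_comm]
            have hw1 : polar Q e w = 0 := congrArg Prod.fst hw
            have hw2 : polar Q z w = 0 := congrArg Prod.snd hw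
            simp [polar_add_left, polar_smul_left', hw1, hw2]
          have h4 := Submodule.finrank_mono h3
          have h5 := finrank_span_singleton (K := F) (fun h : x = 0 => hx (by rw [h, QuadraticMap.map_zero]))
          omega
        by_cases h2 : ringChar F = 2
        · haveI := Fintype.ofFinite F
          obtain ⟨t, ht⟩ := FiniteField.isSquare_of_char_two h2 (-(polar Q e z)⁻¹ / Q x)
          exact ⟨t • x, fun s hs => by rw [polar_smul_left', hxT s hs, mul_zero],
            by rw [map_smul', ← ht, div_mul_cancel₀ _ hx]⟩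
        -- odd characteristic: make `y` orthogonal to `x`
        have h2' : (2 : F) ≠ 0 := fun h => h2 (by
          haveI := CharTwo.of_one_ne_zero_of_two_eq_zero (one_ne_zero (α := F)) h
          exact ringChar.eq F 2)
        haveI := Fintype.ofFinite F
        let y' := y - (polar Q y x / (2 * Q x)) • x
        have hy'x : polar Q y' x = 0 := by
          simp only [y', polar_sub_left, polar_smul_left', polar_self']
          field_simp; ring
        have hy'T : ∀ t ∈ Submodule.span F ({e, z} : Set V), polar Q y' t = 0 := fun t ht => by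
          simp [y', polar_sub_left, polar_smul_left', hy t ht, hxT t ht]
        by_cases hq : Q y' = 0
        · -- then `y'` is singular; find a partner
          have hy'0 : y' ∉ Submodule.span F ({e, z} : Set V) ⊔ Submodule.span F {x} := fun hm => by
            obtain ⟨t, ht, u, hu, htu⟩ := Submodule.mem_sup.1 hm
            obtain ⟨a, rfl⟩ := Submodule.mem_span_singleton.1 hu
            have hay : a • x = y' - t := by rw [← htu]; abel
            have : polar Q (a • x) x = 0 := by
              rw [hay, polar_sub_left, hy'x, polar_comm, hxT t ht, sub_zero]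
            rw [polar_smul_left', polar_self'] at this
            have ha : a = 0 := by simpa [h2', hx] using this
            rw [ha, zero_smul, add_zero] at htu
            have : y' = 0 := hnd y' (htu ▸ ht) fun s hs => hy'T s hs
            exact hyx (Submodule.mem_span_singleton.2 ⟨_, (sub_eq_zero.1 this).symm⟩)
          obtain ⟨y'', hy'', hyy, hy''T⟩ := exists_partner hQ _ hy'0 hq (fun h hh => by
            obtain ⟨t, ht, u, hu, rfl⟩ := Submodule.mem_sup.1 hh
            obtain ⟨a, rfl⟩ := Submodule.mem_span_singleton.1 hu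
            rw [polar_add_right, polar_smul_right', hy'T t ht, hy'x]; ring)
          refine ⟨y' + (-(polar Q e z)⁻¹) • y'', fun t ht => ?_, ?_⟩
          · rw [polar_add_left, polar_smul_left', hy'T t ht,
              hy''T t (Submodule.mem_sup_left ht)]; ring
          · rw [map_add', map_smul', hq, hy'', polar_smul_right', hyy]; ring
        · obtain ⟨a, b, hab⟩ := FiniteField.exists_root_sum_quadratic (R := F)
            (f := Polynomial.C (Q x) * Polynomial.X ^ 2)
            (g := Polynomial.C (Q y') * Polynomial.X ^ 2 - Polynomial.C (-(polar Q e z)⁻¹))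
            (Polynomial.degree_C_mul_X_pow 2 hx)
            (by rw [Polynomial.degree_sub_C (by rw [Polynomial.degree_C_mul_X_pow 2 hq]; decide),
              Polynomial.degree_C_mul_X_pow 2 hq]; rfl)
            (FiniteField.odd_card_of_char_ne_two h2)
          simp only [Polynomial.eval_sub, Polynomial.eval_mul, Polynomial.eval_C, Polynomial.eval_pow,
            Polynomial.eval_X] at hab
          refine ⟨a • x + b • y', fun t ht => by
            rw [polar_add_left, polar_smul_left', polar_smul_left', hxT t ht, hy'T t ht]; ring, ?_⟩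
          rw [map_add', map_smul', map_smul', polar_smul_left', polar_smul_right', polar_comm Q x y',
            hy'x]
          linear_combination hab
      let f := (polar Q e z)⁻¹ • e + (polar Q e z)⁻¹ • z + y
      have hye : polar Q y e = 0 := hyT e (Submodule.subset_span (by simp))
      have hyz : polar Q y z = 0 := hyT z (Submodule.subset_span (by simp))
      have hf : Q f = 0 := by
        simp only [f, map_add', map_smul', he, hz, hy, polar_add_left, polar_smul_left',
          polar_smul_right', polar_comm Q e y, polar_comm Q z y, hye, hyz]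
        field_simp; ring
      obtain ⟨s, hs, h1, -, -⟩ := exists_siegel_move he hz hf
        (by simp only [f, polar_add_right, polar_smul_right', hee, polar_comm Q e y, hye]
            field_simp; ring)
        (by simp only [f, polar_add_right, polar_smul_right', hzz, polar_comm Q z y, hyz,
              polar_comm Q z e]
            field_simp; ring)
      exact ⟨s, hs, h1⟩
  by_cases hze : z ∈ Submodule.span F {e}
  · obtain ⟨e', he', hee', -⟩ := exists_partner hQ ⊥ (by simpa using he0) he
      (fun h hh => by rw [(Submodule.mem_bot F).1 hh, QuadraticMap.polar_zero_right])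
    have he'0 : e' ≠ 0 := fun h => by
      rw [h, QuadraticMap.polar_zero_right] at hee'; exact zero_ne_one hee'
    have h' : e' ∉ Submodule.span F {e} := fun h => by
      obtain ⟨c, rfl⟩ := Submodule.mem_span_singleton.1 h
      rw [polar_smul_right', polar_self', he] at hee'; simp at hee'
    have h'' : z ∉ Submodule.span F {e'} := fun h => by
      obtain ⟨c, hc⟩ := Submodule.mem_span_singleton.1 hze
      obtain ⟨d, hd⟩ := Submodule.mem_span_singleton.1 h
      have := congrArg (fun v => polar Q e v) (hc.trans hd.symm)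
      simp only [polar_smul_right', polar_self', he, hee', mul_zero, mul_one] at this
      exact hz0 (by rw [← hd, ← this, zero_smul])
    obtain ⟨s₁, hs₁, h1⟩ := indep e e' he0 h' he he'
    obtain ⟨s₂, hs₂, h2⟩ := indep e' z he'0 h'' he' hz
    refine ⟨s₂ * s₁, mul_mem hs₂ hs₁, ?_⟩
    show s₂ (s₁ e) = z
    rw [h1, h2]
  · exact indep e z he0 hze he hz

/-- The Siegel group is transitive on hyperbolic pairs. -/
theorem siegel_trans_pair (hQ : (polarBilin Q).Nondegenerate) (hn : 4 ≤ Module.finrank F V)
    {e f e' f' : V} (he : Q e = 0) (hf : Q f = 0) (he' : Q e' = 0) (hf' : Q f' = 0)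
    (hef : polar Q e f = 1) (hef' : polar Q e' f' = 1) :
    ∃ s ∈ siegelGroup Q, s e = e' ∧ s f = f' := by
  have ne0 : ∀ {a b : V}, polar Q a b = 1 → a ≠ 0 := fun h h0 => by
    rw [h0, QuadraticMap.polar_zero_left] at h; exact zero_ne_one h
  obtain ⟨s, hs, hse⟩ := siegel_trans_singular hQ hn (ne0 hef) (ne0 hef') he he'
  have hso := siegelGroup_le_orth hs
  obtain ⟨t, ht, htf, hte, -⟩ := exists_siegel_move (e := s f) (z := f') (f := e')
    (by rw [mem_orth.1 hso, hf]) hf' he'
    (by rw [← hse, orth_polar hso, polar_comm, hef]) (by rw [polar_comm, hef'])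
  refine ⟨t * s, mul_mem ht hs, ?_, htf⟩
  show t (s e) = e'
  rw [hse, hte]

/-- The Siegel group is transitive on vectors of a given non-zero norm. -/
theorem siegel_trans_norm (hQ : (polarBilin Q).Nondegenerate) (hn : 4 ≤ Module.finrank F V)
    {u u' : V} (hu : Q u ≠ 0) (h : Q u' = Q u) : ∃ s ∈ siegelGroup Q, s u = u' := by
  obtain ⟨e₀, he₀0, he₀⟩ := exists_singular hQ (by omega)
  have dec : ∀ v : V, Q v ≠ 0 → ∃ e f, Q e = 0 ∧ Q f = 0 ∧ polar Q e f = 1 ∧ v = e + Q v • f := by
    intro v hv
    obtain ⟨f, hf, hfv⟩ := exists_singular_polar hQ he₀0 he₀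
      (show v ≠ 0 from fun h => hv (by rw [h, QuadraticMap.map_zero]))
    let f₁ := (polar Q f v)⁻¹ • f
    have hf₁ : Q f₁ = 0 := by simp only [f₁, map_smul', hf, mul_zero]
    have hvf : polar Q v f₁ = 1 := by
      simp only [f₁, polar_smul_right', polar_comm Q v f]; exact inv_mul_cancel₀ hfv
    refine ⟨v - Q v • f₁, f₁, ?_, hf₁, ?_, (sub_add_cancel _ _).symm⟩
    · rw [map_sub', map_smul', hf₁, polar_smul_right', hvf]; ring
    · rw [polar_sub_left, polar_smul_left', polar_self', hf₁, hvf]; ring
  obtain ⟨e, f, he, hf, hef, hue⟩ := dec u hu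
  obtain ⟨e', f', he', hf', hef', hue'⟩ := dec u' (h ▸ hu)
  obtain ⟨s, hs, hse, hsf⟩ := siegel_trans_pair hQ hn he hf he' hf' hef hef'
  exact ⟨s, hs, by rw [hue, map_add, map_smul, hse, hsf, hue', h]⟩

end Finite

/-- Siegel transformations lie in the commutator subgroup. -/
theorem siegel_mem_commutator [Finite F] (hQ : (polarBilin Q).Nondegenerate)
    (hn : 2 ≤ Module.finrank F V) (hsp : SplitSingular Q) (hR : reflGroup Q = orth Q)
    (e w : V) (he : Q e = 0) (hw : polar Q e w = 0) :
    (⟨siegel Q e w he hw, siegel_mem_orth Q e w he hw⟩ : orth Q) ∈ commutator (orth Q) := by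
  by_cases he0 : e = 0
  · subst he0
    have h1 : (⟨siegel Q 0 w he hw, siegel_mem_orth Q 0 w he hw⟩ : orth Q) = 1 :=
      Subtype.ext (LinearEquiv.ext fun v => by simp [siegel_apply, QuadraticMap.polar_zero_right])
    rw [h1]; exact one_mem _
  have nonsing : ∀ (b : V) (hb : polar Q e b = 0), Q b ≠ 0 →
      (⟨siegel Q e b he hb, siegel_mem_orth Q e b he hb⟩ : orth Q) ∈ commutator (orth Q) := by
    intro b hb hb0
    have hcQ : Q (b + Q b • e) = Q b := by
      rw [map_add', map_smul', he, polar_smul_right', polar_comm, hb, mul_zero, mul_zero, add_zero,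
        add_zero]
    have hc : Q (b + Q b • e) ≠ 0 := by rwa [hcQ]
    have heq : siegel Q e b he hb = refl Q b hb0 * refl Q (b + Q b • e) hc := by
      refine LinearEquiv.ext fun v => ?_
      show _ = refl Q b hb0 (refl Q (b + Q b • e) hc v)
      rw [refl_apply, refl_apply, siegel_apply, hcQ, polar_sub_left, polar_smul_left',
        polar_add_right, polar_smul_right', polar_add_left, polar_smul_left', polar_self', hb]
      rw [show (Q b)⁻¹ * (polar Q v b - (Q b)⁻¹ * (polar Q v b + Q b * polar Q v e) * (2 * Q b + Q b * 0))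
        = -((Q b)⁻¹ * polar Q v b) - 2 * polar Q v e by field_simp; ring]
      match_scalars <;> field_simp <;> ring
    have heq' : (⟨siegel Q e b he hb, siegel_mem_orth Q e b he hb⟩ : orth Q) =
        oRefl Q b hb0 * oRefl Q _ hc := Subtype.ext heq
    have hq : Abelianization.of (oRefl Q b hb0) = Abelianization.of (oRefl Q _ hc) :=
      map_oRefl_eq _ hQ hb0 hc (by rw [hcQ, div_self hb0]; exact IsSquare.one)
    rw [heq', ← Abelianization.ker_of, MonoidHom.mem_ker, map_mul, ← hq, ← map_mul, oRefl_mul_self,
      map_one]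
  by_cases hw0 : Q w ≠ 0
  · exact nonsing w hw hw0
  push Not at hw0
  rcases hsp e w he0 he hw hw0 with hspan | ⟨b, hb, hb0, hbne⟩
  · obtain ⟨c, rfl⟩ := Submodule.mem_span_singleton.1 hspan
    have h1 : (⟨siegel Q e (c • e) he hw, siegel_mem_orth Q e _ he hw⟩ : orth Q) = 1 :=
      Subtype.ext (LinearEquiv.ext fun v => by
        rw [siegel_apply, map_smul', he, polar_smul_right']
        show _ = v
        module)
    rw [h1]; exact one_mem _
  · have hb' : polar Q e (w - b) = 0 := by rw [polar_sub_right, hw, hb, sub_zero]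
    have hwb : Q (w - b) ≠ 0 := by
      rw [map_sub', hw0, zero_add]; exact sub_ne_zero.2 hbne
    have heq : (⟨siegel Q e w he hw, siegel_mem_orth Q e w he hw⟩ : orth Q) =
        ⟨siegel Q e (w - b) he hb', siegel_mem_orth Q e _ he hb'⟩ *
          ⟨siegel Q e b he hb, siegel_mem_orth Q e b he hb⟩ := by
      refine Subtype.ext ?_
      show siegel Q e w he hw = siegel Q e (w - b) he hb' * siegel Q e b he hb
      rw [siegel_mul]
      congr 1
      rw [sub_add_cancel]
    rw [heq]
    exact mul_mem (nonsing _ hb' hwb) (nonsing b hb hb0)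

/-- `Omega` is the Siegel group. -/
theorem commutator_eq_siegel [Finite F] (hQ : (polarBilin Q).Nondegenerate)
    (hn : 4 ≤ Module.finrank F V) (hsp : SplitSingular Q) (hR : reflGroup Q = orth Q) :
    commutator (orth Q) = (siegelGroup Q).subgroupOf (orth Q) := by
  refine le_antisymm ?_ ?_
  · set N := (siegelGroup Q).subgroupOf (orth Q) with hN
    haveI hNn : N.Normal := ⟨fun s hs g => siegelGroup_normal g.2 hs⟩
    have hconj : ∀ (u v : V) (hu : Q u ≠ 0) (hv : Q v ≠ 0), Q v = Q u →
        QuotientGroup.mk' N (oRefl Q u hu) = QuotientGroup.mk' N (oRefl Q v hv) := by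
      intro u v hu hv h
      obtain ⟨s, hs, hsu⟩ := siegel_trans_norm hQ hn hu h
      let s' : orth Q := ⟨s, siegelGroup_le_orth hs⟩
      have hs1 : QuotientGroup.mk' N s' = 1 := (QuotientGroup.eq_one_iff _).2 hs
      have he : oRefl Q v hv = s' * oRefl Q u hu * s'⁻¹ := Subtype.ext (by
        show refl Q v hv = s * refl Q u hu * s⁻¹
        rw [refl_conj Q (siegelGroup_le_orth hs)]
        simp only [hsu])
      rw [he, map_mul, map_mul, map_inv, hs1, one_mul, inv_one, mul_one]
    have hcomm : ∀ (u v : V) (hu : Q u ≠ 0) (hv : Q v ≠ 0),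
        Commute (QuotientGroup.mk' N (oRefl Q u hu)) (QuotientGroup.mk' N (oRefl Q v hv)) := by
      intro u v hu hv
      have hv' : Q (refl Q u hu v) ≠ 0 := by rwa [mem_orth.1 (refl_mem_orth Q u hu)]
      have h1 := hconj v (refl Q u hu v) hv hv' (mem_orth.1 (refl_mem_orth Q u hu) v)
      have h2 : oRefl Q (refl Q u hu v) hv' = oRefl Q u hu * oRefl Q v hv * (oRefl Q u hu)⁻¹ :=
        Subtype.ext (refl_conj Q (refl_mem_orth Q u hu) v hv).symm
      rw [h2, map_mul, map_mul, map_inv] at h1
      show _ * _ = _ * _
      exact (eq_mul_inv_iff_mul_eq.1 h1).symm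
    set S := {g : orth Q | ∃ (a : V) (ha : Q a ≠ 0), g = oRefl Q a ha}
    have htop : Subgroup.closure (QuotientGroup.mk' N '' S) = ⊤ := by
      rw [← MonoidHom.map_closure, closure_oRefl hR,
        Subgroup.map_top_of_surjective _ (QuotientGroup.mk'_surjective N)]
    have hall : ∀ x y : orth Q ⧸ N, Commute x y := by
      have h1 : ∀ x ∈ QuotientGroup.mk' N '' S, ∀ y, Commute x y := fun x hx y => by
        have hy : y ∈ Subgroup.closure (QuotientGroup.mk' N '' S) := htop ▸ Subgroup.mem_top y
        induction hy using Subgroup.closure_induction with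
        | mem y hy =>
          obtain ⟨_, ⟨u, hu, rfl⟩, rfl⟩ := hx
          obtain ⟨_, ⟨v, hv, rfl⟩, rfl⟩ := hy
          exact hcomm u v hu hv
        | one => exact Commute.one_right x
        | mul a b _ _ iha ihb => exact iha.mul_right ihb
        | inv a _ iha => exact iha.inv_right
      intro x y
      have hx : x ∈ Subgroup.closure (QuotientGroup.mk' N '' S) := htop ▸ Subgroup.mem_top x
      induction hx using Subgroup.closure_induction with
      | mem x hx => exact h1 x hx y
      | one => exact Commute.one_left y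
      | mul a b _ _ iha ihb => exact iha.mul_left ihb
      | inv a _ iha => exact iha.inv_left
    rw [commutator_def, Subgroup.commutator_le]
    intro a _ b _
    rw [← QuotientGroup.eq_one_iff]
    show QuotientGroup.mk' N _ = 1
    rw [map_commutatorElement, commutatorElement_eq_one_iff_commute]
    exact hall _ _
  · intro g hg
    have hle : siegelGroup Q ≤ (commutator (orth Q)).map (orth Q).subtype := by
      rw [siegelGroup, Subgroup.closure_le]
      rintro _ ⟨e, w, he, hw, rfl⟩
      exact ⟨_, siegel_mem_commutator hQ (by omega) hsp hR e w he hw, rfl⟩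
    obtain ⟨g', hg', he⟩ := hle hg
    exact Subtype.ext he ▸ hg'

end CfsgLib.Geometry
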