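import Cfsg.Agent.Lib.Geometry.StdForms
import Cfsg.Agent.Lib.Geometry.OmegaGen

/-! Membership in `Ω`: spinor norm and Dickson invariant; elements with prescribed invariant. -/

set_option autoImplicit false

namespace CfsgLib.Geometry

open QuadraticMap

variable {F V : Type*} [Field F] [AddCommGroup V] [Module F V] [FiniteDimensional F V] [Finite F]
variable {Q : QuadraticForm F V}

theorem reflGroup_eq_orth_of_two_ne (hQ : (polarBilin Q).Nondegenerate) (h2 : (2 : F) ≠ 0) :
    reflGroup Q = orth Q :=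
  reflGroup_eq_orth hQ (Or.inr ⟨-1, neg_ne_zero.2 one_ne_zero,
    fun h => h2 (by linear_combination (-1 : F) * h)⟩)

omit [Finite F] in
theorem exists_ne_zero_one_or [Fintype F] {n : ℕ} (h : Fintype.card F ≠ 2 ∨ n ≠ 4) :
    n ≠ 4 ∨ ∃ a : F, a ≠ 0 ∧ a ≠ 1 := by
  rcases h with h | h
  · exact Or.inr ((finite_field_two_or F).resolve_left h)
  · exact Or.inl h

theorem sqClass_eq_one_of_two (h2 : (2 : F) = 0) (s : SqClass F) : s = 1 := by
  haveI := CharTwo.of_one_ne_zero_of_two_eq_zero (one_ne_zero (α := F)) h2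
  haveI := Fintype.ofFinite F
  obtain ⟨u, rfl⟩ := sqHom_surjective s
  exact (sqHom_eq_one_iff u).2 (FiniteField.isSquare_of_char_two (ringChar.eq F 2) _)

/-- `Ω` is the kernel of spinor norm and Dickson invariant, in every characteristic and dimension. -/
theorem mem_commutator_orth_iff (hQ : (polarBilin Q).Nondegenerate) (hR : reflGroup Q = orth Q)
    (g : orth Q) : g ∈ commutator (orth Q) ↔ orthInvariant hQ hR g = 1 := by
  by_cases h2 : (2 : F) = 0
  · haveI := CharTwo.of_one_ne_zero_of_two_eq_zero (one_ne_zero (α := F)) h2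
    rw [← ker_dicksonHom hQ hR, MonoidHom.mem_ker]
    exact ⟨fun h => Prod.ext (sqClass_eq_one_of_two h2 _) h, fun h => congrArg Prod.snd h⟩
  rcases le_or_gt 2 (Module.finrank F V) with hn | hn
  · rw [← ker_orthInvariant hQ hn h2 hR, MonoidHom.mem_ker]
  refine ⟨fun h => Abelianization.commutator_subset_ker (orthInvariant hQ hR) h, fun h => ?_⟩
  have hd : (Module.finrank F (movSpace (g : V ≃ₗ[F] V)) : ZMod 2) = 0 :=
    Multiplicative.ofAdd.injective (congrArg Prod.snd h)
  have hle := Submodule.finrank_le (movSpace (g : V ≃ₗ[F] V))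
  have h0 : Module.finrank F (movSpace (g : V ≃ₗ[F] V)) = 0 := by
    rw [ZMod.natCast_eq_zero_iff_even] at hd
    obtain ⟨k, hk⟩ := hd
    omega
  have : g = 1 := Subtype.ext (LinearEquiv.ext fun v => by
    have hm := sub_mem_movSpace (g : V ≃ₗ[F] V) v
    rw [Submodule.finrank_eq_zero.1 h0, Submodule.mem_bot, sub_eq_zero] at hm
    exact hm.symm)
  rw [this]
  exact one_mem _

omit [Finite F] in
/-- Product of two reflections of a hyperbolic plane: `e ↦ d e`, `f ↦ d⁻¹ f`. -/
theorem exists_pair_scale (hQ : (polarBilin Q).Nondegenerate) (hR : reflGroup Q = orth Q) {e f : V}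
    (he : Q e = 0) (hf : Q f = 0) (hef : polar Q e f = 1) {d : F} (hd : d ≠ 0) :
    ∃ g : orth Q, orthInvariant hQ hR g = (sqMk hd, 1) ∧
      ∀ x, (g : V ≃ₗ[F] V) x =
        x + ((d - 1) * polar Q x f) • e + ((d⁻¹ - 1) * polar Q x e) • f := by
  have ha : Q (e + f) = 1 := by rw [map_add', he, hf, hef]; ring
  have hb : Q (e + d • f) = d := by rw [map_add', map_smul', he, hf, polar_smul_right', hef]; ring
  have ha0 : Q (e + f) ≠ 0 := by rw [ha]; exact one_ne_zero
  have hb0 : Q (e + d • f) ≠ 0 := by rw [hb]; exact hd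
  refine ⟨oRefl Q _ ha0 * oRefl Q _ hb0, ?_, fun x => ?_⟩
  · rw [map_mul, orthInvariant_oRefl, orthInvariant_oRefl, Prod.mk_mul_mk]
    refine Prod.ext ?_ (show Multiplicative.ofAdd (1 : ZMod 2) * Multiplicative.ofAdd 1 = 1 by decide)
    show sqMk ha0 * sqMk hb0 = sqMk hd
    rw [(sqMk_eq_one_iff ha0).2 (by rw [ha]; exact IsSquare.one), one_mul]
    simp only [hb]
  · show refl Q _ ha0 (refl Q _ hb0 x) = _
    simp only [refl_apply, ha, hb, polar_sub_left, polar_add_left, polar_add_right,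
      polar_smul_left', polar_smul_right', polar_self', he, hf, hef, polar_comm Q f e]
    match_scalars <;> field_simp <;> ring

omit [Finite F] in
/-- Scalings of several orthogonal hyperbolic planes. -/
theorem exists_pairs_scale (hQ : (polarBilin Q).Nondegenerate) (hR : reflGroup Q = orth Q) (k : ℕ) :
    ∀ (e f : Fin k → V), (∀ i, Q (e i) = 0) → (∀ i, Q (f i) = 0) →
    (∀ i, polar Q (e i) (f i) = 1) →
    (∀ i j, i ≠ j → polar Q (e i) (e j) = 0 ∧ polar Q (e i) (f j) = 0 ∧ polar Q (f i) (f j) = 0) →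
    ∀ (d : Fin k → F) (hd : ∏ i, d i ≠ 0), ∃ g : orth Q, orthInvariant hQ hR g = (sqMk hd, 1) ∧
      ∀ x, (g : V ≃ₗ[F] V) x = x + ∑ i, (((d i - 1) * polar Q x (f i)) • e i +
        (((d i)⁻¹ - 1) * polar Q x (e i)) • f i) := by
  induction k with
  | zero =>
    intro e f _ _ _ _ d hd
    refine ⟨1, ?_, fun x => by simp⟩
    rw [map_one, (sqMk_eq_one_iff hd).2 (by simp)]
    rfl
  | succ k ih =>
    intro e f he hf hef hor d hd
    have hd' := hd
    rw [Fin.prod_univ_castSucc, mul_ne_zero_iff] at hd'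
    obtain ⟨g, hg, hgx⟩ := ih (fun i => e i.castSucc) (fun i => f i.castSucc) (fun i => he _)
      (fun i => hf _) (fun i => hef _)
      (fun i j hij => hor _ _ (fun h => hij (Fin.castSucc_injective _ h))) (fun i => d i.castSucc) hd'.1
    obtain ⟨s, hs, hsx⟩ := exists_pair_scale hQ hR (he (Fin.last k)) (hf _) (hef _) hd'.2
    refine ⟨g * s, ?_, fun x => ?_⟩
    · rw [map_mul, hg, hs, Prod.mk_mul_mk, one_mul, ← sqMk_mul]
      simp only [Fin.prod_univ_castSucc]
    · have hfe : (g : V ≃ₗ[F] V) (e (Fin.last k)) = e (Fin.last k) := by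
        rw [hgx, Finset.sum_eq_zero (fun i _ => by
          rw [(hor (Fin.last k) i.castSucc (Fin.castSucc_ne_last i).symm).1,
            (hor (Fin.last k) i.castSucc (Fin.castSucc_ne_last i).symm).2.1]; simp), add_zero]
      have hff : (g : V ≃ₗ[F] V) (f (Fin.last k)) = f (Fin.last k) := by
        rw [hgx, Finset.sum_eq_zero (fun i _ => by
          rw [(hor (Fin.last k) i.castSucc (Fin.castSucc_ne_last i).symm).2.2, polar_comm Q _ (e _),
            (hor i.castSucc (Fin.last k) (Fin.castSucc_ne_last i)).2.1]; simp), add_zero]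
      show (g : V ≃ₗ[F] V) ((s : V ≃ₗ[F] V) x) = _
      rw [hsx, map_add, map_add, map_smul, map_smul, hfe, hff, hgx, Fin.sum_univ_castSucc]
      abel

omit [FiniteDimensional F V] in
/-- Every square class is a product with a reflection class. -/
theorem orth_invariant_cover {A : Subgroup (SqClass F × Multiplicative (ZMod 2))}
    (h1 : ∀ s : SqClass F, (s, 1) ∈ A)
    {c : SqClass F} (h2 : (c, Multiplicative.ofAdd 1) ∈ A) : A = ⊤ := by
  rw [eq_top_iff]
  rintro ⟨s, d⟩ -
  have hd : ∀ d : Multiplicative (ZMod 2), d = 1 ∨ d = Multiplicative.ofAdd 1 := by decide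
  rcases hd d with rfl | rfl
  · exact h1 s
  · have := A.mul_mem (h1 (s * c⁻¹)) h2
    rwa [Prod.mk_mul_mk, inv_mul_cancel_right, one_mul] at this

/-- Correct an isometry into `Ω` by an element of a subgroup with full invariant. -/
theorem exists_mul_mem_commutator (hQ : (polarBilin Q).Nondegenerate) (hR : reflGroup Q = orth Q)
    (H : Subgroup (orth Q)) (hH : H.map (orthInvariant hQ hR) = ⊤) (g : orth Q) :
    ∃ h ∈ H, h * g ∈ commutator (orth Q) := by
  obtain ⟨h, hh, e⟩ : (orthInvariant hQ hR g)⁻¹ ∈ H.map (orthInvariant hQ hR) := hH ▸ trivial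
  exact ⟨h, hh, (mem_commutator_orth_iff hQ hR _).2 (by rw [map_mul, e, inv_mul_cancel])⟩

section Matrix

variable {ι : Type} [Fintype ι] [DecidableEq ι]

omit [Finite F] in
theorem mem_Omega_iff_commutator (Q : QuadraticForm F (ι → F)) (g : Cfsg.isometryGroup F ⇑Q) :
    g ∈ Cfsg.Omega F ⇑Q ↔ isomEquiv Q g ∈ commutator (orth Q) := by
  have hmap : (Cfsg.Omega F ⇑Q).map (isomEquiv Q).toMonoidHom = commutator (orth Q) := by
    rw [Cfsg.Omega, commutator_def, commutator_def, Subgroup.map_commutator,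
      Subgroup.map_top_of_surjective _ (isomEquiv Q).surjective]
  rw [← hmap]
  exact (Subgroup.mem_map_iff_mem (isomEquiv Q).injective).symm

theorem mem_Omega_iff_invariant {Q : QuadraticForm F (ι → F)}
    (hQ : (polarBilin Q).Nondegenerate) (hR : reflGroup Q = orth Q)
    (g : Cfsg.isometryGroup F ⇑Q) :
    g ∈ Cfsg.Omega F ⇑Q ↔ orthInvariant hQ hR (isomEquiv Q g) = 1 :=
  (mem_Omega_iff_commutator Q g).trans (mem_commutator_orth_iff hQ hR _)

omit [Finite F] in
/-- Every quadratic form on `Fin n → F` is the form of a matrix. -/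
theorem exists_matQuad_eq {n : ℕ} (Q : QuadraticForm F (Fin n → F)) :
    ∃ M : Matrix (Fin n) (Fin n) F, matQuad M = Q ∧
      Matrix.of (fun i j => polar Q (Pi.single i 1) (Pi.single j 1)) = M + M.transpose := by
  refine ⟨LinearMap.BilinForm.toMatrix' (Q.toBilin (Pi.basisFun F (Fin n))), ?_, ?_⟩
  · rw [matQuad, Matrix.toBilin'_toMatrix', QuadraticMap.toQuadraticMap_toBilin]
  · ext i j
    rw [Matrix.of_apply]
    conv_lhs => rw [show Q = matQuad (LinearMap.BilinForm.toMatrix' (Q.toBilin (Pi.basisFun F (Fin n)))) by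
      rw [matQuad, Matrix.toBilin'_toMatrix', QuadraticMap.toQuadraticMap_toBilin]]
    rw [polar_matQuad]
    simp

end Matrix

end CfsgLib.Geometry
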