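import Mathlib

/-! Groups generated by involutions: even words, and subgroups of index two. -/

set_option autoImplicit false

namespace CfsgLib.Geometry

variable {G : Type*} [Group G]

/-- The kernel of a character taking a common value `z ≠ 1` on the involutive generators consists
of the products of evenly many generators. -/
theorem ker_eq_closure_pairs {A : Type*} [Group A] (S : Set G) (hS : Subgroup.closure S = ⊤)
    (hinv : ∀ s ∈ S, s * s = 1) (χ : G →* A) (z : A) (hz : z ≠ 1) (hχ : ∀ s ∈ S, χ s = z) :
    χ.ker = Subgroup.closure {g | ∃ s ∈ S, ∃ t ∈ S, g = s * t} := by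
  set E := Subgroup.closure {g | ∃ s ∈ S, ∃ t ∈ S, g = s * t} with hE
  have hzz : ∀ s ∈ S, z * z = 1 := fun s hs => by rw [← hχ s hs, ← map_mul, hinv s hs, map_one]
  have hle : E ≤ χ.ker := by
    rw [hE, Subgroup.closure_le]
    rintro _ ⟨s, hs, t, ht, rfl⟩
    simp [MonoidHom.mem_ker, hχ s hs, hχ t ht, hzz s hs]
  refine le_antisymm (fun g hg => ?_) hle
  have hmem : g ∈ Subgroup.closure S := hS ▸ Subgroup.mem_top g
  have key : g ∈ E ∨ ∃ t ∈ S, t * g ∈ E := by
    clear hg
    induction hmem using Subgroup.closure_induction_left with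
    | one => exact Or.inl E.one_mem
    | mul_left s hs g _ ih =>
      rcases ih with h | ⟨t, ht, h⟩
      · exact Or.inr ⟨s, hs, by rwa [← mul_assoc, hinv s hs, one_mul]⟩
      · refine Or.inl ?_
        have := E.mul_mem (show s * t ∈ E from Subgroup.subset_closure ⟨s, hs, t, ht, rfl⟩) h
        rwa [mul_assoc, ← mul_assoc t, hinv t ht, one_mul] at this
    | inv_mul_cancel s hs g _ ih =>
      rw [inv_eq_of_mul_eq_one_left (hinv s hs)]
      rcases ih with h | ⟨t, ht, h⟩
      · exact Or.inr ⟨s, hs, by rwa [← mul_assoc, hinv s hs, one_mul]⟩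
      · refine Or.inl ?_
        have := E.mul_mem (show s * t ∈ E from Subgroup.subset_closure ⟨s, hs, t, ht, rfl⟩) h
        rwa [mul_assoc, ← mul_assoc t, hinv t ht, one_mul] at this
  rcases key with h | ⟨t, ht, h⟩
  · exact h
  · have := hle h
    rw [MonoidHom.mem_ker, map_mul, MonoidHom.mem_ker.1 hg, hχ t ht, mul_one] at this
    exact absurd this hz

/-- A subgroup of index two of a normal subgroup containing all products of two generators
contains the commutator subgroup. -/
theorem commutator_le_of_index_two (S : Set G) (hS : Subgroup.closure S = ⊤)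
    (hinv : ∀ s ∈ S, s * s = 1) (K : Subgroup G) [hK : K.Normal]
    (hpair : ∀ s ∈ S, ∀ t ∈ S, s * t ∈ K) (H : Subgroup K) (hH : H.index = 2) :
    commutator G ≤ H.map K.subtype := by
  set N := Subgroup.closure {g | ∃ k ∈ K, g = k * k} with hN
  haveI : N.Normal := by
    refine ⟨fun a ha g => ?_⟩
    induction ha using Subgroup.closure_induction with
    | mem a ha =>
      obtain ⟨k, hk, rfl⟩ := ha
      exact Subgroup.subset_closure ⟨g * k * g⁻¹, hK.conj_mem k hk g, by group⟩
    | one => simp
    | mul a b _ _ iha ihb =>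
      rw [show g * (a * b) * g⁻¹ = (g * a * g⁻¹) * (g * b * g⁻¹) by group]
      exact mul_mem iha ihb
    | inv a _ iha =>
      rw [show g * a⁻¹ * g⁻¹ = (g * a * g⁻¹)⁻¹ by group]
      exact inv_mem iha
  have hNH : N ≤ H.map K.subtype := by
    rw [hN, Subgroup.closure_le]
    rintro _ ⟨k, hk, rfl⟩
    refine ⟨⟨k, hk⟩ * ⟨k, hk⟩, ?_, rfl⟩
    exact (Subgroup.mul_mem_iff_of_index_two hH).2 Iff.rfl
  refine le_trans ?_ hNH
  have hab : ∀ x ∈ QuotientGroup.mk' N '' S, ∀ y ∈ QuotientGroup.mk' N '' S, Commute x y := by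
    rintro _ ⟨s, hs, rfl⟩ _ ⟨t, ht, rfl⟩
    have h1 : QuotientGroup.mk' N ((s * t) * (s * t)) = 1 :=
      (QuotientGroup.eq_one_iff _).2 (Subgroup.subset_closure ⟨s * t, hpair s hs t ht, rfl⟩)
    have h2 : QuotientGroup.mk' N s * QuotientGroup.mk' N s = 1 := by rw [← map_mul, hinv s hs, map_one]
    have h3 : QuotientGroup.mk' N t * QuotientGroup.mk' N t = 1 := by rw [← map_mul, hinv t ht, map_one]
    rw [map_mul, map_mul] at h1
    show _ * _ = _ * _
    rw [eq_inv_of_mul_eq_one_left h1, mul_inv_rev, inv_eq_of_mul_eq_one_left h2,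
      inv_eq_of_mul_eq_one_left h3]
  have htop : Subgroup.closure (QuotientGroup.mk' N '' S) = ⊤ := by
    rw [← MonoidHom.map_closure, hS, Subgroup.map_top_of_surjective _ (QuotientGroup.mk'_surjective N)]
  have hcomm : ∀ x y : G ⧸ N, Commute x y := by
    have h1 : ∀ x ∈ QuotientGroup.mk' N '' S, ∀ y : G ⧸ N, Commute x y := fun x hx y => by
      have hy : y ∈ Subgroup.closure (QuotientGroup.mk' N '' S) := htop ▸ Subgroup.mem_top y
      induction hy using Subgroup.closure_induction with
      | mem y hy => exact hab x hx y hy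
      | one => exact Commute.one_right x
      | mul a b _ _ iha ihb => exact iha.mul_right ihb
      | inv a _ iha => exact iha.inv_right
    intro x y
    have hx : x ∈ Subgroup.closure (QuotientGroup.mk' N '' S) := htop ▸ Subgroup.mem_top x
    induction hx using Subgroup.closure_induction with
    | mem x hx => exact h1 x hx y
    | one => exact Commute.one_left y
    | mul a b _ _ iha ihb => exact iha.mul_left ihb
    | inv a _ iha => exact iha.inv_left
  rw [commutator_def, Subgroup.commutator_le]
  intro a _ b _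
  rw [← QuotientGroup.eq_one_iff]
  show QuotientGroup.mk' N _ = 1
  rw [map_commutatorElement, commutatorElement_eq_one_iff_commute]
  exact hcomm _ _

end CfsgLib.Geometry
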