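import Cfsg.Agent.Lib.Geometry.OmegaIndex
import Cfsg.Agent.Lib.Geometry.GroupLemmas

/-! Reflections, determinant and `Omega` for matrix isometry groups. -/

set_option autoImplicit false

namespace CfsgLib.Geometry

open Matrix QuadraticMap

variable {ι : Type} [Fintype ι] [DecidableEq ι] {F : Type*} [Field F]

/-- The matrix reflections in an isometry group. -/
def matRefls (Q : QuadraticForm F (ι → F)) : Set (Cfsg.isometryGroup F ⇑Q) :=
  {g | ∃ v : ι → F, Q v ≠ 0 ∧
    ((g : Matrix.GeneralLinearGroup ι F) : Matrix ι ι F) = Cfsg.reflectionMatrix ⇑Q v}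

theorem det_reflectionMatrix (Q : QuadraticForm F (ι → F)) {v : ι → F} (hv : Q v ≠ 0) :
    (Cfsg.reflectionMatrix ⇑Q v).det = -1 := by
  rw [Cfsg.reflectionMatrix, ← smul_vecMulVec, sub_eq_add_neg, ← neg_vecMulVec,
    vecMulVec_eq Unit, det_one_add_replicateCol_mul_replicateRow, dotProduct_comm, neg_dotProduct,
    smul_dotProduct, dotProduct_comm, polarVec_dot, polar_self', smul_eq_mul, mul_left_comm,
    inv_mul_cancel₀ hv]
  ring

theorem matRefls_involutive (Q : QuadraticForm F (ι → F)) :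
    ∀ g ∈ matRefls Q, g * g = 1 := by
  rintro g ⟨v, hv, hg⟩
  apply (isomEquiv Q).injective
  refine Subtype.ext ?_
  rw [map_mul, map_one, Subgroup.coe_mul, (isomEquiv_eq_refl_iff Q g v hv).1 hg, refl_mul_self]
  rfl

theorem closure_matRefls (Q : QuadraticForm F (ι → F)) (hR : reflGroup Q = orth Q) :
    Subgroup.closure (matRefls Q) = ⊤ := by
  rw [eq_top_iff]
  intro g _
  have hg : (isomEquiv Q g : (ι → F) ≃ₗ[F] (ι → F)) ∈ reflGroup Q := hR.ge (isomEquiv Q g).2
  have hle : reflGroup Q ≤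
      (Subgroup.closure (matRefls Q)).map ((orth Q).subtype.comp (isomEquiv Q).toMonoidHom) := by
    rw [MonoidHom.map_closure, reflGroup]
    refine Subgroup.closure_mono ?_
    rintro _ ⟨a, ha, rfl⟩
    refine ⟨(isomEquiv Q).symm ⟨refl Q a ha, refl_mem_orth Q a ha⟩, ⟨a, ha, ?_⟩, by simp⟩
    rw [isomEquiv_eq_refl_iff Q _ a ha]; simp
  obtain ⟨g', hg', he⟩ := hle hg
  exact ((isomEquiv Q).injective (Subtype.ext he)) ▸ hg'

/-- Determinant on the isometry group. -/
noncomputable def detHom (Q : (ι → F) → F) : Cfsg.isometryGroup F Q →* Fˣ :=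
  Matrix.GeneralLinearGroup.det.comp (Cfsg.isometryGroup F Q).subtype

theorem detHom_refl (Q : QuadraticForm F (ι → F)) :
    ∀ g ∈ matRefls Q, detHom ⇑Q g = -1 := by
  rintro g ⟨v, hv, hg⟩
  ext
  rw [detHom, MonoidHom.comp_apply, Subgroup.coe_subtype, Matrix.GeneralLinearGroup.val_det_apply,
    hg, det_reflectionMatrix Q hv]
  simp

theorem index_Omega (Q : QuadraticForm F (ι → F)) :
    (Cfsg.Omega F ⇑Q).index = (commutator (orth Q)).index :=
  index_commutator_of_mulEquiv (isomEquiv Q)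

theorem special_eq_top_of_char_two [CharP F 2] (Q : QuadraticForm F (ι → F))
    (hR : reflGroup Q = orth Q) : Cfsg.specialIsometryGroup F ⇑Q = ⊤ := by
  show (detHom ⇑Q).ker = ⊤
  rw [eq_top_iff, ← closure_matRefls Q hR, Subgroup.closure_le]
  intro g hg
  rw [SetLike.mem_coe, MonoidHom.mem_ker, detHom_refl Q g hg]
  ext; simp [CharTwo.neg_eq]

theorem index_special (Q : QuadraticForm F (ι → F)) (h2 : (2 : F) ≠ 0)
    (hR : reflGroup Q = orth Q) (hne : ∃ v, Q v ≠ 0) :
    (Cfsg.specialIsometryGroup F ⇑Q).index = 2 := by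
  show (detHom ⇑Q).ker.index = 2
  have hrange : (detHom ⇑Q).range = Subgroup.zpowers (-1 : Fˣ) := by
    refine le_antisymm ?_ ?_
    · rw [MonoidHom.range_eq_map, ← closure_matRefls Q hR, MonoidHom.map_closure, Subgroup.closure_le]
      rintro _ ⟨g, hg, rfl⟩
      rw [detHom_refl Q g hg]
      exact Subgroup.mem_zpowers _
    · rw [Subgroup.zpowers_le]
      obtain ⟨v, hv⟩ := hne
      refine ⟨(isomEquiv Q).symm ⟨refl Q v hv, refl_mem_orth Q v hv⟩, detHom_refl Q _ ⟨v, hv, ?_⟩⟩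
      rw [isomEquiv_eq_refl_iff Q _ v hv]; simp
  rw [Subgroup.index_ker, hrange, Nat.card_zpowers]
  refine orderOf_eq_prime (by simp) fun h => ?_
  have := congrArg Units.val h
  simp only [Units.val_neg, Units.val_one] at this
  exact h2 (by linear_combination (-1 : F) * this)

theorem exists_ne_zero_of_nondegenerate (Q : QuadraticForm F (ι → F))
    (hQ : (polarBilin Q).Nondegenerate) (hn : 1 ≤ Fintype.card ι) : ∃ v, Q v ≠ 0 := by
  by_contra h
  push Not at h
  haveI : Nonempty ι := Fintype.card_pos_iff.1 hn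
  obtain ⟨z, hz⟩ := exists_ne (0 : ι → F)
  exact hz (hQ.1 z fun y => by simp [polar, h])

theorem isConj_matRefls_class (Q : QuadraticForm F (ι → F)) {A : Type*} [CommGroup A]
    (q : Cfsg.isometryGroup F ⇑Q →* A) (hQ : (polarBilin Q).Nondegenerate)
    {g h : Cfsg.isometryGroup F ⇑Q} {u v : ι → F} (hu : Q u ≠ 0) (hv : Q v ≠ 0)
    (hg : ((g : Matrix.GeneralLinearGroup ι F) : Matrix ι ι F) = Cfsg.reflectionMatrix ⇑Q u)
    (hh : ((h : Matrix.GeneralLinearGroup ι F) : Matrix ι ι F) = Cfsg.reflectionMatrix ⇑Q v)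
    (hsq : IsSquare (Q v / Q u)) : q g = q h := by
  have e1 : isomEquiv Q g = oRefl Q u hu := Subtype.ext ((isomEquiv_eq_refl_iff Q g u hu).1 hg)
  have e2 : isomEquiv Q h = oRefl Q v hv := Subtype.ext ((isomEquiv_eq_refl_iff Q h v hv).1 hh)
  have := map_oRefl_eq (q.comp (isomEquiv Q).symm.toMonoidHom) hQ hu hv hsq
  simpa [← e1, ← e2] using this

end CfsgLib.Geometry
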