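import Cfsg.Agent.Lib.Geometry.POmega

/-! Orders of `POmega` of the standard forms, in terms of the isometry groups. -/

set_option autoImplicit false

namespace CfsgLib.Geometry

open Matrix QuadraticMap

variable {F : Type*} [Field F]

/-- Upper triangular matrix of `quadFormOdd`. -/
def oddMat (m : ℕ) (F : Type*) [Field F] :
    Matrix (Unit ⊕ (Fin m ⊕ Fin m)) (Unit ⊕ (Fin m ⊕ Fin m)) F :=
  fromBlocks 1 0 0 (plusMat m F)

theorem coe_matQuad_odd (m : ℕ) : ⇑(matQuad (oddMat m F)) = Cfsg.quadFormOdd m F := by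
  funext v
  simp [matQuad_apply, oddMat, plusMat, dotProduct, Cfsg.quadFormOdd, fromBlocks_mulVec,
    Fintype.sum_sum_type, _root_.sq]

theorem det_odd_gram (m : ℕ) : (oddMat m F + (oddMat m F)ᵀ).det = 2 * (-1) ^ m := by
  rw [oddMat, fromBlocks_transpose, fromBlocks_add]
  simp only [transpose_zero, add_zero, transpose_one]
  rw [det_fromBlocks_zero₁₂, det_plus_gram, det_unique]
  norm_num

/-- An anisotropic binary form has nonzero discriminant. -/
theorem binAniso_discr [Finite F] {a b : F}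
    (hab : ∀ z₁ z₂ : F, z₁ ^ 2 + a * z₁ * z₂ + b * z₂ ^ 2 = 0 → z₁ = 0 ∧ z₂ = 0) :
    4 * b - a * a ≠ 0 ∧ ((2 : F) ≠ 0 → ¬ IsSquare (a * a - 4 * b)) := by
  have key : (2 : F) ≠ 0 → ¬ IsSquare (a * a - 4 * b) := fun h2 ⟨s, hs⟩ => by
    refine one_ne_zero (hab ((s - a) / 2) 1 ?_).2
    field_simp
    linear_combination (-1 : F) * hs
  refine ⟨fun h => ?_, key⟩
  by_cases h2 : (2 : F) = 0
  · haveI := CharTwo.of_one_ne_zero_of_two_eq_zero (one_ne_zero (α := F)) h2
    haveI := Fintype.ofFinite F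
    obtain ⟨s, hs⟩ := FiniteField.isSquare_of_char_two (ringChar.eq F 2) b
    have ha : a = 0 := mul_self_eq_zero.1 (by linear_combination (2 * b) * h2 - h)
    refine one_ne_zero (hab s 1 ?_).2
    rw [hs, ha]
    linear_combination (s * s) * h2
  · exact key h2 ⟨0, by linear_combination (-1 : F) * h⟩

theorem pow_mod_four_iff {q : ℕ} (hq : Odd q) (m : ℕ) :
    q ^ m % 4 = 1 ↔ Even (m * (q - 1) / 2) := by
  obtain ⟨k, rfl⟩ := hq
  rw [show m * (2 * k + 1 - 1) / 2 = m * k by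
    rw [Nat.add_sub_cancel, Nat.mul_left_comm, Nat.mul_div_cancel_left _ two_pos]]
  induction m with
  | zero => simp
  | succ m ih =>
    rw [pow_succ, Nat.mul_mod, Nat.succ_mul, Nat.even_add]
    have ho : (2 * k + 1) ^ m % 2 = 1 := Nat.odd_iff.1 (Odd.pow ⟨k, rfl⟩)
    rcases Nat.even_or_odd k with hk | hk
    · obtain ⟨j, rfl⟩ := hk
      rw [show (2 * (j + j) + 1) % 4 = 1 by omega, mul_one, Nat.mod_mod, ih]
      simp
    · obtain ⟨j, rfl⟩ := hk
      rw [show (2 * (2 * j + 1) + 1) % 4 = 3 by omega]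
      have hne : ¬ Even (2 * j + 1) := by simp
      simp only [hne, iff_false]
      rw [← ih]
      omega

theorem gcd_four_odd (n : ℕ) (hn : Odd n) : Nat.gcd 4 n = 1 :=
  (Nat.Coprime.pow_left 2 (Nat.coprime_two_left.2 hn) : Nat.Coprime (2 ^ 2) n)

theorem gcd_four_even (n : ℕ) (hn : n % 2 = 0) :
    Nat.gcd 4 n = if n % 4 = 0 then 4 else 2 := by
  split_ifs with h
  · exact Nat.gcd_eq_left (Nat.dvd_of_mod_eq_zero h)
  · rw [Nat.gcd_rec, show n % 4 = 2 by omega]; rfl

variable {ι : Type} [Fintype ι] [DecidableEq ι] [Finite F]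

theorem card_pOmega_char_two {M : Matrix ι ι F} (h2 : (2 : F) = 0) (hn : 5 ≤ Fintype.card ι)
    (h : (M + Mᵀ).det ≠ 0) :
    2 * Nat.card (Cfsg.POmega F ⇑(matQuad M)) = Nat.card (Cfsg.isometryGroup F ⇑(matQuad M)) := by
  haveI := CharTwo.of_one_ne_zero_of_two_eq_zero (one_ne_zero (α := F)) h2
  have hQ := nondegenerate_matQuad h
  have hn' : 5 ≤ Module.finrank F (ι → F) := by simpa using hn
  rw [← card_pOmega _ hQ hn, if_neg fun h => h.1 h2, mul_one, index_commutator_orth_even hQ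
    (by omega) (reflGroup_eq_orth hQ (Or.inl (by omega))), mul_comm]

theorem card_pOmega_odd_dim {M : Matrix ι ι F} (h2 : (2 : F) ≠ 0) (hn : 5 ≤ Fintype.card ι)
    (hodd : Odd (Fintype.card ι)) (h : (M + Mᵀ).det ≠ 0) :
    4 * Nat.card (Cfsg.POmega F ⇑(matQuad M)) = Nat.card (Cfsg.isometryGroup F ⇑(matQuad M)) := by
  have hQ := nondegenerate_matQuad h
  have hn' : 5 ≤ Module.finrank F (ι → F) := by simpa using hn
  have hne : ¬ ((2 : F) ≠ 0 ∧ ∃ g : Cfsg.isometryGroup F ⇑(matQuad M),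
      g ∈ Cfsg.Omega F ⇑(matQuad M) ∧
      ((g : Matrix.GeneralLinearGroup ι F) : Matrix ι ι F) = -1) := by
    rintro ⟨-, g, hg, hg1⟩
    have h1 : detHom (⇑(matQuad M)) g = 1 :=
      MonoidHom.mem_ker.1 (Abelianization.commutator_subset_ker _ hg)
    have h3 := congrArg Units.val h1
    rw [detHom, MonoidHom.comp_apply, Subgroup.coe_subtype,
      Matrix.GeneralLinearGroup.val_det_apply, hg1, det_neg, det_one, mul_one, hodd.neg_one_pow,
      Units.val_one] at h3
    exact h2 (by linear_combination (-1 : F) * h3)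
  rw [← card_pOmega _ hQ hn, if_neg hne, mul_one, index_commutator_orth_odd hQ
    (by omega) h2 (reflGroup_eq_orth hQ (Or.inl (by omega))), mul_comm]

open Classical in
theorem card_pOmega_even_dim {M : Matrix ι ι F} (h2 : (2 : F) ≠ 0) (hn : 5 ≤ Fintype.card ι)
    (heven : Even (Fintype.card ι)) (h : (M + Mᵀ).det ≠ 0) :
    (if IsSquare (M + Mᵀ).det then 8 else 4) * Nat.card (Cfsg.POmega F ⇑(matQuad M)) =
      Nat.card (Cfsg.isometryGroup F ⇑(matQuad M)) := by
  have hQ := nondegenerate_matQuad h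
  have hn' : 5 ≤ Module.finrank F (ι → F) := by simpa using hn
  have hiff := neg_one_mem_Omega_iff h2 heven (by omega) h
  rw [← card_pOmega _ hQ hn, index_commutator_orth_odd hQ (by omega) h2
    (reflGroup_eq_orth hQ (Or.inl (by omega)))]
  by_cases hsq : IsSquare (M + Mᵀ).det
  · rw [if_pos hsq, if_pos ⟨h2, hiff.2 hsq⟩]; ring
  · rw [if_neg hsq, if_neg fun h => hsq (hiff.1 h.2)]; ring

end CfsgLib.Geometry
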