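import Cfsg.Agent.Lib.Geometry.Basic

/-! Conjugate-symmetric sesquilinear forms: Witt extension and orthonormal bases. -/

set_option autoImplicit false

namespace CfsgLib.Geometry

variable {F V : Type*} [Field F] [AddCommGroup V] [Module F V] {σ : F →+* F}

/-- The unitary group of a sesquilinear form, inside the linear equivalences. -/
def unit_ (B : V →ₛₗ[σ] V →ₗ[F] F) : Subgroup (V ≃ₗ[F] V) where
  carrier := {g | ∀ u v, B (g u) (g v) = B u v}
  mul_mem' {a b} ha hb u v := (ha (b u) (b v)).trans (hb u v)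
  one_mem' _ _ := rfl
  inv_mem' {a} ha u v := by
    conv_rhs => rw [← a.apply_symm_apply u, ← a.apply_symm_apply v, ha]
    rfl

theorem mem_unit_ {B : V →ₛₗ[σ] V →ₗ[F] F} {g : V ≃ₗ[F] V} :
    g ∈ unit_ B ↔ ∀ u v, B (g u) (g v) = B u v := Iff.rfl

theorem surjective_of_involutive (hσ2 : ∀ a, σ (σ a) = a) : Function.Surjective σ :=
  fun a => ⟨σ a, hσ2 a⟩

/-- An element of trace one. -/
theorem exists_trace_one (hσ : σ ≠ RingHom.id F) (hσ2 : ∀ a, σ (σ a) = a) :
    ∃ θ : F, θ + σ θ = 1 := by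
  obtain ⟨a, ha⟩ : ∃ a, a + σ a ≠ 0 := by
    by_contra h
    push Not at h
    have h2 : (2 : F) = 0 := by
      have := h 1
      rw [map_one] at this
      linear_combination this
    exact hσ (RingHom.ext fun a => by
      show σ a = a
      linear_combination h a - a * h2)
  refine ⟨a / (a + σ a), ?_⟩
  rw [map_div₀, map_add, hσ2, add_comm (σ a) a, ← add_div, div_self ha]

/-- `v ↦ v + a B(d,v) d`. -/
def hTransvMap (B : V →ₛₗ[σ] V →ₗ[F] F) (a : F) (d : V) : V →ₗ[F] V :=
  LinearMap.id + a • (B d).smulRight d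

theorem hTransvMap_apply (B : V →ₛₗ[σ] V →ₗ[F] F) (a : F) (d v : V) :
    hTransvMap B a d v = v + (a * B d v) • d := by simp [hTransvMap, smul_smul]

theorem hTransvMap_preserves {B : V →ₛₗ[σ] V →ₗ[F] F} (hS : B.IsSymm) {a : F} {d : V}
    (h : a + σ a + a * σ a * B d d = 0) (u v : V) :
    B (hTransvMap B a d u) (hTransvMap B a d v) = B u v := by
  simp only [hTransvMap_apply, map_add, LinearMap.map_smulₛₗ, LinearMap.add_apply,
    LinearMap.smul_apply, smul_eq_mul, RingHom.id_apply, map_mul, hS.eq d u]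
  linear_combination (B u d * B d v) * h

/-- `v ↦ v + B(d,v) w + (c B(d,v) - B(w,v)) d`. -/
def hSiegelMap (B : V →ₛₗ[σ] V →ₗ[F] F) (d w : V) (c : F) : V →ₗ[F] V :=
  LinearMap.id + (B d).smulRight w + (c • B d - B w).smulRight d

theorem hSiegelMap_apply (B : V →ₛₗ[σ] V →ₗ[F] F) (d w : V) (c : F) (v : V) :
    hSiegelMap B d w c v = v + B d v • w + (c * B d v - B w v) • d := by simp [hSiegelMap]

theorem hSiegelMap_preserves {B : V →ₛₗ[σ] V →ₗ[F] F} (hS : B.IsSymm) {d w : V} {c : F}
    (hd : B d d = 0) (hdw : B d w = 0) (hc : c + σ c + B w w = 0) (u v : V) :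
    B (hSiegelMap B d w c u) (hSiegelMap B d w c v) = B u v := by
  have hwd : B w d = 0 := by rw [← hS.eq, hdw, map_zero]
  simp only [hSiegelMap_apply, map_add, map_sub, LinearMap.map_smulₛₗ, LinearMap.add_apply,
    LinearMap.smul_apply, smul_eq_mul, RingHom.id_apply, map_mul, hS.eq d u, hS.eq w u, hd, hdw,
    hwd]
  linear_combination (B u d * B d v) * hc

variable [FiniteDimensional F V]

/-- A non-zero isotropic vector orthogonal to `H`, outside it, has an isotropic partner. -/
theorem exists_hPartner {B : V →ₛₗ[σ] V →ₗ[F] F} (hσ : σ ≠ RingHom.id F)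
    (hσ2 : ∀ a, σ (σ a) = a) (hS : B.IsSymm) (hB : B.Nondegenerate)
    (H : Submodule F V) {d : V} (hdH : d ∉ H) (hd : B d d = 0) (hperp : ∀ h ∈ H, B d h = 0) :
    ∃ e, B e e = 0 ∧ B d e = 1 ∧ ∀ h ∈ H, B e h = 0 := by
  obtain ⟨w, hw, hwd⟩ := exists_perp (surjective_of_involutive hσ2) B hB.1 H hdH 1
  obtain ⟨θ, hθ⟩ := exists_trace_one hσ hσ2
  have hdw : B d w = 1 := by rw [← hS.eq, hwd, map_one]
  have hww : σ (B w w) = B w w := hS.eq w w
  refine ⟨w + (-(θ * B w w)) • d, ?_, ?_, fun h hh => ?_⟩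
  · simp only [map_add, LinearMap.map_smulₛₗ, LinearMap.add_apply, LinearMap.smul_apply,
      smul_eq_mul, RingHom.id_apply, hd, hdw, hwd, map_neg, map_mul, hww]
    linear_combination (-B w w) * hθ
  · simp [hd, hdw]
  · simp [hw h hh, hperp h hh]

/-- Witt extension for conjugate-symmetric forms, on independent families. -/
theorem herm_extend {B : V →ₛₗ[σ] V →ₗ[F] F} (hσ : σ ≠ RingHom.id F)
    (hσ2 : ∀ a, σ (σ a) = a) (hS : B.IsSymm) (hB : B.Nondegenerate) {k : ℕ}
    (v w : Fin k → V) (hv : LinearIndependent F v) (hw : LinearIndependent F w)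
    (h : ∀ i j, B (v i) (v j) = B (w i) (w j)) :
    ∃ g ∈ unit_ B, ∀ i, g (v i) = w i := by
  refine extend_induction (unit_ B) (fun {k} v w => ∀ i j, B (v i) (v j) = B (w i) (w j))
    (fun g hg {k} v w hvw i j => by rw [hvw, mem_unit_.1 hg]) (fun v w hvw i j => hvw _ _) ?_
    v w hv hw h
  intro k v x y _ hx hy hvw
  let H := Submodule.span F (Set.range v)
  have hvH : ∀ i, v i ∈ H := fun i => Submodule.subset_span (Set.mem_range_self i)
  have hd : ∀ i, B (y - x) (v i) = 0 := fun i => by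
    have := hvw 0 i.succ
    simp only [Fin.cons_succ, Fin.cons_zero] at this
    rw [map_sub, LinearMap.sub_apply, ← this, sub_self]
  have hqxy : B x x = B y y := by simpa using hvw 0 0
  generalize hdef : y - x = d at hd
  have hy' : y = x + d := by rw [← hdef]; abel
  have hQd : B d d = -(B d x + σ (B d x)) := by
    have h' := hqxy
    rw [hy'] at h'
    simp only [map_add, LinearMap.add_apply] at h'
    rw [hS.eq d x]
    linear_combination -h'
  by_cases h0 : B d x ≠ 0
  · have hσ0 : σ (B d x) ≠ 0 := (map_ne_zero σ).2 h0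
    have hpres := hTransvMap_preserves (B := B) hS (a := (B d x)⁻¹) (d := d) (by
      rw [hQd, map_inv₀]; field_simp; ring)
    refine ⟨isoOfPreserves B hB.1 _ hpres, fun a b => hpres a b, ?_, fun i => ?_⟩
    · rw [isoOfPreserves_apply, hTransvMap_apply, inv_mul_cancel₀ h0, one_smul, hy']
    · rw [isoOfPreserves_apply, hTransvMap_apply, hd, mul_zero, zero_smul, add_zero]
  push Not at h0
  have hdd : B d d = 0 := by rw [hQd, h0, map_zero, add_zero, neg_zero]
  by_cases hxH : x ∈ H ⊔ Submodule.span F {d}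
  · obtain ⟨h1, hh, z, hz, hxz⟩ := Submodule.mem_sup.1 hxH
    obtain ⟨c, rfl⟩ := Submodule.mem_span_singleton.1 hz
    have hc : c ≠ 0 := fun hc => hx (by rw [← hxz, hc, zero_smul, add_zero]; exact hh)
    have hdH : d ∉ H := fun h' => hx (by rw [← hxz]; exact add_mem hh (H.smul_mem _ h'))
    have hc1 : c + 1 ≠ 0 := fun hc1 => hy (by
      rw [hy', ← hxz, show h1 + c • d + d = h1 + (c + 1) • d by module, hc1, zero_smul, add_zero]
      exact hh)
    have hdperp : ∀ h' ∈ H, B d h' = 0 := by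
      have hle : H ≤ LinearMap.ker (B d) := Submodule.span_le.2 (by
        rintro _ ⟨i, rfl⟩
        exact hd i)
      exact fun h' hh' => hle hh'
    obtain ⟨e, he, hde, heH⟩ := exists_hPartner hσ hσ2 hS hB H hdH hdd hdperp
    have hed : B e d = 1 := by rw [← hS.eq, hde, map_one]
    let l := (c + 1) / c
    have hl : l ≠ 0 := div_ne_zero hc1 hc
    have hσl : σ l ≠ 0 := (map_ne_zero σ).2 hl
    let g : V →ₗ[F] V := LinearMap.id + (l - 1) • (B e).smulRight d
      + ((σ l)⁻¹ - 1) • (B d).smulRight e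
    have hg : ∀ u, g u = u + ((l - 1) * B e u) • d + (((σ l)⁻¹ - 1) * B d u) • e :=
      fun u => by simp [g, smul_smul]
    have hgP : ∀ a b, B (g a) (g b) = B a b := fun a b => by
      simp only [hg, map_add, LinearMap.map_smulₛₗ, LinearMap.add_apply, LinearMap.smul_apply,
        smul_eq_mul, RingHom.id_apply, map_mul, map_sub, map_one, map_inv₀, hσ2, hS.eq e a,
        hS.eq d a, hdd, hde, hed, he]
      field_simp
      ring
    refine ⟨isoOfPreserves B hB.1 g hgP, fun a b => hgP a b, ?_, fun i => ?_⟩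
    · rw [isoOfPreserves_apply, hy', ← hxz, map_add, map_smul, hg h1, hg d, hdperp h1 hh,
        heH h1 hh, hed, hdd]
      have : c • l = c + 1 := by simp [l, mul_div_cancel₀ _ hc]
      rw [show c • (d + ((l - 1) * 1) • d + (((σ l)⁻¹ - 1) * 0) • e) = (c • l) • d by module, this]
      module
    · rw [isoOfPreserves_apply, hg, hd i, heH _ (hvH i)]
      simp
  · obtain ⟨w, hw, hwx⟩ := exists_perp (surjective_of_involutive hσ2) B hB.1 _ hxH (-1)
    have hdw : B d w = 0 := by
      rw [← hS.eq, hw d (Submodule.mem_sup_right (Submodule.mem_span_singleton_self d)), map_zero]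
    obtain ⟨θ, hθ⟩ := exists_trace_one hσ hσ2
    have hpres := hSiegelMap_preserves (B := B) hS (c := -(θ * B w w)) hdd hdw (by
      rw [map_neg, map_mul, hS.eq w w]
      linear_combination (-B w w) * hθ)
    refine ⟨isoOfPreserves B hB.1 _ hpres, fun a b => hpres a b, ?_, fun i => ?_⟩
    · rw [isoOfPreserves_apply, hSiegelMap_apply, h0, hwx, hy']
      module
    · rw [isoOfPreserves_apply, hSiegelMap_apply, hd, hw _ (Submodule.mem_sup_left (hvH i))]
      simp

/-- Witt's lemma for conjugate-symmetric forms. -/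
theorem herm_witt {B : V →ₛₗ[σ] V →ₗ[F] F} (hσ : σ ≠ RingHom.id F)
    (hσ2 : ∀ a, σ (σ a) = a) (hS : B.IsSymm) (hB : B.Nondegenerate)
    (X : Submodule F V) (φ : X →ₗ[F] V) (hφ : Function.Injective φ)
    (h : ∀ x x' : X, B (φ x) (φ x') = B (x : V) x') :
    ∃ g ∈ unit_ B, ∀ x : X, g (x : V) = φ x :=
  extend_subspace _ X φ hφ fun v h1 h2 =>
    herm_extend hσ hσ2 hS hB _ _ h1 h2 fun i j => (h _ _).symm

omit [AddCommGroup V] [Module F V] [FiniteDimensional F V] in
/-- Over a finite field an involutive automorphism is `x ↦ x ^ r` with `r ^ 2` the order. -/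
theorem exists_eq_pow [Finite F] (hσ : σ ≠ RingHom.id F) (hσ2 : ∀ a, σ (σ a) = a) :
    ∃ r : ℕ, 2 ≤ r ∧ Nat.card F = r ^ 2 ∧ ∀ x, σ x = x ^ r := by
  classical
  haveI := Fintype.ofFinite F
  let K := RingHom.eqLocusField σ (RingHom.id F)
  obtain ⟨α, hα⟩ : ∃ a, σ a ≠ a := by
    by_contra h
    exact hσ (RingHom.ext fun a => not_not.1 fun h' => h ⟨a, h'⟩)
  have hα' : α - σ α ≠ 0 := sub_ne_zero.2 (Ne.symm hα)
  have dec : ∀ x : F, ∃ a b : F, σ a = a ∧ σ b = b ∧ x = a + b * α := fun x => by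
    have hb : σ ((x - σ x) / (α - σ α)) = (x - σ x) / (α - σ α) := by
      rw [map_div₀, map_sub, map_sub, hσ2, hσ2, ← neg_div_neg_eq, neg_sub, neg_sub]
    refine ⟨x - (x - σ x) / (α - σ α) * α, (x - σ x) / (α - σ α), ?_, hb, by ring⟩
    rw [map_sub, map_mul, hb]
    field_simp
    ring
  have hcard : Nat.card F = Nat.card K ^ 2 := by
    rw [sq, ← Nat.card_prod]
    refine (Nat.card_congr (Equiv.ofBijective (fun p : K × K => (p.1 : F) + p.2 * α) ⟨?_, ?_⟩)).symm
    · intro p q h
      have h' := congrArg σ h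
      simp only [map_add, map_mul] at h'
      rw [show σ (p.1 : F) = p.1 from p.1.2, show σ (p.2 : F) = p.2 from p.2.2,
        show σ (q.1 : F) = q.1 from q.1.2, show σ (q.2 : F) = q.2 from q.2.2] at h'
      simp only at h
      have h2 : (p.2 : F) = q.2 := mul_right_cancel₀ hα' (by linear_combination h - h')
      exact Prod.ext (Subtype.ext (by rw [h2] at h; exact add_right_cancel h)) (Subtype.ext h2)
    · intro x
      obtain ⟨a, b, ha, hb, rfl⟩ := dec x
      exact ⟨(⟨a, ha⟩, ⟨b, hb⟩), rfl⟩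
  obtain ⟨p, hp⟩ := CharP.exists F
  haveI := hp
  haveI : Fact p.Prime := ⟨CharP.char_is_prime F p⟩
  haveI : CharP K p := inferInstance
  obtain ⟨n, hn⟩ := FiniteField.card K p
  have hr : Nat.card K = p ^ (n : ℕ) := by rw [Nat.card_eq_fintype_card]; exact hn.2
  have hfix : ∀ a, σ a = a → a ^ (p ^ (n : ℕ)) = a := fun a ha => by
    have := FiniteField.pow_card (⟨a, ha⟩ : K)
    rw [← Nat.card_eq_fintype_card, hr] at this
    simpa using congrArg Subtype.val this
  have h2r : 2 ≤ Nat.card K := by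
    rw [Nat.card_eq_fintype_card]; exact Fintype.one_lt_card
  refine ⟨Nat.card K, h2r, hcard, ?_⟩
  rw [hr]
  have hpol : (α ^ p ^ (n : ℕ) - α) * (α ^ p ^ (n : ℕ) - σ α) = 0 := by
    have hs := hfix (α + σ α) (by rw [map_add, hσ2, add_comm])
    have ht := hfix (α * σ α) (by rw [map_mul, hσ2, mul_comm])
    rw [add_pow_char_pow] at hs
    rw [mul_pow] at ht
    linear_combination (-(α ^ p ^ (n : ℕ))) * 0 + (α ^ p ^ (n:ℕ)) * hs - ht
  have hne : α ^ p ^ (n : ℕ) ≠ α := by
    intro he
    have hall : ∀ x : F, x ^ p ^ (n : ℕ) = x := fun x => by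
      obtain ⟨a, b, ha, hb, rfl⟩ := dec x
      rw [add_pow_char_pow, mul_pow, hfix a ha, hfix b hb, he]
    obtain ⟨g, hg⟩ := IsCyclic.exists_generator (α := Fˣ)
    have h1 : g ^ (p ^ (n : ℕ) - 1) = 1 := by
      refine Units.ext (mul_right_cancel₀ g.ne_zero ?_)
      rw [Units.val_one, one_mul, Units.val_pow_eq_pow_val, ← pow_succ, Nat.sub_add_cancel
        (Nat.one_le_pow _ _ (Fact.out : p.Prime).pos), hall]
    have h2 : orderOf g ≤ p ^ (n : ℕ) - 1 :=
      Nat.le_of_dvd (by omega) (orderOf_dvd_of_pow_eq_one h1)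
    rw [orderOf_eq_card_of_forall_mem_zpowers hg, Nat.card_units, hcard, hr] at h2
    have h3 : (p ^ (n : ℕ)) ^ 2 ≥ 2 * p ^ (n : ℕ) := by
      rw [sq]; exact Nat.mul_le_mul_right _ (hr ▸ h2r)
    omega
  intro x
  obtain ⟨a, b, ha, hb, rfl⟩ := dec x
  rw [map_add, map_mul, ha, hb, add_pow_char_pow, mul_pow, hfix a ha, hfix b hb,
    sub_eq_zero.1 ((mul_eq_zero.1 hpol).resolve_left (sub_ne_zero.2 hne))]

omit [AddCommGroup V] [Module F V] [FiniteDimensional F V] in
/-- The norm onto the fixed field is surjective. -/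
theorem exists_norm_eq [Finite F] (hσ : σ ≠ RingHom.id F) (hσ2 : ∀ a, σ (σ a) = a) {c : F}
    (hc : σ c = c) : ∃ t, t * σ t = c := by
  haveI := Fintype.ofFinite F
  rcases eq_or_ne c 0 with rfl | hc0
  · exact ⟨0, by simp⟩
  obtain ⟨r, hr2, hr, hσr⟩ := exists_eq_pow hσ hσ2
  obtain ⟨g, hg⟩ := IsCyclic.exists_generator (α := Fˣ)
  obtain ⟨k, hk⟩ := Submonoid.mem_powers_iff _ _ |>.1
    (mem_powers_iff_mem_zpowers.2 (hg (Units.mk0 c hc0)))
  have h1 : (Units.mk0 c hc0) ^ (r - 1) = 1 := by
    refine Units.ext (mul_right_cancel₀ hc0 ?_)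
    rw [Units.val_one, one_mul, Units.val_pow_eq_pow_val, Units.val_mk0, ← pow_succ,
      Nat.sub_add_cancel (by omega), ← hσr, hc]
  rw [← hk, ← pow_mul, ← orderOf_dvd_iff_pow_eq_one, orderOf_eq_card_of_forall_mem_zpowers hg,
    Nat.card_units, hr, show r ^ 2 - 1 = (r + 1) * (r - 1) by
      rw [← Nat.sq_sub_sq, one_pow]] at h1
  obtain ⟨l, rfl⟩ := Nat.dvd_of_mul_dvd_mul_right (by omega) h1
  refine ⟨(g : F) ^ l, ?_⟩
  have := congrArg Units.val hk
  simp only [Units.val_pow_eq_pow_val, Units.val_mk0] at this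
  rw [hσr, ← this]
  ring

/-- A non-degenerate conjugate-symmetric form over a finite field has an orthonormal basis. -/
theorem exists_orthonormal [Finite F] {B : V →ₛₗ[σ] V →ₗ[F] F} (hσ : σ ≠ RingHom.id F)
    (hσ2 : ∀ a, σ (σ a) = a) (hS : B.IsSymm) (hB : B.Nondegenerate) :
    ∃ b : Module.Basis (Fin (Module.finrank F V)) F V, ∀ i j, B (b i) (b j) = if i = j then 1 else 0 := by
  have step : ∀ k ≤ Module.finrank F V, ∃ v : Fin k → V, ∀ i j, B (v i) (v j) = if i = j then 1 else 0 := by
    intro k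
    induction k with
    | zero => exact fun _ => ⟨fun i => i.elim0, fun i => i.elim0⟩
    | succ k ih =>
      intro hk
      obtain ⟨v, hv⟩ := ih (by omega)
      have hproj : ∀ z, ∀ i, B (v i) (z - ∑ j, B (v j) z • v j) = 0 := fun z i => by
        simp [hv]
      obtain ⟨z, hz, hzz⟩ : ∃ z, (∀ i, B (v i) z = 0) ∧ B z z ≠ 0 := by
        by_contra hc
        push Not at hc
        have hW : ∀ z w, (∀ i, B (v i) z = 0) → (∀ i, B (v i) w = 0) → B z w = 0 := by
          intro z w hz hw
          obtain ⟨a, ha⟩ : ∃ a, σ a ≠ a := by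
            by_contra h
            exact hσ (RingHom.ext fun a => not_not.1 fun h' => h ⟨a, h'⟩)
          have e : ∀ t : F, σ t * B w z + t * B z w = 0 := fun t => by
            have h1 := hc (z + t • w) (fun i => by simp [hz, hw])
            simpa [hc z hz, hc w hw, add_comm] using h1
          by_contra h
          exact ha (by
            have h1 := e 1
            have h2 := e a
            rw [map_one, one_mul, one_mul] at h1
            refine (mul_right_cancel₀ h ?_).symm
            linear_combination h2 - (σ a) * h1)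
        have h0 : ∀ z, (∀ i, B (v i) z = 0) → z = 0 := fun z hz => hB.1 z fun y => by
          have := hW z _ hz (hproj y)
          simpa [map_sum, show ∀ i, B z (v i) = 0 from fun i => by rw [← hS.eq, hz i, map_zero]]
            using this
        have hspan : Submodule.span F (Set.range v) = ⊤ := eq_top_iff.2 fun z _ => by
          rw [sub_eq_zero.1 (h0 _ (hproj z))]
          exact Submodule.sum_mem _ fun j _ => Submodule.smul_mem _ _
            (Submodule.subset_span (Set.mem_range_self j))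
        have := finrank_range_le_card (R := F) v
        rw [Set.finrank, hspan, finrank_top, Fintype.card_fin] at this
        omega
      obtain ⟨t, ht⟩ := exists_norm_eq hσ hσ2 (c := (B z z)⁻¹) (by rw [map_inv₀, hS.eq])
      refine ⟨Fin.cons (t • z) v, ?_⟩
      have hz' : ∀ i, B z (v i) = 0 := fun i => by rw [← hS.eq, hz, map_zero]
      intro i j
      induction i using Fin.cases <;> induction j using Fin.cases <;>
        simp [hv, hz, hz', Fin.succ_ne_zero, (Fin.succ_ne_zero _).symm]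
      rw [← mul_assoc, ht, inv_mul_cancel₀ hzz]
  obtain ⟨v, hv⟩ := step _ le_rfl
  have hli : LinearIndependent F v := Fintype.linearIndependent_iff.2 fun c hc i => by
    simpa [hv] using congrArg (fun z => B (v i) z) hc
  refine ⟨basisOfLinearIndependentOfCardEqFinrank' v hli (by simp), fun i j => ?_⟩
  simp [hv]

end CfsgLib.Geometry
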