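import Mathlib

/-! Invertible matrices as linear equivalences of the column space. -/

set_option autoImplicit false

namespace CfsgLib.Geometry

variable {ι : Type*} [Fintype ι] [DecidableEq ι] {F : Type*} [Field F]

/-- `GL ι F` as the group of linear equivalences of `ι → F`. -/
noncomputable def glEquiv : Matrix.GeneralLinearGroup ι F ≃* ((ι → F) ≃ₗ[F] (ι → F)) :=
  Matrix.GeneralLinearGroup.toLin.trans (LinearMap.GeneralLinearGroup.generalLinearEquiv F (ι → F))

@[simp]
theorem glEquiv_apply (g : Matrix.GeneralLinearGroup ι F) (v : ι → F) :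
    glEquiv g v = (g : Matrix ι ι F).mulVec v := rfl

theorem glEquiv_symm_mulVec (e : (ι → F) ≃ₗ[F] (ι → F)) (v : ι → F) :
    ((glEquiv.symm e : Matrix.GeneralLinearGroup ι F) : Matrix ι ι F).mulVec v = e v := by
  rw [← glEquiv_apply, MulEquiv.apply_symm_apply]

theorem matrix_eq_of_mulVec {A B : Matrix ι ι F} (h : ∀ v, A.mulVec v = B.mulVec v) : A = B := by
  ext i j
  have := congrFun (h (Pi.single j 1)) i
  simpa [Matrix.mulVec_single_one] using this

theorem det_glEquiv (g : Matrix.GeneralLinearGroup ι F) :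
    LinearMap.det (glEquiv g : (ι → F) ≃ₗ[F] (ι → F)).toLinearMap = (g : Matrix ι ι F).det :=
  LinearMap.det_toLin' _

end CfsgLib.Geometry
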