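import Mathlib

/-! Alternating forms have symplectic bases (with radical). -/

set_option autoImplicit false

namespace CfsgLib.Geometry

universe u v

theorem exists_sympBasis_aux {F : Type u} [Field F] (n : ℕ) :
    ∀ {V : Type v} [AddCommGroup V] [Module F V] [FiniteDimensional F V],
    Module.finrank F V = n → ∀ (B : LinearMap.BilinForm F V), B.IsAlt →
    ∃ (m k : ℕ) (b : Module.Basis ((Fin m ⊕ Fin m) ⊕ Fin k) F V),
      (∀ i j : Fin m, B (b (Sum.inl (Sum.inl i))) (b (Sum.inl (Sum.inr j))) = if i = j then 1 else 0) ∧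
      (∀ i j : Fin m, B (b (Sum.inl (Sum.inl i))) (b (Sum.inl (Sum.inl j))) = 0) ∧
      (∀ i j : Fin m, B (b (Sum.inl (Sum.inr i))) (b (Sum.inl (Sum.inr j))) = 0) ∧
      (∀ (j : Fin k) (v : V), B (b (Sum.inr j)) v = 0) := by
  induction n using Nat.strong_induction_on with
  | _ n ih =>
  intro V _ _ _ hn B hA
  by_cases hB : B = 0
  · refine ⟨0, n, (Module.finBasisOfFinrankEq F V hn).reindex (Equiv.emptySum _ _).symm,
      fun i => i.elim0, fun i => i.elim0, fun i => i.elim0, fun j v => by simp [hB]⟩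
  obtain ⟨e, f, hef⟩ : ∃ e f, B e f = 1 := by
    by_contra hc
    apply hB
    ext e f
    by_contra hef
    exact hc ⟨e, (B e f)⁻¹ • f, by simpa using inv_mul_cancel₀ hef⟩
  let W : Submodule F V := LinearMap.ker ((B e).prod (B f))
  have hmem : ∀ w, w ∈ W ↔ B e w = 0 ∧ B f w = 0 := fun w => by simp [W]
  have hfe : B f e = -1 := by rw [← hA.neg_eq, hef]
  have hsur : Function.Surjective ((B e).prod (B f)) := fun ⟨a, b⟩ =>
    ⟨a • f - b • e, by simp [hef, hfe, hA.self_eq_zero]⟩
  have hdim : Module.finrank F W + 2 = n := by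
    have h1 := LinearMap.finrank_range_add_finrank_ker ((B e).prod (B f))
    rw [LinearMap.range_eq_top.2 hsur, finrank_top, Module.finrank_prod, Module.finrank_self] at h1
    change 1 + 1 + Module.finrank F W = _ at h1
    omega
  obtain ⟨m, k, b, h1, h2, h3, h4⟩ := ih _ (by omega) rfl (B.restrict W) (fun x => hA x)
  let c : (Fin (m+1) ⊕ Fin (m+1)) ⊕ Fin k → V := Sum.elim
    (Sum.elim (Fin.cons e fun i => (b (Sum.inl (Sum.inl i)) : V))
      (Fin.cons f fun i => (b (Sum.inl (Sum.inr i)) : V)))
    fun j => (b (Sum.inr j) : V)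
  let S := Submodule.span F (Set.range c)
  have hS : ∀ i, c i ∈ S := fun i => Submodule.subset_span (Set.mem_range_self i)
  have hWS : W ≤ S := by
    intro w hw
    have := b.sum_repr ⟨w, hw⟩
    have h' : w = ∑ i, b.repr ⟨w, hw⟩ i • (b i : V) := by
      have h'' := congrArg W.subtype this
      rw [map_sum] at h''
      simpa using h''.symm
    rw [h']
    refine Submodule.sum_mem _ fun i _ => S.smul_mem _ ?_
    rcases i with (i | i) | i
    · simpa [c] using hS (Sum.inl (Sum.inl i.succ))
    · simpa [c] using hS (Sum.inl (Sum.inr i.succ))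
    · exact hS (Sum.inr i)
  have hspan : ⊤ ≤ S := by
    intro v _
    have hw : v - B v f • e - B e v • f ∈ W := by
      rw [hmem]; constructor <;> simp [hef, hfe, hA.self_eq_zero, ← hA.neg_eq v f]
    have he : e ∈ S := by simpa [c] using hS (Sum.inl (Sum.inl 0))
    have hf : f ∈ S := by simpa [c] using hS (Sum.inl (Sum.inr 0))
    have := S.add_mem (S.add_mem (hWS hw) (S.smul_mem (B e v) hf)) (S.smul_mem (B v f) he)
    simpa using this
  have hcard : Fintype.card ((Fin (m+1) ⊕ Fin (m+1)) ⊕ Fin k) = Module.finrank F V := by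
    have := Module.finrank_eq_card_basis b
    simp only [Fintype.card_sum, Fintype.card_fin] at this ⊢
    omega
  have hbW : ∀ i, B e (b i : V) = 0 ∧ B f (b i : V) = 0 := fun i => (hmem _).1 (b i).2
  have hbW' : ∀ i, B (b i : V) e = 0 ∧ B (b i : V) f = 0 := fun i =>
    ⟨hA.isRefl _ _ (hbW i).1, hA.isRefl _ _ (hbW i).2⟩
  refine ⟨m + 1, k, basisOfTopLeSpanOfCardEqFinrank c hspan hcard, ?_, ?_, ?_, ?_⟩ <;>
    simp only [coe_basisOfTopLeSpanOfCardEqFinrank, c, Sum.elim_inl, Sum.elim_inr]
  · intro i j
    induction i using Fin.cases <;> induction j using Fin.cases <;>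
      simp [hef, hbW, hbW', Fin.succ_ne_zero, (Fin.succ_ne_zero _).symm]
    rename_i i j
    simpa using h1 i j
  · intro i j
    induction i using Fin.cases <;> induction j using Fin.cases <;>
      simp [hA.self_eq_zero, hbW, hbW']
    rename_i i j
    simpa using h2 i j
  · intro i j
    induction i using Fin.cases <;> induction j using Fin.cases <;>
      simp [hA.self_eq_zero, hbW, hbW']
    rename_i i j
    simpa using h3 i j
  · intro j v
    have hw : v - B v f • e - B e v • f ∈ W := by
      rw [hmem]; constructor <;> simp [hef, hfe, hA.self_eq_zero, ← hA.neg_eq v f]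
    have := h4 j ⟨_, hw⟩
    simpa [hbW'] using this

end CfsgLib.Geometry
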