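import Cfsg.Agent.Lib.Geometry.Basic

/-! Alternating forms: transvections, Witt extension, symplectic bases. -/

set_option autoImplicit false

namespace CfsgLib.Geometry

variable {F V : Type*} [Field F] [AddCommGroup V] [Module F V]

/-- The transvection `v ↦ v + a B(v,d) d`. -/
def altTransvMap (B : LinearMap.BilinForm F V) (a : F) (d : V) : V →ₗ[F] V :=
  LinearMap.id + a • (B.flip d).smulRight d

theorem altTransvMap_apply (B : LinearMap.BilinForm F V) (a : F) (d v : V) :
    altTransvMap B a d v = v + (a * B v d) • d := by simp [altTransvMap, smul_smul]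

theorem altTransvMap_preserves {B : LinearMap.BilinForm F V} (hA : B.IsAlt) (a : F) (d u v : V) :
    B (altTransvMap B a d u) (altTransvMap B a d v) = B u v := by
  simp only [altTransvMap_apply, map_add, map_smul, LinearMap.add_apply, LinearMap.smul_apply,
    smul_eq_mul, hA.self_eq_zero]
  rw [← hA.neg_eq v d]; ring

/-- The group generated by the transvections of an alternating form. -/
def altTransvGroup (B : LinearMap.BilinForm F V) : Subgroup (V ≃ₗ[F] V) :=
  Subgroup.closure {g | ∃ (a : F) (d : V), ∀ v, g v = v + (a * B v d) • d}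

theorem altTransvGroup_preserves {B : LinearMap.BilinForm F V} (hA : B.IsAlt) {g : V ≃ₗ[F] V}
    (hg : g ∈ altTransvGroup B) : ∀ u v, B (g u) (g v) = B u v := by
  induction hg using Subgroup.closure_induction with
  | mem g hg =>
    obtain ⟨a, d, h⟩ := hg
    intro u v
    rw [h u, h v, ← altTransvMap_apply, ← altTransvMap_apply, altTransvMap_preserves hA]
  | one => simp
  | mul f g _ _ hf hg => intro u v; simp [hf, hg]
  | inv g _ hg =>
    intro u v
    conv_rhs => rw [← g.apply_symm_apply u, ← g.apply_symm_apply v, hg]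
    rfl

theorem exists_altTransv [FiniteDimensional F V] {B : LinearMap.BilinForm F V}
    (hB : B.Nondegenerate) (hA : B.IsAlt) (a : F) (d : V) :
    ∃ g ∈ altTransvGroup B, ∀ v, g v = v + (a * B v d) • d :=
  ⟨isoOfPreserves B hB.1 (altTransvMap B a d) (altTransvMap_preserves hA a d),
    Subgroup.subset_closure ⟨a, d, fun v => by simp [altTransvMap_apply]⟩,
    fun v => by simp [altTransvMap_apply]⟩

/-- One transvection moves `x` to `y` fixing everything orthogonal to `y - x`. -/
theorem alt_move [FiniteDimensional F V] {B : LinearMap.BilinForm F V} (hB : B.Nondegenerate)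
    (hA : B.IsAlt) {x y : V} (h : B x y ≠ 0) :
    ∃ g ∈ altTransvGroup B, g x = y ∧ ∀ v, B v (y - x) = 0 → g v = v := by
  obtain ⟨g, hg, hgv⟩ := exists_altTransv hB hA (B x y)⁻¹ (y - x)
  refine ⟨g, hg, ?_, fun v hv => by simp [hgv, hv]⟩
  rw [hgv, map_sub, hA.self_eq_zero, sub_zero, inv_mul_cancel₀ h, one_smul, add_sub_cancel]

/-- Witt extension for alternating forms, inside the transvection group. -/
theorem alt_extend [FiniteDimensional F V] {B : LinearMap.BilinForm F V}
    (hB : B.Nondegenerate) (hA : B.IsAlt) {k : ℕ} (v w : Fin k → V)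
    (hv : LinearIndependent F v) (hw : LinearIndependent F w)
    (h : ∀ i j, B (v i) (v j) = B (w i) (w j)) :
    ∃ g ∈ altTransvGroup B, ∀ i, g (v i) = w i := by
  refine extend_induction (altTransvGroup B)
    (fun {k} v w => ∀ i j, B (v i) (v j) = B (w i) (w j))
    (fun g hg {k} v w hvw i j => by rw [hvw, altTransvGroup_preserves hA hg])
    (fun v w hvw i j => hvw _ _) ?_ v w hv hw h
  intro k v x y _ hx hy hvw
  let H := Submodule.span F (Set.range v)
  have hd : ∀ i, B (v i) (y - x) = 0 := fun i => by
    have := hvw i.succ 0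
    simp only [Fin.cons_succ, Fin.cons_zero] at this
    rw [map_sub, ← this, sub_self]
  by_cases hxy : B x y ≠ 0
  · obtain ⟨g, hg, h1, h2⟩ := alt_move hB hA hxy
    exact ⟨g, hg, h1, fun i => h2 _ (hd i)⟩
  push Not at hxy
  obtain ⟨e, heH, hex, hey⟩ := exists_perp₂ (σ := RingHom.id F) Function.surjective_id B hB.1 H hx hy
  have hev : ∀ i, B (v i) e = 0 := fun i =>
    hA.isRefl _ _ (heH _ (Submodule.subset_span (Set.mem_range_self i)))
  have h1 : B x (x + e) ≠ 0 := by
    rw [map_add, hA.self_eq_zero, zero_add, ← hA.neg_eq]; exact neg_ne_zero.2 hex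
  have h2 : B (x + e) y ≠ 0 := by simpa [hxy] using hey
  obtain ⟨g, hg, g1, g2⟩ := alt_move hB hA h1
  obtain ⟨g', hg', g1', g2'⟩ := alt_move hB hA h2
  refine ⟨g' * g, Subgroup.mul_mem _ hg' hg, ?_, fun i => ?_⟩
  · show g' (g x) = y
    rw [g1, g1']
  · show g' (g (v i)) = v i
    rw [g2 _ (by simpa using hev i), g2']
    rw [map_sub, map_add, hev, add_zero, ← map_sub, hd]

/-- Every isometry of a non-degenerate alternating form is a product of transvections. -/
theorem alt_mem_transvGroup [FiniteDimensional F V] {B : LinearMap.BilinForm F V}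
    (hB : B.Nondegenerate) (hA : B.IsAlt) (g : V ≃ₗ[F] V) (hg : ∀ u v, B (g u) (g v) = B u v) :
    g ∈ altTransvGroup B := by
  let b := Module.finBasis F V
  obtain ⟨g', hg', h⟩ := alt_extend hB hA b (fun i => g (b i)) b.linearIndependent
    (b.linearIndependent.map' g.toLinearMap (LinearEquiv.ker g)) (fun i j => (hg _ _).symm)
  convert hg'
  exact b.ext' (fun i => (h i).symm)

/-- Witt's lemma for alternating forms. -/
theorem alt_witt [FiniteDimensional F V] {B : LinearMap.BilinForm F V}
    (hB : B.Nondegenerate) (hA : B.IsAlt) (X : Submodule F V) (φ : X →ₗ[F] V)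
    (hφ : Function.Injective φ) (h : ∀ x x' : X, B (φ x) (φ x') = B (x : V) x') :
    ∃ g ∈ altTransvGroup B, ∀ x : X, g (x : V) = φ x :=
  extend_subspace _ X φ hφ fun v h1 h2 => alt_extend hB hA _ _ h1 h2 fun i j => (h _ _).symm

end CfsgLib.Geometry
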