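import Cfsg.Prelude.Def_ClassicalGeometry
import Cfsg.Agent.Lib.Geometry.Alternating
import Cfsg.Agent.Lib.Geometry.MatrixEquiv

/-! `sympForm` as a bilinear form, and the matrix symplectic group. -/

set_option autoImplicit false

namespace CfsgLib.Geometry

open Matrix

variable (m : ℕ) (F : Type*) [Field F]

/-- `Cfsg.sympForm` as a bilinear form. -/
def sympBilin : LinearMap.BilinForm F (Fin m ⊕ Fin m → F) :=
  LinearMap.mk₂ F (Cfsg.sympForm m F)
    (fun a b v => by simp [Cfsg.sympForm, add_dotProduct])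
    (fun c a v => by simp [Cfsg.sympForm, smul_dotProduct])
    (fun u a b => by simp [Cfsg.sympForm, Matrix.mulVec_add, dotProduct_add])
    (fun c u a => by simp [Cfsg.sympForm, Matrix.mulVec_smul, dotProduct_smul])

@[simp]
theorem sympBilin_apply (u v : Fin m ⊕ Fin m → F) : sympBilin m F u v = Cfsg.sympForm m F u v :=
  rfl

theorem sympForm_eq (u v : Fin m ⊕ Fin m → F) :
    Cfsg.sympForm m F u v =
      ∑ i, (u (Sum.inr i) * v (Sum.inl i) - u (Sum.inl i) * v (Sum.inr i)) := by
  simp only [Cfsg.sympForm, Matrix.J, dotProduct, Fintype.sum_sum_type, fromBlocks_mulVec,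
    Sum.elim_inl, Sum.elim_inr, zero_mulVec, one_mulVec, neg_mulVec, zero_add, add_zero,
    Pi.neg_apply, Function.comp_apply, mul_neg, Finset.sum_neg_distrib, Finset.sum_sub_distrib]
  ring

theorem sympBilin_isAlt : (sympBilin m F).IsAlt := fun v => by
  simp [sympForm_eq, mul_comm]

theorem sympBilin_nondegenerate : (sympBilin m F).Nondegenerate := by
  refine ((sympBilin_isAlt m F).isRefl).nondegenerate_iff_separatingLeft.2 fun u hu => ?_
  funext i
  rcases i with i | i
  · simpa [sympForm_eq, Pi.single_apply] using hu (Pi.single (Sum.inr i) 1)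
  · simpa [sympForm_eq, Pi.single_apply] using hu (Pi.single (Sum.inl i) 1)

theorem mem_sp_iff (A : Matrix (Fin m ⊕ Fin m) (Fin m ⊕ Fin m) F) :
    A ∈ Matrix.symplecticGroup (Fin m) F ↔
      ∀ u v, Cfsg.sympForm m F (A.mulVec u) (A.mulVec v) = Cfsg.sympForm m F u v := by
  have key : ∀ u v, Cfsg.sympForm m F (A.mulVec u) (A.mulVec v) =
      u ⬝ᵥ (Aᵀ * Matrix.J (Fin m) F * A).mulVec v := fun u v => by
    rw [Cfsg.sympForm, ← mulVec_mulVec, ← mulVec_mulVec, dotProduct_mulVec u Aᵀ, vecMul_transpose]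
  rw [SymplecticGroup.mem_iff']
  constructor
  · intro h u v
    rw [key, h, Cfsg.sympForm]
  · intro h
    ext i j
    have := h (Pi.single i 1) (Pi.single j 1)
    rw [key, Cfsg.sympForm] at this
    simpa [mulVec_single_one, single_dotProduct] using this

/-- `Matrix.symplecticGroup` as linear equivalences of the column space. -/
noncomputable def spEquiv :
    Matrix.symplecticGroup (Fin m) F →* ((Fin m ⊕ Fin m → F) ≃ₗ[F] (Fin m ⊕ Fin m → F)) where
  toFun A := glEquiv ⟨(A : Matrix _ _ F), ((A⁻¹ : Matrix.symplecticGroup (Fin m) F) : Matrix _ _ F),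
    congrArg Subtype.val (mul_inv_cancel A), congrArg Subtype.val (inv_mul_cancel A)⟩
  map_one' := LinearEquiv.ext fun v => by simp
  map_mul' A B := LinearEquiv.ext fun v => by simp [Matrix.mulVec_mulVec]

@[simp]
theorem spEquiv_apply (A : Matrix.symplecticGroup (Fin m) F) (v : Fin m ⊕ Fin m → F) :
    spEquiv m F A v = (A : Matrix _ _ F).mulVec v := rfl

theorem spEquiv_injective : Function.Injective (spEquiv m F) := fun A B h =>
  Subtype.ext (matrix_eq_of_mulVec fun v => by simpa using LinearEquiv.congr_fun h v)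

theorem sympTransvection_mulVec (w : Fin m ⊕ Fin m → F) (c : F) (v : Fin m ⊕ Fin m → F) :
    (Cfsg.sympTransvection m w c).mulVec v = v + (c * Cfsg.sympForm m F v w) • w := by
  rw [Cfsg.sympTransvection, add_mulVec, one_mulVec, smul_mulVec, vecMulVec_mulVec,
    Cfsg.sympForm, dotProduct_comm v, op_smul_eq_smul, smul_smul]

theorem sympTransvection_mem (w : Fin m ⊕ Fin m → F) (c : F) :
    Cfsg.sympTransvection m w c ∈ Matrix.symplecticGroup (Fin m) F := by
  rw [mem_sp_iff]
  intro u v
  rw [sympTransvection_mulVec, sympTransvection_mulVec, ← sympBilin_apply, ← sympBilin_apply,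
    ← sympBilin_apply, ← sympBilin_apply]
  simpa [altTransvMap_apply] using altTransvMap_preserves (sympBilin_isAlt m F) c w u v

theorem altTransvGroup_le :
    altTransvGroup (sympBilin m F) ≤
      (Subgroup.closure {A : Matrix.symplecticGroup (Fin m) F | ∃ (w : Fin m ⊕ Fin m → F) (c : F),
        (A : Matrix (Fin m ⊕ Fin m) (Fin m ⊕ Fin m) F) = Cfsg.sympTransvection m w c}).map
        (spEquiv m F) := by
  rw [altTransvGroup, MonoidHom.map_closure]
  refine Subgroup.closure_mono ?_
  rintro g ⟨a, d, h⟩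
  refine ⟨⟨_, sympTransvection_mem m F d a⟩, ⟨d, a, rfl⟩, ?_⟩
  exact LinearEquiv.ext fun v => by simp [sympTransvection_mulVec, h]

theorem spEquiv_preserves (A : Matrix.symplecticGroup (Fin m) F) (u v : Fin m ⊕ Fin m → F) :
    sympBilin m F (spEquiv m F A u) (spEquiv m F A v) = sympBilin m F u v :=
  (mem_sp_iff m F _).1 A.2 u v

theorem exists_spEquiv_eq (g : (Fin m ⊕ Fin m → F) ≃ₗ[F] (Fin m ⊕ Fin m → F))
    (hg : ∀ u v, sympBilin m F (g u) (g v) = sympBilin m F u v) :
    ∃ A, spEquiv m F A = g :=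
  ⟨⟨_, (mem_sp_iff m F ((glEquiv.symm g : Matrix.GeneralLinearGroup _ F) : Matrix _ _ F)).2
    (fun u v => by rw [glEquiv_symm_mulVec, glEquiv_symm_mulVec]; exact hg u v)⟩,
    LinearEquiv.ext fun v => by rw [spEquiv_apply, glEquiv_symm_mulVec]⟩

/-- Witt's lemma for the matrix symplectic group, on independent families. -/
theorem sp_extend {k : ℕ} (v w : Fin k → (Fin m ⊕ Fin m → F))
    (hv : LinearIndependent F v) (hw : LinearIndependent F w)
    (h : ∀ i j, Cfsg.sympForm m F (v i) (v j) = Cfsg.sympForm m F (w i) (w j)) :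
    ∃ A : Matrix.symplecticGroup (Fin m) F, ∀ i, (A : Matrix _ _ F).mulVec (v i) = w i := by
  obtain ⟨g, hg, hgv⟩ := alt_extend (sympBilin_nondegenerate m F) (sympBilin_isAlt m F) v w hv hw h
  obtain ⟨A, rfl⟩ := exists_spEquiv_eq m F g (altTransvGroup_preserves (sympBilin_isAlt m F) hg)
  exact ⟨A, fun i => by simpa using hgv i⟩

end CfsgLib.Geometry
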