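import Cfsg.Agent.Lib.Geometry.StdForms

/-! Maximal totally singular subspaces of a hyperbolic quadratic space. -/

set_option autoImplicit false

namespace CfsgLib.Geometry

open QuadraticMap

variable {F V : Type*} [Field F] [AddCommGroup V] [Module F V] [FiniteDimensional F V]
variable (Q : QuadraticForm F V)

/-- Totally singular of dimension `m`. -/
def IsMaxSing (m : ℕ) (W : Submodule F V) : Prop :=
  Module.finrank F W = m ∧ ∀ w ∈ W, Q w = 0

/-- The orthogonal of a subspace for the polar form. -/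
noncomputable def polarPerp (W : Submodule F V) : Submodule F V :=
  LinearMap.BilinForm.orthogonal (polarBilin Q : LinearMap.BilinForm F V) W

variable {Q}

omit [FiniteDimensional F V] in
theorem mem_polarPerp {W : Submodule F V} {v : V} :
    v ∈ polarPerp Q W ↔ ∀ w ∈ W, polar Q w v = 0 := Iff.rfl

omit [FiniteDimensional F V] in
theorem polar_eq_zero_of_singular {W : Submodule F V} (h : ∀ w ∈ W, Q w = 0) {u v : V}
    (hu : u ∈ W) (hv : v ∈ W) : polar Q u v = 0 := by
  rw [polar, h _ (add_mem hu hv), h u hu, h v hv, sub_self, sub_self]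

theorem finrank_polarPerp (hQ : (polarBilin Q).Nondegenerate) (W : Submodule F V) :
    Module.finrank F (polarPerp Q W) + Module.finrank F W = Module.finrank F V := by
  have h := LinearMap.BilinForm.finrank_orthogonal hQ W
  have := Submodule.finrank_le W
  unfold polarPerp
  omega

theorem polarPerp_eq_self (hQ : (polarBilin Q).Nondegenerate) {m : ℕ}
    (hV : Module.finrank F V = 2 * m) {W : Submodule F V} (hW : IsMaxSing Q m W) :
    polarPerp Q W = W := by
  refine (Submodule.eq_of_le_of_finrank_le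
    (fun w hw => mem_polarPerp.2 fun u hu => polar_eq_zero_of_singular hW.2 hu hw) ?_).symm
  have := finrank_polarPerp hQ W
  have := hW.1
  omega

/-- Adjacent maximal singular subspaces have intersection dimensions differing by exactly one. -/
theorem adjacent_parity (hQ : (polarBilin Q).Nondegenerate) {m : ℕ}
    (hV : Module.finrank F V = 2 * m) {U U' W : Submodule F V} (hU : IsMaxSing Q m U)
    (hU' : IsMaxSing Q m U') (hW : IsMaxSing Q m W)
    (hadj : Module.finrank F ↥(U ⊓ U') + 1 = m) :
    Module.finrank F ↥(U ⊓ W) + 1 = Module.finrank F ↥(U' ⊓ W) ∨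
      Module.finrank F ↥(U' ⊓ W) + 1 = Module.finrank F ↥(U ⊓ W) := by
  classical
  set D := U ⊓ U' with hD
  have hDU : D ≤ U := inf_le_left
  have hDU' : D ≤ U' := inf_le_right
  -- representatives
  have out : ∀ {A : Submodule F V}, IsMaxSing Q m A → D ≤ A →
      ∃ e ∈ A, e ∉ D ∧ A = D ⊔ Submodule.span F {e} := by
    intro A hA hDA
    have hlt : D < A := lt_of_le_of_ne hDA fun h => by
      have := hA.1; rw [← h] at this; omega
    obtain ⟨e, heA, heD⟩ := SetLike.exists_of_lt hlt
    refine ⟨e, heA, heD, (Submodule.eq_of_le_of_finrank_le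
      (sup_le hDA ((Submodule.span_singleton_le_iff_mem e A).2 heA)) ?_).symm⟩
    have hlt' : D < D ⊔ Submodule.span F {e} := lt_of_le_of_ne le_sup_left fun h =>
      heD (h ▸ Submodule.mem_sup_right (Submodule.mem_span_singleton_self e))
    have := Submodule.finrank_lt_finrank_of_lt hlt'
    have := hA.1
    omega
  obtain ⟨e, heU, heD, hUeq⟩ := out hU hDU
  obtain ⟨f, hfU, hfD, hU'eq⟩ := out hU' hDU'
  have hef : polar Q e f ≠ 0 := fun h => by
    have hfU' : f ∈ polarPerp Q U := mem_polarPerp.2 fun u hu => by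
      rw [hUeq] at hu
      obtain ⟨d, hd, z, hz, rfl⟩ := Submodule.mem_sup.1 hu
      obtain ⟨t, rfl⟩ := Submodule.mem_span_singleton.1 hz
      rw [polar_add_left, polar_smul_left', h, polar_eq_zero_of_singular hU'.2 (hDU' hd) hfU,
        mul_zero, add_zero]
    rw [polarPerp_eq_self hQ hV hU] at hfU'
    exact hfD ⟨hfU', hfU⟩
  have le1 : ∀ {A : Submodule F V}, IsMaxSing Q m A → D ≤ A →
      Module.finrank F ↥(A ⊓ W) ≤ Module.finrank F ↥(D ⊓ W) + 1 := by
    intro A hA hDA
    have h1 := Submodule.finrank_sup_add_finrank_inf_eq (A ⊓ W) D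
    have h2 : Module.finrank F ↥(A ⊓ W ⊔ D) ≤ m :=
      hA.1 ▸ Submodule.finrank_mono (sup_le inf_le_left hDA)
    have h3 : (A ⊓ W) ⊓ D = D ⊓ W := by
      apply le_antisymm
      · exact le_inf inf_le_right (inf_le_left.trans inf_le_right)
      · exact le_inf (le_inf (inf_le_left.trans hDA) inf_le_right) inf_le_left
    rw [h3] at h1
    omega
  have monoU : Module.finrank F ↥(D ⊓ W) ≤ Module.finrank F ↥(U ⊓ W) :=
    Submodule.finrank_mono (inf_le_inf_right _ hDU)
  have monoU' : Module.finrank F ↥(D ⊓ W) ≤ Module.finrank F ↥(U' ⊓ W) :=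
    Submodule.finrank_mono (inf_le_inf_right _ hDU')
  have l1 := le1 hU hDU
  have l2 := le1 hU' hDU'
  have notboth : ¬ ((∃ w ∈ U ⊓ W, w ∉ D) ∧ ∃ w ∈ U' ⊓ W, w ∉ D) := by
    rintro ⟨⟨w, ⟨hwU, hwW⟩, hwD⟩, w', ⟨hwU', hwW'⟩, hwD'⟩
    rw [hUeq] at hwU
    rw [hU'eq] at hwU'
    obtain ⟨d, hd, z, hz, rfl⟩ := Submodule.mem_sup.1 hwU
    obtain ⟨t, rfl⟩ := Submodule.mem_span_singleton.1 hz
    obtain ⟨d', hd', z', hz', rfl⟩ := Submodule.mem_sup.1 hwU'
    obtain ⟨t', rfl⟩ := Submodule.mem_span_singleton.1 hz'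
    have ht : t ≠ 0 := fun h => hwD (by simpa [h] using hd)
    have ht' : t' ≠ 0 := fun h => hwD' (by simpa [h] using hd')
    have := polar_eq_zero_of_singular hW.2 hwW hwW'
    simp [polar_add_left, polar_add_right, polar_smul_left', polar_smul_right',
      polar_eq_zero_of_singular hU.2 (hDU hd) (hDU hd'),
      polar_eq_zero_of_singular hU'.2 (hDU' hd) hfU,
      polar_eq_zero_of_singular hU.2 heU (hDU hd'), ht, ht', hef] at this
  have some_ : (∃ w ∈ U ⊓ W, w ∉ D) ∨ ∃ w ∈ U' ⊓ W, w ∉ D := by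
    by_contra hc
    push Not at hc
    obtain ⟨hc1, hc2⟩ := hc
    -- vectors of `W` orthogonal to `D`
    have hinf : ∀ v, v ∈ polarPerp Q D ⊓ W ↔ v ∈ polarPerp Q (D ⊔ W) := fun v => by
      rw [Submodule.mem_inf, mem_polarPerp, mem_polarPerp]
      constructor
      · rintro ⟨h1, h2⟩ u hu
        obtain ⟨d, hd, z, hz, rfl⟩ := Submodule.mem_sup.1 hu
        rw [polar_add_left, h1 d hd, polar_eq_zero_of_singular hW.2 hz h2, add_zero]
      · intro h
        refine ⟨fun d hd => h d (Submodule.mem_sup_left hd), ?_⟩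
        rw [← polarPerp_eq_self hQ hV hW]
        exact mem_polarPerp.2 fun z hz => h z (Submodule.mem_sup_right hz)
    have heq : polarPerp Q D ⊓ W = polarPerp Q (D ⊔ W) := Submodule.ext hinf
    have h1 := finrank_polarPerp hQ (D ⊔ W)
    have h2 := Submodule.finrank_sup_add_finrank_inf_eq D W
    rw [← heq] at h1
    have hlt : D ⊓ W < polarPerp Q D ⊓ W := by
      refine lt_of_le_of_ne (inf_le_inf_right _ fun d hd =>
        mem_polarPerp.2 fun u hu => polar_eq_zero_of_singular hU.2 (hDU hu) (hDU hd)) fun h => ?_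
      rw [← h] at h1
      have := hW.1
      omega
    obtain ⟨w, ⟨hwp, hwW⟩, hwn⟩ := SetLike.exists_of_lt hlt
    have hwD : w ∉ D := fun h => hwn ⟨h, hwW⟩
    -- `D⊥` is spanned by `D, e, f`
    have hspan : polarPerp Q D = D ⊔ Submodule.span F {e} ⊔ Submodule.span F {f} := by
      refine (Submodule.eq_of_le_of_finrank_le ?_ ?_).symm
      · refine sup_le (sup_le ?_ ?_) ?_
        · exact fun d hd => mem_polarPerp.2 fun u hu => polar_eq_zero_of_singular hU.2 (hDU hu) (hDU hd)
        · rw [Submodule.span_singleton_le_iff_mem]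
          exact mem_polarPerp.2 fun u hu => polar_eq_zero_of_singular hU.2 (hDU hu) heU
        · rw [Submodule.span_singleton_le_iff_mem]
          exact mem_polarPerp.2 fun u hu => polar_eq_zero_of_singular hU'.2 (hDU' hu) hfU
      · have h3 := finrank_polarPerp hQ D
        rw [← hUeq]
        have hlt : U < U ⊔ Submodule.span F {f} := lt_of_le_of_ne le_sup_left fun h =>
          hfD ⟨h ▸ Submodule.mem_sup_right (Submodule.mem_span_singleton_self f), hfU⟩
        have := Submodule.finrank_lt_finrank_of_lt hlt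
        have := hU.1
        omega
    rw [hspan] at hwp
    obtain ⟨x, hx, y, hy, hxy⟩ := Submodule.mem_sup.1 hwp
    obtain ⟨d, hd, z, hz, hdz⟩ := Submodule.mem_sup.1 hx
    obtain ⟨s, rfl⟩ := Submodule.mem_span_singleton.1 hz
    obtain ⟨t, rfl⟩ := Submodule.mem_span_singleton.1 hy
    subst hdz
    have hw0 : Q w = 0 := hW.2 w hwW
    rw [← hxy, polar_add_smul_add_smul, hU.2 d (hDU hd), hU.2 e heU, hU'.2 f hfU,
      polar_eq_zero_of_singular hU.2 (hDU hd) heU, polar_eq_zero_of_singular hU'.2 (hDU' hd) hfU] at hw0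
    simp [hef] at hw0
    rcases hw0 with rfl | rfl
    · exact hwD (hc2 w ⟨by rw [← hxy, hU'eq, zero_smul, add_zero]; exact add_mem (Submodule.mem_sup_left hd) (Submodule.mem_sup_right (Submodule.smul_mem _ _ (Submodule.mem_span_singleton_self f))), hwW⟩)
    · exact hwD (hc1 w ⟨by rw [← hxy, hUeq, zero_smul, add_zero]; exact add_mem (Submodule.mem_sup_left hd) (Submodule.mem_sup_right (Submodule.smul_mem _ _ (Submodule.mem_span_singleton_self e))), hwW⟩)
  have big : ∀ {A : Submodule F V}, D ≤ A → (∃ w ∈ A ⊓ W, w ∉ D) →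
      Module.finrank F ↥(D ⊓ W) < Module.finrank F ↥(A ⊓ W) := fun {A} hDA ⟨w, hw, hwD⟩ =>
    Submodule.finrank_lt_finrank_of_lt (lt_of_le_of_ne (inf_le_inf_right _ hDA) fun h =>
      hwD (by rw [← h] at hw; exact hw.1))
  have small : ∀ {A : Submodule F V}, D ≤ A → (¬ ∃ w ∈ A ⊓ W, w ∉ D) →
      Module.finrank F ↥(A ⊓ W) = Module.finrank F ↥(D ⊓ W) := fun {A} hDA h => by
    push Not at h
    rw [show A ⊓ W = D ⊓ W from le_antisymm (fun w hw => ⟨h w hw, hw.2⟩) (inf_le_inf_right _ hDA)]
  rcases some_ with h | h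
  · have := big hDU h
    have := small hDU' fun h' => notboth ⟨h, h'⟩
    omega
  · have := big hDU' h
    have := small hDU fun h' => notboth ⟨h', h⟩
    omega

/-- Parity of the codimensions of intersections. -/
theorem maxSing_parity (hQ : (polarBilin Q).Nondegenerate) {m : ℕ}
    (hV : Module.finrank F V = 2 * m) {X : Submodule F V} (hX : IsMaxSing Q m X) (n : ℕ) :
    ∀ U W : Submodule F V, IsMaxSing Q m U → IsMaxSing Q m W →
    m - Module.finrank F ↥(U ⊓ W) = n →
    Even ((m - Module.finrank F ↥(U ⊓ W)) + (m - Module.finrank F ↥(W ⊓ X))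
      + (m - Module.finrank F ↥(U ⊓ X))) := by
  induction n using Nat.strong_induction_on with
  | _ n ih =>
  intro U W hU hW hn
  have hle : ∀ {A B : Submodule F V}, IsMaxSing Q m A → Module.finrank F ↥(A ⊓ B) ≤ m :=
    fun hA => hA.1 ▸ Submodule.finrank_mono inf_le_left
  by_cases hUW : W ≤ U
  · have : W = U := Submodule.eq_of_le_of_finrank_le hUW (le_of_eq (hU.1.trans hW.1.symm))
    subst this
    rw [inf_idem, hW.1, Nat.sub_self, zero_add]
    exact Even.add_self _
  obtain ⟨w, hwW, hwU⟩ := SetLike.not_le_iff_exists.1 hUW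
  let D := U ⊓ LinearMap.ker (polarBilin Q w)
  have hDdim : Module.finrank F D + 1 = m := by
    have hne : ¬ U ≤ LinearMap.ker (polarBilin Q w) := fun h => hwU (by
      rw [← polarPerp_eq_self hQ hV hU]
      exact mem_polarPerp.2 fun u hu => by rw [polar_comm]; exact h hu)
    have h1 := Submodule.finrank_sup_add_finrank_inf_eq U (LinearMap.ker (polarBilin Q w))
    have h2 := LinearMap.finrank_range_add_finrank_ker (polarBilin Q w)
    have h3 : Module.finrank F (LinearMap.range (polarBilin Q w)) ≤ 1 :=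
      le_trans (Submodule.finrank_le _) (by simp)
    have h4 : Module.finrank F D < Module.finrank F U :=
      Submodule.finrank_lt_finrank_of_lt (lt_of_le_of_ne inf_le_left fun h => hne (h ▸ inf_le_right))
    have h5 := Submodule.finrank_le (U ⊔ LinearMap.ker (polarBilin Q w))
    have := hU.1
    change _ = _ + Module.finrank F (LinearMap.ker (polarBilin Q w)) at h1
    change _ + Module.finrank F D = _ at h1
    omega
  let U' := D ⊔ Submodule.span F {w}
  have hU' : IsMaxSing Q m U' := by
    refine ⟨?_, fun z hz => ?_⟩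
    · have h1 := Submodule.finrank_sup_add_finrank_inf_eq D (Submodule.span F {w})
      have h2 : D ⊓ Submodule.span F {w} = ⊥ := by
        rw [eq_bot_iff]
        rintro z ⟨hz1, hz2⟩
        obtain ⟨t, rfl⟩ := Submodule.mem_span_singleton.1 hz2
        by_contra ht
        exact hwU (by simpa [show t ≠ 0 from fun h => ht (by simp [h])] using U.smul_mem t⁻¹ hz1.1)
      rw [h2, finrank_bot, finrank_span_singleton (fun h : w = 0 => hwU (h ▸ U.zero_mem))] at h1
      show Module.finrank F ↥(D ⊔ Submodule.span F {w}) = m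
      omega
    · obtain ⟨d, hd, y, hy, rfl⟩ := Submodule.mem_sup.1 hz
      obtain ⟨t, rfl⟩ := Submodule.mem_span_singleton.1 hy
      rw [map_add', map_smul', hU.2 d hd.1, hW.2 w hwW, polar_smul_right', polar_comm,
        show polar Q w d = 0 from hd.2]
      ring
  have hadj : Module.finrank F ↥(U ⊓ U') + 1 = m := by
    have h1 : D ≤ U ⊓ U' := le_inf inf_le_left le_sup_left
    have h2 := Submodule.finrank_mono h1
    have h3 : U ⊓ U' < U' := lt_of_le_of_ne inf_le_right fun h =>
      hwU (show w ∈ U from (h.symm ▸ Submodule.mem_sup_right (Submodule.mem_span_singleton_self w) :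
        w ∈ U ⊓ U').1)
    have h4 := Submodule.finrank_lt_finrank_of_lt h3
    have := hU'.1
    omega
  have hUWle : U ⊓ W < U' ⊓ W := by
    refine lt_of_le_of_ne (fun z hz => ⟨Submodule.mem_sup_left ⟨hz.1, ?_⟩, hz.2⟩) fun h => ?_
    · exact polar_eq_zero_of_singular hW.2 hwW hz.2
    · exact hwU (h.symm ▸ (⟨Submodule.mem_sup_right (Submodule.mem_span_singleton_self w), hwW⟩ :
        w ∈ U' ⊓ W) : w ∈ U ⊓ W).1
  have e1 := Submodule.finrank_lt_finrank_of_lt hUWle
  have e2 := adjacent_parity hQ hV hU hU' hW hadj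
  have e3 := adjacent_parity hQ hV hU hU' hX hadj
  have l1 := hle (B := W) hU'
  have l2 := hle (B := X) hU'
  have l3 := hle (B := X) hU
  have := ih _ (by omega) U' W hU' hW rfl
  rw [Nat.even_iff] at this ⊢
  omega

/-- The first `m` coordinates. -/
theorem isMaxSing_coord {F : Type*} [Field F] (m : ℕ) :
    IsMaxSing (matQuad (plusMat m F)) m
      (LinearMap.range (LinearMap.pi fun s : Fin m ⊕ Fin m =>
        Sum.elim (fun i => LinearMap.proj (R := F) (φ := fun _ : Fin m => F) i) (fun _ => 0) s)) := by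
  refine ⟨?_, ?_⟩
  · rw [LinearMap.finrank_range_of_inj (fun x y h => funext fun i => congrFun h (Sum.inl i))]
    simp
  · rintro _ ⟨x, rfl⟩
    rw [show matQuad (plusMat m F) _ = Cfsg.quadFormPlus m F _ from congrFun (coe_matQuad_plus m) _]
    simp [Cfsg.quadFormPlus]

theorem nondegenerate_plus {F : Type*} [Field F] (m : ℕ) :
    (polarBilin (matQuad (plusMat m F))).Nondegenerate :=
  nondegenerate_matQuad (by rw [det_plus_gram]; exact pow_ne_zero _ (neg_ne_zero.2 one_ne_zero))

end CfsgLib.Geometry
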