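import Cfsg.Agent.Lib.Geometry.OmegaMore

/-! The standard quadratic forms of `Def_Classical` as `QuadraticForm`s; spinor norm of `-1`. -/

set_option autoImplicit false

namespace CfsgLib.Geometry

open Matrix QuadraticMap

variable {F : Type*} [Field F]

/-- Upper triangular matrix of `quadFormPlus`. -/
def plusMat (m : ℕ) (F : Type*) [Field F] : Matrix (Fin m ⊕ Fin m) (Fin m ⊕ Fin m) F :=
  fromBlocks 0 1 0 0

/-- Upper triangular matrix of `quadFormMinus`. -/
def minusMat (m : ℕ) (F : Type*) [Field F] (a b : F) :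
    Matrix ((Fin m ⊕ Fin m) ⊕ Fin 2) ((Fin m ⊕ Fin m) ⊕ Fin 2) F :=
  fromBlocks (plusMat m F) 0 0 !![1, a; 0, b]

/-- The quadratic form of a square matrix. -/
noncomputable def matQuad {ι : Type} [Fintype ι] [DecidableEq ι] (M : Matrix ι ι F) :
    QuadraticForm F (ι → F) :=
  LinearMap.BilinMap.toQuadraticMap (Matrix.toBilin' M)

theorem matQuad_apply {ι : Type} [Fintype ι] [DecidableEq ι] (M : Matrix ι ι F) (v : ι → F) :
    matQuad M v = v ⬝ᵥ (M *ᵥ v) := by
  show (Matrix.toBilin' M) v v = _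
  rw [Matrix.toBilin'_apply']

theorem polar_matQuad {ι : Type} [Fintype ι] [DecidableEq ι] (M : Matrix ι ι F) (u v : ι → F) :
    polar (matQuad M) u v = u ⬝ᵥ ((M + Mᵀ) *ᵥ v) := by
  rw [show (⇑(matQuad M)) = ⇑(LinearMap.BilinMap.toQuadraticMap (Matrix.toBilin' M)) from rfl,
    LinearMap.BilinMap.polar_toQuadraticMap, Matrix.toBilin'_apply', Matrix.toBilin'_apply',
    add_mulVec, dotProduct_add, dotProduct_mulVec v, ← mulVec_transpose, dotProduct_comm _ u]

theorem coe_matQuad_plus (m : ℕ) : ⇑(matQuad (plusMat m F)) = Cfsg.quadFormPlus m F := by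
  funext v
  simp [matQuad_apply, plusMat, dotProduct, Cfsg.quadFormPlus, fromBlocks_mulVec]

theorem coe_matQuad_minus (m : ℕ) (a b : F) :
    ⇑(matQuad (minusMat m F a b)) = Cfsg.quadFormMinus m F a b := by
  funext v
  simp [matQuad_apply, minusMat, plusMat, dotProduct, Cfsg.quadFormMinus, fromBlocks_mulVec,
    Matrix.mulVec, Fin.sum_univ_two, Matrix.one_apply, Fintype.sum_sum_type]
  ring

theorem det_plus_gram (m : ℕ) : (plusMat m F + (plusMat m F)ᵀ).det = (-1) ^ m := by
  have e : plusMat m F + (plusMat m F)ᵀ =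
      Matrix.J (Fin m) F * fromBlocks 1 0 0 (-1) := by
    rw [plusMat, Matrix.J, fromBlocks_transpose, fromBlocks_add, fromBlocks_multiply]
    simp
  rw [e, det_mul, SymplecticGroup.det_eq_one (SymplecticGroup.J_mem _ _), one_mul,
    det_fromBlocks_zero₁₂, det_one, one_mul, det_neg, det_one, mul_one, Fintype.card_fin]

theorem det_minus_gram (m : ℕ) (a b : F) :
    (minusMat m F a b + (minusMat m F a b)ᵀ).det = (-1) ^ m * (4 * b - a * a) := by
  rw [minusMat, fromBlocks_transpose, fromBlocks_add]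
  simp only [transpose_zero, add_zero]
  rw [det_fromBlocks_zero₁₂, det_plus_gram, det_fin_two]
  simp
  ring_nf

theorem nondegenerate_matQuad {ι : Type} [Fintype ι] [DecidableEq ι] {M : Matrix ι ι F}
    (h : (M + Mᵀ).det ≠ 0) : (polarBilin (matQuad M)).Nondegenerate := by
  have e : (polarBilin (matQuad M) : LinearMap.BilinForm F (ι → F)) = Matrix.toBilin' (M + Mᵀ) :=
    LinearMap.ext₂ fun u v => by
      rw [Matrix.toBilin'_apply']; exact polar_matQuad M u v
  rw [e]
  exact LinearMap.BilinForm.nondegenerate_toBilin'_of_det_ne_zero' _ h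

/-- Spinor norm and Dickson invariant of `-1` in odd characteristic. -/
theorem neg_one_invariants {ι : Type} [Fintype ι] [DecidableEq ι] {M : Matrix ι ι F}
    (h2 : (2 : F) ≠ 0) (hn : Even (Fintype.card ι)) (h : (M + Mᵀ).det ≠ 0)
    (g : (ι → F) ≃ₗ[F] (ι → F)) (hg : ∀ v, g v = -v) :
    g ∈ orth (matQuad M) ∧ dickson g = 0 ∧ spinor (matQuad M) g = sqMk h := by
  have hQ := nondegenerate_matQuad h
  have hgo : g ∈ orth (matQuad M) := fun v => by rw [hg, QuadraticMap.map_neg]
  have hmov : movSpace g = ⊤ := by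
    rw [eq_top_iff]
    intro v _
    refine ⟨(2 : F)⁻¹ • v, ?_⟩
    rw [movMap_apply, hg, sub_neg_eq_add, ← two_smul F ((2 : F)⁻¹ • v), smul_smul,
      mul_inv_cancel₀ h2, one_smul]
  have hfr : Module.finrank F (movSpace g) = Fintype.card ι := by
    rw [hmov, finrank_top, Module.finrank_fintype_fun_eq_card]
  refine ⟨hgo, ?_, ?_⟩
  · rw [dickson, hfr]
    obtain ⟨k, hk⟩ := hn
    rw [hk, Nat.cast_add, CharTwo.add_self_eq_zero]
  · let e := (Fintype.equivFin ι).symm
    have hb : ∀ i, (Pi.single (e i) 1 : ι → F) - g (Pi.single (e i) 1) =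
        (2 : F) • Pi.single (e i) 1 := fun i => by
      rw [hg, sub_neg_eq_add, two_smul]
    have hc : IsSpinorRep (matQuad M) g
        (Matrix.of fun i j => (2 : F) * (M + Mᵀ).submatrix e e i j).det := by
      refine ⟨_, fun i => Pi.single (e i) 1, ?_, hfr, ?_⟩
      · simp only [hb]
        rw [Fintype.linearIndependent_iff]
        intro c hc i
        have := congrFun hc (e i)
        simpa [Pi.single_apply, h2] using this
      · congr 1
        ext i j
        rw [Matrix.of_apply, Matrix.of_apply, hb, polar_smul_right', polar_matQuad]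
        simp
    rw [spinor_eq hQ hgo hc]
    obtain ⟨k, hk⟩ := hn
    have hd : (Matrix.of fun i j => (2 : F) * (M + Mᵀ).submatrix e e i j).det =
        (M + Mᵀ).det * (2 ^ k) * (2 ^ k) := by
      rw [show (Matrix.of fun i j => (2 : F) * (M + Mᵀ).submatrix e e i j) =
        (2 : F) • (M + Mᵀ).submatrix e e from rfl, det_smul, det_submatrix_equiv_self,
        Fintype.card_fin, hk, pow_add]
      ring
    have h3 : (M + Mᵀ).det * (2 ^ k) * (2 ^ k) ≠ 0 := by simp [h, h2]
    calc sqMk (spinorRep_ne_zero hQ hgo hc) = sqMk h3 := by simp only [hd]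
      _ = sqMk h := sqMk_mul_sq h h3

theorem neg_one_mem_Omega_iff {ι : Type} [Fintype ι] [DecidableEq ι] [Finite F] {M : Matrix ι ι F}
    (h2 : (2 : F) ≠ 0) (hn : Even (Fintype.card ι)) (hn2 : 2 ≤ Fintype.card ι)
    (h : (M + Mᵀ).det ≠ 0) :
    (∃ g : Cfsg.isometryGroup F ⇑(matQuad M), g ∈ Cfsg.Omega F ⇑(matQuad M) ∧
      ((g : Matrix.GeneralLinearGroup ι F) : Matrix ι ι F) = -1) ↔ IsSquare (M + Mᵀ).det := by
  set Q := matQuad M
  have hQ := nondegenerate_matQuad h
  have hR := reflGroup_eq_orth hQ (Or.inr ⟨-1, neg_ne_zero.2 one_ne_zero,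
    fun h => h2 (by linear_combination (-1 : F) * h)⟩)
  have hn' : 2 ≤ Module.finrank F (ι → F) := by simpa using hn2
  have hker : ∀ g, g ∈ Cfsg.Omega F ⇑Q ↔ orthInvariant hQ hR (isomEquiv Q g) = 1 := fun g => by
    rw [← MonoidHom.mem_ker, ker_orthInvariant hQ hn' h2 hR, Cfsg.Omega, commutator_def,
      commutator_def, ← Subgroup.map_top_of_surjective (isomEquiv Q).toMonoidHom
        (isomEquiv Q).surjective, ← Subgroup.map_commutator]
    exact (Subgroup.mem_map_equiv (f := isomEquiv Q) (x := isomEquiv Q g)).trans (by simp) |>.symm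
  constructor
  · rintro ⟨g, hg, hg1⟩
    obtain ⟨-, -, hs⟩ := neg_one_invariants h2 hn h (isomEquiv Q g : (ι → F) ≃ₗ[F] (ι → F))
      (fun v => by rw [isomEquiv_apply, hg1, neg_mulVec, one_mulVec])
    have := congrArg Prod.fst ((hker g).1 hg)
    exact (sqMk_eq_one_iff h).1 (hs.symm.trans this)
  · intro hsq
    let e : (ι → F) ≃ₗ[F] (ι → F) := LinearEquiv.neg F
    obtain ⟨ho, hd, hs⟩ := neg_one_invariants h2 hn h e (fun v => rfl)
    refine ⟨(isomEquiv Q).symm ⟨e, ho⟩, (hker _).2 ?_,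
      matrix_eq_of_mulVec fun v => by rw [isomEquiv_symm_mulVec, neg_mulVec, one_mulVec]; rfl⟩
    rw [MulEquiv.apply_symm_apply]
    refine Prod.ext (hs.trans ((sqMk_eq_one_iff h).2 hsq)) ?_
    show dicksonMul e = 1
    rw [dicksonMul, hd, ofAdd_zero]

theorem isSquare_neg_one_pow_iff [Fintype F] {q : ℕ} (hF : Fintype.card F = q) (hodd : Odd q)
    (m : ℕ) : IsSquare ((-1 : F) ^ m) ↔ q ^ m % 4 = 1 := by
  obtain ⟨k, hk⟩ := hodd
  rcases Nat.even_or_odd m with he | ho
  · rw [he.neg_one_pow]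
    obtain ⟨j, rfl⟩ := he
    refine iff_of_true IsSquare.one ?_
    rw [← two_mul, pow_mul, Nat.pow_mod, show q ^ 2 % 4 = 1 by
      rw [hk, show (2 * k + 1) ^ 2 = 4 * (k * k + k) + 1 by ring]; omega]
    simp
  · rw [ho.neg_one_pow, FiniteField.isSquare_neg_one_iff, hF]
    obtain ⟨j, rfl⟩ := ho
    rw [pow_succ, pow_mul, Nat.mul_mod, Nat.pow_mod, show q ^ 2 % 4 = 1 by
      rw [hk, show (2 * k + 1) ^ 2 = 4 * (k * k + k) + 1 by ring]; omega]
    simp
    omega

theorem two_ne_zero_of_odd_card [Fintype F] {q : ℕ} (hF : Fintype.card F = q) (hodd : Odd q) :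
    (2 : F) ≠ 0 := fun h => by
  haveI := CharTwo.of_one_ne_zero_of_two_eq_zero (one_ne_zero (α := F)) h
  have := FiniteField.even_card_of_char_two (F := F) (ringChar.eq F 2)
  rw [hF] at this
  obtain ⟨k, rfl⟩ := hodd
  omega

end CfsgLib.Geometry
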