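import Cfsg.Agent.Lib.Geometry.FormClass
import Cfsg.Agent.Lib.Geometry.StdForms
import Cfsg.Agent.Lib.Geometry.MaxSingular
import Cfsg.Agent.Lib.Geometry.SymplecticBasis
import Mathlib.LinearAlgebra.BilinearForm.TensorProduct
import Mathlib.LinearAlgebra.TensorProduct.Matrix

/-! The discriminant criterion for plus type, and forms on tensor products. -/

set_option autoImplicit false

namespace CfsgLib.Geometry.TensorForm

open Matrix QuadraticMap TensorProduct CfsgLib.Geometry

variable {F : Type*} [Field F]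

theorem isSquare_det_change {V : Type*} [AddCommGroup V] [Module F V] (B : LinearMap.BilinForm F V)
    {ι κ : Type*} [Fintype ι] [DecidableEq ι] [Fintype κ] [DecidableEq κ]
    (b : Module.Basis ι F V) (c : Module.Basis κ F V) (a : F) :
    IsSquare (a * (LinearMap.BilinForm.toMatrix c B).det) ↔
      IsSquare (a * (LinearMap.BilinForm.toMatrix b B).det) := by
  let e : κ ≃ ι := c.indexEquiv b
  let c' := c.reindex e
  have hc : LinearMap.BilinForm.toMatrix c B = (LinearMap.BilinForm.toMatrix c' B).submatrix e e := by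
    ext i j; simp [c', LinearMap.BilinForm.toMatrix_apply]
  have ht : (b.toMatrix c').det ≠ 0 := by
    intro h
    have := congrArg Matrix.det (b.toMatrix_mul_toMatrix_flip c')
    rw [Matrix.det_mul, h, zero_mul, Matrix.det_one] at this
    exact zero_ne_one this
  rw [hc, Matrix.det_submatrix_equiv_self,
    ← LinearMap.BilinForm.toMatrix_mul_basis_toMatrix (b := b) c' B, Matrix.det_mul, Matrix.det_mul,
    Matrix.det_transpose,
    show ∀ t d : F, a * (t * d * t) = t * t * (a * d) from fun t d => by ring, isSquare_mul_sq_iff ht]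

/-- A symmetric form in dimension `2n` has a totally isotropic `n`-subspace iff `(-1)ⁿ det` is a square. -/
theorem exists_ti_half_iff [Finite F] (h2 : (2 : F) ≠ 0) {V : Type*} [AddCommGroup V] [Module F V]
    [FiniteDimensional F V] (B : LinearMap.BilinForm F V) (hB : B.Nondegenerate) (hS : B.IsSymm)
    {ι : Type*} [Fintype ι] [DecidableEq ι] (b : Module.Basis ι F V) {n : ℕ} (hn : Fintype.card ι = 2 * n) :
    (∃ X : Submodule F V, Module.finrank F X = n ∧ ∀ x ∈ X, ∀ y ∈ X, B x y = 0) ↔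
      IsSquare ((-1) ^ n * (LinearMap.BilinForm.toMatrix b B).det) := by
  constructor
  · rintro ⟨X, hX, hXB⟩
    obtain ⟨Y, hY⟩ := X.exists_isCompl
    have hYn : Module.finrank F Y = n := by
      have := Submodule.finrank_add_eq_of_isCompl hY
      rw [hX, Module.finrank_eq_card_basis b, hn] at this
      omega
    let c : Module.Basis (Fin n ⊕ Fin n) F V :=
      ((Module.finBasisOfFinrankEq F X hX).prod (Module.finBasisOfFinrankEq F Y hYn)).map
        (Submodule.prodEquivOfIsCompl X Y hY)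
    rw [← isSquare_det_change B b c]
    set G := LinearMap.BilinForm.toMatrix c B
    have h11 : G.toBlocks₁₁ = 0 := Matrix.ext fun i j => by
      simpa [G, toBlocks₁₁, LinearMap.BilinForm.toMatrix_apply, c] using
        hXB _ (Module.finBasisOfFinrankEq F X hX i).2 _ (Module.finBasisOfFinrankEq F X hX j).2
    have hGs : Gᵀ = G := Matrix.ext fun i j => by
      simp [G, LinearMap.BilinForm.toMatrix_apply, hS.eq]
    have h21 : G.toBlocks₂₁ = G.toBlocks₁₂ᵀ := Matrix.ext fun i j => (congrFun (congrFun hGs (Sum.inr i)) (Sum.inl j)).symm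
    have e : fromBlocks 1 0 (-1) 1 * (fromBlocks 1 1 0 1 * G) =
        fromBlocks G.toBlocks₁₂ᵀ (G.toBlocks₁₂ + G.toBlocks₂₂) 0 (-G.toBlocks₁₂) := by
      conv_lhs => rw [← fromBlocks_toBlocks G, h11, h21, fromBlocks_multiply, fromBlocks_multiply]
      simp [add_comm]
    have e' := congrArg Matrix.det e
    rw [det_mul, det_mul, det_fromBlocks_zero₁₂, det_fromBlocks_zero₂₁, det_fromBlocks_zero₂₁, det_one,
      det_transpose, det_neg, Fintype.card_fin, one_mul, one_mul, one_mul] at e'
    rw [e', show ∀ a d : F, a * (d * (a * d)) = (a * d) * (a * d) from fun a d => by ring]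
    exact ⟨_, rfl⟩
  · intro hsq
    let ε : ι ≃ Fin n ⊕ Fin n := Fintype.equivOfCardEq (by simp [hn, two_mul])
    let c := b.reindex ε
    rw [← isSquare_det_change B b c] at hsq
    set G := LinearMap.BilinForm.toMatrix c B
    have hGs : Gᵀ = G := Matrix.ext fun i j => by
      simp [G, LinearMap.BilinForm.toMatrix_apply, hS.eq]
    have hG0 : G.det ≠ 0 := (LinearMap.BilinForm.nondegenerate_iff_det_ne_zero c).1 hB
    have hdet : (G + Gᵀ).det = 2 ^ n * 2 ^ n * G.det := by
      rw [hGs, ← two_smul F G, Matrix.det_smul, Fintype.card_sum, Fintype.card_fin, pow_add]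
    have hQ : (polarBilin (matQuad G)).Nondegenerate := nondegenerate_matQuad (by
      rw [hdet]; exact mul_ne_zero (mul_ne_zero (pow_ne_zero _ h2) (pow_ne_zero _ h2)) hG0)
    have hgram : ∀ M : Matrix (Fin n ⊕ Fin n) (Fin n ⊕ Fin n) F,
        (Matrix.of fun i j => polar (matQuad M) (Pi.basisFun F _ i) (Pi.basisFun F _ j)) = M + Mᵀ := fun M => by
      ext i j; simp [polar_matQuad, Pi.basisFun_apply, mulVec_single]
    obtain ⟨g, hg⟩ := exists_isometry_of_disc (Q := matQuad G) h2 (matQuad (plusMat n F)) hQ (nondegenerate_plus n)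
      rfl (Pi.basisFun F (Fin n ⊕ Fin n)) (Pi.basisFun F (Fin n ⊕ Fin n)) (by
        rw [hgram, hgram, det_plus_gram, hdet,
          show ∀ t d a : F, t * t * d * a = t * t * (a * d) from fun t d a => by ring,
          isSquare_mul_sq_iff (pow_ne_zero _ h2)]
        exact hsq)
    obtain ⟨hW1, hW2⟩ := isMaxSing_coord (F := F) n
    refine ⟨Submodule.map (g.symm.trans c.equivFun.symm).toLinearMap _,
      (LinearEquiv.finrank_map_eq _ _).trans hW1, ?_⟩
    have hsing : ∀ x ∈ Submodule.map (g.symm.trans c.equivFun.symm).toLinearMap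
        (LinearMap.range (LinearMap.pi fun s : Fin n ⊕ Fin n =>
          Sum.elim (fun i => LinearMap.proj (R := F) (φ := fun _ : Fin n => F) i) (fun _ => 0) s)), B x x = 0 := by
      rintro _ ⟨w, hw, rfl⟩
      have h1 := (hg (g.symm w)).symm
      rw [LinearEquiv.apply_symm_apply, hW2 w hw, matQuad_apply] at h1
      have h3 := LinearMap.BilinForm.apply_eq_dotProduct_toMatrix_mulVec c B
        (c.equivFun.symm (g.symm w)) (c.equivFun.symm (g.symm w))
      simp only [Module.Basis.equivFun_symm_apply, Module.Basis.repr_sum_self] at h3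
      show B (c.equivFun.symm (g.symm w)) (c.equivFun.symm (g.symm w)) = 0
      rw [Module.Basis.equivFun_symm_apply, h3]
      exact h1
    intro x hx y hy
    have h := hsing _ (add_mem hx hy)
    simp only [map_add, LinearMap.add_apply, hsing x hx, hsing y hy, zero_add, add_zero, hS.eq y x] at h
    exact mul_left_cancel₀ h2 (by rw [mul_zero, two_mul]; exact h)

variable {U W : Type*} [AddCommGroup U] [Module F U] [AddCommGroup W] [Module F W]
  {ι κ : Type*} [Fintype ι] [DecidableEq ι] [Fintype κ] [DecidableEq κ]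

theorem toMatrix_tmul (B₁ : LinearMap.BilinForm F U) (B₂ : LinearMap.BilinForm F W)
    (b : Module.Basis ι F U) (c : Module.Basis κ F W) :
    LinearMap.BilinForm.toMatrix (b.tensorProduct c) (B₁.tmul B₂) =
      Matrix.kroneckerMap (· * ·) (LinearMap.BilinForm.toMatrix b B₁) (LinearMap.BilinForm.toMatrix c B₂) := by
  ext ⟨i, j⟩ ⟨i', j'⟩
  simp [LinearMap.BilinForm.toMatrix_apply, mul_comm]

theorem det_tmul (B₁ : LinearMap.BilinForm F U) (B₂ : LinearMap.BilinForm F W)
    (b : Module.Basis ι F U) (c : Module.Basis κ F W) :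
    (LinearMap.BilinForm.toMatrix (b.tensorProduct c) (B₁.tmul B₂)).det =
      (LinearMap.BilinForm.toMatrix b B₁).det ^ Fintype.card κ *
        (LinearMap.BilinForm.toMatrix c B₂).det ^ Fintype.card ι := by
  rw [toMatrix_tmul]; exact Matrix.det_kronecker _ _

theorem nondegenerate_tmul [FiniteDimensional F U] [FiniteDimensional F W] {B₁ : LinearMap.BilinForm F U}
    {B₂ : LinearMap.BilinForm F W} (h₁ : B₁.Nondegenerate) (h₂ : B₂.Nondegenerate) :
    (B₁.tmul B₂).Nondegenerate := by
  let b := Module.finBasis F U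
  let c := Module.finBasis F W
  refine (LinearMap.BilinForm.nondegenerate_iff_det_ne_zero (b.tensorProduct c)).2 ?_
  rw [det_tmul]
  exact mul_ne_zero (pow_ne_zero _ ((LinearMap.BilinForm.nondegenerate_iff_det_ne_zero b).1 h₁))
    (pow_ne_zero _ ((LinearMap.BilinForm.nondegenerate_iff_det_ne_zero c).1 h₂))

theorem tmul_alt [FiniteDimensional F U] [FiniteDimensional F W] {B₁ : LinearMap.BilinForm F U}
    {B₂ : LinearMap.BilinForm F W} (h₁ : B₁.Nondegenerate) (h₂ : B₂.Nondegenerate) (hA₁ : B₁.IsAlt)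
    (hA₂ : B₂.IsAlt) {k l : ℕ} (hU : Module.finrank F U = 2 * k) (hW : Module.finrank F W = 2 * l) :
    (B₁.tmul B₂).IsSymm ∧ (B₁.tmul B₂).Nondegenerate ∧
      ∃ X : Submodule F (U ⊗[F] W), Module.finrank F X = 2 * k * l ∧ ∀ x ∈ X, ∀ y ∈ X, (B₁.tmul B₂) x y = 0 := by
  refine ⟨?_, nondegenerate_tmul h₁ h₂, ?_⟩
  · refine ⟨fun x y => ?_⟩
    simp only [RingHom.id_apply]
    induction x using TensorProduct.induction_on with
    | zero => simp
    | add a b ha hb => simp [ha, hb]
    | tmul u w =>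
      induction y using TensorProduct.induction_on with
      | zero => simp
      | add a b ha hb => simp [ha, hb]
      | tmul u' w' => simp [← hA₁.neg_eq u u', ← hA₂.neg_eq w w']
  · obtain ⟨k', j, b, b1, b2, b3, b4⟩ := exists_sympBasis_aux _ (V := U) rfl B₁ hA₁
    obtain rfl : j = 0 := by
      by_contra hj
      exact b.ne_zero (Sum.inr ⟨0, by omega⟩) (h₁.1 _ fun v => b4 _ v)
    obtain rfl : k' = k := by
      have := Module.finrank_eq_card_basis b
      simp [hU] at this
      omega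
    let c := Module.finBasisOfFinrankEq F W hW
    let v : Fin k' × Fin (2 * l) → U ⊗[F] W := fun p => b.tensorProduct c (Sum.inl (Sum.inl p.1), p.2)
    have hv : LinearIndependent F v := (b.tensorProduct c).linearIndependent.comp _
      fun p p' h => by simpa [Prod.ext_iff] using h
    refine ⟨Submodule.span F (Set.range v), ?_, fun x hx y hy => ?_⟩
    · rw [finrank_span_eq_card hv, Fintype.card_prod, Fintype.card_fin, Fintype.card_fin]; ring
    · induction hx, hy using Submodule.span_induction₂ with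
      | mem_mem x y hx hy =>
        obtain ⟨p, rfl⟩ := hx
        obtain ⟨p', rfl⟩ := hy
        simp [v, b2]
      | zero_left => simp
      | zero_right => simp
      | add_left _ _ _ _ _ _ h h' => simp [h, h']
      | add_right _ _ _ _ _ _ h h' => simp [h, h']
      | smul_left _ _ _ _ _ h => simp [h]
      | smul_right _ _ _ _ _ h => simp [h]

theorem tmul_symm {B₁ : LinearMap.BilinForm F U} {B₂ : LinearMap.BilinForm F W} (h₁ : B₁.IsSymm)
    (h₂ : B₂.IsSymm) : LinearMap.BilinForm.IsSymm (B₁.tmul B₂) :=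
  ⟨(LinearMap.IsSymm.tmul (B₁ := B₁) (B₂ := B₂) ⟨h₁.eq⟩ ⟨h₂.eq⟩).eq⟩

variable [Finite F] [FiniteDimensional F U] [FiniteDimensional F W]
  {B₁ : LinearMap.BilinForm F U} {B₂ : LinearMap.BilinForm F W}

theorem tmul_even_even (h2 : (2 : F) ≠ 0) (h₁ : B₁.Nondegenerate) (h₂ : B₂.Nondegenerate)
    (hS₁ : B₁.IsSymm) (hS₂ : B₂.IsSymm) {k l : ℕ} (hU : Module.finrank F U = 2 * k)
    (hW : Module.finrank F W = 2 * l) :
    ∃ X : Submodule F (U ⊗[F] W), Module.finrank F X = 2 * k * l ∧ ∀ x ∈ X, ∀ y ∈ X, (B₁.tmul B₂) x y = 0 := by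
  rw [exists_ti_half_iff h2 _ (nondegenerate_tmul h₁ h₂) (tmul_symm hS₁ hS₂)
    ((Module.finBasisOfFinrankEq F U hU).tensorProduct (Module.finBasisOfFinrankEq F W hW))
    (by simp; ring), det_tmul, Fintype.card_fin, Fintype.card_fin]
  generalize (LinearMap.BilinForm.toMatrix (Module.finBasisOfFinrankEq F U hU) B₁).det = a
  generalize (LinearMap.BilinForm.toMatrix (Module.finBasisOfFinrankEq F W hW) B₂).det = b
  exact ⟨(-1) ^ (k * l) * (a ^ l * b ^ k), by ring⟩

theorem tmul_even_odd (h2 : (2 : F) ≠ 0) (h₁ : B₁.Nondegenerate) (h₂ : B₂.Nondegenerate)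
    (hS₁ : B₁.IsSymm) (hS₂ : B₂.IsSymm) {k l : ℕ} (hU : Module.finrank F U = 2 * k)
    (hW : Module.finrank F W = 2 * l + 1)
    (hm : ¬ ∃ X : Submodule F U, Module.finrank F X = k ∧ ∀ x ∈ X, ∀ y ∈ X, B₁ x y = 0) :
    ¬ ∃ X : Submodule F (U ⊗[F] W), Module.finrank F X = k * (2 * l + 1) ∧
      ∀ x ∈ X, ∀ y ∈ X, (B₁.tmul B₂) x y = 0 := by
  let b := Module.finBasisOfFinrankEq F U hU
  let c := Module.finBasisOfFinrankEq F W hW
  rw [exists_ti_half_iff h2 _ (nondegenerate_tmul h₁ h₂) (tmul_symm hS₁ hS₂) (b.tensorProduct c) (by simp; ring),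
    det_tmul, Fintype.card_fin, Fintype.card_fin]
  intro h
  refine hm ((exists_ti_half_iff h2 B₁ h₁ hS₁ b (by simp)).2 ?_)
  generalize hd₁ : (LinearMap.BilinForm.toMatrix b B₁).det = d₁ at h ⊢
  generalize hd₂ : (LinearMap.BilinForm.toMatrix c B₂).det = d₂ at h
  have hd₁0 : d₁ ≠ 0 := hd₁ ▸ (LinearMap.BilinForm.nondegenerate_iff_det_ne_zero b).1 h₁
  have hd₂0 : d₂ ≠ 0 := hd₂ ▸ (LinearMap.BilinForm.nondegenerate_iff_det_ne_zero c).1 h₂
  rw [show (-1 : F) ^ (k * (2 * l + 1)) * (d₁ ^ (2 * l + 1) * d₂ ^ (2 * k)) =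
    ((-1) ^ (k * l) * d₁ ^ l * d₂ ^ k) * ((-1) ^ (k * l) * d₁ ^ l * d₂ ^ k) * ((-1) ^ k * d₁) by ring,
    isSquare_mul_sq_iff (by simp [hd₁0, hd₂0])] at h
  exact h

end CfsgLib.Geometry.TensorForm
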