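import Cfsg.Agent.Lib.Geometry.FormTransport

/-! The two types of forms in even dimension under field extensions; the minus form over the quadratic extension. -/

set_option autoImplicit false

namespace CfsgLib.Geometry

open Matrix QuadraticMap

universe u

section Roots

variable {F F₀ : Type*} [Field F] [Field F₀] [Finite F] {emb : F₀ →+* F} {σ : F ≃+* F}

/-- An anisotropic binary form has conjugate roots in the quadratic extension. -/
theorem exists_roots_two (hfix : ∀ x, σ x = x ↔ ∃ y, emb y = x) (hσ : orderOf σ = 2) {a b : F₀}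
    (hab : ∀ z₁ z₂ : F₀, z₁ ^ 2 + a * z₁ * z₂ + b * z₂ ^ 2 = 0 → z₁ = 0 ∧ z₂ = 0) :
    ∃ θ : F, θ + σ θ = emb a ∧ θ * σ θ = emb b ∧ σ θ ≠ θ := by
  haveI := Finite.of_injective emb emb.injective
  haveI := Fintype.ofFinite F₀
  obtain ⟨ω, hω⟩ : ∃ ω, σ ω ≠ ω := by
    by_contra h
    push Not at h
    rw [show σ = 1 from RingEquiv.ext h, orderOf_one] at hσ
    omega
  have hσσ : ∀ x, σ (σ x) = x := fun x => by
    have h := pow_orderOf_eq_one σ
    rw [hσ, pow_two] at h
    exact RingEquiv.congr_fun h x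
  obtain ⟨a', ha'⟩ := (hfix (ω + σ ω)).1 (by rw [map_add, hσσ, add_comm])
  obtain ⟨b', hb'⟩ := (hfix (ω * σ ω)).1 (by rw [map_mul, hσσ, mul_comm])
  have hab' : ∀ z₁ z₂ : F₀, z₁ ^ 2 + a' * z₁ * z₂ + b' * z₂ ^ 2 = 0 → z₁ = 0 ∧ z₂ = 0 := by
    intro z₁ z₂ h
    have h' := congrArg emb h
    simp only [map_add, map_mul, map_pow, map_zero, ha', hb'] at h'
    have h'' : (emb z₁ + ω * emb z₂) * (emb z₁ + σ ω * emb z₂) = 0 := by linear_combination h'
    rcases eq_or_ne z₂ 0 with rfl | h2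
    · refine ⟨?_, rfl⟩
      simpa using h
    exfalso
    have hz : emb z₂ ≠ 0 := (map_ne_zero emb).2 h2
    have key : ω = emb (-z₁ / z₂) ∨ σ ω = emb (-z₁ / z₂) := by
      rcases mul_eq_zero.1 h'' with h | h
      · left; rw [map_div₀, map_neg, eq_div_iff hz]; linear_combination h
      · right; rw [map_div₀, map_neg, eq_div_iff hz]; linear_combination h
    rcases key with h | h
    · exact hω (h ▸ (hfix _).2 ⟨_, rfl⟩)
    · exact hω (by
        have h3 : σ (σ ω) = σ ω := h ▸ (hfix _).2 ⟨_, rfl⟩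
        rw [hσσ] at h3; exact h3.symm)
  obtain ⟨c, d, hd, h1, h2⟩ := exists_binary_isometry hab hab'
  have hdF : emb d ≠ 0 := (map_ne_zero emb).2 hd
  have e1 : 2 * emb c + emb a * emb d = ω + σ ω := by
    rw [← ha', ← h1, map_add, map_mul, map_mul, map_ofNat]
  have e2 : emb c * emb c + emb a * emb c * emb d + emb b * emb d * emb d = ω * σ ω := by
    rw [← hb', ← h2]; simp only [map_add, map_mul]
  have hs : σ ((ω - emb c) / emb d) = (σ ω - emb c) / emb d := by
    rw [map_div₀, map_sub, (hfix _).2 ⟨c, rfl⟩, (hfix _).2 ⟨d, rfl⟩]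
  refine ⟨(ω - emb c) / emb d, ?_, ?_, fun h => hω ?_⟩
  · rw [hs]; field_simp; linear_combination -e1
  · rw [hs]; field_simp; linear_combination -e2 + emb c * e1
  · rw [hs, div_left_inj' hdF, sub_left_inj] at h
    exact h

/-- An anisotropic binary form stays anisotropic in an extension of odd degree. -/
theorem aniso_map_odd (hfix : ∀ x, σ x = x ↔ ∃ y, emb y = x) {r : ℕ} (hσ : orderOf σ = r) (hr : Odd r)
    {a b : F₀} (hab : ∀ z₁ z₂ : F₀, z₁ ^ 2 + a * z₁ * z₂ + b * z₂ ^ 2 = 0 → z₁ = 0 ∧ z₂ = 0) :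
    ∀ z₁ z₂ : F, z₁ ^ 2 + emb a * z₁ * z₂ + emb b * z₂ ^ 2 = 0 → z₁ = 0 ∧ z₂ = 0 := by
  intro z₁ z₂ h
  rcases eq_or_ne z₂ 0 with rfl | hz
  · exact ⟨by simpa using h, rfl⟩
  exfalso
  set t := z₁ / z₂ with htdef
  have ht : t * t + emb a * t + emb b = 0 := by
    rw [htdef]; field_simp; linear_combination h
  have hσt : σ t * σ t + emb a * σ t + emb b = 0 := by
    have := congrArg σ ht
    simpa [map_add, map_mul, (hfix (emb a)).2 ⟨a, rfl⟩, (hfix (emb b)).2 ⟨b, rfl⟩] using this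
  have hcases : σ t = t ∨ σ t = -emb a - t := by
    rcases mul_eq_zero.1 (show (σ t - t) * (σ t + t + emb a) = 0 by linear_combination hσt - ht) with h | h
    · exact Or.inl (sub_eq_zero.1 h)
    · exact Or.inr (by linear_combination h)
  have hfixt : σ t = t := by
    rcases hcases with h1 | h1
    · exact h1
    have h2 : σ (σ t) = t := by
      rw [h1, map_sub, map_neg, (hfix (emb a)).2 ⟨a, rfl⟩, h1]; ring
    obtain ⟨j, hj⟩ := hr
    have hev : ∀ j : ℕ, (σ ^ (2 * j) : F ≃+* F) t = t := by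
      intro j
      induction j with
      | zero => simp
      | succ j ih =>
        rw [Nat.mul_succ, pow_add]
        show (σ ^ (2 * j) : F ≃+* F) ((σ ^ 2 : F ≃+* F) t) = t
        rw [show (σ ^ 2 : F ≃+* F) t = σ (σ t) by rw [pow_two]; rfl, h2, ih]
    have h3 : (σ ^ r : F ≃+* F) t = t := by rw [← hσ, pow_orderOf_eq_one]; rfl
    rw [hj, pow_succ'] at h3
    have : σ ((σ ^ (2 * j) : F ≃+* F) t) = t := h3
    rwa [hev] at this
  obtain ⟨y, hy⟩ := (hfix t).1 hfixt
  refine one_ne_zero (hab y 1 (emb.injective ?_)).2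
  rw [← hy] at ht
  simp only [map_add, map_mul, map_pow, map_one, map_zero]
  linear_combination ht

end Roots

section Types

variable {F : Type*} [Field F] [Finite F]

/-- The minus and plus forms are not similar. -/
theorem not_isSimTo_minus_plus {m : ℕ} {a b : F}
    (hab : ∀ z₁ z₂ : F, z₁ ^ 2 + a * z₁ * z₂ + b * z₂ ^ 2 = 0 → z₁ = 0 ∧ z₂ = 0) :
    ¬ IsSimTo (Cfsg.quadFormMinus m F a b) (Cfsg.quadFormPlus (m + 1) F) := by
  rintro ⟨E, c, hc, hE⟩
  have h := singular_finrank_le_minus m hab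
    ((LinearMap.ker (LinearMap.funLeft F F (Sum.inr : Fin (m + 1) → Fin (m + 1) ⊕ Fin (m + 1)))).map
      (E : (Fin (m + 1) ⊕ Fin (m + 1) → F) →ₗ[F] _)) (by
      rintro _ ⟨w, hw, rfl⟩
      rw [coe_matQuad_minus, LinearEquiv.coe_coe, hE,
        show Cfsg.quadFormPlus (m + 1) F w = 0 from Finset.sum_eq_zero fun i _ => by
          rw [show w (Sum.inr i) = 0 from congrFun hw i, mul_zero], mul_zero])
  rw [LinearEquiv.finrank_map_eq, (isMaxSing_ker_inr (m + 1)).1] at h
  omega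

variable {ι : Type} [Fintype ι] [DecidableEq ι]

/-- There are at most two similarity types in even dimension. -/
theorem isSimTo_of_not (Q₀ Q₁ Q₂ : QuadraticForm F (ι → F)) (h₀ : (polarBilin Q₀).Nondegenerate)
    (h₁ : (polarBilin Q₁).Nondegenerate) (h₂ : (polarBilin Q₂).Nondegenerate) {k : ℕ}
    (hn : Fintype.card ι = 2 * k) (hk : 1 ≤ k) (h10 : ¬ IsSimTo ⇑Q₁ ⇑Q₀) (h20 : ¬ IsSimTo ⇑Q₂ ⇑Q₀) :
    IsSimTo ⇑Q₁ ⇑Q₂ := by
  haveI := Fintype.ofFinite F
  obtain ⟨m, rfl⟩ : ∃ m, k = m + 1 := ⟨k - 1, by omega⟩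
  rcases isSimTo_even Q₀ h₀ hn with p₀ | ⟨a₀, b₀, ab₀, p₀⟩ <;>
    rcases isSimTo_even Q₁ h₁ hn with p₁ | ⟨a₁, b₁, ab₁, p₁⟩ <;>
    rcases isSimTo_even Q₂ h₂ hn with p₂ | ⟨a₂, b₂, ab₂, p₂⟩
  all_goals first
    | exact absurd (p₁.trans p₀.symm) h10
    | exact absurd (p₂.trans p₀.symm) h20
    | exact absurd (p₁.trans ((isSimTo_minus m ab₁ ab₀).trans p₀.symm)) h10
    | exact absurd (p₂.trans ((isSimTo_minus m ab₂ ab₀).trans p₀.symm)) h20
    | exact p₁.trans p₂.symm
    | exact p₁.trans ((isSimTo_minus m ab₁ ab₂).trans p₂.symm)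

end Types

section Minus

variable {F : Type u} [Field F] [Fintype F] {m : ℕ} {a b : F}

/-- The minus form: preserving the classes over the extension. -/
theorem mem_clsSub_minus (hm : 3 ≤ m)
    (hab : ∀ z₁ z₂ : F, z₁ ^ 2 + a * z₁ * z₂ + b * z₂ ^ 2 = 0 → z₁ = 0 ∧ z₂ = 0)
    (g : Cfsg.Geo.quadSimilarityGroup ⇑(matQuad (minusMat m F a b))) :
    g ∈ clsSub (minusMat m F a b) (m + 1) ↔ Cfsg.PreservesSingularClassesMinus m a b
      ((g : GL ((Fin m ⊕ Fin m) ⊕ Fin 2) F) :
        Matrix ((Fin m ⊕ Fin m) ⊕ Fin 2) ((Fin m ⊕ Fin m) ⊕ Fin 2) F) := by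
  have D := evenHyp_minus hm hab
  by_cases h2 : (2 : F) = 0
  swap
  · rw [D.mem_clsSub_odd h2, preserves_minus_iff h2 hab D.ne]
  have key : ∀ (K : Type u) [Field K] [Algebra F K], Module.finrank F K = 2 →
      (Cfsg.PreservesSingularClasses (Cfsg.quadFormMinus m K (algebraMap F K a) (algebraMap F K b))
        (((g : GL ((Fin m ⊕ Fin m) ⊕ Fin 2) F) :
          Matrix ((Fin m ⊕ Fin m) ⊕ Fin 2) ((Fin m ⊕ Fin m) ⊕ Fin 2) F).map (algebraMap F K)) ↔
        g ∈ clsSub (minusMat m F a b) (m + 1)) := by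
    intro K _ _ hrk
    haveI : Module.Finite F K := Module.finite_of_finrank_eq_succ hrk
    haveI : Finite K := Module.finite_of_finite F
    haveI : Algebra.IsAlgebraic F K := Algebra.IsAlgebraic.of_finite F K
    set ρ := algebraMap F K
    set σ := (FiniteField.frobeniusAlgEquivOfAlgebraic F K : K ≃+* K) with hσdef
    have hσ : orderOf σ = 2 := by
      rw [← hrk, ← FiniteField.orderOf_frobeniusAlgEquivOfAlgebraic (K := F) (L := K)]
      refine orderOf_eq_orderOf_iff.2 fun k => ?_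
      have hp : ∀ k : ℕ, ((σ ^ k : K ≃+* K)) = ((FiniteField.frobeniusAlgEquivOfAlgebraic F K) ^ k :) := by
        intro k
        induction k with
        | zero => rfl
        | succ k ih => rw [pow_succ, pow_succ, ih]; rfl
      rw [hp]
      exact ⟨fun h => AlgEquiv.ext fun x => RingEquiv.congr_fun h x, fun h => by rw [h]; rfl⟩
    have hfix : ∀ x, σ x = x ↔ ∃ y, ρ y = x := fun x => by
      show FiniteField.frobeniusAlgEquivOfAlgebraic F K x = x ↔ x ∈ Set.range ρ
      rw [IsGalois.mem_range_algebraMap_iff_fixed]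
      refine ⟨fun h φ => ?_, fun h => h _⟩
      obtain ⟨j, rfl⟩ := (FiniteField.bijective_frobeniusAlgEquivOfAlgebraic_pow F K).2 φ
      show (FiniteField.frobeniusAlgEquivOfAlgebraic F K ^ (j : ℕ)) x = x
      induction (j : ℕ) with
      | zero => rfl
      | succ i ih => rw [pow_succ, AlgEquiv.mul_apply, h, ih]
    obtain ⟨θ, hs, hp, hne⟩ := exists_roots_two hfix hσ hab
    obtain ⟨E, hE⟩ := exists_minus_split (m := m) (a := ρ a) (b := ρ b) hs hp hne.symm
    have DK := D.base ρ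
    have hQ : ⇑(matQuad ((minusMat m F a b).map ρ)) = Cfsg.quadFormMinus m K (ρ a) (ρ b) := by
      rw [minusMat_map, coe_matQuad_minus]
    obtain ⟨c, h, rfl⟩ := exists_scalar_iso_two h2 D.ne g
    have hmat : ((((simScalar (matQuad (minusMat m F a b)) c * simIso _ h :
        Cfsg.Geo.quadSimilarityGroup ⇑(matQuad (minusMat m F a b))) : GL ((Fin m ⊕ Fin m) ⊕ Fin 2) F) :
          Matrix ((Fin m ⊕ Fin m) ⊕ Fin 2) ((Fin m ⊕ Fin m) ⊕ Fin 2) F)).map ρ =
        ρ c • ((extendIso ρ (minusMat m F a b) h : GL ((Fin m ⊕ Fin m) ⊕ Fin 2) K) :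
          Matrix ((Fin m ⊕ Fin m) ⊕ Fin 2) ((Fin m ⊕ Fin m) ⊕ Fin 2) K) := by
      rw [Subgroup.coe_mul, Units.val_mul, simScalar_coe, smul_mul_assoc, one_mul,
        Matrix.map_smul' _ _ _ (map_mul ρ)]
      rfl
    rw [hmat, preservesSingularClasses_smul ((map_ne_zero ρ).2 c.ne_zero), ← hQ,
      preservesSingularClasses_isometry_iff DK.nondeg DK.reflGroup E
        (fun v => (hE v).trans (congrFun hQ v).symm),
      ← DK.iso_mem_two (by rw [← map_ofNat ρ 2, h2, map_zero]), ← extend_simIso, D.extend_mem_iff ρ,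
      Subgroup.mul_mem_cancel_left _ (D.scalar_mem c)]
  constructor
  · intro hg
    let p : Polynomial F := Polynomial.X ^ 2 + (Polynomial.C (-a) * Polynomial.X + Polynomial.C b)
    have hdeg : (Polynomial.C (-a) * Polynomial.X + Polynomial.C b).degree < ((2 : ℕ) : WithBot ℕ) :=
      lt_of_le_of_lt Polynomial.degree_linear_le (by norm_num)
    have hm' : p.Monic := Polynomial.monic_X_pow_add hdeg
    have hn : p.natDegree = 2 :=
      Polynomial.natDegree_eq_of_degree_eq_some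
        (by rw [Polynomial.degree_add_eq_left_of_degree_lt (by rwa [Polynomial.degree_X_pow]),
          Polynomial.degree_X_pow])
    haveI : Fact (Irreducible p) := ⟨(hm'.irreducible_iff_roots_eq_zero_of_degree_le_three
      (by rw [hn]) (by rw [hn]; omega)).2 (Multiset.eq_zero_of_forall_notMem fun t ht => by
        rw [Polynomial.mem_roots hm'.ne_zero, Polynomial.IsRoot] at ht
        simp only [p, Polynomial.eval_add, Polynomial.eval_pow, Polynomial.eval_X,
          Polynomial.eval_mul, Polynomial.eval_C] at ht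
        exact absurd (hab t (-1) (by linear_combination ht)).2 (neg_ne_zero.2 one_ne_zero))⟩
    refine ⟨AdjoinRoot p, inferInstance, inferInstance, ?_, (key _ ?_).2 hg⟩ <;>
      · rw [(AdjoinRoot.powerBasis hm'.ne_zero).finrank, AdjoinRoot.powerBasis_dim, hn]
  · rintro ⟨K, _, _, hrk, h⟩
    exact (key K hrk).1 h

/-- The tautological similitude from a form to an equal function. -/
def FormSim.ofEq {F : Type*} [Field F] {ι : Type} {Q R : (ι → F) → F} (h : R = Q) : FormSim R Q :=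
  ⟨LinearEquiv.refl F _, 1, fun v => by rw [h, Units.val_one, one_mul]; rfl⟩

theorem FormSim.simEquiv_ofEq_coe {F : Type*} [Field F] {ι : Type} [Fintype ι] [DecidableEq ι]
    {Q R : (ι → F) → F} (h : R = Q) (g : Cfsg.Geo.quadSimilarityGroup R) :
    ((FormSim.ofEq h).simEquiv g : GL ι F) = (g : GL ι F) :=
  Units.ext (matrix_eq_of_mulVec fun v => conjGL_mulVec (LinearEquiv.refl F _) (g : GL ι F) v)

/-- From the matrix model to the standard plus form. -/
noncomputable def plusSim (F : Type*) [Field F] (m : ℕ) :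
    FormSim ⇑(matQuad (plusMat m F)) (Cfsg.quadFormPlus m F) := FormSim.ofEq (coe_matQuad_plus m)

/-- From the matrix model to the standard minus form. -/
noncomputable def minusSim (m : ℕ) (a b : F) :
    FormSim ⇑(matQuad (minusMat m F a b)) (Cfsg.quadFormMinus m F a b) := FormSim.ofEq (coe_matQuad_minus m a b)

theorem inndiag_plus_eq {F : Type*} [Field F] [Finite F] {m : ℕ} (hm : 4 ≤ m) :
    ((clsSub (plusMat m F) m).map (simAut _)).map (plusSim F m).autEquiv.toMonoidHom =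
      Cfsg.inndiagPOmegaPlus m F := by
  rw [FormSim.map_map_simAut]
  refine (autSubgroupOf_sim_eq _ fun β => ?_).symm
  constructor
  · rintro ⟨g, hg, hP, hi⟩
    obtain ⟨g', e⟩ := (plusSim F m).simEquiv.surjective ⟨g, hg⟩
    have e' : (g' : GL (Fin m ⊕ Fin m) F) = g := by
      rw [← FormSim.simEquiv_ofEq_coe (coe_matQuad_plus m) g']; exact congrArg Subtype.val e
    exact ⟨g, hg, ⟨g', (mem_clsSub_plus hm g').2 (by rw [e']; exact hP), e⟩, hi⟩
  · rintro ⟨g, hg, ⟨g', hg', e⟩, hi⟩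
    have e' : (g' : GL (Fin m ⊕ Fin m) F) = g := by
      rw [← FormSim.simEquiv_ofEq_coe (coe_matQuad_plus m) g']; exact congrArg Subtype.val e
    exact ⟨g, hg, e' ▸ (mem_clsSub_plus hm g').1 hg', hi⟩

theorem inndiag_minus_eq (hm : 3 ≤ m)
    (hab : ∀ z₁ z₂ : F, z₁ ^ 2 + a * z₁ * z₂ + b * z₂ ^ 2 = 0 → z₁ = 0 ∧ z₂ = 0) :
    ((clsSub (minusMat m F a b) (m + 1)).map (simAut _)).map (minusSim m a b).autEquiv.toMonoidHom =
      Cfsg.inndiagPOmegaMinus m F a b := by
  rw [FormSim.map_map_simAut]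
  refine (autSubgroupOf_sim_eq _ fun β => ?_).symm
  constructor
  · rintro ⟨g, hg, hP, hi⟩
    obtain ⟨g', e⟩ := (minusSim m a b).simEquiv.surjective ⟨g, hg⟩
    have e' : (g' : GL ((Fin m ⊕ Fin m) ⊕ Fin 2) F) = g := by
      rw [← FormSim.simEquiv_ofEq_coe (coe_matQuad_minus m a b) g']; exact congrArg Subtype.val e
    exact ⟨g, hg, ⟨g', (mem_clsSub_minus hm hab g').2 (by rw [e']; exact hP), e⟩, hi⟩
  · rintro ⟨g, hg, ⟨g', hg', e⟩, hi⟩
    have e' : (g' : GL ((Fin m ⊕ Fin m) ⊕ Fin 2) F) = g := by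
      rw [← FormSim.simEquiv_ofEq_coe (coe_matQuad_minus m a b) g']; exact congrArg Subtype.val e
    exact ⟨g, hg, e' ▸ (mem_clsSub_minus hm hab g').1 hg', hi⟩

end Minus

end CfsgLib.Geometry
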