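import Cfsg.Agent.Lib.Geometry.SimClasses
import Cfsg.Agent.Lib.Geometry.POmegaStd

/-! The minus form over a quadratic extension; its classes of maximal totally singular subspaces. -/

set_option autoImplicit false

namespace CfsgLib.Geometry

open Matrix QuadraticMap

universe u

/-- Elements of a finite field are squares in a quadratic extension. -/
theorem isSquare_algebraMap {F K : Type*} [Field F] [Fintype F] [Field K] [Fintype K] [Algebra F K]
    (h2 : (2 : K) ≠ 0) (hrk : Module.finrank F K = 2) (x : F) : IsSquare (algebraMap F K x) := by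
  rcases eq_or_ne x 0 with rfl | hx
  · rw [map_zero]; exact IsSquare.zero
  rw [FiniteField.isSquare_iff (fun h => h2 (by
    haveI := ringChar.of_eq h; exact CharTwo.two_eq_zero)) ((map_ne_zero _).2 hx)]
  have hodd : Fintype.card F % 2 = 1 := by
    refine FiniteField.odd_card_of_char_ne_two fun h => h2 ?_
    haveI := ringChar.of_eq h
    rw [← map_ofNat (algebraMap F K), CharTwo.two_eq_zero, map_zero]
  have hc : Fintype.card K = Fintype.card F ^ 2 := by rw [Module.card_eq_pow_finrank (K := F), hrk]
  obtain ⟨j, hj⟩ : ∃ j, Fintype.card F = 2 * j + 1 := ⟨Fintype.card F / 2, by omega⟩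
  rw [hc, show Fintype.card F ^ 2 / 2 = (Fintype.card F - 1) * (j + 1) by
    rw [hj, show (2 * j + 1) ^ 2 = 1 + 2 * (2 * j * (j + 1)) by ring,
      Nat.add_mul_div_left _ _ two_pos, Nat.add_sub_cancel]; simp,
    ← map_pow, pow_mul, FiniteField.pow_card_sub_one_eq_one x hx, one_pow, map_one]

/-- The split minus form is the plus form. -/
theorem exists_minus_split {K : Type*} [Field K] {m : ℕ} {a b θ θ' : K} (hs : θ + θ' = a)
    (hp : θ * θ' = b) (hne : θ ≠ θ') :
    ∃ E : ((Fin m ⊕ Fin m) ⊕ Fin 2 → K) ≃ₗ[K] (Fin (m + 1) ⊕ Fin (m + 1) → K),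
      ∀ v, Cfsg.quadFormPlus (m + 1) K (E v) = Cfsg.quadFormMinus m K a b v := by
  let f : ((Fin m ⊕ Fin m) ⊕ Fin 2 → K) →ₗ[K] (Fin (m + 1) ⊕ Fin (m + 1) → K) :=
    { toFun := fun v => Sum.elim
        (Fin.snoc (fun i => v (.inl (.inl i))) (v (.inr 0) + θ * v (.inr 1)))
        (Fin.snoc (fun i => v (.inl (.inr i))) (v (.inr 0) + θ' * v (.inr 1)))
      map_add' := fun u v => by
        funext z
        rcases z with i | i <;> induction i using Fin.lastCases <;>
          simp [mul_add, add_add_add_comm]
      map_smul' := fun c v => by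
        funext z
        rcases z with i | i <;> induction i using Fin.lastCases <;>
          simp [mul_add, mul_left_comm] }
  have hinj : Function.Injective f := by
    refine (injective_iff_map_eq_zero f).2 fun v hv => ?_
    have h1 := congrFun hv (.inl (Fin.last m))
    have h2 := congrFun hv (.inr (Fin.last m))
    simp only [f, LinearMap.coe_mk, AddHom.coe_mk, Sum.elim_inl, Sum.elim_inr, Fin.snoc_last,
      Pi.zero_apply] at h1 h2
    have hz1 : v (.inr 1) = 0 := by
      refine (mul_eq_zero.1 (show (θ - θ') * v (.inr 1) = 0 by linear_combination h1 - h2)).resolve_left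
        (sub_ne_zero.2 hne)
    funext z
    rcases z with (i | i) | i
    · simpa [f] using congrFun hv (.inl i.castSucc)
    · simpa [f] using congrFun hv (.inr i.castSucc)
    · fin_cases i
      · simpa [hz1] using h1
      · exact hz1
  refine ⟨f.linearEquivOfInjective hinj ?_, fun v => ?_⟩
  · simp [Fintype.card_sum]; omega
  · rw [LinearMap.linearEquivOfInjective_apply]
    simp only [Cfsg.quadFormPlus, Cfsg.quadFormMinus, f, LinearMap.coe_mk, AddHom.coe_mk,
      Sum.elim_inl, Sum.elim_inr, Fin.sum_univ_castSucc, Fin.snoc_castSucc, Fin.snoc_last]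
    rw [← hs, ← hp]
    ring

/-- The minus form: preserving the classes over the extension means trivial character. -/
theorem preserves_minus_iff {F : Type u} [Field F] [Fintype F] (h2 : (2 : F) ≠ 0) {m : ℕ} {a b : F}
    (hab : ∀ z₁ z₂ : F, z₁ ^ 2 + a * z₁ * z₂ + b * z₂ ^ 2 = 0 → z₁ = 0 ∧ z₂ = 0)
    (hne : ∃ v, matQuad (minusMat m F a b) v ≠ 0)
    (g : Cfsg.Geo.quadSimilarityGroup ⇑(matQuad (minusMat m F a b))) :
    Cfsg.PreservesSingularClassesMinus m a b
        ((g : GL ((Fin m ⊕ Fin m) ⊕ Fin 2) F) :
          Matrix ((Fin m ⊕ Fin m) ⊕ Fin 2) ((Fin m ⊕ Fin m) ⊕ Fin 2) F) ↔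
      simChi (minusMat m F a b) hne (m + 1) g = 1 := by
  set A := ((g : GL ((Fin m ⊕ Fin m) ⊕ Fin 2) F) :
    Matrix ((Fin m ⊕ Fin m) ⊕ Fin 2) ((Fin m ⊕ Fin m) ⊕ Fin 2) F) with hA
  rw [simChi_eq_one_iff]
  have key : ∀ (K : Type u) [Field K] [Algebra F K], Module.finrank F K = 2 →
      (Cfsg.PreservesSingularClasses (Cfsg.quadFormMinus m K (algebraMap F K a) (algebraMap F K b))
          (A.map (algebraMap F K)) ↔ A.det = (simMult hne g : F) ^ (m + 1)) := by
    intro K _ _ hrk
    haveI : Module.Finite F K := Module.finite_of_finrank_eq_succ hrk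
    haveI : Finite K := Module.finite_of_finite F
    haveI := Fintype.ofFinite K
    set ρ := algebraMap F K
    have h2K : (2 : K) ≠ 0 := by
      rw [← map_ofNat ρ 2]; exact (map_ne_zero ρ).2 h2
    obtain ⟨s, hs⟩ := isSquare_algebraMap h2K hrk (a * a - 4 * b)
    have hs0 : s ≠ 0 := fun h => (binAniso_discr hab).1 (by
      rw [h, mul_zero, map_eq_zero_iff ρ ρ.injective] at hs
      linear_combination -hs)
    have hs' : s * s = ρ a * ρ a - 4 * ρ b := by
      rw [← hs, map_sub, map_mul, map_mul, map_ofNat]
    obtain ⟨E, hE⟩ := exists_minus_split (m := m) (a := ρ a) (b := ρ b)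
      (θ := (ρ a + s) / 2) (θ' := (ρ a - s) / 2)
      (by field_simp; ring) (by field_simp; linear_combination -hs') (fun h => hs0 (by
        field_simp at h
        refine (mul_eq_zero.1 (show (2 : K) * s = 0 by linear_combination h)).resolve_left h2K))
    have hd : (minusMat m K (ρ a) (ρ b) + (minusMat m K (ρ a) (ρ b))ᵀ).det ≠ 0 := by
      rw [det_minus_gram]
      refine mul_ne_zero (pow_ne_zero _ (neg_ne_zero.2 one_ne_zero)) fun h => hs0 ?_
      exact mul_self_eq_zero.1 (by linear_combination hs' - h)
    have hgram : minusMat m K (ρ a) (ρ b) + (minusMat m K (ρ a) (ρ b))ᵀ =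
        (minusMat m F a b + (minusMat m F a b)ᵀ).map ρ := by
      rw [minusMat, minusMat, plusMat, plusMat]
      ext i j
      rcases i with (i | i) | i <;> rcases j with (j | j) | j <;>
        first
        | (fin_cases i <;> fin_cases j <;> simp)
        | simp [Matrix.one_apply, apply_ite ρ]
    have hsim : ∀ v, matQuad (minusMat m K (ρ a) (ρ b)) (A.map ρ *ᵥ v) =
        ρ (simMult hne g : F) * matQuad (minusMat m K (ρ a) (ρ b)) v := by
      have hG : Aᵀ * (minusMat m F a b + (minusMat m F a b)ᵀ) * A =
          (simMult hne g : F) • (minusMat m F a b + (minusMat m F a b)ᵀ) :=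
        gram_of_sim hne g
      intro v
      have hp : polar (matQuad (minusMat m K (ρ a) (ρ b))) (A.map ρ *ᵥ v) (A.map ρ *ᵥ v) =
          ρ (simMult hne g : F) * polar (matQuad (minusMat m K (ρ a) (ρ b))) v v := by
        rw [polar_matQuad, polar_matQuad, hgram, mulVec_mulVec, dotProduct_mulVec, vecMul_mulVec,
          ← dotProduct_mulVec, ← mul_assoc, ← transpose_map, ← Matrix.map_mul, ← Matrix.map_mul, hG,
          Matrix.map_smul' _ _ _ (map_mul ρ), smul_mulVec, dotProduct_smul, smul_eq_mul]
      rw [polar_self', polar_self'] at hp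
      exact mul_left_cancel₀ h2K (hp.trans (by ring))
    rw [← coe_matQuad_minus, preservesSingularClasses_iff h2K (nondegenerate_matQuad hd) E
      (fun v => (hE v).trans (congrFun (coe_matQuad_minus m (ρ a) (ρ b)) v).symm)
      ((map_ne_zero ρ).2 (Units.ne_zero _)) hsim
      (by
        rw [← RingHom.mapMatrix_apply, ← RingHom.map_det]
        refine (map_ne_zero ρ).2 ?_
        rw [hA, ← Matrix.GeneralLinearGroup.val_det_apply]
        exact Units.ne_zero _),
      ← RingHom.mapMatrix_apply, ← RingHom.map_det, ← map_pow]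
    exact ρ.injective.eq_iff
  constructor
  · rintro ⟨K, _, _, hrk, h⟩
    exact (key K hrk).1 h
  · intro h
    let p : Polynomial F := Polynomial.X ^ 2 + (Polynomial.C (-a) * Polynomial.X + Polynomial.C b)
    have hdeg : (Polynomial.C (-a) * Polynomial.X + Polynomial.C b).degree < ((2 : ℕ) : WithBot ℕ) :=
      lt_of_le_of_lt Polynomial.degree_linear_le (by norm_num)
    have hm : p.Monic := Polynomial.monic_X_pow_add hdeg
    have hn : p.natDegree = 2 :=
      Polynomial.natDegree_eq_of_degree_eq_some
        (by rw [Polynomial.degree_add_eq_left_of_degree_lt (by rwa [Polynomial.degree_X_pow]),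
          Polynomial.degree_X_pow])
    haveI : Fact (Irreducible p) := ⟨(hm.irreducible_iff_roots_eq_zero_of_degree_le_three
      (by rw [hn]) (by rw [hn]; omega)).2 (Multiset.eq_zero_of_forall_notMem fun t ht => by
        rw [Polynomial.mem_roots hm.ne_zero, Polynomial.IsRoot] at ht
        simp only [p, Polynomial.eval_add, Polynomial.eval_pow, Polynomial.eval_X,
          Polynomial.eval_mul, Polynomial.eval_C] at ht
        exact absurd (hab t (-1) (by linear_combination ht)).2 (neg_ne_zero.2 one_ne_zero))⟩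
    refine ⟨AdjoinRoot p, inferInstance, inferInstance, ?_, (key _ ?_).2 h⟩ <;>
      · rw [(AdjoinRoot.powerBasis hm.ne_zero).finrank, AdjoinRoot.powerBasis_dim, hn]

end CfsgLib.Geometry
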