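import Cfsg.Agent.Lib.Geometry.FormClass
import Cfsg.Agent.Lib.Geometry.POmegaStd
import Cfsg.Agent.Lib.Geometry.SimClassesMinus

/-! Similarity types of nondegenerate forms on coordinate spaces over finite fields. -/

set_option autoImplicit false

namespace CfsgLib.Geometry

open Matrix QuadraticMap

universe u

variable {F : Type u} [Field F] {ι : Type} [Fintype ι] [DecidableEq ι]

/-- `Q` is similar to the form `R`. -/
def IsSimTo {κ : Type} (Q : (ι → F) → F) (R : (κ → F) → F) : Prop :=
  ∃ (E : (κ → F) ≃ₗ[F] (ι → F)) (c : F), c ≠ 0 ∧ ∀ v, Q (E v) = c * R v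

theorem isSimTo_refl (Q : (ι → F) → F) : IsSimTo Q Q :=
  ⟨LinearEquiv.refl F _, 1, one_ne_zero, fun v => (one_mul _).symm⟩

theorem IsSimTo.symm {κ : Type} [Fintype κ] [DecidableEq κ] {Q : (ι → F) → F} {R : (κ → F) → F}
    (h : IsSimTo Q R) : IsSimTo R Q := by
  obtain ⟨E, c, hc, he⟩ := h
  refine ⟨E.symm, c⁻¹, inv_ne_zero hc, fun v => ?_⟩
  have := he (E.symm v)
  rw [E.apply_symm_apply] at this
  rw [this, inv_mul_cancel_left₀ hc]

theorem IsSimTo.trans {κ μ : Type} [Fintype κ] [DecidableEq κ] {Q : (ι → F) → F} {R : (κ → F) → F}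
    {S : (μ → F) → F} (h : IsSimTo Q R) (h' : IsSimTo R S) : IsSimTo Q S := by
  obtain ⟨E, c, hc, he⟩ := h
  obtain ⟨E', c', hc', he'⟩ := h'
  exact ⟨E'.trans E, c * c', mul_ne_zero hc hc', fun v => by
    rw [LinearEquiv.trans_apply, he, he', mul_assoc]⟩

variable [Finite F]

/-- The frame of `exists_pairs` as a linear parametrisation. -/
theorem exists_frame_equiv (Q : QuadraticForm F (ι → F)) (hQ : (polarBilin Q).Nondegenerate)
    {r : ℕ} (hr : 1 ≤ r) {m : ℕ} (hn : Fintype.card ι = 2 * m + r) :
    ∃ (g : Fin r → ι → F) (E : ((Fin m ⊕ Fin m) ⊕ Fin r → F) ≃ₗ[F] (ι → F)),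
      (∀ v, Q (E v) = (∑ i, v (.inl (.inl i)) * v (.inl (.inr i))) + Q (∑ l, v (.inr l) • g l)) ∧
      ∀ v, (∀ i, v (.inl i) = 0) → E v = ∑ l, v (.inr l) • g l := by
  have hd : Module.finrank F (ι → F) = 2 * m + r := by rw [Module.finrank_fintype_fun_eq_card, hn]
  obtain ⟨e, f, g, hg, hq, hef, hee, hgp⟩ := exists_pairs r hr m Q hQ hd
  have hli := linearIndependent_pairs hg hef hee hgp
  haveI : Nonempty ((Fin m ⊕ Fin m) ⊕ Fin r) := ⟨.inr ⟨0, hr⟩⟩
  let b := basisOfLinearIndependentOfCardEqFinrank hli
    (by rw [Fintype.card_sum, Fintype.card_sum, Fintype.card_fin, Fintype.card_fin, hd]; omega)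
  refine ⟨g, b.equivFun.symm, fun v => ?_, fun v hv => ?_⟩
  · rw [Module.Basis.equivFun_symm_apply]
    simp only [b, coe_basisOfLinearIndependentOfCardEqFinrank, Fintype.sum_sum_type, Sum.elim_inl, Sum.elim_inr]
    set z := ∑ l, v (.inr l) • g l
    set x := ∑ i, v (.inl (.inl i)) • e i with hx
    set y := ∑ i, v (.inl (.inr i)) • f i with hy
    have hxz : polar Q (x + y) z = 0 := by
      rw [← polarBilin_apply_apply]
      simp [x, y, z, map_sum, LinearMap.sum_apply, hgp]
    have hsing : ∀ (c : Fin m → F) (u : Fin m → ι → F), (∀ i, Q (u i) = 0) →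
        (∀ i j, polar Q (u i) (u j) = 0) → Q (∑ i, c i • u i) = 0 := by
      intro c u h1 h2
      induction (Finset.univ : Finset (Fin m)) using Finset.induction_on with
      | empty => simp
      | insert a s ha ih =>
        rw [Finset.sum_insert ha, map_add', map_smul', h1, ih, ← polarBilin_apply_apply]
        simp [map_sum, h2]
    have hxy : polar Q x y = ∑ i, v (.inl (.inl i)) * v (.inl (.inr i)) := by
      rw [← polarBilin_apply_apply]
      simp [x, y, map_sum, LinearMap.sum_apply, hef, mul_comm]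
    rw [map_add', map_add', hxz, hxy, hx, hy, hsing _ e (fun i => (hq i).1) (fun i j => (hee i j).1),
      hsing _ f (fun i => (hq i).2) (fun i j => (hee i j).2)]
    ring
  · rw [Module.Basis.equivFun_symm_apply]
    simp [b, Fintype.sum_sum_type, hv]

/-- Forms in odd dimension are similar to the standard one. -/
theorem isSimTo_odd (Q : QuadraticForm F (ι → F)) (hQ : (polarBilin Q).Nondegenerate) {m : ℕ}
    (hn : Fintype.card ι = 2 * m + 1) : IsSimTo ⇑Q (Cfsg.quadFormOdd m F) := by
  obtain ⟨g, E, hE, hE'⟩ := exists_frame_equiv Q hQ le_rfl hn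
  have hc : Q (g 0) ≠ 0 := fun h0 => by
    have hEg : E (Pi.single (.inr 0) 1) = g 0 := by
      rw [hE' _ (fun i => by simp)]; simp
    have hg0 : g 0 ≠ 0 := fun h => by
      have := E.injective (hEg.trans (h.trans (map_zero E).symm))
      simpa using congrFun this (.inr 0)
    refine hg0 (hQ.1 _ fun y => ?_)
    obtain ⟨w, rfl⟩ := E.surjective y
    rw [polarBilin_apply_apply, ← hEg, polar, ← map_add, hE, hE, hE]
    simp [h0, map_smul']
  let S : (Unit ⊕ (Fin m ⊕ Fin m) → F) →ₗ[F] ((Fin m ⊕ Fin m) ⊕ Fin 1 → F) :=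
    { toFun := fun v => Sum.elim (Sum.elim (fun i => Q (g 0) * v (.inr (.inl i)))
        (fun i => v (.inr (.inr i)))) (fun _ => v (.inl ()))
      map_add' := fun u w => by
        funext z; rcases z with (i | i) | i <;> simp [mul_add]
      map_smul' := fun c u => by
        funext z; rcases z with (i | i) | i <;> simp [mul_left_comm] }
  have hS : Function.Injective S := by
    refine (injective_iff_map_eq_zero S).2 fun v hv => ?_
    funext z
    rcases z with u | i | i
    · exact congrFun hv (.inr 0)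
    · simpa [S, hc] using congrFun hv (.inl (.inl i))
    · exact congrFun hv (.inl (.inr i))
  refine ⟨(S.linearEquivOfInjective hS (by simp [Fintype.card_sum]; omega)).trans E, Q (g 0), hc,
    fun v => ?_⟩
  rw [LinearEquiv.trans_apply, LinearMap.linearEquivOfInjective_apply, hE]
  simp [S, Cfsg.quadFormOdd, map_smul', Finset.mul_sum, mul_add]
  ring_nf

/-- Forms in even dimension are similar to a standard plus or minus form. -/
theorem isSimTo_even (Q : QuadraticForm F (ι → F)) (hQ : (polarBilin Q).Nondegenerate) {m : ℕ}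
    (hn : Fintype.card ι = 2 * (m + 1)) :
    IsSimTo ⇑Q (Cfsg.quadFormPlus (m + 1) F) ∨ ∃ a b : F,
      (∀ z₁ z₂ : F, z₁ ^ 2 + a * z₁ * z₂ + b * z₂ ^ 2 = 0 → z₁ = 0 ∧ z₂ = 0) ∧
        IsSimTo ⇑Q (Cfsg.quadFormMinus m F a b) := by
  obtain ⟨g, E, hE, hE'⟩ := exists_frame_equiv Q hQ (show 1 ≤ 2 by norm_num) (m := m) (by omega)
  set A := Q (g 0)
  set B := polar Q (g 0) (g 1)
  set C := Q (g 1)
  have hbin : ∀ x y : F, Q (∑ l : Fin 2, ![x, y] l • g l) = A * x * x + B * x * y + C * y * y := fun x y => by
    rw [Fin.sum_univ_two, map_add', map_smul', map_smul', polar_smul_left', polar_smul_right']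
    simp [A, B, C]
    ring
  have hbin' : ∀ z : Fin 2 → F, Q (∑ l, z l • g l) = A * z 0 * z 0 + B * z 0 * z 1 + C * z 1 * z 1 :=
    fun z => by rw [← hbin]; exact congrArg Q (Finset.sum_congr rfl fun l _ => by fin_cases l <;> rfl)
  by_cases hiso : ∃ x y : F, (x ≠ 0 ∨ y ≠ 0) ∧ A * x * x + B * x * y + C * y * y = 0
  · left
    obtain ⟨x, y, hxy, h0⟩ := hiso
    -- a hyperbolic pair in the plane
    obtain ⟨u, v, huv⟩ : ∃ u v : F, 2 * A * x * u + B * (x * v + u * y) + 2 * C * y * v = 1 := by
      by_contra hcon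
      push Not at hcon
      have h1 : 2 * A * x + B * y = 0 := by
        by_contra h; exact hcon (2 * A * x + B * y)⁻¹ 0 (by linear_combination mul_inv_cancel₀ h)
      have h2 : B * x + 2 * C * y = 0 := by
        by_contra h; exact hcon 0 (B * x + 2 * C * y)⁻¹ (by linear_combination mul_inv_cancel₀ h)
      let w : (Fin m ⊕ Fin m) ⊕ Fin 2 → F := Sum.elim 0 ![x, y]
      have hw : w ≠ 0 := fun h => by
        rcases hxy with h' | h'
        · exact h' (congrFun h (.inr 0))
        · exact h' (congrFun h (.inr 1))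
      refine hw (E.map_eq_zero_iff.1 (hQ.1 _ fun t => ?_))
      obtain ⟨t, rfl⟩ := E.surjective t
      rw [polarBilin_apply_apply, polar, ← map_add, hE, hE, hE, hbin', hbin', hbin']
      simp [w]
      linear_combination t (.inr 0) * h1 + t (.inr 1) * h2
    set s := A * u * u + B * u * v + C * v * v
    let S : (Fin (m + 1) ⊕ Fin (m + 1) → F) →ₗ[F] ((Fin m ⊕ Fin m) ⊕ Fin 2 → F) :=
      { toFun := fun w => Sum.elim (Sum.elim (fun i => w (.inl i.castSucc)) (fun i => w (.inr i.castSucc)))
          ![w (.inl (Fin.last m)) * x + w (.inr (Fin.last m)) * (u - s * x),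
            w (.inl (Fin.last m)) * y + w (.inr (Fin.last m)) * (v - s * y)]
        map_add' := fun p q => by
          funext z; rcases z with (i | i) | i
          · simp
          · simp
          · fin_cases i <;> simp <;> ring
        map_smul' := fun c p => by
          funext z; rcases z with (i | i) | i
          · simp
          · simp
          · fin_cases i <;> simp <;> ring }
    have hQS : ∀ w, Q (E (S w)) = Cfsg.quadFormPlus (m + 1) F w := fun w => by
      rw [hE, hbin']
      simp [S, Cfsg.quadFormPlus, Fin.sum_univ_castSucc]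
      linear_combination (w (.inl (Fin.last m)) ^ 2 - 2 * w (.inl (Fin.last m)) * w (.inr (Fin.last m)) * s
        + w (.inr (Fin.last m)) ^ 2 * s * s) * h0 +
        (w (.inl (Fin.last m)) * w (.inr (Fin.last m)) - s * w (.inr (Fin.last m)) ^ 2) * huv
    have hS : Function.Injective S := by
      refine (injective_iff_map_eq_zero S).2 fun w hw => ?_
      have hall : ∀ t, polar (Cfsg.quadFormPlus (m + 1) F) w t = 0 := fun t => by
        simp only [polar, ← hQS, map_add, hw, map_zero, QuadraticMap.map_zero, zero_add, sub_zero, sub_self]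
      funext z
      rcases z with i | i
      · have := hall (Pi.single (.inr i) 1)
        simp [polar, Cfsg.quadFormPlus, mul_add, add_mul, Finset.sum_add_distrib, Pi.single_apply] at this
        exact this
      · have := hall (Pi.single (.inl i) 1)
        simp [polar, Cfsg.quadFormPlus, mul_add, add_mul, Finset.sum_add_distrib, Pi.single_apply] at this
        exact this
    exact ⟨(S.linearEquivOfInjective hS (by simp [Fintype.card_sum]; omega)).trans E, 1, one_ne_zero,
      fun w => by rw [LinearEquiv.trans_apply, LinearMap.linearEquivOfInjective_apply, hQS, one_mul]⟩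
  · right
    push Not at hiso
    have hA : A ≠ 0 := fun h => hiso 1 0 (Or.inl one_ne_zero) (by rw [h]; ring)
    refine ⟨B / A, C / A, fun z₁ z₂ h => ?_, ?_⟩
    · by_contra hne
      refine hiso z₁ z₂ (by tauto) ?_
      field_simp at h
      linear_combination h
    let S : ((Fin m ⊕ Fin m) ⊕ Fin 2 → F) →ₗ[F] ((Fin m ⊕ Fin m) ⊕ Fin 2 → F) :=
      { toFun := fun w => Sum.elim (Sum.elim (fun i => A * w (.inl (.inl i))) (fun i => w (.inl (.inr i))))
          (fun l => w (.inr l))
        map_add' := fun p q => by funext z; rcases z with (i | i) | i <;> simp [mul_add]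
        map_smul' := fun c p => by funext z; rcases z with (i | i) | i <;> simp [mul_left_comm] }
    have hS : Function.Injective S := by
      refine (injective_iff_map_eq_zero S).2 fun w hw => ?_
      funext z
      rcases z with (i | i) | i
      · simpa [S, hA] using congrFun hw (.inl (.inl i))
      · exact congrFun hw (.inl (.inr i))
      · exact congrFun hw (.inr i)
    refine ⟨(S.linearEquivOfInjective hS rfl).trans E,
      A, hA, fun w => ?_⟩
    rw [LinearEquiv.trans_apply, LinearMap.linearEquivOfInjective_apply, hE, hbin']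
    simp [S, Cfsg.quadFormMinus, mul_add, Finset.mul_sum, mul_assoc]
    field_simp
    try ring

/-- Two anisotropic monic binary forms are isometric. -/
theorem exists_binary_isometry [Fintype F] {a b a' b' : F}
    (hab : ∀ z₁ z₂ : F, z₁ ^ 2 + a * z₁ * z₂ + b * z₂ ^ 2 = 0 → z₁ = 0 ∧ z₂ = 0)
    (hab' : ∀ z₁ z₂ : F, z₁ ^ 2 + a' * z₁ * z₂ + b' * z₂ ^ 2 = 0 → z₁ = 0 ∧ z₂ = 0) :
    ∃ c d : F, d ≠ 0 ∧ 2 * c + a * d = a' ∧ c * c + a * c * d + b * d * d = b' := by
  classical
  by_cases h2 : (2 : F) = 0
  · haveI := CharTwo.of_one_ne_zero_of_two_eq_zero (one_ne_zero (α := F)) h2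
    have hne : ∀ {a b : F}, (∀ z₁ z₂ : F, z₁ ^ 2 + a * z₁ * z₂ + b * z₂ ^ 2 = 0 → z₁ = 0 ∧ z₂ = 0) →
        a ≠ 0 := fun {a b} h ha => (binAniso_discr h).1 (by rw [ha]; linear_combination (2 * b) * h2)
    set d := a' / a with hd
    have had : a * d = a' := by rw [hd]; field_simp [hne hab]
    let φ : F →+ F := AddMonoidHom.mk' (fun c => c * c + a' * c) (fun x y => by
      linear_combination (x * y) * h2)
    have hker : Nat.card φ.ker = 2 := by
      rw [Nat.card_eq_two_iff]
      refine ⟨⟨0, by simp⟩, ⟨a', show a' * a' + a' * a' = 0 by linear_combination (a' * a') * h2⟩,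
        fun h => hne hab' (congrArg Subtype.val h).symm, ?_⟩
      refine Set.eq_univ_of_forall fun ⟨z, hz⟩ => ?_
      rcases mul_eq_zero.1 (show z * (z + a') = 0 by
        have : z * z + a' * z = 0 := hz
        linear_combination this) with h | h
      · exact Or.inl (Subtype.ext h)
      · exact Or.inr (Subtype.ext (show z = a' by linear_combination h - a' * h2))
    have hidx : φ.range.index = 2 := by
      have h1 := φ.range.index_mul_card
      rw [← AddSubgroup.index_ker] at h1
      have h4 := φ.ker.index_mul_card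
      rw [hker] at h4
      have : 0 < φ.ker.index := Nat.pos_of_ne_zero (AddSubgroup.index_ne_zero_of_finite)
      exact Nat.eq_of_mul_eq_mul_right this (by rw [h1, ← h4, mul_comm])
    have n1 : b' ∉ φ.range := fun ⟨z, hz⟩ => one_ne_zero (hab' z 1 (by
      have : z * z + a' * z = b' := hz
      linear_combination this + b' * h2)).2
    have hd0 : d ≠ 0 := div_ne_zero (hne hab') (hne hab)
    have n2 : b * d * d ∉ φ.range := fun ⟨z, hz⟩ => hd0 (hab z d (by
      have : z * z + a' * z = b * d * d := hz
      linear_combination this + z * had + (b * d * d) * h2)).2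
    obtain ⟨c, hc⟩ : b' + b * d * d ∈ φ.range := by
      rw [AddSubgroup.add_mem_iff_of_index_two hidx]
      exact ⟨fun h => absurd h n1, fun h => absurd h n2⟩
    have hc' : c * c + a' * c = b' + b * d * d := hc
    exact ⟨c, d, hd0, by linear_combination had + c * h2,
      by linear_combination hc' + c * had + (b * d * d) * h2⟩
  · have n1 := (binAniso_discr hab).2 h2
    have n2 := (binAniso_discr hab').2 h2
    obtain ⟨d, hd⟩ := isSquare_mul_of_not n2 n1
    have hD : a * a - 4 * b ≠ 0 := fun h => n1 (h ▸ IsSquare.zero)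
    have hd0 : d ≠ 0 := fun h => n2 (by
      rw [h, mul_zero, mul_eq_zero] at hd
      rcases hd with h' | h'
      · rw [h']; exact IsSquare.zero
      · exact absurd h' hD)
    have hr : d / (a * a - 4 * b) * (d / (a * a - 4 * b)) * (a * a - 4 * b) = a' * a' - 4 * b' := by
      generalize hDd : a * a - 4 * b = D at hd hD ⊢
      field_simp
      linear_combination -hd
    refine ⟨(a' - a * (d / (a * a - 4 * b))) / 2, d / (a * a - 4 * b), div_ne_zero hd0 hD, by field_simp; ring, ?_⟩
    set t := d / (a * a - 4 * b)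
    field_simp
    linear_combination -hr

/-- All minus forms of a given dimension are similar. -/
theorem isSimTo_minus [Fintype F] (m : ℕ) {a b a' b' : F}
    (hab : ∀ z₁ z₂ : F, z₁ ^ 2 + a * z₁ * z₂ + b * z₂ ^ 2 = 0 → z₁ = 0 ∧ z₂ = 0)
    (hab' : ∀ z₁ z₂ : F, z₁ ^ 2 + a' * z₁ * z₂ + b' * z₂ ^ 2 = 0 → z₁ = 0 ∧ z₂ = 0) :
    IsSimTo (Cfsg.quadFormMinus m F a b) (Cfsg.quadFormMinus m F a' b') := by
  obtain ⟨c, d, hd, h1, h2⟩ := exists_binary_isometry hab hab'
  let S : ((Fin m ⊕ Fin m) ⊕ Fin 2 → F) →ₗ[F] ((Fin m ⊕ Fin m) ⊕ Fin 2 → F) :=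
    { toFun := fun w => Sum.elim (fun i => w (.inl i)) ![w (.inr 0) + c * w (.inr 1), d * w (.inr 1)]
      map_add' := fun p q => by
        funext z; rcases z with i | i
        · simp
        · fin_cases i <;> simp <;> ring
      map_smul' := fun k p => by
        funext z; rcases z with i | i
        · simp
        · fin_cases i <;> simp <;> ring }
  have hS : Function.Injective S := by
    refine (injective_iff_map_eq_zero S).2 fun w hw => ?_
    have e1 := congrFun hw (.inr 1)
    have e0 := congrFun hw (.inr 0)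
    simp [S, hd] at e1 e0
    funext z
    rcases z with i | i
    · exact congrFun hw (.inl i)
    · fin_cases i
      · simpa [e1] using e0
      · exact e1
  refine ⟨S.linearEquivOfInjective hS rfl, 1,
    one_ne_zero, fun w => ?_⟩
  rw [LinearMap.linearEquivOfInjective_apply, one_mul]
  simp [S, Cfsg.quadFormMinus]
  linear_combination (w (.inr 0) * w (.inr 1)) * h1 + (w (.inr 1) * w (.inr 1)) * h2

end CfsgLib.Geometry
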