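import Cfsg.Agent.Lib.Geometry.OmegaGen

/-! Perfectness of the Siegel group, and generation by singular pairs. -/

set_option autoImplicit false

namespace CfsgLib.Geometry

open QuadraticMap

variable {F V : Type*} [Field F] [AddCommGroup V] [Module F V] [FiniteDimensional F V]
variable {Q : QuadraticForm F V}

/-- A hyperbolic pair through `e` and its orthogonal complement. -/
theorem exists_pair (hQ : (polarBilin Q).Nondegenerate) {e : V} (he0 : e ≠ 0) (he : Q e = 0) :
    ∃ f, Q f = 0 ∧ polar Q e f = 1 := by
  obtain ⟨f, hf, hef, -⟩ := exists_partner hQ ⊥ (by simpa using he0) he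
    (fun h hh => by rw [(Submodule.mem_bot F).1 hh, QuadraticMap.polar_zero_right])
  exact ⟨f, hf, hef⟩

theorem pair_nondeg {e f : V} (he : Q e = 0) (hf : Q f = 0) (hef : polar Q e f = 1) :
    ∀ t ∈ Submodule.span F ({e, f} : Set V),
      (∀ s ∈ Submodule.span F ({e, f} : Set V), polar Q t s = 0) → t = 0 := by
  intro t ht hts
  obtain ⟨a, b, rfl⟩ := Submodule.mem_span_pair.1 ht
  have h1 := hts e (Submodule.subset_span (by simp))
  have h2 := hts f (Submodule.subset_span (by simp))
  simp [polar_add_left, polar_smul_left', polar_self', he, hf, hef, polar_comm Q f e] at h1 h2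
  simp [h1, h2]

/-- Vectors orthogonal to `e` and `f`. -/
noncomputable def pairPerp (Q : QuadraticForm F V) (e f : V) : Submodule F V :=
  LinearMap.ker (polarBilin Q e) ⊓ LinearMap.ker (polarBilin Q f)

theorem mem_pairPerp {e f w : V} :
    w ∈ pairPerp Q e f ↔ polar Q e w = 0 ∧ polar Q f w = 0 := Iff.rfl

theorem finrank_pairPerp (e f : V) :
    Module.finrank F V ≤ Module.finrank F (pairPerp Q e f) + 2 := by
  have kerdim : ∀ a, Module.finrank F V ≤ Module.finrank F (LinearMap.ker (polarBilin Q a)) + 1 := fun a => by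
    have h := LinearMap.finrank_range_add_finrank_ker (polarBilin Q a)
    have h' : Module.finrank F (LinearMap.range (polarBilin Q a)) ≤ 1 :=
      le_trans (Submodule.finrank_le _) (by simp)
    omega
  have h1 := kerdim e
  have h2 := kerdim f
  have h3 := Submodule.finrank_sup_add_finrank_inf_eq (LinearMap.ker (polarBilin Q e))
    (LinearMap.ker (polarBilin Q f))
  have h4 := Submodule.finrank_le (LinearMap.ker (polarBilin Q e) ⊔ LinearMap.ker (polarBilin Q f))
  unfold pairPerp
  omega

variable [Finite F]

/-- The complement of a hyperbolic pair is isotropic in dimension at least five. -/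
theorem exists_singular_pairPerp (hQ : (polarBilin Q).Nondegenerate)
    (hn : 5 ≤ Module.finrank F V) {e f : V} (he : Q e = 0) (hf : Q f = 0) (hef : polar Q e f = 1) :
    ∃ x, x ≠ 0 ∧ Q x = 0 ∧ x ∈ pairPerp Q e f := by
  let W := pairPerp Q e f
  let QW : QuadraticForm F W := Q.comp W.subtype
  have hee : polar Q e e = 0 := by rw [polar_self', he, mul_zero]
  have hff : polar Q f f = 0 := by rw [polar_self', hf, mul_zero]
  have hW : (polarBilin QW).Nondegenerate := by
    have key : ∀ w : W, (∀ w' : W, polar Q (w : V) (w' : V) = 0) → w = 0 := fun w hw => by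
      refine Subtype.ext (hQ.1 (w : V) fun y => ?_)
      have hy : y - polar Q y f • e - polar Q y e • f ∈ W := by
        refine mem_pairPerp.2 ⟨?_, ?_⟩ <;>
          simp [polar_sub_right, polar_smul_right', hee, hff, hef, polar_comm Q f e,
            polar_comm Q y e, polar_comm Q y f]
      have := hw ⟨_, hy⟩
      simp [polar_sub_right, polar_smul_right', polar_comm Q (w : V) e, polar_comm Q (w : V) f,
        (mem_pairPerp.1 w.2).1, (mem_pairPerp.1 w.2).2] at this
      exact this
    refine ⟨fun w hw => key w fun w' => ?_, fun w hw => key w fun w' => ?_⟩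
    · exact hw w'
    · rw [polar_comm]; exact hw w'
  obtain ⟨x, hx0, hx⟩ := exists_singular hW
    (by have := finrank_pairPerp (Q := Q) e f; change 3 ≤ Module.finrank F (pairPerp Q e f); omega)
  exact ⟨x, fun h => hx0 (Subtype.ext h), hx, x.2⟩

omit [Finite F] in
/-- An additive family containing the singular vectors of the complement of a pair contains all. -/
theorem pairPerp_induction (hQ : (polarBilin Q).Nondegenerate) {e f : V}
    (he : Q e = 0) (hf : Q f = 0) (hef : polar Q e f = 1) {x : V} (hx0 : x ≠ 0) (hx : Q x = 0)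
    (hxW : x ∈ pairPerp Q e f) (P : V → Prop)
    (hadd : ∀ a b, a ∈ pairPerp Q e f → b ∈ pairPerp Q e f → P a → P b → P (a + b))
    (hsing : ∀ z ∈ pairPerp Q e f, Q z = 0 → z ≠ 0 → P z)
    (hzero : P 0) : ∀ w ∈ pairPerp Q e f, P w := by
  intro w hw
  have hxP : ∀ h ∈ Submodule.span F ({e, f} : Set V), polar Q x h = 0 := fun h hh => by
    obtain ⟨a, b, rfl⟩ := Submodule.mem_span_pair.1 hh
    rw [polar_add_right, polar_smul_right', polar_smul_right', polar_comm Q x e, polar_comm Q x f,
      (mem_pairPerp.1 hxW).1, (mem_pairPerp.1 hxW).2]; ring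
  have hxH : x ∉ Submodule.span F ({e, f} : Set V) := fun h =>
    hx0 (pair_nondeg he hf hef x h hxP)
  obtain ⟨x', hx', hxx', hx'P⟩ := exists_partner hQ _ hxH hx hxP
  have hx'W : x' ∈ pairPerp Q e f := mem_pairPerp.2
    ⟨by rw [polar_comm]; exact hx'P e (Submodule.subset_span (by simp)),
     by rw [polar_comm]; exact hx'P f (Submodule.subset_span (by simp))⟩
  have hxx : polar Q x x = 0 := by rw [polar_self', hx, mul_zero]
  have hx'x' : polar Q x' x' = 0 := by rw [polar_self', hx', mul_zero]
  have sing : ∀ z ∈ pairPerp Q e f, Q z = 0 → P z := fun z hz hz0 => by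
    rcases eq_or_ne z 0 with rfl | h
    · exact hzero
    · exact hsing z hz hz0 h
  -- orthogonal part
  let a := polar Q w x'
  let b := polar Q w x
  let d := w - a • x - b • x'
  have hdW : d ∈ pairPerp Q e f :=
    sub_mem (sub_mem hw (Submodule.smul_mem _ _ hxW)) (Submodule.smul_mem _ _ hx'W)
  have hdx : polar Q d x = 0 := by
    simp only [d, a, b, polar_sub_left, polar_smul_left', hxx, polar_comm Q x' x, hxx']; ring
  have hdx' : polar Q d x' = 0 := by
    simp only [d, a, b, polar_sub_left, polar_smul_left', hx'x', hxx']; ring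
  -- `d = (d + x - Q d x') + (Q d x' - x)`
  have h1 : Q (d + (x + (-Q d) • x')) = 0 := by
    rw [map_add', map_add', map_smul', hx, hx', polar_smul_right', hxx', polar_add_right,
      polar_smul_right', hdx, hdx']; ring
  have hd1 : P (d + (x + (-Q d) • x')) :=
    sing _ (add_mem hdW (add_mem hxW (Submodule.smul_mem _ _ hx'W))) h1
  have hd2 : P ((-1 : F) • x) := sing _ (Submodule.smul_mem _ _ hxW) (by rw [map_smul', hx, mul_zero])
  have hd3 : P (Q d • x') := sing _ (Submodule.smul_mem _ _ hx'W) (by rw [map_smul', hx', mul_zero])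
  have ha : P (a • x) := sing _ (Submodule.smul_mem _ _ hxW) (by rw [map_smul', hx, mul_zero])
  have hb : P (b • x') := sing _ (Submodule.smul_mem _ _ hx'W) (by rw [map_smul', hx', mul_zero])
  have m1 : (-1 : F) • x ∈ pairPerp Q e f := Submodule.smul_mem _ _ hxW
  have m2 : Q d • x' ∈ pairPerp Q e f := Submodule.smul_mem _ _ hx'W
  have m0 : d + (x + (-Q d) • x') ∈ pairPerp Q e f :=
    add_mem hdW (add_mem hxW (Submodule.smul_mem _ _ hx'W))
  have hP := hadd _ _ (add_mem (add_mem m0 m1) m2)
    (add_mem (Submodule.smul_mem _ a hxW) (Submodule.smul_mem _ b hx'W))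
    (hadd _ _ (add_mem m0 m1) m2 (hadd _ _ m0 m1 hd1 hd2) hd3)
    (hadd _ _ (Submodule.smul_mem _ a hxW) (Submodule.smul_mem _ b hx'W) ha hb)
  rwa [show d + (x + (-Q d) • x') + (-1 : F) • x + Q d • x' + (a • x + b • x') = w by
    simp only [d]; module] at hP

omit [Finite F] in
theorem siegel_of_pairPerp {e f w : V} (he : Q e = 0) (hf : Q f = 0) (hef : polar Q e f = 1)
    (hw : polar Q e w = 0) :
    ∃ (w' : V) (hw' : polar Q e w' = 0), w' ∈ pairPerp Q e f ∧
      siegel Q e w he hw = siegel Q e w' he hw' := by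
  refine ⟨w - polar Q f w • e, by rw [polar_sub_right, polar_smul_right', polar_self', he, hw]; ring,
    mem_pairPerp.2 ⟨by rw [polar_sub_right, polar_smul_right', polar_self', he, hw]; ring,
      by rw [polar_sub_right, polar_smul_right', polar_comm Q f e, hef]; ring⟩, ?_⟩
  refine LinearEquiv.ext fun v => ?_
  rw [siegel_apply, siegel_apply, map_sub', map_smul', he, polar_smul_right', polar_comm Q w e, hw,
    polar_sub_right, polar_smul_right']
  module

/-- Siegel transformations with singular second vector generate. -/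
theorem siegelGroup_eq_singular (hQ : (polarBilin Q).Nondegenerate) (hn : 5 ≤ Module.finrank F V) :
    siegelGroup Q = Subgroup.closure {g | ∃ (e w : V) (he : Q e = 0) (hw : polar Q e w = 0),
      Q w = 0 ∧ g = siegel Q e w he hw} := by
  refine le_antisymm ?_ (Subgroup.closure_mono fun g ⟨e, w, he, hw, _, h⟩ => ⟨e, w, he, hw, h⟩)
  rw [siegelGroup, Subgroup.closure_le]
  rintro _ ⟨e, w, he, hw, rfl⟩
  set S := Subgroup.closure {g | ∃ (e w : V) (he : Q e = 0) (hw : polar Q e w = 0),
      Q w = 0 ∧ g = siegel Q e w he hw}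
  by_cases he0 : e = 0
  · subst he0
    rw [show siegel Q 0 w he hw = 1 from LinearEquiv.ext fun v => by
      simp [siegel_apply, QuadraticMap.polar_zero_right]]
    exact one_mem _
  obtain ⟨f, hf, hef⟩ := exists_pair hQ he0 he
  obtain ⟨w', hw', hw'W, heq⟩ := siegel_of_pairPerp he hf hef hw
  rw [heq]
  obtain ⟨x, hx0, hx, hxW⟩ := exists_singular_pairPerp hQ hn he hf hef
  have key := pairPerp_induction hQ he hf hef hx0 hx hxW
    (fun v => ∃ h : polar Q e v = 0, siegel Q e v he h ∈ S)
    (fun a b _ _ ⟨ha, hSa⟩ ⟨hb, hSb⟩ => ⟨by rw [polar_add_right, ha, hb, add_zero],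
      siegel_mul e a b he ha hb ▸ mul_mem hSa hSb⟩)
    (fun z hz hz0 _ => ⟨(mem_pairPerp.1 hz).1,
      Subgroup.subset_closure ⟨e, z, he, _, hz0, rfl⟩⟩)
    ⟨QuadraticMap.polar_zero_right _ _, by
      rw [show siegel Q e 0 he (QuadraticMap.polar_zero_right _ _) = 1 from
        LinearEquiv.ext fun v => by simp [siegel_apply, QuadraticMap.polar_zero_right]]
      exact one_mem _⟩ w' hw'W
  exact key.2

/-- The Siegel group is perfect in dimension at least five. -/
theorem siegelGroup_perfect (hQ : (polarBilin Q).Nondegenerate) (hn : 5 ≤ Module.finrank F V) :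
    siegelGroup Q ≤ ⁅siegelGroup Q, siegelGroup Q⁆ := by
  conv_lhs => rw [siegelGroup]
  rw [Subgroup.closure_le]
  rintro _ ⟨e, w, he, hw, rfl⟩
  set C := ⁅siegelGroup Q, siegelGroup Q⁆ with hC
  by_cases he0 : e = 0
  · subst he0
    rw [show siegel Q 0 w he hw = 1 from LinearEquiv.ext fun v => by
      simp [siegel_apply, QuadraticMap.polar_zero_right]]
    exact one_mem _
  obtain ⟨f, hf, hef⟩ := exists_pair hQ he0 he
  obtain ⟨w', hw', hw'W, heq⟩ := siegel_of_pairPerp he hf hef hw
  rw [heq]
  let P : V → Prop := fun v => ∃ h : polar Q e v = 0, siegel Q e v he h ∈ C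
  have hadd : ∀ a b, P a → P b → P (a + b) := fun a b ⟨ha, hSa⟩ ⟨hb, hSb⟩ =>
    ⟨by rw [polar_add_right, ha, hb, add_zero], siegel_mul e a b he ha hb ▸ mul_mem hSa hSb⟩
  have hzero : P 0 := ⟨QuadraticMap.polar_zero_right _ _, by
      rw [show siegel Q e 0 he (QuadraticMap.polar_zero_right _ _) = 1 from
        LinearEquiv.ext fun v => by simp [siegel_apply, QuadraticMap.polar_zero_right]]
      exact one_mem _⟩
  -- commutators with Siegel maps of the complement
  have key : ∀ x y v : V, x ∈ pairPerp Q e f → y ∈ pairPerp Q e f → v ∈ pairPerp Q e f →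
      Q x = 0 → polar Q x y = 0 →
      P (polar Q v x • y - polar Q v y • x - (Q y * polar Q v x) • x) := by
    intro x y v hx hy hv hx0 hxy
    have hev := (mem_pairPerp.1 hv).1
    let h := siegel Q x y hx0 hxy
    have hh : h ∈ siegelGroup Q := siegel_mem _ _ _ _
    have hho := siegelGroup_le_orth hh
    have hhe : h e = e :=
      siegel_eq_self Q x y hx0 hxy (mem_pairPerp.1 hx).1 (mem_pairPerp.1 hy).1
    have hev' : polar Q e (h v) = 0 := by rw [← hhe, orth_polar hho, hev]
    have hdiff : polar Q e (h v + -v) = 0 := by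
      rw [polar_add_right, polar_neg_right, hev', hev, neg_zero, add_zero]
    have hneg : polar Q e (-v) = 0 := by rw [polar_neg_right, hev, neg_zero]
    have hmem : h * siegel Q e v he hev * h⁻¹ * (siegel Q e v he hev)⁻¹ ∈ C := by
      have := Subgroup.commutator_mem_commutator hh
        (siegel_mem (Q := Q) e v he hev)
      rwa [commutatorElement_def] at this
    have e1 : h * siegel Q e v he hev * h⁻¹ = siegel Q e (h v) he hev' := by
      rw [siegel_conj hho]; simp only [hhe]
    have e2 : (siegel Q e v he hev)⁻¹ = siegel Q e (-v) he hneg := by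
      rw [inv_eq_of_mul_eq_one_left]
      rw [siegel_mul]
      exact LinearEquiv.ext fun u => by simp [siegel_apply, QuadraticMap.polar_zero_right]
    rw [e1, e2, siegel_mul] at hmem
    have e3 : h v + -v = polar Q v x • y - polar Q v y • x - (Q y * polar Q v x) • x := by
      simp only [h, siegel_apply]; abel
    exact e3 ▸ ⟨hdiff, hmem⟩
  obtain ⟨x₀, hx₀0, hx₀, hx₀W⟩ := exists_singular_pairPerp hQ hn he hf hef
  have key' := pairPerp_induction hQ he hf hef hx₀0 hx₀ hx₀W P
    (fun a b _ _ => hadd a b) (fun z hz hz0 hzne => ?_) hzero w' hw'W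
  · exact key'.2
  -- a singular `z` in the complement
  have hzP : ∀ h ∈ Submodule.span F ({e, f} : Set V), polar Q z h = 0 := fun h hh => by
    obtain ⟨a, b, rfl⟩ := Submodule.mem_span_pair.1 hh
    rw [polar_add_right, polar_smul_right', polar_smul_right', polar_comm Q z e, polar_comm Q z f,
      (mem_pairPerp.1 hz).1, (mem_pairPerp.1 hz).2]; ring
  have hzH : z ∉ Submodule.span F ({e, f} : Set V) := fun h =>
    hzne (pair_nondeg he hf hef z h hzP)
  -- some vector of the complement orthogonal to `z`, outside its line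
  obtain ⟨y, hy, hzy, hyz⟩ : ∃ y ∈ pairPerp Q e f, polar Q z y = 0 ∧ y ∉ Submodule.span F {z} := by
    by_contra hc
    push Not at hc
    have h1 := Submodule.finrank_sup_add_finrank_inf_eq (pairPerp Q e f) (LinearMap.ker (polarBilin Q z))
    have h2 := LinearMap.finrank_range_add_finrank_ker (polarBilin Q z)
    have h3 : Module.finrank F (LinearMap.range (polarBilin Q z)) ≤ 1 :=
      le_trans (Submodule.finrank_le _) (by simp)
    have h4 := Submodule.finrank_le (pairPerp Q e f ⊔ LinearMap.ker (polarBilin Q z))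
    have h5 := Submodule.finrank_mono (show pairPerp Q e f ⊓ LinearMap.ker (polarBilin Q z) ≤
      Submodule.span F {z} from fun y hy => hc y hy.1 hy.2)
    have := finrank_pairPerp (Q := Q) e f
    have := finrank_span_singleton (K := F) hzne
    omega
  -- a vector of the complement with prescribed products
  have hyH : y ∉ Submodule.span F ({e, f} : Set V) ⊔ Submodule.span F {z} := fun hm => by
    obtain ⟨t, ht, u, hu, htu⟩ := Submodule.mem_sup.1 hm
    obtain ⟨a, rfl⟩ := Submodule.mem_span_singleton.1 hu
    have ht0 : t = 0 := pair_nondeg he hf hef t ht fun s hs => by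
      rw [show t = y - a • z by rw [← htu]; abel, polar_sub_left, polar_smul_left', hzP s hs]
      obtain ⟨c, d, rfl⟩ := Submodule.mem_span_pair.1 hs
      rw [polar_add_right, polar_smul_right', polar_smul_right', polar_comm Q y e, polar_comm Q y f,
        (mem_pairPerp.1 hy).1, (mem_pairPerp.1 hy).2]; ring
    exact hyz (Submodule.mem_span_singleton.2 ⟨a, by rw [← htu, ht0, zero_add]⟩)
  obtain ⟨v, hv, hvy⟩ := exists_polar hQ _ hyH (-1)
  have hvW : v ∈ pairPerp Q e f := mem_pairPerp.2
    ⟨by rw [polar_comm]; exact hv e (Submodule.mem_sup_left (Submodule.subset_span (by simp))),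
     by rw [polar_comm]; exact hv f (Submodule.mem_sup_left (Submodule.subset_span (by simp)))⟩
  have hvz : polar Q v z = 0 := hv z (Submodule.mem_sup_right (Submodule.mem_span_singleton_self z))
  have h := key z y v hz hy hvW hz0 hzy
  rw [hvz, hvy, show (0 : F) • y - (-1 : F) • z - (Q y * 0) • z = z by module] at h
  exact h

end CfsgLib.Geometry
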