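import Cfsg.Agent.Lib.Geometry.OmegaDiag
import Cfsg.Agent.Lib.Geometry.MaxSingular
import Cfsg.Agent.Lib.Geometry.OmegaPerfect

/-! Orthogonal sums, stabilisers meeting every coset of `Ω`, classes of maximal singular subspaces. -/

set_option autoImplicit false

namespace CfsgLib.Geometry

open QuadraticMap

section Sum

variable {F : Type*} [Field F] {k l : ℕ}

/-- Orthogonal sum of forms on coordinate spaces. -/
noncomputable def sumForm (Q₁ : QuadraticForm F (Fin k → F)) (Q₂ : QuadraticForm F (Fin l → F)) :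
    QuadraticForm F (Fin k ⊕ Fin l → F) :=
  Q₁.comp (LinearMap.funLeft F F Sum.inl) + Q₂.comp (LinearMap.funLeft F F Sum.inr)

theorem coe_sumForm (Q₁ : QuadraticForm F (Fin k → F)) (Q₂ : QuadraticForm F (Fin l → F)) :
    ⇑(sumForm Q₁ Q₂) = fun v : Fin k ⊕ Fin l → F => Q₁ (v ∘ Sum.inl) + Q₂ (v ∘ Sum.inr) := by
  funext v; rfl

theorem polar_sumForm (Q₁ : QuadraticForm F (Fin k → F)) (Q₂ : QuadraticForm F (Fin l → F))
    (u v : Fin k ⊕ Fin l → F) :
    polar (sumForm Q₁ Q₂) u v =
      polar Q₁ (u ∘ Sum.inl) (v ∘ Sum.inl) + polar Q₂ (u ∘ Sum.inr) (v ∘ Sum.inr) := by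
  simp only [coe_sumForm, polar, Pi.add_comp]; ring

theorem nondegenerate_sumForm {Q₁ : QuadraticForm F (Fin k → F)} {Q₂ : QuadraticForm F (Fin l → F)}
    (h₁ : (polarBilin Q₁).Nondegenerate) (h₂ : (polarBilin Q₂).Nondegenerate) :
    (polarBilin (sumForm Q₁ Q₂)).Nondegenerate := by
  have hl : ∀ x, (∀ y, polar (sumForm Q₁ Q₂) x y = 0) → x = 0 := fun x hx => by
    have e1 : x ∘ Sum.inl = 0 := h₁.1 _ fun y => by
      simpa [polar_sumForm, Sum.elim_comp_inl, Sum.elim_comp_inr] using hx (Sum.elim y 0)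
    have e2 : x ∘ Sum.inr = 0 := h₂.1 _ fun y => by
      simpa [polar_sumForm, Sum.elim_comp_inl, Sum.elim_comp_inr] using hx (Sum.elim 0 y)
    funext i
    cases i with
    | inl i => exact congrFun e1 i
    | inr i => exact congrFun e2 i
  exact ⟨fun x hx => hl x hx, fun y hy => hl y fun x => by rw [polar_comm]; exact hy x⟩

/-- `(g₁, g₂)` acting on an orthogonal sum. -/
noncomputable def sumHom (Q₁ : QuadraticForm F (Fin k → F)) (Q₂ : QuadraticForm F (Fin l → F)) :
    orth Q₁ × orth Q₂ →* orth (sumForm Q₁ Q₂) where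
  toFun g := ⟨(LinearEquiv.sumArrowLequivProdArrow (Fin k) (Fin l) F F).trans
      (((g.1 : (Fin k → F) ≃ₗ[F] (Fin k → F)).prodCongr (g.2 : (Fin l → F) ≃ₗ[F] (Fin l → F))).trans
        (LinearEquiv.sumArrowLequivProdArrow (Fin k) (Fin l) F F).symm), fun v => by
    show Q₁ _ + Q₂ _ = Q₁ _ + Q₂ _
    exact congrArg₂ (· + ·) (g.1.2 _) (g.2.2 _)⟩
  map_one' := Subtype.ext (LinearEquiv.ext fun v => funext fun i => by cases i <;> rfl)
  map_mul' a b := Subtype.ext (LinearEquiv.ext fun v => funext fun i => by cases i <;> rfl)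

theorem sumHom_apply (Q₁ : QuadraticForm F (Fin k → F)) (Q₂ : QuadraticForm F (Fin l → F))
    (g : orth Q₁ × orth Q₂) (v : Fin k ⊕ Fin l → F) :
    (sumHom Q₁ Q₂ g : (Fin k ⊕ Fin l → F) ≃ₗ[F] (Fin k ⊕ Fin l → F)) v =
      Sum.elim ((g.1 : (Fin k → F) ≃ₗ[F] (Fin k → F)) (v ∘ Sum.inl))
        ((g.2 : (Fin l → F) ≃ₗ[F] (Fin l → F)) (v ∘ Sum.inr)) :=
  funext fun i => by cases i <;> rfl

theorem fromBlocks_eq_sumHom (Q₁ : QuadraticForm F (Fin k → F)) (Q₂ : QuadraticForm F (Fin l → F))
    (g₁ : orth Q₁) (g₂ : orth Q₂) {A : Matrix (Fin k) (Fin k) F} {B : Matrix (Fin l) (Fin l) F}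
    (hA : ∀ v, A.mulVec v = (g₁ : (Fin k → F) ≃ₗ[F] (Fin k → F)) v)
    (hB : ∀ v, B.mulVec v = (g₂ : (Fin l → F) ≃ₗ[F] (Fin l → F)) v) :
    ((((isomEquiv (sumForm Q₁ Q₂)).symm (sumHom Q₁ Q₂ (g₁, g₂)) :
      Cfsg.isometryGroup F ⇑(sumForm Q₁ Q₂)) : Matrix.GeneralLinearGroup (Fin k ⊕ Fin l) F) :
      Matrix (Fin k ⊕ Fin l) (Fin k ⊕ Fin l) F) = Matrix.fromBlocks A 0 0 B := by
  refine matrix_eq_of_mulVec fun v => ?_
  rw [isomEquiv_symm_mulVec, sumHom_apply, Matrix.fromBlocks_mulVec]
  simp [hA, hB]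

/-- Adding a fixed summand does not change the invariant. -/
theorem orthInvariant_sumHom_inl [Finite F] {Q₁ : QuadraticForm F (Fin k → F)}
    {Q₂ : QuadraticForm F (Fin l → F)} (h₁ : (polarBilin Q₁).Nondegenerate)
    (hR₁ : reflGroup Q₁ = orth Q₁) (hQ : (polarBilin (sumForm Q₁ Q₂)).Nondegenerate)
    (hR : reflGroup (sumForm Q₁ Q₂) = orth (sumForm Q₁ Q₂)) (g : orth Q₁) :
    orthInvariant hQ hR (sumHom Q₁ Q₂ (g, 1)) = orthInvariant h₁ hR₁ g := by
  have key : (orthInvariant hQ hR).comp ((sumHom Q₁ Q₂).comp (MonoidHom.inl _ _)) =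
      orthInvariant h₁ hR₁ := by
    refine MonoidHom.eq_of_eqOn_dense (closure_oRefl hR₁) ?_
    rintro _ ⟨a, ha, rfl⟩
    have hv : sumForm Q₁ Q₂ (Sum.elim a 0) = Q₁ a := by
      rw [coe_sumForm]; simp [Sum.elim_comp_inl, Sum.elim_comp_inr]
    have hv0 : sumForm Q₁ Q₂ (Sum.elim a 0) ≠ 0 := hv ▸ ha
    have e : sumHom Q₁ Q₂ (oRefl Q₁ a ha, 1) = oRefl (sumForm Q₁ Q₂) _ hv0 := by
      refine Subtype.ext (LinearEquiv.ext fun v => ?_)
      rw [sumHom_apply]
      show Sum.elim (refl Q₁ a ha (v ∘ Sum.inl)) (v ∘ Sum.inr) = refl _ _ hv0 v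
      rw [refl_apply, refl_apply, polar_sumForm, hv]
      funext i
      cases i <;> simp [Sum.elim_comp_inl, Sum.elim_comp_inr]
    show orthInvariant hQ hR (sumHom Q₁ Q₂ (oRefl Q₁ a ha, 1)) = _
    rw [e, orthInvariant_oRefl, orthInvariant_oRefl]
    simp only [hv]
  exact DFunLike.congr_fun key g

end Sum

section Stab

variable {F V : Type*} [Field F] [AddCommGroup V] [Module F V] [FiniteDimensional F V]
variable {Q : QuadraticForm F V}

/-- Setwise stabiliser of a subspace in the orthogonal group. -/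
def orthStab (Q : QuadraticForm F V) (W : Submodule F V) : Subgroup (orth Q) where
  carrier := {g | ∀ w, w ∈ W ↔ (g : V ≃ₗ[F] V) w ∈ W}
  one_mem' := fun _ => Iff.rfl
  mul_mem' := fun {a b} ha hb w => (hb w).trans (ha _)
  inv_mem' := fun {a} ha w => by
    have := ha (((a⁻¹ : orth Q) : V ≃ₗ[F] V) w)
    rw [Subgroup.coe_inv, LinearEquiv.coe_inv, LinearEquiv.apply_symm_apply] at this
    exact this.symm

omit [FiniteDimensional F V] in
theorem map_eq_of_mem_orthStab {W : Submodule F V} {g : orth Q} (hg : g ∈ orthStab Q W) :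
    W.map (g : V ≃ₗ[F] V).toLinearMap = W := by
  ext w
  constructor
  · rintro ⟨x, hx, rfl⟩; exact (hg x).1 hx
  · intro hw
    exact ⟨(g : V ≃ₗ[F] V).symm w, (hg _).2 (by rwa [LinearEquiv.apply_symm_apply]),
      LinearEquiv.apply_symm_apply _ _⟩

omit [FiniteDimensional F V] in
theorem mem_orthStab_of_map_le [FiniteDimensional F V] {W : Submodule F V} {g : orth Q}
    (h : ∀ w ∈ W, (g : V ≃ₗ[F] V) w ∈ W) : g ∈ orthStab Q W := by
  have e : W.map (g : V ≃ₗ[F] V).toLinearMap = W :=
    Submodule.eq_of_le_of_finrank_le (by rintro _ ⟨x, hx, rfl⟩; exact h x hx)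
      (le_of_eq (LinearEquiv.finrank_map_eq _ W).symm)
  refine fun w => ⟨h w, fun hw => ?_⟩
  rw [← e] at hw
  obtain ⟨x, hx, hxw⟩ := hw
  rwa [← (g : V ≃ₗ[F] V).injective hxw]

theorem oRefl_mem_orthStab {W : Submodule F V} {a : V} (ha : Q a ≠ 0)
    (h : a ∈ W ∨ ∀ w ∈ W, polar Q w a = 0) : oRefl Q a ha ∈ orthStab Q W :=
  mem_orthStab_of_map_le fun w hw => by
    show refl Q a ha w ∈ W
    rcases h with h | h
    · rw [refl_apply]; exact W.sub_mem hw (W.smul_mem _ h)
    · rwa [refl_eq_self Q a ha (h w hw)]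

variable [Finite F]

theorem inf_polarPerp_perp (hQ : (polarBilin Q).Nondegenerate) {X : Submodule F V}
    (h : X ⊓ polarPerp Q X = ⊥) : polarPerp Q X ⊓ polarPerp Q (polarPerp Q X) = ⊥ := by
  have e : polarPerp Q (polarPerp Q X) = X := by
    refine (Submodule.eq_of_le_of_finrank_le (fun x hx => mem_polarPerp.2 fun u hu => ?_) ?_).symm
    · rw [polar_comm]; exact mem_polarPerp.1 hu x hx
    · have := finrank_polarPerp hQ X
      have := finrank_polarPerp hQ (polarPerp Q X)
      omega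
  rw [e, inf_comm, h]

/-- Reflections in a nondegenerate subspace of dimension two or more realise every invariant. -/
theorem map_eq_top_of_refls (hQ : (polarBilin Q).Nondegenerate) (hR : reflGroup Q = orth Q)
    {X : Submodule F V} (hX : X ⊓ polarPerp Q X = ⊥) (hX2 : 2 ≤ Module.finrank F X)
    (P : Subgroup (orth Q)) (hP : ∀ a ∈ X, ∀ ha : Q a ≠ 0, oRefl Q a ha ∈ P) :
    P.map (orthInvariant hQ hR) = ⊤ := by
  have hp : ∀ x y : X, polar (Q.comp X.subtype) x y = polar Q (x : V) (y : V) := fun x y => by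
    simp [QuadraticMap.polar]
  have hl : ∀ x : X, (∀ y : X, polar Q (x : V) (y : V) = 0) → x = 0 := fun x hx => by
    have hm : (x : V) ∈ X ⊓ polarPerp Q X :=
      ⟨x.2, mem_polarPerp.2 fun y hy => by rw [polar_comm]; exact hx ⟨y, hy⟩⟩
    rw [hX, Submodule.mem_bot] at hm
    exact Subtype.ext hm
  have hQX : (polarBilin (Q.comp X.subtype)).Nondegenerate :=
    ⟨fun x hx => hl x fun y => (hp x y).symm.trans (hx y), fun y hy => hl y fun x =>
      by rw [QuadraticMap.polar_comm]; exact (hp x y).symm.trans (hy x)⟩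
  have key : ∀ c : F, ∀ hc : c ≠ 0,
      (sqMk hc, Multiplicative.ofAdd (1 : ZMod 2)) ∈ P.map (orthInvariant hQ hR) := fun c hc => by
    obtain ⟨a, ha⟩ := exists_represents hQX hX2 c
    have ha' : Q (a : V) = c := ha
    refine ⟨oRefl Q (a : V) (ha'.symm ▸ hc), hP _ a.2 _, ?_⟩
    rw [orthInvariant_oRefl]
    simp only [ha']
  refine orth_invariant_cover (c := sqMk (one_ne_zero (α := F))) (fun s => ?_) (key 1 one_ne_zero)
  obtain ⟨u, rfl⟩ := sqHom_surjective s
  have := (P.map (orthInvariant hQ hR)).mul_mem (key u u.ne_zero) (key 1 one_ne_zero)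
  rw [Prod.mk_mul_mk, (sqMk_eq_one_iff (one_ne_zero (α := F))).2 IsSquare.one, mul_one,
    show Multiplicative.ofAdd (1 : ZMod 2) * Multiplicative.ofAdd 1 = 1 by decide] at this
  rwa [sqMk, Units.mk0_val] at this

theorem orthStab_map_top (hQ : (polarBilin Q).Nondegenerate) (hR : reflGroup Q = orth Q)
    (hn : 3 ≤ Module.finrank F V) {W : Submodule F V} (hW : W ⊓ polarPerp Q W = ⊥) :
    (orthStab Q W).map (orthInvariant hQ hR) = ⊤ := by
  rcases le_or_gt 2 (Module.finrank F W) with h | h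
  · exact map_eq_top_of_refls hQ hR hW h _ fun a ha ha0 => oRefl_mem_orthStab ha0 (Or.inl ha)
  · have := finrank_polarPerp hQ W
    exact map_eq_top_of_refls hQ hR (inf_polarPerp_perp hQ hW) (by omega) _
      fun a ha ha0 => oRefl_mem_orthStab ha0 (Or.inr fun w hw => mem_polarPerp.1 ha w hw)

omit [Finite F] in
/-- Scalings of a hyperbolic plane inside the stabiliser of a singular subspace. -/
theorem singular_stab_scale (hQ : (polarBilin Q).Nondegenerate) (hR : reflGroup Q = orth Q)
    {W : Submodule F V} (hW0 : W ≠ ⊥) (hW : ∀ w ∈ W, Q w = 0) (s : SqClass F) :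
    (s, (1 : Multiplicative (ZMod 2))) ∈ (orthStab Q W).map (orthInvariant hQ hR) := by
  obtain ⟨e, heW, he0⟩ := Submodule.exists_mem_ne_zero_of_ne_bot hW0
  obtain ⟨f, hf, hef⟩ := exists_pair hQ he0 (hW e heW)
  obtain ⟨u, rfl⟩ := sqHom_surjective s
  obtain ⟨g, hg, hgx⟩ := exists_pair_scale hQ hR (hW e heW) hf hef u.ne_zero
  refine ⟨g, mem_orthStab_of_map_le fun w hw => ?_, by rw [hg, sqMk, Units.mk0_val]⟩
  rw [hgx, polar_eq_zero_of_singular hW hw heW, mul_zero, zero_smul, add_zero]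
  exact W.add_mem hw (W.smul_mem _ heW)

theorem singular_stab_map_top (hQ : (polarBilin Q).Nondegenerate) (hR : reflGroup Q = orth Q)
    {W : Submodule F V} (hW0 : W ≠ ⊥) (hW : ∀ w ∈ W, Q w = 0)
    (hk : 2 * Module.finrank F W < Module.finrank F V) :
    (orthStab Q W).map (orthInvariant hQ hR) = ⊤ := by
  obtain ⟨a, haW, ha⟩ : ∃ a ∈ polarPerp Q W, Q a ≠ 0 := by
    by_contra hc
    push Not at hc
    have hle : polarPerp Q W ≤ polarPerp Q (polarPerp Q W) := fun x hx =>
      mem_polarPerp.2 fun y hy => polar_eq_zero_of_singular hc hy hx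
    have := Submodule.finrank_mono hle
    have := finrank_polarPerp hQ W
    have := finrank_polarPerp hQ (polarPerp Q W)
    omega
  exact orth_invariant_cover (singular_stab_scale hQ hR hW0 hW)
    ⟨oRefl Q a ha, oRefl_mem_orthStab ha (Or.inr fun w hw => mem_polarPerp.1 haW w hw),
      orthInvariant_oRefl hQ hR ha⟩

/-- Two subspaces in one orbit of `O` are in one orbit of `Ω` if a stabiliser covers. -/
theorem exists_omega_map_eq (hQ : (polarBilin Q).Nondegenerate) (hR : reflGroup Q = orth Q)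
    {U W : Submodule F V} (hW : (orthStab Q W).map (orthInvariant hQ hR) = ⊤) {g : orth Q}
    (hg : U.map (g : V ≃ₗ[F] V).toLinearMap = W) :
    ∃ x : orth Q, x ∈ commutator (orth Q) ∧ U.map (x : V ≃ₗ[F] V).toLinearMap = W := by
  obtain ⟨h, hh, hc⟩ := exists_mul_mem_commutator hQ hR _ hW g
  refine ⟨h * g, hc, ?_⟩
  rw [show ((h * g : orth Q) : V ≃ₗ[F] V).toLinearMap =
    (h : V ≃ₗ[F] V).toLinearMap.comp (g : V ≃ₗ[F] V).toLinearMap from rfl, Submodule.map_comp, hg,
    map_eq_of_mem_orthStab hh]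

/-- An isometry preserves a class of maximal singular subspaces iff its Dickson invariant vanishes. -/
theorem maxSing_class_iff (hQ : (polarBilin Q).Nondegenerate) (hR : reflGroup Q = orth Q) {m : ℕ}
    (hV : Module.finrank F V = 2 * m) {U : Submodule F V} (hU : IsMaxSing Q m U) (g : orth Q) :
    Even (m - Module.finrank F ↥(U ⊓ U.map (g : V ≃ₗ[F] V).toLinearMap)) ↔
      dicksonHom hQ hR g = 1 := by
  have hmax : ∀ (x : orth Q) {W : Submodule F V}, IsMaxSing Q m W →
      IsMaxSing Q m (W.map (x : V ≃ₗ[F] V).toLinearMap) := fun x W hW =>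
    ⟨by rw [LinearEquiv.finrank_map_eq]; exact hW.1, by
      rintro _ ⟨w, hw, rfl⟩
      rw [LinearEquiv.coe_coe, x.2 w, hW.2 w hw]⟩
  have hgc : g ∈ Subgroup.closure {x : orth Q | ∃ (a : V) (ha : Q a ≠ 0), x = oRefl Q a ha} := by
    rw [closure_oRefl hR]; trivial
  have main : ∀ x : orth Q, x ∈ Subgroup.closure {x : orth Q | ∃ (a : V) (ha : Q a ≠ 0), x = oRefl Q a ha} →
      (Even (m - Module.finrank F ↥(U ⊓ U.map (x : V ≃ₗ[F] V).toLinearMap)) ↔
        dicksonHom hQ hR x = 1) := by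
    intro x hx
    have step : ∀ (a : V) (ha : Q a ≠ 0) (y : orth Q),
        (Even (m - Module.finrank F ↥(U ⊓ U.map (y : V ≃ₗ[F] V).toLinearMap)) ↔
          dicksonHom hQ hR y = 1) →
        (Even (m - Module.finrank F ↥(U ⊓ U.map ((oRefl Q a ha * y : orth Q) : V ≃ₗ[F] V).toLinearMap)) ↔
          dicksonHom hQ hR (oRefl Q a ha * y) = 1) := by
      intro a ha y ih
      obtain ⟨W, hWdef⟩ : ∃ W, W = U.map (y : V ≃ₗ[F] V).toLinearMap := ⟨_, rfl⟩
      rw [← hWdef] at ih
      have hW : IsMaxSing Q m W := hWdef ▸ hmax y hU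
      have hW' := hmax (oRefl Q a ha) hW
      have e : U.map ((oRefl Q a ha * y : orth Q) : V ≃ₗ[F] V).toLinearMap =
          W.map (oRefl Q a ha : V ≃ₗ[F] V).toLinearMap := by
        rw [hWdef, ← Submodule.map_comp]; rfl
      have hadj : Module.finrank F ↥(W ⊓ W.map (oRefl Q a ha : V ≃ₗ[F] V).toLinearMap) + 1 = m := by
        have hfix : W ⊓ W.map (oRefl Q a ha : V ≃ₗ[F] V).toLinearMap =
            W ⊓ LinearMap.ker (polarBilin Q a) := by
          ext w
          constructor
          · rintro ⟨hwW, u, hu, huw⟩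
            refine ⟨hwW, ?_⟩
            have he : refl Q a ha u = w := huw
            show polar Q a w = 0
            by_contra hne
            have hu2 : polar Q u a ≠ 0 := fun h0 => hne (by
              rw [← he, refl_eq_self Q a ha h0, polar_comm]; exact h0)
            have haW : a ∈ W := by
              have : ((Q a)⁻¹ * polar Q u a) • a ∈ W := by
                have : u - w = ((Q a)⁻¹ * polar Q u a) • a := by rw [← he, refl_apply]; abel
                rw [← this]; exact W.sub_mem hu hwW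
              have h' := W.smul_mem ((Q a)⁻¹ * polar Q u a)⁻¹ this
              rwa [inv_smul_smul₀ (mul_ne_zero (inv_ne_zero ha) hu2)] at h'
            exact ha (hW.2 a haW)
          · rintro ⟨hwW, hw⟩
            exact ⟨hwW, w, hwW, refl_eq_self Q a ha (by rw [polar_comm]; exact hw)⟩
        rw [hfix]
        have hne : ¬ W ≤ LinearMap.ker (polarBilin Q a) := fun h => ha (hW.2 a (by
          rw [← polarPerp_eq_self hQ hV hW]
          exact mem_polarPerp.2 fun w hw => by rw [polar_comm]; exact h hw))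
        have h1 := Submodule.finrank_sup_add_finrank_inf_eq W (LinearMap.ker (polarBilin Q a))
        have h2 := LinearMap.finrank_range_add_finrank_ker (polarBilin Q a)
        have h3 : Module.finrank F (LinearMap.range (polarBilin Q a)) ≤ 1 :=
          le_trans (Submodule.finrank_le _) (by simp)
        have h4 := Submodule.finrank_lt_finrank_of_lt
          (lt_of_le_of_ne (inf_le_left : W ⊓ LinearMap.ker (polarBilin Q a) ≤ W)
            fun h => hne (h ▸ inf_le_right))
        have h5 := Submodule.finrank_le (W ⊔ LinearMap.ker (polarBilin Q a))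
        have := hW.1
        change _ = _ + Module.finrank F (LinearMap.ker (polarBilin Q a)) at h1
        omega
      have hflip : Even (m - Module.finrank F ↥(U ⊓ W.map (oRefl Q a ha : V ≃ₗ[F] V).toLinearMap)) ↔
          ¬ Even (m - Module.finrank F ↥(U ⊓ W)) := by
        have h := adjacent_parity hQ hV hW hW' hU hadj
        rw [inf_comm U, inf_comm U]
        have l1 : Module.finrank F ↥(W ⊓ U) ≤ m := hW.1 ▸ Submodule.finrank_mono inf_le_left
        have l2 : Module.finrank F ↥(W.map (oRefl Q a ha : V ≃ₗ[F] V).toLinearMap ⊓ U) ≤ m :=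
          hW'.1 ▸ Submodule.finrank_mono inf_le_left
        rw [Nat.even_iff, Nat.even_iff]
        omega
      rw [e, hflip, ih, map_mul,
        show dicksonHom hQ hR (oRefl Q a ha) = Multiplicative.ofAdd 1 from dicksonHom_refl hQ hR ha]
      generalize dicksonHom hQ hR y = d
      revert d
      decide
    induction hx using Subgroup.closure_induction_left with
    | one =>
      rw [map_one, OneMemClass.coe_one,
        show ((1 : V ≃ₗ[F] V)).toLinearMap = LinearMap.id from rfl, Submodule.map_id, inf_idem, hU.1]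
      simp
    | mul_left s hs y _ ih => obtain ⟨a, ha, rfl⟩ := hs; exact step a ha y ih
    | inv_mul_cancel s hs y _ ih =>
      obtain ⟨a, ha, rfl⟩ := hs
      rw [inv_eq_of_mul_eq_one_left (oRefl_mul_self a ha)]
      exact step a ha y ih
  exact main g hgc

end Stab

section Matrix

variable {F : Type*} [Field F] [Finite F]

/-- The first-coordinate maximal singular subspace, as a kernel. -/
theorem isMaxSing_ker_inr (m : ℕ) :
    IsMaxSing (matQuad (plusMat m F)) m
      (LinearMap.ker (LinearMap.funLeft F F (Sum.inr : Fin m → Fin m ⊕ Fin m))) := by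
  refine ⟨?_, fun v hv => ?_⟩
  · have h := LinearMap.finrank_range_add_finrank_ker
      (LinearMap.funLeft F F (Sum.inr : Fin m → Fin m ⊕ Fin m))
    rw [LinearMap.range_eq_top.2 (LinearMap.funLeft_surjective_of_injective F F _ Sum.inr_injective),
      finrank_top, Module.finrank_fintype_fun_eq_card, Module.finrank_fintype_fun_eq_card,
      Fintype.card_sum, Fintype.card_fin] at h
    omega
  · rw [show matQuad (plusMat m F) v = Cfsg.quadFormPlus m F v from congrFun (coe_matQuad_plus m) _]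
    refine Finset.sum_eq_zero fun i _ => ?_
    rw [show v (Sum.inr i) = 0 from congrFun hv i, mul_zero]

end Matrix

end CfsgLib.Geometry
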