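import Cfsg.Prelude.Def_GeometricClasses
import Cfsg.Agent.Lib.Geometry.OmegaTrans

/-! Subspace stabilisers inside `omegaGL`, and Siegel elements separating them. -/

set_option autoImplicit false

namespace CfsgLib.Geometry

open QuadraticMap

variable {F : Type*} [Field F] {ι : Type} [Fintype ι] [DecidableEq ι]

theorem exists_quadraticForm {Q : (ι → F) → F} (hQ : Cfsg.Geo.IsNondegenerateQuadraticForm Q) :
    ∃ Q' : QuadraticForm F (ι → F), ⇑Q' = Q ∧ (polarBilin Q').Nondegenerate := by
  refine ⟨QuadraticMap.ofPolar Q (fun c v => by rw [hQ.smul, smul_eq_mul, _root_.sq])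
    hQ.polar_bilinear.add_left (fun c x y => by rw [smul_eq_mul]; exact hQ.polar_bilinear.smul_left c x y),
    rfl, ?_, ?_⟩
  · intro x hx
    by_contra h0
    obtain ⟨y, hy⟩ := (hQ.nondegenerate x h0).2
    exact hy (hx y)
  · intro x hx
    by_contra h0
    obtain ⟨y, hy⟩ := (hQ.nondegenerate x h0).1
    exact hy (hx y)

variable (Q : QuadraticForm F (ι → F))

/-- `orth` inside the matrix general linear group. -/
noncomputable def orthToGL : orth Q →* Matrix.GeneralLinearGroup ι F :=
  (Cfsg.isometryGroup F ⇑Q).subtype.comp (isomEquiv Q).symm.toMonoidHom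

theorem orthToGL_injective : Function.Injective (orthToGL Q) :=
  (Cfsg.isometryGroup F ⇑Q).subtype_injective.comp (isomEquiv Q).symm.injective

theorem orthToGL_mulVec (g : orth Q) (v : ι → F) :
    ((orthToGL Q g : Matrix.GeneralLinearGroup ι F) : Matrix ι ι F).mulVec v =
      (g : (ι → F) ≃ₗ[F] (ι → F)) v :=
  isomEquiv_symm_mulVec Q g v

theorem omegaGL_eq_map :
    Cfsg.Geo.omegaGL ⇑Q = (commutator (orth Q)).map (orthToGL Q) := by
  have hsur : (⊤ : Subgroup (orth Q)) =
      (⊤ : Subgroup (Cfsg.isometryGroup F ⇑Q)).map (isomEquiv Q).toMonoidHom :=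
    (Subgroup.map_top_of_surjective _ (isomEquiv Q).surjective).symm
  rw [Cfsg.Geo.omegaGL, Cfsg.Omega, commutator_def, commutator_def, hsur, ← Subgroup.map_commutator,
    Subgroup.map_map]
  congr 1
  ext g : 1
  exact congrArg Subtype.val ((isomEquiv Q).symm_apply_apply g).symm

theorem stab_omegaGL_eq_map (W : Submodule F (ι → F)) :
    Cfsg.Geo.subspaceStabilizer W ⊓ Cfsg.Geo.omegaGL ⇑Q =
      (orthStab Q W ⊓ commutator (orth Q)).map (orthToGL Q) := by
  rw [omegaGL_eq_map]
  refine le_antisymm ?_ ?_
  · rintro _ ⟨hs, x, hx, rfl⟩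
    refine ⟨x, ⟨fun w => ?_, hx⟩, rfl⟩
    rw [← orthToGL_mulVec]
    exact hs w
  · rintro _ ⟨x, ⟨hs, hx⟩, rfl⟩
    refine ⟨fun w => ?_, x, hx, rfl⟩
    show w ∈ W ↔ ((orthToGL Q x : Matrix.GeneralLinearGroup ι F) : Matrix ι ι F).mulVec w ∈ W
    rw [orthToGL_mulVec]
    exact hs w

/-- A subgroup strictly between a stabiliser and `Ω`. -/
theorem exists_between_map {H : Subgroup (Matrix.GeneralLinearGroup ι F)}
    (K : Subgroup (orth Q))
    (hle : H ≤ ((K ⊓ commutator (orth Q)).map (orthToGL Q)))
    (x : orth Q) (hxK : x ∈ K) (hxC : x ∈ commutator (orth Q)) (hxH : orthToGL Q x ∉ H)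
    (y : orth Q) (hyC : y ∈ commutator (orth Q)) (hyK : y ∉ K) :
    ∃ M : Subgroup (Matrix.GeneralLinearGroup ι F), H < M ∧ M < Cfsg.Geo.omegaGL ⇑Q := by
  refine ⟨_, lt_of_le_of_ne hle fun h => hxH (h ▸ Subgroup.mem_map_of_mem _ ⟨hxK, hxC⟩), ?_⟩
  rw [omegaGL_eq_map, Subgroup.map_lt_map_iff_of_injective (orthToGL_injective Q)]
  exact lt_of_le_of_ne inf_le_right fun h => hyK (h.symm ▸ hyC : y ∈ K ⊓ commutator (orth Q)).1

variable {Q}

/-- The Siegel element of a singular vector, as an element of `Ω`. -/
theorem exists_omega_siegel [Finite F] (hQ : (polarBilin Q).Nondegenerate)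
    (hn : 5 ≤ Fintype.card ι) {u w : ι → F} (hu : Q u = 0) (huw : polar Q u w = 0) :
    ∃ s : orth Q, s ∈ commutator (orth Q) ∧ ∀ x, (s : (ι → F) ≃ₗ[F] (ι → F)) x =
      x + polar Q x u • w - (polar Q x w + Q w * polar Q x u) • u := by
  have hn' : 5 ≤ Module.finrank F (ι → F) := by simpa using hn
  have hC := commutator_eq_siegel hQ (by omega) (splitSingular_of hQ (Or.inl (by omega)))
    (reflGroup_eq_orth hQ (Or.inl (by omega)))
  refine ⟨⟨siegel Q u w hu huw, siegel_mem_orth Q u w hu huw⟩, ?_, fun x => ?_⟩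
  · rw [hC, Subgroup.mem_subgroupOf]
    exact siegel_mem u w hu huw
  · exact (siegel_apply Q u w hu huw x).trans (by module)

/-- A Siegel element on `u` preserving every subspace through `u` orthogonal to `u`,
and moving `x` out of `U`. -/
theorem exists_separating [Finite F] (hQ : (polarBilin Q).Nondegenerate)
    (hn : 5 ≤ Fintype.card ι) {u x : ι → F} (hu0 : u ≠ 0) (hu : Q u = 0)
    (hxu : polar Q x u = 0) (hx : x ∉ Submodule.span F {u}) (U : Submodule F (ι → F)) (hxU : x ∈ U)
    (huU : u ∉ U) :
    ∃ s : orth Q, s ∈ commutator (orth Q) ∧ (s : (ι → F) ≃ₗ[F] (ι → F)) x ∉ U ∧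
      ∀ V' : Submodule F (ι → F), u ∈ V' → (∀ z ∈ V', polar Q z u = 0) → s ∈ orthStab Q V' := by
  obtain ⟨w, hw, hwx⟩ := exists_polar hQ (Submodule.span F {u}) hx 1
  obtain ⟨s, hs, hsx⟩ := exists_omega_siegel hQ hn hu
    (by rw [polar_comm]; exact hw u (Submodule.mem_span_singleton_self u))
  refine ⟨s, hs, fun hmem => huU ?_, fun V' huV hV => mem_orthStab_of_map_le fun z hz => ?_⟩
  · rw [hsx, hxu, polar_comm Q x w, hwx, zero_smul, add_zero, mul_zero, add_zero, one_smul] at hmem
    simpa using U.sub_mem hxU hmem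
  · rw [hsx, hV z hz, zero_smul, add_zero]
    exact V'.sub_mem hz (V'.smul_mem _ huV)

/-- The stabiliser of a plus plane fixes a line when the field has at most three elements. -/
theorem exists_plane_between [Finite F] (hq : Nat.card F ≤ 3) (hQ : (polarBilin Q).Nondegenerate)
    (hn : 5 ≤ Fintype.card ι) {W : Submodule F (ι → F)} (hdim : Module.finrank F W = 2)
    (hnd : ∀ w ∈ W, w ≠ 0 → ∃ x ∈ W, polar Q x w ≠ 0) {e : ι → F} (heW : e ∈ W) (he0 : e ≠ 0)
    (he : Q e = 0) :
    ∃ M : Subgroup (Matrix.GeneralLinearGroup ι F),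
      Cfsg.Geo.subspaceStabilizer W ⊓ Cfsg.Geo.omegaGL ⇑Q < M ∧ M < Cfsg.Geo.omegaGL ⇑Q := by
  haveI := Fintype.ofFinite F
  obtain ⟨x₀, hx₀W, hx₀⟩ := hnd e heW he0
  set t := (polar Q x₀ e)⁻¹
  set f := t • x₀ - (t * t * Q x₀) • e
  have hf : Q f = 0 := by
    simp only [f]
    rw [CfsgLib.Geometry.map_sub', map_smul', map_smul', polar_smul_left', polar_smul_right', he]
    simp only [t]
    field_simp
    ring
  have hfW : f ∈ W := W.sub_mem (W.smul_mem _ hx₀W) (W.smul_mem _ heW)
  have hef : polar Q e f = 1 := by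
    simp only [f]
    rw [polar_sub_right, polar_smul_right', polar_smul_right', polar_self', he, polar_comm Q e x₀]
    simp only [t]
    field_simp
    ring
  have hfe : polar Q f e = 1 := by rw [polar_comm]; exact hef
  have hee : polar Q e e = 0 := by rw [polar_self', he, mul_zero]
  have hff : polar Q f f = 0 := by rw [polar_self', hf, mul_zero]
  clear_value f
  have hWsp : W = Submodule.span F ({e, f} : Set (ι → F)) := by
    refine (Submodule.eq_of_le_of_finrank_le (Submodule.span_le.2 ?_) ?_).symm
    · rintro z (rfl | rfl) <;> assumption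
    · have hli : LinearIndependent F ![e, f] := LinearIndependent.pair_iff.2 fun a b hab => by
        have h1 := congrArg (fun z => polar Q z f) hab
        have h2 := congrArg (fun z => polar Q z e) hab
        simp only [polar_add_left, polar_smul_left', hef, hff, hfe, hee, polar_zero_left] at h1 h2
        exact ⟨by linear_combination h1, by linear_combination h2⟩
      rw [hdim]
      have h := finrank_span_eq_card hli
      rw [Matrix.range_cons_cons_empty, Fintype.card_fin] at h
      rw [h]
  set v := e + f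
  have hvW : v ∈ W := W.add_mem heW hfW
  have hv1 : Q v = 1 := by simp only [v]; rw [map_add', he, hf, hef]; ring
  have hn' : 5 ≤ Module.finrank F (ι → F) := by simpa using hn
  obtain ⟨u, hu0, hu, huP⟩ := exists_singular_pairPerp hQ hn' he hf hef
  obtain ⟨hue, huf⟩ := mem_pairPerp.1 huP
  have huW : u ∉ W := fun h => by
    rw [hWsp] at h
    exact hu0 (pair_nondeg he hf hef u h fun s hs => by
      obtain ⟨a, b, rfl⟩ := Submodule.mem_span_pair.1 hs
      rw [polar_add_right, polar_smul_right', polar_smul_right', polar_comm Q u e, polar_comm Q u f,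
        hue, huf]; ring)
  obtain ⟨s₁, hs₁, hs₁x⟩ := exists_omega_siegel hQ hn hu (w := e - f)
    (by rw [polar_sub_right, polar_comm Q u e, polar_comm Q u f, hue, huf, sub_zero])
  obtain ⟨s₂, hs₂, hs₂x⟩ := exists_omega_siegel hQ hn hu (w := e)
    (by rw [polar_comm]; exact hue)
  refine exists_between_map Q (orthStab Q (Submodule.span F {v})) ?_ s₁ ?_ hs₁ ?_ s₂ hs₂ ?_
  · rw [stab_omegaGL_eq_map]
    refine Subgroup.map_mono fun g hg => ⟨mem_orthStab_of_map_le fun z hz => ?_, hg.2⟩
    obtain ⟨c, rfl⟩ := Submodule.mem_span_singleton.1 hz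
    rw [map_smul]
    refine Submodule.smul_mem _ c ?_
    have hgv := (hg.1 v).1 hvW
    rw [hWsp, Submodule.mem_span_pair] at hgv
    obtain ⟨a, b, hab⟩ := hgv
    have hab1 : a * b = 1 := by
      have := g.2 v
      rw [← hab, hv1, map_add', map_smul', map_smul', polar_smul_left', polar_smul_right', he, hf,
        hef] at this
      linear_combination this
    have hba : b = a := by
      have hsq : a * a = 1 := by
        have ha : a ≠ 0 := fun h => by rw [h, zero_mul] at hab1; exact zero_ne_one hab1
        have hc : Fintype.card F ≤ 3 := by rw [← Nat.card_eq_fintype_card]; exact hq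
        rcases (show Fintype.card F = 2 ∨ Fintype.card F = 3 by
          have := Fintype.one_lt_card (α := F); omega) with h | h
        · have := FiniteField.pow_card_sub_one_eq_one a ha
          rw [h, pow_one] at this
          rw [this, one_mul]
        · have := FiniteField.pow_card_sub_one_eq_one a ha
          rw [h] at this
          rwa [_root_.sq] at this
      exact mul_left_cancel₀ (fun h => by rw [h, zero_mul] at hab1; exact zero_ne_one hab1)
        (hab1.trans hsq.symm)
    rw [← hab, hba, ← smul_add]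
    exact Submodule.smul_mem _ _ (Submodule.mem_span_singleton_self v)
  · refine mem_orthStab_of_map_le fun z hz => ?_
    obtain ⟨c, rfl⟩ := Submodule.mem_span_singleton.1 hz
    rw [hs₁x]
    have h1 : polar Q (c • v) u = 0 := by
      simp only [v]; rw [polar_smul_left', polar_add_left, hue, huf]; ring
    have h2 : polar Q (c • v) (e - f) = 0 := by
      simp only [v]; rw [polar_smul_left', polar_add_left, polar_sub_right, polar_sub_right, hee,
        hef, hfe, hff]; ring
    rw [h1, h2, zero_smul, add_zero, mul_zero, add_zero, zero_smul, sub_zero]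
    exact hz
  · intro h
    have := (h.1 e).1 heW
    change ((orthToGL Q s₁ : Matrix.GeneralLinearGroup ι F) : Matrix ι ι F).mulVec e ∈ W at this
    rw [orthToGL_mulVec, hs₁x, hue, polar_sub_right, hee, hef] at this
    refine huW ?_
    simpa using W.sub_mem this heW
  · intro h
    have := (h v).1 (Submodule.mem_span_singleton_self v)
    rw [hs₂x] at this
    simp only [v] at this
    rw [polar_add_left, polar_add_left, hue, huf, hee, hfe] at this
    obtain ⟨c, hc⟩ := Submodule.mem_span_singleton.1 this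
    refine huW ?_
    have : u = (e + f) - c • (e + f) := by
      rw [hc]; module
    rw [this]
    exact W.sub_mem hvW (W.smul_mem _ hvW)

end CfsgLib.Geometry
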