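import Cfsg.Agent.Lib.Geometry.Quadratic

/-! The orthogonal group is generated by reflections (outside the exceptional case). -/

set_option autoImplicit false

namespace CfsgLib.Geometry

open QuadraticMap

variable {F V : Type*} [Field F] [AddCommGroup V] [Module F V] [FiniteDimensional F V]

/-- Every singular vector orthogonal to a singular `e` can be split, modulo `e`, into
non-singular vectors orthogonal to `e`. -/
def SplitSingular (Q : QuadraticForm F V) : Prop :=
  ∀ e u : V, e ≠ 0 → Q e = 0 → polar Q e u = 0 → Q u = 0 → u ∈ Submodule.span F {e} ∨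
    ∃ w, polar Q e w = 0 ∧ Q w ≠ 0 ∧ Q w ≠ polar Q u w

theorem splitSingular_of {Q : QuadraticForm F V} (hQ : (polarBilin Q).Nondegenerate)
    (h : Module.finrank F V ≠ 4 ∨ ∃ a : F, a ≠ 0 ∧ a ≠ 1) : SplitSingular Q := by
  intro e u he0 he heu hu
  by_cases hue : u ∈ Submodule.span F {e}
  · exact Or.inl hue
  right
  have hee : polar Q e e = 0 := by rw [polar_self', he, mul_zero]
  have huu : polar Q u u = 0 := by rw [polar_self', hu, mul_zero]
  obtain ⟨u', hu', huu', hu'e⟩ := exists_partner hQ (Submodule.span F {e}) hue hu (by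
    intro z hz
    obtain ⟨c, rfl⟩ := Submodule.mem_span_singleton.1 hz
    rw [polar_smul_right', polar_comm, heu, mul_zero])
  have heu' : polar Q e u' = 0 := by
    rw [polar_comm]; exact hu'e e (Submodule.mem_span_singleton_self e)
  have hu'u' : polar Q u' u' = 0 := by rw [polar_self', hu', mul_zero]
  by_cases hF : ∃ a : F, a ≠ 0 ∧ a ≠ 1
  · obtain ⟨a, ha0, ha1⟩ := hF
    refine ⟨a • u + u', by rw [polar_add_right, polar_smul_right', heu, heu']; ring, ?_, ?_⟩ <;>
      rw [map_add', map_smul', hu, hu', polar_smul_left', huu'] <;>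
      simp [polar_add_right, polar_smul_right', huu, huu', ha0, ha1]
  have hn : Module.finrank F V ≠ 4 := h.resolve_right hF
  obtain ⟨e', he', hee', he'H⟩ := exists_partner hQ (Submodule.span F {u, u'}) (e := e) (by
      intro hm
      obtain ⟨s, t, hst⟩ := Submodule.mem_span_pair.1 hm
      have h1 : t = 0 := by
        have := heu
        rw [← hst, polar_add_left, polar_smul_left', polar_smul_left', huu, polar_comm Q u' u, huu'] at this
        simpa using this
      have h2 : s = 0 := by
        have := heu'
        rw [← hst, polar_add_left, polar_smul_left', polar_smul_left', huu', hu'u'] at this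
        simpa using this
      exact he0 (by simp [← hst, h1, h2])) he (by
      intro z hz
      obtain ⟨s, t, rfl⟩ := Submodule.mem_span_pair.1 hz
      simp [polar_add_right, polar_smul_right', heu, heu'])
  have he'u : polar Q e' u = 0 := he'H u (Submodule.subset_span (by simp))
  have he'u' : polar Q e' u' = 0 := he'H u' (Submodule.subset_span (by simp))
  have he'e' : polar Q e' e' = 0 := by rw [polar_self', he', mul_zero]
  let v : Fin 4 → V := ![e, e', u, u']
  let H := Submodule.span F (Set.range v)
  have key : ∀ c : Fin 4 → F, polar Q (∑ i, c i • v i) e = c 1 ∧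
      polar Q (∑ i, c i • v i) e' = c 0 ∧ polar Q (∑ i, c i • v i) u = c 3 ∧
      polar Q (∑ i, c i • v i) u' = c 2 := fun c => by
    simp [Fin.sum_univ_four, v, polar_add_left, polar_smul_left', hee, he'e', huu, hu'u', heu, heu',
      he'u, he'u', huu', hee', polar_comm Q e' e, polar_comm Q u e, polar_comm Q u' e,
      polar_comm Q u e', polar_comm Q u' e', polar_comm Q u' u]
  have hli : LinearIndependent F v := Fintype.linearIndependent_iff.2 fun c hc i => by
    obtain ⟨k1, k2, k3, k4⟩ := key c
    rw [hc, QuadraticMap.polar_zero_left] at k1 k2 k3 k4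
    fin_cases i <;> simp [← k1, ← k2, ← k3, ← k4]
  have hvH : ∀ i, v i ∈ H := fun i => Submodule.subset_span (Set.mem_range_self i)
  have hz0 : ∀ z ∈ H, (∀ i, polar Q z (v i) = 0) → z = 0 := fun z hz hzv => by
    obtain ⟨c, rfl⟩ := (Submodule.mem_span_range_iff_exists_fun F).1 hz
    obtain ⟨k1, k2, k3, k4⟩ := key c
    have hc : c = 0 := by
      funext i
      fin_cases i
      · exact k2.symm.trans (hzv 1)
      · exact k1.symm.trans (hzv 0)
      · exact k4.symm.trans (hzv 3)
      · exact k3.symm.trans (hzv 2)
    simp [hc]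
  obtain ⟨x, hx⟩ : ∃ x, x ∉ H := by
    by_contra hc
    push Not at hc
    have : H = ⊤ := eq_top_iff.2 fun z _ => hc z
    have := finrank_span_eq_card hli
    rw [show Submodule.span F (Set.range v) = ⊤ from ‹H = ⊤›, finrank_top, Fintype.card_fin] at this
    exact hn this
  obtain ⟨w₀, hw₀, hw₀x⟩ := exists_polar hQ H hx 1
  have hw₀H : w₀ ∉ H := fun hm => by
    rw [hz0 w₀ hm (fun i => hw₀ _ (hvH i)), QuadraticMap.polar_zero_left] at hw₀x
    exact zero_ne_one hw₀x
  obtain ⟨w₁, hw₁, hw₁w₀⟩ := exists_polar hQ H hw₀H 1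
  have fin : ∀ w, (∀ z ∈ H, polar Q w z = 0) → Q w ≠ 0 →
      ∃ w, polar Q e w = 0 ∧ Q w ≠ 0 ∧ Q w ≠ polar Q u w := fun w hw hw0 =>
    ⟨w, by rw [polar_comm]; exact hw _ (hvH 0), hw0, by rwa [polar_comm Q u w, hw u (hvH 2)]⟩
  by_cases h0 : Q w₀ = 0
  · by_cases h1 : Q w₁ = 0
    · refine fin (w₁ + w₀) (fun z hz => by rw [polar_add_left, hw₁ z hz, hw₀ z hz, add_zero]) ?_
      rw [map_add', h0, h1, hw₁w₀]; simp
    · exact fin w₁ hw₁ h1
  · exact fin w₀ hw₀ h0

theorem siegel_mem_reflGroup {Q : QuadraticForm F V} (hsp : SplitSingular Q) (e w : V)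
    (he0 : e ≠ 0) (he : Q e = 0) (hw : polar Q e w = 0) :
    siegel Q e w he hw ∈ reflGroup Q := by
  have nonsing : ∀ (b : V) (hb : polar Q e b = 0), Q b ≠ 0 → siegel Q e b he hb ∈ reflGroup Q := by
    intro b hb hb0
    have hc : Q (b + Q b • e) ≠ 0 := by
      rwa [map_add', map_smul', he, polar_smul_right', polar_comm, hb, mul_zero, mul_zero, add_zero,
        add_zero]
    have hcQ : Q (b + Q b • e) = Q b := by
      rw [map_add', map_smul', he, polar_smul_right', polar_comm, hb, mul_zero, mul_zero, add_zero,
        add_zero]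
    have heq : siegel Q e b he hb = refl Q b hb0 * refl Q (b + Q b • e) hc := by
      refine LinearEquiv.ext fun v => ?_
      show _ = refl Q b hb0 (refl Q (b + Q b • e) hc v)
      rw [refl_apply, refl_apply, siegel_apply, hcQ, polar_sub_left, polar_smul_left',
        polar_add_right, polar_smul_right', polar_add_left, polar_smul_left', polar_self', hb]
      rw [show (Q b)⁻¹ * (polar Q v b - (Q b)⁻¹ * (polar Q v b + Q b * polar Q v e) * (2 * Q b + Q b * 0))
        = -((Q b)⁻¹ * polar Q v b) - 2 * polar Q v e by field_simp; ring]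
      match_scalars <;> field_simp <;> ring
    rw [heq]
    exact mul_mem (refl_mem_reflGroup Q b hb0) (refl_mem_reflGroup Q _ hc)
  by_cases hw0 : Q w ≠ 0
  · exact nonsing w hw hw0
  push Not at hw0
  rcases hsp e w he0 he hw hw0 with hspan | ⟨b, hb, hb0, hbne⟩
  · obtain ⟨c, rfl⟩ := Submodule.mem_span_singleton.1 hspan
    have : siegel Q e (c • e) he hw = 1 := LinearEquiv.ext fun v => by
      rw [siegel_apply, map_smul', he, polar_smul_right']
      show _ = v
      module
    rw [this]; exact one_mem _
  · have hb' : polar Q e (w - b) = 0 := by rw [polar_sub_right, hw, hb, sub_zero]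
    have heq : siegel Q e w he hw = siegel Q e (w - b) he hb' * siegel Q e b he hb := by
      refine LinearEquiv.ext fun v => ?_
      show siegelMap Q e w v = siegelMap Q e (w - b) (siegelMap Q e b v)
      rw [siegelMap_comp Q he hb' hb, sub_add_cancel]
    have hwb : Q (w - b) ≠ 0 := by
      rw [map_sub', hw0, zero_add]; exact sub_ne_zero.2 hbne
    rw [heq]
    exact mul_mem (nonsing _ hb' hwb) (nonsing b hb hb0)

theorem mem_reflGroup_of_fix {Q : QuadraticForm F V} (hQ : (polarBilin Q).Nondegenerate)
    (hsp : SplitSingular Q) (k : ℕ) :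
    ∀ T : Submodule F V, Module.finrank F V ≤ Module.finrank F T + k →
    ((∀ t ∈ T, (∀ s ∈ T, polar Q t s = 0) → t = 0) ∨
      (∀ d, (∀ t ∈ T, polar Q d t = 0) → Q d = 0 → d = 0)) →
    ∀ g ∈ orth Q, (∀ t ∈ T, g t = t) → g ∈ reflGroup Q := by
  induction k with
  | zero =>
    intro T hT _ g _ hfix
    have : T = ⊤ := Submodule.eq_top_of_finrank_eq (le_antisymm (Submodule.finrank_le T) (by simpa using hT))
    have hg1 : g = 1 := LinearEquiv.ext fun v => hfix v (this ▸ trivial)
    rw [hg1]; exact one_mem _
  | succ k ih =>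
    intro T hT hinv g hg hfix
    have hperpT : ∀ (v : V), ∀ t ∈ T, polar Q (g v) t = polar Q v t := fun v t ht => by
      conv_lhs => rw [← hfix t ht]
      exact orth_polar hg v t
    by_cases hiso : ∃ d, (∀ t ∈ T, polar Q d t = 0) ∧ Q d = 0 ∧ d ≠ 0
    · obtain ⟨e, heT, he, he0⟩ := hiso
      have hnd : ∀ t ∈ T, (∀ s ∈ T, polar Q t s = 0) → t = 0 :=
        hinv.resolve_right fun h => he0 (h e heT he)
      have hnot : ∀ z, z ≠ 0 → (∀ t ∈ T, polar Q z t = 0) → z ∉ T := fun z hz hzT hm =>
        hz (hnd z hm hzT)
      obtain ⟨f, hf, hef, hfT⟩ := exists_partner hQ T (hnot e he0 heT) he heT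
      have hee : polar Q e e = 0 := by rw [polar_self', he, mul_zero]
      have hff : polar Q f f = 0 := by rw [polar_self', hf, mul_zero]
      have hge : Q (g e) = 0 := by rw [mem_orth.1 hg, he]
      have hge0 : g e ≠ 0 := fun h => he0 (g.map_eq_zero_iff.1 h)
      have hgeT : ∀ t ∈ T, polar Q (g e) t = 0 := fun t ht => by rw [hperpT e t ht, heT t ht]
      have move : ∀ x y, Q x = 0 → Q y = 0 → polar Q x y ≠ 0 → (∀ t ∈ T, polar Q x t = 0) →
          (∀ t ∈ T, polar Q y t = 0) →
          ∃ r ∈ reflGroup Q, r x = y ∧ ∀ t ∈ T, r t = t := by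
        intro x y hx hy hxy hxT hyT
        have hd : Q (x - y) ≠ 0 := by rw [map_sub', hx, hy]; simpa using hxy
        refine ⟨refl Q (x - y) hd, refl_mem_reflGroup _ _ _, ?_, fun t ht => refl_eq_self _ _ _ ?_⟩
        · rw [refl_apply, map_sub', hx, hy, polar_sub_right, polar_self', hx]
          rw [show (0 + 0 - polar Q x y)⁻¹ * (2 * 0 - polar Q x y) = 1 by simp [hxy]]
          module
        · rw [polar_comm, polar_sub_left, hxT t ht, hyT t ht, sub_zero]
      obtain ⟨r, hr, hre, hrT⟩ : ∃ r ∈ reflGroup Q, r (g e) = e ∧ ∀ t ∈ T, r t = t := by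
        by_cases h1 : polar Q (g e) e ≠ 0
        · exact move _ _ hge he h1 hgeT heT
        push Not at h1
        obtain ⟨z, hzT, hze, hzge⟩ := exists_polar₂ hQ T (hnot e he0 heT) (hnot _ hge0 hgeT)
        let z' := z - (Q z / polar Q z e) • e
        have hz'e : polar Q z' e ≠ 0 := by
          simp only [z', polar_sub_left, polar_smul_left', hee, mul_zero, sub_zero]; exact hze
        have hz'ge : polar Q (g e) z' ≠ 0 := by
          simp only [z', polar_sub_right, polar_smul_right', h1, mul_zero, sub_zero]
          rwa [polar_comm]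
        have hz' : Q z' = 0 := by
          simp only [z', map_sub', map_smul', he, polar_smul_right']
          field_simp; ring
        have hz'T : ∀ t ∈ T, polar Q z' t = 0 := fun t ht => by
          simp [z', polar_sub_left, polar_smul_left', hzT t ht, heT t ht]
        obtain ⟨r1, hr1, h11, h12⟩ := move (g e) z' hge hz' hz'ge hgeT hz'T
        obtain ⟨r2, hr2, h21, h22⟩ := move z' e hz' he hz'e hz'T heT
        refine ⟨r2 * r1, mul_mem hr2 hr1, ?_, fun t ht => ?_⟩
        · show r2 (r1 (g e)) = e
          rw [h11, h21]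
        · show r2 (r1 t) = t
          rw [h12 t ht, h22 t ht]
      have hrO := reflGroup_le_orth Q hr
      let f₂ := r (g f)
      have hef₂ : polar Q e f₂ = 1 := by
        rw [show e = r (g e) from hre.symm, orth_polar hrO, orth_polar hg, hef]
      have hf₂ : Q f₂ = 0 := by rw [mem_orth.1 hrO, mem_orth.1 hg, hf]
      have hf₂T : ∀ t ∈ T, polar Q f₂ t = 0 := fun t ht => by
        rw [← hrT t ht, orth_polar hrO, hperpT f t ht, hfT t ht]
      let u := f₂ - f - polar Q f₂ f • e
      have hue : polar Q e u = 0 := by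
        simp only [u, polar_sub_right, polar_smul_right', hee, hef, hef₂]; ring
      have huf : polar Q f u = 0 := by
        simp only [u, polar_sub_right, polar_smul_right', hff, polar_comm Q f e, hef, polar_comm Q f f₂]
        ring
      have huT : ∀ t ∈ T, polar Q t u = 0 := fun t ht => by
        rw [polar_comm]
        simp [u, polar_sub_left, polar_smul_left', hf₂T t ht, hfT t ht, heT t ht]
      have hQu : Q u = -polar Q f₂ f := by
        simp only [u, map_sub', map_smul', he, hf, hf₂, polar_sub_left, polar_smul_right',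
          polar_comm Q f₂ e, polar_comm Q f e, hef, hef₂]
        ring
      let E := siegel Q e u he hue
      have hE : E ∈ reflGroup Q := siegel_mem_reflGroup hsp e u he0 he hue
      have hEe : E e = e := siegel_eq_self Q e u he hue hee hue
      have hET : ∀ t ∈ T, E t = t := fun t ht =>
        siegel_eq_self Q e u he hue (by rw [polar_comm]; exact heT t ht) (huT t ht)
      have hEf : E f = f₂ := by
        simp only [E, siegel_apply, polar_comm Q f e, hef, huf, hQu, u]
        module
      have hh : E⁻¹ * (r * g) ∈ reflGroup Q := by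
        refine ih (T ⊔ Submodule.span F {e, f}) ?_ (Or.inl ?_) _
          (mul_mem (inv_mem (reflGroup_le_orth Q hE)) (mul_mem hrO hg)) ?_
        · have hlt : T < T ⊔ Submodule.span F {e, f} := lt_of_le_of_ne le_sup_left fun h =>
            hnot e he0 heT (h ▸ Submodule.mem_sup_right (Submodule.subset_span (by simp)))
          have := Submodule.finrank_lt_finrank_of_lt hlt
          omega
        · intro z hz hzs
          obtain ⟨t, ht, y, hy, rfl⟩ := Submodule.mem_sup.1 hz
          obtain ⟨a, b, rfl⟩ := Submodule.mem_span_pair.1 hy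
          have ha := hzs f (Submodule.mem_sup_right (Submodule.subset_span (by simp)))
          have hb := hzs e (Submodule.mem_sup_right (Submodule.subset_span (by simp)))
          simp only [polar_add_left, polar_smul_left', hee, hff, hef, polar_comm Q f e,
            polar_comm Q t f, polar_comm Q t e, hfT t ht, heT t ht, mul_zero, mul_one, zero_add,
            add_zero] at ha hb
          subst ha hb
          simp only [zero_smul, add_zero] at hzs ⊢
          exact hnd t ht fun s hs => hzs s (Submodule.mem_sup_left hs)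
        · intro z hz
          obtain ⟨t, ht, y, hy, rfl⟩ := Submodule.mem_sup.1 hz
          obtain ⟨a, b, rfl⟩ := Submodule.mem_span_pair.1 hy
          show E.symm (r (g (t + (a • e + b • f)))) = t + (a • e + b • f)
          rw [LinearEquiv.symm_apply_eq]
          simp only [map_add, map_smul, hfix t ht, hrT t ht, hre, hEe, hET t ht, hEf, f₂]
      have : g = r⁻¹ * (E * (E⁻¹ * (r * g))) := by group
      rw [this]
      exact mul_mem (inv_mem hr) (mul_mem hE hh)
    · push Not at hiso
      by_cases hg1 : ∀ x, g x = x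
      · rw [show g = 1 from LinearEquiv.ext hg1]; exact one_mem _
      push Not at hg1
      obtain ⟨x, hx⟩ := hg1
      have hdT : ∀ t ∈ T, polar Q (x - g x) t = 0 := fun t ht => by
        rw [polar_sub_left, hperpT x t ht, sub_self]
      have hd : Q (x - g x) ≠ 0 := fun h =>
        hx (sub_eq_zero.1 (hiso _ hdT h)).symm
      have hrx : refl Q (x - g x) hd (g x) = x := by
        have e2 : polar Q (g x) (x - g x) = -Q (x - g x) := by
          rw [polar_sub_right, polar_self', map_sub', mem_orth.1 hg, polar_comm]; ring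
        rw [refl_apply, e2, mul_neg, inv_mul_cancel₀ hd]
        module
      have hrT : ∀ t ∈ T, refl Q (x - g x) hd t = t := fun t ht =>
        refl_eq_self _ _ _ (by rw [polar_comm]; exact hdT t ht)
      have hh : refl Q (x - g x) hd * g ∈ reflGroup Q := by
        refine ih (T ⊔ Submodule.span F {x}) ?_
          (Or.inr fun d hdT' h => hiso d (fun t ht => hdT' t (Submodule.mem_sup_left ht)) h) _
          (mul_mem (refl_mem_orth Q _ hd) hg) ?_
        · have hlt : T < T ⊔ Submodule.span F {x} := lt_of_le_of_ne le_sup_left fun h =>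
            hx (hfix x (h ▸ Submodule.mem_sup_right (Submodule.mem_span_singleton_self x)))
          have := Submodule.finrank_lt_finrank_of_lt hlt
          omega
        · intro z hz
          obtain ⟨t, ht, y, hy, rfl⟩ := Submodule.mem_sup.1 hz
          obtain ⟨a, rfl⟩ := Submodule.mem_span_singleton.1 hy
          show refl Q (x - g x) hd (g (t + a • x)) = t + a • x
          simp only [map_add, map_smul, hfix t ht, hrT t ht, hrx]
      have : g = (refl Q (x - g x) hd)⁻¹ * (refl Q (x - g x) hd * g) := by group
      rw [this]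
      exact mul_mem (inv_mem (refl_mem_reflGroup Q _ hd)) hh

/-- The orthogonal group is generated by reflections. -/
theorem reflGroup_eq_orth {Q : QuadraticForm F V} (hQ : (polarBilin Q).Nondegenerate)
    (h : Module.finrank F V ≠ 4 ∨ ∃ a : F, a ≠ 0 ∧ a ≠ 1) : reflGroup Q = orth Q :=
  le_antisymm (reflGroup_le_orth Q) fun g hg =>
    mem_reflGroup_of_fix hQ (splitSingular_of hQ h) (Module.finrank F V) ⊥ (by simp)
      (Or.inl fun t ht _ => (Submodule.mem_bot F).1 ht) g hg
      (fun t ht => by rw [(Submodule.mem_bot F).1 ht, map_zero])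

end CfsgLib.Geometry
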