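import Cfsg.Prelude.Def_ClassicalGeometry
import Cfsg.Agent.Lib.Geometry.ReflectionGen
import Cfsg.Agent.Lib.Geometry.MatrixEquiv

/-! Translation between `Cfsg.isometryGroup` and `orth`. -/

set_option autoImplicit false

namespace CfsgLib.Geometry

open Matrix QuadraticMap

variable {ι : Type} [Fintype ι] [DecidableEq ι] {F : Type*} [Field F]

/-- `Cfsg.isometryGroup F Q` as a subgroup of the linear equivalences. -/
noncomputable def isomEquiv (Q : QuadraticForm F (ι → F)) :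
    Cfsg.isometryGroup F ⇑Q ≃* orth Q where
  toFun g := ⟨glEquiv (g : Matrix.GeneralLinearGroup ι F), fun v => g.2 v v⟩
  invFun e := ⟨glEquiv.symm (e : (ι → F) ≃ₗ[F] (ι → F)), fun u v => by
    show Q (_ *ᵥ u) = Q u
    rw [Units.coeHom_apply, glEquiv_symm_mulVec]
    exact e.2 u⟩
  left_inv g := by ext : 1; simp
  right_inv e := by ext : 1; simp
  map_mul' a b := by ext : 1; simp

@[simp]
theorem isomEquiv_apply (Q : QuadraticForm F (ι → F)) (g : Cfsg.isometryGroup F ⇑Q) (v : ι → F) :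
    (isomEquiv Q g : (ι → F) ≃ₗ[F] (ι → F)) v =
      ((g : Matrix.GeneralLinearGroup ι F) : Matrix ι ι F) *ᵥ v := rfl

@[simp]
theorem isomEquiv_symm_mulVec (Q : QuadraticForm F (ι → F)) (e : orth Q) (v : ι → F) :
    (((isomEquiv Q).symm e : Matrix.GeneralLinearGroup ι F) : Matrix ι ι F) *ᵥ v =
      (e : (ι → F) ≃ₗ[F] (ι → F)) v :=
  glEquiv_symm_mulVec _ v

theorem isometry_eq_iff (Q : QuadraticForm F (ι → F)) (g : Cfsg.isometryGroup F ⇑Q)
    (e : orth Q) : isomEquiv Q g = e ↔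
      ∀ v, ((g : Matrix.GeneralLinearGroup ι F) : Matrix ι ι F) *ᵥ v = (e : (ι → F) ≃ₗ[F] (ι → F)) v := by
  rw [Subtype.ext_iff, LinearEquiv.ext_iff]; rfl

theorem polarVec_dot (Q : QuadraticForm F (ι → F)) (v x : ι → F) :
    Cfsg.polarVec ⇑Q v ⬝ᵥ x = polar Q v x := by
  conv_rhs => rw [← Finset.univ_sum_single x]
  rw [show polar Q v (∑ i, Pi.single i (x i)) = polarBilin Q v (∑ i, Pi.single i (x i)) from rfl,
    map_sum]
  refine Finset.sum_congr rfl fun i _ => ?_
  rw [show Pi.single i (x i) = x i • (Pi.single i 1 : ι → F) by simp [← Pi.single_smul],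
    map_smul, polarBilin_apply_apply, smul_eq_mul, Cfsg.polarVec, mul_comm]

theorem reflectionMatrix_mulVec (Q : QuadraticForm F (ι → F)) (v x : ι → F) :
    Cfsg.reflectionMatrix ⇑Q v *ᵥ x = x - ((Q v)⁻¹ * polar Q x v) • v := by
  rw [Cfsg.reflectionMatrix, sub_mulVec, one_mulVec, smul_mulVec, vecMulVec_mulVec, polarVec_dot,
    op_smul_eq_smul, smul_smul, polar_comm]

theorem siegelMatrix_mulVec (Q : QuadraticForm F (ι → F)) (u v : ι → F) (c : F) (x : ι → F) :
    Cfsg.siegelMatrix ⇑Q u v c *ᵥ x = x + (c * polar Q x u) • v - (c * polar Q x v) • u := by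
  rw [Cfsg.siegelMatrix, add_mulVec, one_mulVec, smul_mulVec, sub_mulVec, vecMulVec_mulVec,
    vecMulVec_mulVec, polarVec_dot, polarVec_dot, op_smul_eq_smul, op_smul_eq_smul, polar_comm Q u,
    polar_comm Q v, smul_sub, smul_smul, smul_smul, add_sub_assoc]

theorem siegelMatrix_mulVec_eq (Q : QuadraticForm F (ι → F)) (u v : ι → F) (c : F) (hu : Q u = 0)
    (hv : Q v = 0) (huv : polar Q u v = 0) (x : ι → F) :
    Cfsg.siegelMatrix ⇑Q u v c *ᵥ x =
      siegel Q u (c • v) hu (by rw [polar_smul_right', huv, mul_zero]) x := by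
  rw [siegelMatrix_mulVec, siegel_apply, map_smul', hv, polar_smul_right', smul_smul]
  simp [mul_comm]

theorem isomEquiv_eq_refl_iff (Q : QuadraticForm F (ι → F)) (g : Cfsg.isometryGroup F ⇑Q)
    (v : ι → F) (hv : Q v ≠ 0) :
    ((g : Matrix.GeneralLinearGroup ι F) : Matrix ι ι F) = Cfsg.reflectionMatrix ⇑Q v ↔
      (isomEquiv Q g : (ι → F) ≃ₗ[F] (ι → F)) = refl Q v hv := by
  rw [LinearEquiv.ext_iff]
  constructor
  · intro h x
    rw [isomEquiv_apply, h, reflectionMatrix_mulVec, refl_apply]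
  · intro h
    refine matrix_eq_of_mulVec fun x => ?_
    rw [← isomEquiv_apply, h, reflectionMatrix_mulVec, refl_apply]

theorem finite_field_two_or (F : Type*) [Field F] [Fintype F] :
    Fintype.card F = 2 ∨ ∃ a : F, a ≠ 0 ∧ a ≠ 1 := by
  classical
  by_cases h : ∃ a : F, a ≠ 0 ∧ a ≠ 1
  · exact Or.inr h
  push Not at h
  left
  rw [show 2 = ({0, 1} : Finset F).card by simp, ← Finset.card_univ]
  congr 1
  ext a
  simp only [Finset.mem_univ, Finset.mem_insert, Finset.mem_singleton, true_iff]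
  tauto

end CfsgLib.Geometry
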