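import Cfsg.Agent.Lib.Geometry.AutMain
import Cfsg.Agent.Lib.Geometry.POmegaStd

/-! The automorphism groups of the standard projective orthogonal groups. -/

set_option autoImplicit false

namespace CfsgLib.Geometry

open QuadraticMap Matrix

variable {F : Type*} [Field F]

theorem nondegenerate_odd (h2 : (2 : F) ≠ 0) (m : ℕ) :
    (polarBilin (matQuad (oddMat m F))).Nondegenerate :=
  nondegenerate_matQuad (by rw [det_odd_gram]; exact mul_ne_zero h2 (pow_ne_zero _ (neg_ne_zero.2 one_ne_zero)))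

theorem nondegenerate_minus [Finite F] (m : ℕ) {a b : F}
    (hab : ∀ z₁ z₂ : F, z₁ ^ 2 + a * z₁ * z₂ + b * z₂ ^ 2 = 0 → z₁ = 0 ∧ z₂ = 0) :
    (polarBilin (matQuad (minusMat m F a b))).Nondegenerate :=
  nondegenerate_matQuad (by
    rw [det_minus_gram]
    exact mul_ne_zero (pow_ne_zero _ (neg_ne_zero.2 one_ne_zero)) (binAniso_discr hab).1)

theorem rootHyp_exists [Finite F] {ι : Type} [Fintype ι] [DecidableEq ι] {Q : QuadraticForm F (ι → F)}
    (hQ : (polarBilin Q).Nondegenerate) (hn : 7 ≤ Fintype.card ι) : ∃ p, RootHyp Q p :=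
  ⟨ringChar F, hQ, hn, CharP.char_is_prime F (ringChar F), inferInstance⟩

/-- The minus form has Witt index `m`. -/
theorem singular_finrank_le_minus [Finite F] (m : ℕ) {a b : F}
    (hab : ∀ z₁ z₂ : F, z₁ ^ 2 + a * z₁ * z₂ + b * z₂ ^ 2 = 0 → z₁ = 0 ∧ z₂ = 0)
    (W : Submodule F ((Fin m ⊕ Fin m) ⊕ Fin 2 → F)) (hW : ∀ w ∈ W, matQuad (minusMat m F a b) w = 0) :
    Module.finrank F W ≤ m := by
  set Q := matQuad (minusMat m F a b) with hQdef
  have hQ := nondegenerate_minus m hab
  have hn : Module.finrank F ((Fin m ⊕ Fin m) ⊕ Fin 2 → F) = 2 * m + 2 := by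
    simp; omega
  let f : (Fin m → F) →ₗ[F] ((Fin m ⊕ Fin m) ⊕ Fin 2 → F) :=
    LinearMap.pi (Sum.elim (Sum.elim (fun i => LinearMap.proj i) fun _ => 0) fun _ => 0)
  have hf : Function.Injective f := fun x y h => funext fun i => congrFun h (Sum.inl (Sum.inl i))
  set U := LinearMap.range f with hU
  have hUd : Module.finrank F U = m := by rw [hU, LinearMap.finrank_range_of_inj hf]; simp
  by_contra hcon
  push Not at hcon
  have hWp : polarPerp Q W = W := by
    refine (Submodule.eq_of_le_of_finrank_le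
      (fun w hw => mem_polarPerp.2 fun u hu => polar_eq_zero_of_singular hW hu hw) ?_).symm
    have := finrank_polarPerp hQ W
    rw [← hQdef, hn] at this
    omega
  -- the perp of `W ⊔ U` lies in `W ⊓ U`
  have hle : polarPerp Q (W ⊔ U) ≤ W ⊓ U := by
    intro v hv
    rw [mem_polarPerp] at hv
    have hvW : v ∈ W := hWp ▸ mem_polarPerp.2 fun w hw => hv w (Submodule.mem_sup_left hw)
    refine ⟨hvW, ?_⟩
    have hy : ∀ j, v (Sum.inl (Sum.inr j)) = 0 := fun j => by
      have := hv (f (Pi.single j 1)) (Submodule.mem_sup_right ⟨_, rfl⟩)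
      rw [hQdef, coe_matQuad_minus] at this
      simp [polar, Cfsg.quadFormMinus, f, Pi.single_apply, add_mul, Finset.sum_add_distrib] at this
      exact this
    have hQv := hW v hvW
    rw [hQdef, coe_matQuad_minus, Cfsg.quadFormMinus] at hQv
    simp [hy] at hQv
    obtain ⟨z1, z2⟩ := hab _ _ hQv
    refine ⟨fun i => v (Sum.inl (Sum.inl i)), funext fun s => ?_⟩
    rcases s with (i | j) | k
    · rfl
    · exact (hy j).symm
    · fin_cases k
      · exact z1.symm
      · exact z2.symm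
  have h1 := Submodule.finrank_mono hle
  have h2 := finrank_polarPerp hQ (W ⊔ U)
  have h3 := Submodule.finrank_sup_add_finrank_inf_eq W U
  rw [← hQdef, hn] at h2
  have h4 := finrank_polarPerp hQ W
  rw [← hQdef, hn, hWp] at h4
  omega

theorem gammaPOmega_odd_eq_top [Finite F] (h2 : (2 : F) ≠ 0) {m : ℕ} (hm : 3 ≤ m) :
    Cfsg.gammaPOmega F (Cfsg.quadFormOdd m F) = ⊤ := by
  obtain ⟨p, D⟩ := rootHyp_exists (nondegenerate_odd h2 m) (by simp; omega)
  rw [← coe_matQuad_odd]
  exact D.gammaPOmega_eq_top fun h => by simp at h; omega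

theorem gammaPOmega_plus_eq_top [Finite F] {m : ℕ} (hm : 5 ≤ m) :
    Cfsg.gammaPOmega F (Cfsg.quadFormPlus m F) = ⊤ := by
  obtain ⟨p, D⟩ := rootHyp_exists (nondegenerate_plus (F := F) m) (by simp; omega)
  rw [← coe_matQuad_plus]
  exact D.gammaPOmega_eq_top fun h => by simp at h; omega

theorem gammaPOmega_minus_eq_top [Finite F] {m : ℕ} (hm : 3 ≤ m) {a b : F}
    (hab : ∀ z₁ z₂ : F, z₁ ^ 2 + a * z₁ * z₂ + b * z₂ ^ 2 = 0 → z₁ = 0 ∧ z₂ = 0) :
    Cfsg.gammaPOmega F (Cfsg.quadFormMinus m F a b) = ⊤ := by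
  obtain ⟨p, D⟩ := rootHyp_exists (nondegenerate_minus m hab) (by simp; omega)
  rw [← coe_matQuad_minus]
  exact D.gammaPOmega_eq_top fun h W hW => by
    have := singular_finrank_le_minus m hab W hW
    simp at h
    omega

end CfsgLib.Geometry
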