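import Cfsg.Agent.Lib.Geometry.SemiSimKernel

/-! Calculus of Siegel elements inside `POmega`. -/

set_option autoImplicit false

namespace CfsgLib.Geometry

open QuadraticMap

section Space

variable {F V : Type*} [Field F] [AddCommGroup V] [Module F V] [FiniteDimensional F V]
variable {Q : QuadraticForm F V}

theorem siegel_congr {e e' w w' : V} (he : Q e = 0) (hw : polar Q e w = 0) (he' : Q e' = 0)
    (hw' : polar Q e' w' = 0) (h1 : e = e') (h2 : w = w') :
    siegel Q e w he hw = siegel Q e' w' he' hw' := by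
  subst h1; subst h2; rfl

theorem siegel_add_self {e w : V} (c : F) (he : Q e = 0) (hw : polar Q e w = 0)
    (hw' : polar Q e (w + c • e) = 0) : siegel Q e (w + c • e) he hw' = siegel Q e w he hw := by
  refine LinearEquiv.ext fun v => ?_
  rw [siegel_apply, siegel_apply, map_add', map_smul', he, polar_smul_right', polar_comm Q w e, hw,
    polar_add_right, polar_smul_right']
  module

/-- Change of basis of a totally singular line. -/
theorem siegel_line {e w : V} (a b c d : F) (he : Q e = 0) (hw : Q w = 0) (hew : polar Q e w = 0)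
    (h1 : Q (a • e + b • w) = 0) (h2 : polar Q (a • e + b • w) (c • e + d • w) = 0)
    (h3 : polar Q e ((a * d - b * c) • w) = 0) :
    siegel Q (a • e + b • w) (c • e + d • w) h1 h2 = siegel Q e ((a * d - b * c) • w) he h3 := by
  refine LinearEquiv.ext fun v => ?_
  simp only [siegel_apply, map_add', map_smul', he, hw, polar_smul_left', polar_smul_right',
    polar_add_right, hew]
  match_scalars <;> ring

theorem siegel_swap {e w : V} (he : Q e = 0) (hw : Q w = 0) (hew : polar Q e w = 0)
    (h : polar Q w e = 0) (hn : polar Q e (-w) = 0) :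
    siegel Q w e hw h = siegel Q e (-w) he hn := by
  refine LinearEquiv.ext fun v => ?_
  simp only [siegel_apply, QuadraticMap.map_neg, polar_neg_right, he, hw]
  module

theorem siegel_apply_partner {e f w : V} (he : Q e = 0) (hw : polar Q e w = 0) (hef : polar Q e f = 1)
    (hfw : polar Q f w = 0) : siegel Q e w he hw f = f + w - Q w • e := by
  rw [siegel_apply, polar_comm Q f e, hef, hfw]
  module

theorem siegel_apply_ker {e w v : V} (he : Q e = 0) (hw : polar Q e w = 0) (hv : polar Q e v = 0) :
    siegel Q e w he hw v = v - polar Q v w • e := by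
  rw [siegel_apply, polar_comm Q v e, hv]
  module

theorem siegel_eq_one {e w : V} (c : F) (he : Q e = 0) (hw : polar Q e w = 0) (h : w = c • e) :
    siegel Q e w he hw = 1 := by
  subst h
  refine LinearEquiv.ext fun v => ?_
  rw [siegel_apply, map_smul', he, polar_smul_right']
  show _ = v
  module

/-- The vector of a Siegel element, modulo the point, is determined. -/
theorem mem_span_of_siegel_eq {e f w w' : V} (he : Q e = 0) (hw : polar Q e w = 0)
    (hw' : polar Q e w' = 0) (hef : polar Q e f = 1)
    (h : siegel Q e w he hw = siegel Q e w' he hw') : ∃ c : F, w' = w + c • e := by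
  have := LinearEquiv.congr_fun h f
  rw [siegel_apply, siegel_apply, polar_comm Q f e, hef] at this
  refine ⟨(polar Q f w' + Q w') - (polar Q f w + Q w), ?_⟩
  linear_combination (norm := module) -this

theorem siegel_inj_pairPerp {e f w w' : V} (he : Q e = 0) (hef : polar Q e f = 1)
    (hw : w ∈ pairPerp Q e f) (hw' : w' ∈ pairPerp Q e f)
    (h : siegel Q e w he (mem_pairPerp.1 hw).1 = siegel Q e w' he (mem_pairPerp.1 hw').1) : w = w' := by
  obtain ⟨c, hc⟩ := mem_span_of_siegel_eq he _ _ hef h
  have := congrArg (polar Q f) hc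
  rw [polar_add_right, polar_smul_right', (mem_pairPerp.1 hw).2, (mem_pairPerp.1 hw').2,
    polar_comm Q f e, hef] at this
  rw [hc, show c = 0 by linear_combination -this, zero_smul, add_zero]

/-- Siegel elements at mutually orthogonal singular points are additive in the point. -/
theorem siegel_mul_left {e e' x : V} (he : Q e = 0) (he' : Q e' = 0) (hx : Q x = 0)
    (h : polar Q e x = 0) (h' : polar Q e' x = 0) (hee : polar Q e e' = 0) :
    siegel Q e x he h * siegel Q e' x he' h' =
      siegel Q (e + e') x (by rw [map_add', he, he', hee]; ring)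
        (by rw [polar_add_left, h, h', add_zero]) := by
  have k1 : polar Q x (-e) = 0 := by rw [polar_neg_right, polar_comm, h, neg_zero]
  have k2 : polar Q x (-e') = 0 := by rw [polar_neg_right, polar_comm, h', neg_zero]
  have k3 : polar Q x (-(e + e')) = 0 := by
    rw [polar_neg_right, polar_add_right, polar_comm Q x e, polar_comm Q x e', h, h']; ring
  rw [siegel_swap hx he (by rw [polar_comm, h]) h k1, siegel_swap hx he' (by rw [polar_comm, h']) h' k2,
    siegel_mul, siegel_swap hx (by rw [map_add', he, he', hee]; ring)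
      (by rw [polar_add_right, polar_comm Q x e, polar_comm Q x e', h, h', add_zero])
      (by rw [polar_add_left, h, h', add_zero]) k3]
  exact siegel_congr _ _ _ _ rfl (by abel)

theorem decomp_pair {e f : V} (he : Q e = 0) (hf : Q f = 0) (hef : polar Q e f = 1) (v : V) :
    v - polar Q v f • e - polar Q v e • f ∈ pairPerp Q e f := by
  refine mem_pairPerp.2 ⟨?_, ?_⟩ <;>
    simp [polar_sub_right, polar_smul_right', polar_self', he, hf, hef, polar_comm Q f e,
      polar_comm Q v e, polar_comm Q v f]

theorem decomp_perp {e f v : V} (he : Q e = 0) (hef : polar Q e f = 1) (hv : polar Q e v = 0) :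
    v - polar Q f v • e ∈ pairPerp Q e f :=
  mem_pairPerp.2 ⟨by rw [polar_sub_right, polar_smul_right', polar_self', he, hv]; ring,
    by rw [polar_sub_right, polar_smul_right', polar_comm Q f e, hef]; ring⟩

theorem nondeg_pairPerp (hQ : (polarBilin Q).Nondegenerate) {e f : V} (he : Q e = 0) (hf : Q f = 0)
    (hef : polar Q e f = 1) : (polarBilin (Q.comp (pairPerp Q e f).subtype)).Nondegenerate := by
  have hp : ∀ x y : pairPerp Q e f, polar (Q.comp (pairPerp Q e f).subtype) x y = polar Q (x : V) (y : V) :=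
    fun x y => by simp [polar]
  have key : ∀ w : pairPerp Q e f, (∀ w' : pairPerp Q e f, polar Q (w : V) (w' : V) = 0) → w = 0 := by
    intro w hw
    refine Subtype.ext (hQ.1 (w : V) fun y => ?_)
    have := hw ⟨_, decomp_pair he hf hef y⟩
    simp [polar_sub_right, polar_smul_right', polar_comm Q (w : V) e, polar_comm Q (w : V) f,
      (mem_pairPerp.1 w.2).1, (mem_pairPerp.1 w.2).2] at this
    exact this
  exact ⟨fun w hw => key w fun w' => (hp w w').symm.trans (hw w'),
    fun w hw => key w fun w' => by rw [polar_comm]; exact (hp w' w).symm.trans (hw w')⟩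

theorem ne_zero_of_pair {e f : V} (hef : polar Q e f = 1) : e ≠ 0 := fun h => by
  rw [h, QuadraticMap.polar_zero_left] at hef; exact zero_ne_one hef

theorem not_mem_span_of_pairPerp {e f w : V} (hef : polar Q e f = 1) (hw : w ∈ pairPerp Q e f)
    (hw0 : w ≠ 0) : w ∉ Submodule.span F {e} := fun h => by
  obtain ⟨c, rfl⟩ := Submodule.mem_span_singleton.1 h
  have := (mem_pairPerp.1 hw).2
  rw [polar_smul_right', polar_comm Q f e, hef, mul_one] at this
  exact hw0 (by rw [this, zero_smul])

/-- An isometry fixing a singular vector and trivial on the graded piece is a Siegel element. -/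
theorem exists_eq_siegel (hQ : (polarBilin Q).Nondegenerate) {g : V ≃ₗ[F] V} (hg : g ∈ orth Q)
    {e f : V} (he : Q e = 0) (hf : Q f = 0) (hef : polar Q e f = 1) (hge : g e = e)
    (htriv : ∀ v, polar Q e v = 0 → ∃ c : F, g v = v + c • e) :
    ∃ (u : V) (hu : u ∈ pairPerp Q e f), g = siegel Q e u he (mem_pairPerp.1 hu).1 := by
  have hegf : polar Q e (g f) = 1 := by
    conv_lhs => rw [← hge, orth_polar hg]
    exact hef
  set u := g f - polar Q (g f) f • e - polar Q (g f) e • f with hudef
  have hu : u ∈ pairPerp Q e f := decomp_pair he hf hef _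
  refine ⟨u, hu, ?_⟩
  obtain ⟨hu1, hu2⟩ := mem_pairPerp.1 hu
  have hgf : g f = polar Q (g f) f • e + f + u := by
    rw [hudef, polar_comm Q (g f) e, hegf, one_smul]; abel
  have hc : polar Q (g f) f = -Q u := by
    have := hg f
    rw [hf, hgf, map_add', map_add', map_smul', he, hf, polar_smul_left', hef, polar_add_left,
      polar_smul_left', hu1, hu2] at this
    linear_combination this
  refine LinearEquiv.ext fun v => ?_
  obtain ⟨x, hx, hvx⟩ : ∃ x ∈ pairPerp Q e f, v = polar Q v f • e + polar Q v e • f + x :=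
    ⟨_, decomp_pair he hf hef v, by abel⟩
  obtain ⟨c, hcx⟩ := htriv x (mem_pairPerp.1 hx).1
  have hcu : c = -polar Q x u := by
    have := orth_polar hg x f
    rw [hcx, hgf, polar_comm Q x f, (mem_pairPerp.1 hx).2] at this
    simp [polar_add_left, polar_add_right, polar_smul_left', polar_smul_right', polar_self', he, hu1,
      polar_comm Q x e, (mem_pairPerp.1 hx).1, polar_comm Q x f, (mem_pairPerp.1 hx).2, hef] at this
    linear_combination this
  rw [hc] at hgf
  rw [hvx]
  simp only [map_add, map_smul, hge, hgf, hcx, hcu, siegel_apply, polar_self', he,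
    polar_comm Q f e, hef, hu1, hu2, polar_comm Q x e, (mem_pairPerp.1 hx).1]
  module

end Space

section Group

variable {ι : Type} [Fintype ι] [DecidableEq ι] {F : Type*} [Field F] [Finite F]
variable {Q : QuadraticForm F (ι → F)}

/-- The action of `Omega` on the space. -/
noncomputable def omAct (Q : QuadraticForm F (ι → F)) :
    Cfsg.Omega F ⇑Q →* ((ι → F) ≃ₗ[F] (ι → F)) :=
  ((orth Q).subtype.comp (isomEquiv Q).toMonoidHom).comp (Cfsg.Omega F ⇑Q).subtype

theorem omAct_mem_orth (g : Cfsg.Omega F ⇑Q) : omAct Q g ∈ orth Q := (isomEquiv Q _).2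

theorem omAct_injective : Function.Injective (omAct Q) :=
  (orth Q).subtype_injective.comp ((isomEquiv Q).injective.comp (Cfsg.Omega F ⇑Q).subtype_injective)

theorem commutator_orth_eq (hQ : (polarBilin Q).Nondegenerate) (hn : 5 ≤ Fintype.card ι) :
    commutator (orth Q) = (siegelGroup Q).subgroupOf (orth Q) := by
  have hn' : 5 ≤ Module.finrank F (ι → F) := by simpa using hn
  have hn4 : Module.finrank F (ι → F) ≠ 4 ∨ ∃ a : F, a ≠ 0 ∧ a ≠ 1 := Or.inl (by omega)
  exact commutator_eq_siegel hQ (by omega) (splitSingular_of hQ hn4) (reflGroup_eq_orth hQ hn4)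

theorem range_omAct (hQ : (polarBilin Q).Nondegenerate) (hn : 5 ≤ Fintype.card ι) :
    (omAct Q).range = siegelGroup Q := by
  ext s
  constructor
  · rintro ⟨g, rfl⟩
    have := (mem_Omega_iff_commutator Q _).1 g.2
    rwa [commutator_orth_eq hQ hn, Subgroup.mem_subgroupOf] at this
  · intro hs
    refine ⟨⟨(isomEquiv Q).symm ⟨s, siegelGroup_le_orth hs⟩, (mem_Omega_iff_commutator Q _).2 ?_⟩, ?_⟩
    · rw [MulEquiv.apply_symm_apply, commutator_orth_eq hQ hn, Subgroup.mem_subgroupOf]
      exact hs
    · show ((isomEquiv Q ((isomEquiv Q).symm _) : orth Q) : (ι → F) ≃ₗ[F] (ι → F)) = s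
      rw [MulEquiv.apply_symm_apply]

variable (Q) in
/-- A hypothesis bundle: nondegenerate, dimension at least seven, characteristic `p`. -/
structure RootHyp (p : ℕ) : Prop where
  nondeg : (polarBilin Q).Nondegenerate
  seven_le : 7 ≤ Fintype.card ι
  prime : p.Prime
  charP : CharP F p

variable {p : ℕ}

theorem RootHyp.five_le (D : RootHyp Q p) : 5 ≤ Fintype.card ι := by have := D.seven_le; omega

theorem RootHyp.finrank_eq : Module.finrank F (ι → F) = Fintype.card ι :=
  Module.finrank_fintype_fun_eq_card F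

theorem RootHyp.five_le' (D : RootHyp Q p) : 5 ≤ Module.finrank F (ι → F) := by
  rw [RootHyp.finrank_eq]; exact D.five_le

theorem RootHyp.exists_act (D : RootHyp Q p) {s : (ι → F) ≃ₗ[F] (ι → F)} (hs : s ∈ siegelGroup Q) :
    ∃ g : Cfsg.Omega F ⇑Q, omAct Q g = s := by
  have : s ∈ (omAct Q).range := (range_omAct D.nondeg D.five_le).ge hs
  exact this

/-- The projection to `POmega`. -/
noncomputable abbrev omPr (Q : QuadraticForm F (ι → F)) :
    Cfsg.Omega F ⇑Q →* Cfsg.POmega F ⇑Q :=
  QuotientGroup.mk' (Subgroup.center (Cfsg.Omega F ⇑Q))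

/-- Central elements act by signs. -/
theorem RootHyp.center_sign (D : RootHyp Q p) {z : Cfsg.Omega F ⇑Q}
    (hz : z ∈ Subgroup.center (Cfsg.Omega F ⇑Q)) :
    ∃ t : F, t * t = 1 ∧ ∀ v, omAct Q z v = t • v :=
  (mem_center_omega_iff D.nondeg D.five_le' (omegaEquiv Q z)).1 <| Subgroup.mem_center_iff.2 fun y => by
    obtain ⟨x, rfl⟩ := (omegaEquiv Q).surjective y
    rw [← map_mul, ← map_mul, Subgroup.mem_center_iff.1 hz x]

theorem RootHyp.center_sq (D : RootHyp Q p) {z : Cfsg.Omega F ⇑Q}
    (hz : z ∈ Subgroup.center (Cfsg.Omega F ⇑Q)) : z * z = 1 := by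
  obtain ⟨t, ht, h⟩ := D.center_sign hz
  refine omAct_injective (LinearEquiv.ext fun v => ?_)
  rw [map_mul, LinearEquiv.mul_apply, h, h, smul_smul, ht, one_smul, map_one]
  rfl

/-- A central element killed by a power of `p` is trivial. -/
theorem RootHyp.center_eq_one (D : RootHyp Q p) {z : Cfsg.Omega F ⇑Q}
    (hz : z ∈ Subgroup.center (Cfsg.Omega F ⇑Q)) {k : ℕ} (hk : z ^ p ^ k = 1) : z = 1 := by
  rcases D.prime.eq_two_or_odd' with hp | hp
  · obtain ⟨t, ht, h⟩ := D.center_sign hz
    haveI := D.charP
    subst hp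
    have ht1 : t = 1 := by
      rcases mul_self_eq_one_iff.1 ht with e | e
      · exact e
      · rw [e, CharTwo.neg_eq]
    refine omAct_injective (LinearEquiv.ext fun v => ?_)
    rw [h, ht1, one_smul, map_one]
    rfl
  · obtain ⟨j, hj⟩ := hp.pow (n := k)
    rw [hj, pow_succ, pow_mul, pow_two, D.center_sq hz, one_pow, one_mul] at hk
    exact hk

/-- The image in `POmega` determines an element of `p`-power order among its commuting fellows. -/
theorem RootHyp.pr_inj (D : RootHyp Q p) {x y : Cfsg.Omega F ⇑Q} {k l : ℕ} (hx : x ^ p ^ k = 1)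
    (hy : y ^ p ^ l = 1) (h : omPr Q x = omPr Q y) : x = y := by
  have hz : x⁻¹ * y ∈ Subgroup.center (Cfsg.Omega F ⇑Q) := QuotientGroup.eq.1 h
  refine inv_mul_eq_one.1 (D.center_eq_one hz (k := k + l) ?_)
  have hc : Commute x⁻¹ y := by
    have h1 := Subgroup.mem_center_iff.1 hz x
    refine Commute.inv_left (show Commute x y from ?_)
    rw [mul_inv_cancel_left] at h1
    show x * y = y * x
    conv_lhs => rw [h1]
    group
  rw [hc.mul_pow, pow_add, pow_mul, inv_pow, hx, inv_one, one_pow, mul_comm (p ^ k), pow_mul, hy,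
    one_pow, mul_one]

theorem RootHyp.commute_of_pr (D : RootHyp Q p) {x y : Cfsg.Omega F ⇑Q} {k : ℕ} (hy : y ^ p ^ k = 1)
    (h : Commute (omPr Q x) (omPr Q y)) : Commute x y := by
  have := D.pr_inj (x := x * y * x⁻¹) (k := k) (l := k) (by rw [conj_pow, hy, mul_one, mul_inv_cancel])
    hy (by rw [map_mul, map_mul, map_inv, h.eq, mul_inv_cancel_right])
  show x * y = y * x
  exact mul_inv_eq_iff_eq_mul.1 this

open Classical in
/-- A Siegel element as an element of `Omega`. -/
noncomputable def rootEl (Q : QuadraticForm F (ι → F)) (e w : ι → F) : Cfsg.Omega F ⇑Q :=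
  if h : ∃ (g : Cfsg.Omega F ⇑Q) (he : Q e = 0) (hw : polar Q e w = 0),
    omAct Q g = siegel Q e w he hw then h.choose else 1

theorem RootHyp.act_root (D : RootHyp Q p) {e w : ι → F} (he : Q e = 0) (hw : polar Q e w = 0) :
    omAct Q (rootEl Q e w) = siegel Q e w he hw := by
  obtain ⟨g, hg⟩ := D.exists_act (siegel_mem e w he hw)
  have h : ∃ (g : Cfsg.Omega F ⇑Q) (he : Q e = 0) (hw : polar Q e w = 0),
    omAct Q g = siegel Q e w he hw := ⟨g, he, hw, hg⟩
  rw [rootEl, dif_pos h]
  obtain ⟨_, _, h'⟩ := h.choose_spec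
  exact h'

theorem RootHyp.root_add (D : RootHyp Q p) {e w w' : ι → F} (he : Q e = 0) (hw : polar Q e w = 0)
    (hw' : polar Q e w' = 0) : rootEl Q e w * rootEl Q e w' = rootEl Q e (w + w') :=
  omAct_injective (by
    rw [map_mul, D.act_root he hw, D.act_root he hw',
      D.act_root he (by rw [polar_add_right, hw, hw', add_zero]), siegel_mul])

theorem RootHyp.root_zero (D : RootHyp Q p) {e : ι → F} (he : Q e = 0) : rootEl Q e 0 = 1 :=
  omAct_injective (by
    rw [D.act_root he (QuadraticMap.polar_zero_right ..), map_one,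
      siegel_eq_one (0 : F) he _ (zero_smul F e).symm])

theorem RootHyp.root_pow (D : RootHyp Q p) {e w : ι → F} (he : Q e = 0) (hw : polar Q e w = 0) (n : ℕ) :
    rootEl Q e w ^ n = rootEl Q e (n • w) := by
  induction n with
  | zero => rw [pow_zero, zero_smul, D.root_zero he]
  | succ n ih =>
    rw [pow_succ, ih, D.root_add he (by
      rw [← Nat.cast_smul_eq_nsmul F, polar_smul_right', hw, mul_zero]) hw, succ_nsmul]

theorem RootHyp.root_pow_p (D : RootHyp Q p) {e w : ι → F} (he : Q e = 0) (hw : polar Q e w = 0) :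
    rootEl Q e w ^ p ^ 1 = 1 := by
  haveI := D.charP
  rw [pow_one, D.root_pow he hw, ← Nat.cast_smul_eq_nsmul F, CharP.cast_eq_zero, zero_smul, D.root_zero he]

theorem RootHyp.conj_root (D : RootHyp Q p) (g : Cfsg.Omega F ⇑Q) {e w : ι → F} (he : Q e = 0)
    (hw : polar Q e w = 0) : g * rootEl Q e w * g⁻¹ = rootEl Q (omAct Q g e) (omAct Q g w) :=
  omAct_injective (by
    rw [map_mul, map_mul, map_inv, D.act_root he hw, siegel_conj (omAct_mem_orth g),
      D.act_root (by rw [mem_orth.1 (omAct_mem_orth g), he]) (by rw [orth_polar (omAct_mem_orth g), hw])])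

/-- The image of a Siegel element in `POmega`. -/
noncomputable def proot (Q : QuadraticForm F (ι → F)) (e w : ι → F) : Cfsg.POmega F ⇑Q :=
  omPr Q (rootEl Q e w)

theorem RootHyp.proot_eq_iff (D : RootHyp Q p) {e w e' w' : ι → F} (he : Q e = 0) (hw : polar Q e w = 0)
    (he' : Q e' = 0) (hw' : polar Q e' w' = 0) :
    proot Q e w = proot Q e' w' ↔ siegel Q e w he hw = siegel Q e' w' he' hw' := by
  rw [← D.act_root he hw, ← D.act_root he' hw', omAct_injective.eq_iff]
  exact ⟨D.pr_inj (D.root_pow_p he hw) (D.root_pow_p he' hw'), congrArg _⟩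

theorem RootHyp.proot_commute_iff (D : RootHyp Q p) {e w e' w' : ι → F} (he : Q e = 0)
    (hw : polar Q e w = 0) (he' : Q e' = 0) (hw' : polar Q e' w' = 0) :
    Commute (proot Q e w) (proot Q e' w') ↔
      Commute (siegel Q e w he hw) (siegel Q e' w' he' hw') := by
  rw [← D.act_root he hw, ← D.act_root he' hw']
  constructor
  · exact fun h => (D.commute_of_pr (D.root_pow_p he' hw') h).map _
  · exact fun h => (Commute.of_map omAct_injective h).map _

theorem RootHyp.proot_add (D : RootHyp Q p) {e w w' : ι → F} (he : Q e = 0) (hw : polar Q e w = 0)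
    (hw' : polar Q e w' = 0) : proot Q e w * proot Q e w' = proot Q e (w + w') := by
  rw [proot, proot, proot, ← map_mul, D.root_add he hw hw']

theorem RootHyp.proot_zero (D : RootHyp Q p) {e : ι → F} (he : Q e = 0) : proot Q e 0 = 1 := by
  rw [proot, D.root_zero he, map_one]

end Group

end CfsgLib.Geometry
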