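import Cfsg.Agent.Lib.Geometry.OmegaMem

/-! In characteristic two, membership in `Ω` is the parity of `rank (t - 1)`. -/

set_option autoImplicit false

namespace CfsgLib.Geometry

open QuadraticMap

variable {F : Type*} [Field F] [Finite F] {ι : Type} [Fintype ι] [DecidableEq ι]

omit [Finite F] in
theorem finrank_movSpace_eq_rank (Q : QuadraticForm F (ι → F)) (t : Cfsg.isometryGroup F ⇑Q) :
    Module.finrank F (movSpace (isomEquiv Q t : (ι → F) ≃ₗ[F] (ι → F))) =
      (((t : Matrix.GeneralLinearGroup ι F) : Matrix ι ι F) - 1).rank := by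
  have e : movMap (isomEquiv Q t : (ι → F) ≃ₗ[F] (ι → F)) =
      -(Matrix.mulVecLin (((t : Matrix.GeneralLinearGroup ι F) : Matrix ι ι F) - 1)) := by
    refine LinearMap.ext fun v => ?_
    rw [movMap_apply, LinearMap.neg_apply, Matrix.mulVecLin_apply, Matrix.sub_mulVec,
      Matrix.one_mulVec, neg_sub, isomEquiv_apply]
  rw [movSpace, e, LinearMap.range_neg]
  rfl

theorem mem_Omega_iff_rank_even [CharP F 2] {Q : QuadraticForm F (ι → F)}
    (hQ : (polarBilin Q).Nondegenerate) (hn : Fintype.card ι ≠ 4 ∨ ∃ a : F, a ≠ 0 ∧ a ≠ 1)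
    (t : Cfsg.isometryGroup F ⇑Q) :
    t ∈ Cfsg.Omega F ⇑Q ↔
      Even (((t : Matrix.GeneralLinearGroup ι F) : Matrix ι ι F) - 1).rank := by
  have hR := reflGroup_eq_orth hQ (hn.imp_left fun h => by simpa using h)
  rw [mem_Omega_iff_invariant hQ hR, ← ZMod.natCast_eq_zero_iff_even, ← finrank_movSpace_eq_rank Q t]
  exact ⟨fun h => Multiplicative.ofAdd.injective (congrArg Prod.snd h),
    fun h => Prod.ext (sqClass_eq_one_of_two CharTwo.two_eq_zero _) (congrArg Multiplicative.ofAdd h)⟩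

end CfsgLib.Geometry
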