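import Cfsg.Agent.Lib.Geometry.OmegaSimple
import Cfsg.Agent.Lib.Geometry.StdForms

/-! Centre and simplicity of `POmega`, and its order. -/

set_option autoImplicit false

namespace CfsgLib.Geometry

open QuadraticMap

variable {F V : Type*} [Field F] [AddCommGroup V] [Module F V] [FiniteDimensional F V] [Finite F]
variable {Q : QuadraticForm F V}

theorem mem_center_omega_iff (hQ : (polarBilin Q).Nondegenerate) (hn : 5 ≤ Module.finrank F V)
    (g : commutator (orth Q)) :
    g ∈ Subgroup.center (commutator (orth Q)) ↔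
      ∃ t : F, t * t = 1 ∧ ∀ v, ((g : orth Q) : V ≃ₗ[F] V) v = t • v := by
  have hn4 : Module.finrank F V ≠ 4 ∨ ∃ a : F, a ≠ 0 ∧ a ≠ 1 := Or.inl (by omega)
  have hC := commutator_eq_siegel hQ (by omega) (splitSingular_of hQ hn4) (reflGroup_eq_orth hQ hn4)
  have hmem : ∀ x : orth Q, x ∈ commutator (orth Q) ↔ (x : V ≃ₗ[F] V) ∈ siegelGroup Q := fun x => by
    rw [hC, Subgroup.mem_subgroupOf]
  constructor
  · intro hg
    let φ : commutator (orth Q) →* (V ≃ₗ[F] V) := (orth Q).subtype.comp (commutator (orth Q)).subtype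
    let N := (Subgroup.center (commutator (orth Q))).map φ
    have hNS : N ≤ siegelGroup Q := by
      rintro _ ⟨x, -, rfl⟩; exact (hmem _).1 x.2
    have hnorm : ∀ s ∈ siegelGroup Q, ∀ y ∈ N, s * y * s⁻¹ ∈ N := by
      rintro s hs _ ⟨x, hx, rfl⟩
      let s' : commutator (orth Q) := ⟨⟨s, siegelGroup_le_orth hs⟩, (hmem _).2 hs⟩
      refine ⟨x, hx, ?_⟩
      show φ x = φ s' * φ x * (φ s')⁻¹
      rw [← map_mul, Subgroup.mem_center_iff.1 hx s', map_mul, mul_inv_cancel_right]
    rcases siegel_normal_cases hQ hn N hNS hnorm with h | h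
    · exact h _ ⟨g, hg, rfl⟩
    · exfalso
      apply siegelGroup_ne_bot hQ hn
      refine eq_bot_iff.2 (le_trans (siegelGroup_perfect hQ hn) ?_)
      rw [Subgroup.commutator_le]
      intro a ha b hb
      obtain ⟨x, hx, rfl⟩ := h ha
      obtain ⟨y, hy, rfl⟩ := h hb
      rw [Subgroup.mem_bot, commutatorElement_eq_one_iff_commute]
      show φ x * φ y = φ y * φ x
      rw [← map_mul, ← map_mul, Subgroup.mem_center_iff.1 hy x]
  · rintro ⟨t, -, ht⟩
    refine Subgroup.mem_center_iff.2 fun x => Subtype.ext (Subtype.ext (LinearEquiv.ext fun v => ?_))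
    show ((x : orth Q) : V ≃ₗ[F] V) (((g : orth Q) : V ≃ₗ[F] V) v) = ((g : orth Q) : V ≃ₗ[F] V) (((x : orth Q) : V ≃ₗ[F] V) v)
    rw [ht, ht, map_smul]

open Classical in
theorem card_center_omega (hQ : (polarBilin Q).Nondegenerate) (hn : 5 ≤ Module.finrank F V) :
    Nat.card (Subgroup.center (commutator (orth Q))) =
      if (2 : F) ≠ 0 ∧ ∃ g : commutator (orth Q), ∀ v, ((g : orth Q) : V ≃ₗ[F] V) v = -v then 2 else 1 := by
  haveI : Nontrivial V := Module.nontrivial_of_finrank_pos (R := F) (by omega)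
  obtain ⟨v₀, hv₀⟩ := exists_ne (0 : V)
  have cases : ∀ g ∈ Subgroup.center (commutator (orth Q)),
      g = 1 ∨ ∀ v, ((g : orth Q) : V ≃ₗ[F] V) v = -v := fun g hg => by
    obtain ⟨t, htt, ht⟩ := (mem_center_omega_iff hQ hn g).1 hg
    rcases mul_self_eq_one_iff.1 htt with rfl | rfl
    · exact Or.inl (Subtype.ext (Subtype.ext (LinearEquiv.ext fun v => by rw [ht, one_smul]; rfl)))
    · exact Or.inr fun v => by rw [ht, neg_one_smul]
  split_ifs with h
  · obtain ⟨h2, g, hg⟩ := h
    have hgc : g ∈ Subgroup.center (commutator (orth Q)) :=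
      (mem_center_omega_iff hQ hn g).2 ⟨-1, by ring, fun v => by rw [hg, neg_one_smul]⟩
    refine Nat.card_eq_two_iff.2 ⟨1, ⟨g, hgc⟩, fun h1 => ?_, Set.eq_univ_of_forall fun x => ?_⟩
    · obtain rfl : g = 1 := (congrArg Subtype.val h1).symm
      have := hg v₀
      have h3 : (2 : F) • v₀ = 0 := by rw [two_smul]; exact eq_neg_iff_add_eq_zero.1 this
      exact hv₀ ((smul_eq_zero.1 h3).resolve_left h2)
    · rcases cases x.1 x.2 with hx | hx
      · exact Or.inl (Subtype.ext hx)
      · exact Or.inr (Subtype.ext (Subtype.ext (Subtype.ext (LinearEquiv.ext fun v => by rw [hx, hg]))))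
  · rw [Subgroup.card_eq_one, Subgroup.eq_bot_iff_forall]
    intro x hx
    rcases cases x hx with h1 | h1
    · exact h1
    by_cases h2 : (2 : F) = 0
    · refine Subtype.ext (Subtype.ext (LinearEquiv.ext fun v => ?_))
      rw [h1]
      show -v = v
      rw [neg_eq_iff_add_eq_zero, ← two_smul F v, h2, zero_smul]
    · exact absurd ⟨h2, x, h1⟩ h

theorem isSimpleGroup_omega_mod_center (hQ : (polarBilin Q).Nondegenerate)
    (hn : 5 ≤ Module.finrank F V) :
    IsSimpleGroup (commutator (orth Q) ⧸ Subgroup.center (commutator (orth Q))) := by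
  have hn4 : Module.finrank F V ≠ 4 ∨ ∃ a : F, a ≠ 0 ∧ a ≠ 1 := Or.inl (by omega)
  have hC := commutator_eq_siegel hQ (by omega) (splitSingular_of hQ hn4) (reflGroup_eq_orth hQ hn4)
  have hmem : ∀ x : orth Q, x ∈ commutator (orth Q) ↔ (x : V ≃ₗ[F] V) ∈ siegelGroup Q := fun x => by
    rw [hC, Subgroup.mem_subgroupOf]
  let φ : commutator (orth Q) →* (V ≃ₗ[F] V) := (orth Q).subtype.comp (commutator (orth Q)).subtype
  have hφ : Function.Injective φ :=
    (orth Q).subtype_injective.comp (commutator (orth Q)).subtype_injective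
  have hrange : φ.range = siegelGroup Q := by
    ext y
    constructor
    · rintro ⟨x, rfl⟩; exact (hmem _).1 x.2
    · intro hy; exact ⟨⟨⟨y, siegelGroup_le_orth hy⟩, (hmem _).2 hy⟩, rfl⟩
  haveI : Nontrivial (commutator (orth Q) ⧸ Subgroup.center (commutator (orth Q))) := by
    rw [QuotientGroup.nontrivial_iff]
    intro h
    apply siegelGroup_ne_bot hQ hn
    refine eq_bot_iff.2 (le_trans (siegelGroup_perfect hQ hn) ?_)
    rw [Subgroup.commutator_le, ← hrange]
    rintro _ ⟨x, rfl⟩ _ ⟨y, rfl⟩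
    rw [Subgroup.mem_bot, commutatorElement_eq_one_iff_commute]
    show φ x * φ y = φ y * φ x
    rw [← map_mul, ← map_mul, Subgroup.mem_center_iff.1 (h ▸ Subgroup.mem_top y) x]
  refine ⟨fun K hK => ?_⟩
  set M := K.comap (QuotientGroup.mk' (Subgroup.center (commutator (orth Q))))
  have hM : M.Normal := hK.comap _
  have hKM : K = M.map (QuotientGroup.mk' (Subgroup.center (commutator (orth Q)))) :=
    (Subgroup.map_comap_eq_self_of_surjective (QuotientGroup.mk'_surjective _) K).symm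
  rcases siegel_normal_cases hQ hn (M.map φ) (hrange ▸ Subgroup.map_le_range φ M) (by
      rintro s hs _ ⟨x, hx, rfl⟩
      rw [← hrange] at hs
      obtain ⟨y, rfl⟩ := hs
      exact ⟨y * x * y⁻¹, hM.conj_mem x hx y, by simp⟩) with h | h
  · left
    rw [hKM, eq_bot_iff]
    rintro _ ⟨x, hx, rfl⟩
    exact (QuotientGroup.eq_one_iff x).2 ((mem_center_omega_iff hQ hn x).2 (h _ ⟨x, hx, rfl⟩))
  · right
    have : M = ⊤ := by
      rw [eq_top_iff]
      intro x _
      obtain ⟨y, hy, hyx⟩ := h (hrange ▸ ⟨x, rfl⟩ : φ x ∈ siegelGroup Q)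
      rwa [← hφ hyx]
    rw [hKM, this, Subgroup.map_top_of_surjective _ (QuotientGroup.mk'_surjective _)]

section Matrix

variable {ι : Type} [Fintype ι] [DecidableEq ι]

omit [Finite F] in
theorem map_Omega (Q : QuadraticForm F (ι → F)) :
    (Cfsg.Omega F ⇑Q).map (isomEquiv Q).toMonoidHom = commutator (orth Q) := by
  rw [Cfsg.Omega, commutator_def, commutator_def, Subgroup.map_commutator,
    Subgroup.map_top_of_surjective _ (isomEquiv Q).surjective]

/-- `Omega` of a matrix isometry group is the commutator subgroup of `orth`. -/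
noncomputable def omegaEquiv (Q : QuadraticForm F (ι → F)) :
    Cfsg.Omega F ⇑Q ≃* commutator (orth Q) :=
  ((isomEquiv Q).subgroupMap (Cfsg.Omega F ⇑Q)).trans (MulEquiv.subgroupCongr (map_Omega Q))

/-- `POmega` as `Omega` of `orth` modulo its centre. -/
noncomputable def pOmegaEquiv (Q : QuadraticForm F (ι → F)) :
    Cfsg.POmega F ⇑Q ≃* commutator (orth Q) ⧸ Subgroup.center (commutator (orth Q)) :=
  QuotientGroup.congr _ _ (omegaEquiv Q) (by
    ext x
    show x ∈ Subgroup.map (omegaEquiv Q).toMonoidHom _ ↔ _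
    rw [Subgroup.mem_map_equiv, Subgroup.mem_center_iff, Subgroup.mem_center_iff]
    constructor
    · intro h y
      have := congrArg (omegaEquiv Q) (h ((omegaEquiv Q).symm y))
      simpa using this
    · intro h y
      apply (omegaEquiv Q).injective
      simpa using h (omegaEquiv Q y))

theorem isSimpleGroup_pOmega (Q : QuadraticForm F (ι → F)) (hQ : (polarBilin Q).Nondegenerate)
    (hn : 5 ≤ Fintype.card ι) : IsSimpleGroup (Cfsg.POmega F ⇑Q) := by
  haveI := isSimpleGroup_omega_mod_center hQ (by simpa using hn)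
  exact (pOmegaEquiv Q).isSimpleGroup

open Classical in
theorem card_pOmega (Q : QuadraticForm F (ι → F)) (hQ : (polarBilin Q).Nondegenerate)
    (hn : 5 ≤ Fintype.card ι) :
    Nat.card (Cfsg.POmega F ⇑Q) *
      (if (2 : F) ≠ 0 ∧ ∃ g : Cfsg.isometryGroup F ⇑Q, g ∈ Cfsg.Omega F ⇑Q ∧
        ((g : Matrix.GeneralLinearGroup ι F) : Matrix ι ι F) = -1 then 2 else 1) *
      (commutator (orth Q)).index = Nat.card (Cfsg.isometryGroup F ⇑Q) := by
  have hn' : 5 ≤ Module.finrank F (ι → F) := by simpa using hn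
  have h1 := card_center_omega hQ hn'
  have hiff : ((2 : F) ≠ 0 ∧ ∃ g : commutator (orth Q), ∀ v, ((g : orth Q) : (ι → F) ≃ₗ[F] (ι → F)) v = -v) ↔
      ((2 : F) ≠ 0 ∧ ∃ g : Cfsg.isometryGroup F ⇑Q, g ∈ Cfsg.Omega F ⇑Q ∧
        ((g : Matrix.GeneralLinearGroup ι F) : Matrix ι ι F) = -1) := by
    refine and_congr_right fun _ => ⟨?_, ?_⟩
    · rintro ⟨g, hg⟩
      refine ⟨(omegaEquiv Q).symm g, Subtype.coe_prop _, matrix_eq_of_mulVec fun v => ?_⟩
      rw [← isomEquiv_apply, Matrix.neg_mulVec, Matrix.one_mulVec, ← hg]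
      congr 1
      exact congrArg (fun z : commutator (orth Q) => ((z : orth Q) : (ι → F) ≃ₗ[F] (ι → F)))
        ((omegaEquiv Q).apply_symm_apply g)
    · rintro ⟨g, hg, hm⟩
      refine ⟨omegaEquiv Q ⟨g, hg⟩, fun v => ?_⟩
      show (isomEquiv Q g : (ι → F) ≃ₗ[F] (ι → F)) v = -v
      rw [isomEquiv_apply, hm, Matrix.neg_mulVec, Matrix.one_mulVec]
  rw [if_congr hiff rfl rfl] at h1
  rw [← h1, Nat.card_congr (pOmegaEquiv Q).toEquiv, ← Subgroup.card_eq_card_quotient_mul_card_subgroup,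
    Subgroup.card_mul_index, Nat.card_congr (isomEquiv Q).toEquiv]

end Matrix

end CfsgLib.Geometry
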