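import Cfsg.Agent.Lib.Geometry.EvenClass

/-! Transport of the automorphisms of `POmega` along similitudes between forms on different spaces. -/

set_option autoImplicit false

namespace CfsgLib.Geometry

open Matrix QuadraticMap

variable {F : Type*} [Field F] {ι κ : Type} [Fintype ι] [DecidableEq ι] [Fintype κ] [DecidableEq κ]

/-- A similitude from the form `R` onto the form `Q`. -/
structure FormSim (R : (κ → F) → F) (Q : (ι → F) → F) where
  /-- the linear equivalence -/
  equiv : (κ → F) ≃ₗ[F] (ι → F)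
  /-- the multiplier -/
  mult : Fˣ
  map_app : ∀ v, Q (equiv v) = (mult : F) * R v

/-- Conjugation of linear groups by a linear equivalence. -/
noncomputable def conjGL (E : (κ → F) ≃ₗ[F] (ι → F)) : GL κ F ≃* GL ι F :=
  glEquiv.trans ((MulEquiv.mk'
    { toFun := fun e => (E.symm.trans e).trans E
      invFun := fun e => (E.trans e).trans E.symm
      left_inv := fun e => LinearEquiv.ext fun v => by simp
      right_inv := fun e => LinearEquiv.ext fun v => by simp }
    fun a b => LinearEquiv.ext fun v => by simp [LinearEquiv.mul_apply]).trans glEquiv.symm)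

theorem conjGL_mulVec (E : (κ → F) ≃ₗ[F] (ι → F)) (g : GL κ F) (v : κ → F) :
    ((conjGL E g : GL ι F) : Matrix ι ι F) *ᵥ E v = E ((g : Matrix κ κ F) *ᵥ v) := by
  simp [conjGL, glEquiv_symm_mulVec, MulEquiv.mk']

theorem det_conjGL (E : (κ → F) ≃ₗ[F] (ι → F)) (g : GL κ F) :
    ((conjGL E g : GL ι F) : Matrix ι ι F).det = (g : Matrix κ κ F).det := by
  rw [← det_glEquiv, ← det_glEquiv, ← LinearMap.det_conj (glEquiv g : (κ → F) ≃ₗ[F] (κ → F)).toLinearMap E]
  congr 1
  refine LinearMap.ext fun v => ?_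
  obtain ⟨w, rfl⟩ := E.surjective v
  simp [conjGL, MulEquiv.mk']

variable {R : (κ → F) → F} {Q : (ι → F) → F}

theorem FormSim.mem_sim (T : FormSim R Q) {g : GL κ F} (hg : g ∈ Cfsg.Geo.quadSimilarityGroup R) :
    conjGL T.equiv g ∈ Cfsg.Geo.quadSimilarityGroup Q := by
  obtain ⟨c, hc⟩ := hg
  refine ⟨c, fun v => ?_⟩
  obtain ⟨w, rfl⟩ := T.equiv.surjective v
  rw [conjGL_mulVec, T.map_app, T.map_app, hc]; ring

theorem FormSim.mem_sim' (T : FormSim R Q) {g : GL ι F} (hg : g ∈ Cfsg.Geo.quadSimilarityGroup Q) :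
    (conjGL T.equiv).symm g ∈ Cfsg.Geo.quadSimilarityGroup R := by
  obtain ⟨c, hc⟩ := hg
  refine ⟨c, fun v => mul_left_cancel₀ T.mult.ne_zero ?_⟩
  rw [← T.map_app, ← conjGL_mulVec, MulEquiv.apply_symm_apply, hc, T.map_app]; ring

theorem FormSim.mem_iso (T : FormSim R Q) {g : GL κ F} :
    conjGL T.equiv g ∈ Cfsg.isometryGroup F Q ↔ g ∈ Cfsg.isometryGroup F R := by
  rw [mem_isometryGroup_iff, mem_isometryGroup_iff]
  refine ⟨fun h v => mul_left_cancel₀ T.mult.ne_zero ?_, fun h v => ?_⟩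
  · rw [← T.map_app, ← conjGL_mulVec, h, T.map_app]
  · obtain ⟨w, rfl⟩ := T.equiv.surjective v
    rw [conjGL_mulVec, T.map_app, T.map_app, h]

/-- The isomorphism of similarity groups. -/
noncomputable def FormSim.simEquiv (T : FormSim R Q) :
    Cfsg.Geo.quadSimilarityGroup R ≃* Cfsg.Geo.quadSimilarityGroup Q where
  toFun g := ⟨conjGL T.equiv g, T.mem_sim g.2⟩
  invFun g := ⟨(conjGL T.equiv).symm g, T.mem_sim' g.2⟩
  left_inv g := Subtype.ext ((conjGL T.equiv).symm_apply_apply _)
  right_inv g := Subtype.ext ((conjGL T.equiv).apply_symm_apply _)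
  map_mul' a b := Subtype.ext (map_mul _ _ _)

/-- The isomorphism of isometry groups. -/
noncomputable def FormSim.isoEquiv (T : FormSim R Q) :
    Cfsg.isometryGroup F R ≃* Cfsg.isometryGroup F Q where
  toFun g := ⟨conjGL T.equiv g, T.mem_iso.2 g.2⟩
  invFun g := ⟨(conjGL T.equiv).symm g, T.mem_iso.1 (by rw [MulEquiv.apply_symm_apply]; exact g.2)⟩
  left_inv g := Subtype.ext ((conjGL T.equiv).symm_apply_apply _)
  right_inv g := Subtype.ext ((conjGL T.equiv).apply_symm_apply _)
  map_mul' a b := Subtype.ext (map_mul _ _ _)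

theorem FormSim.map_omega (T : FormSim R Q) :
    (Cfsg.Omega F R).map (T.isoEquiv : _ →* _) = Cfsg.Omega F Q := by
  rw [Cfsg.Omega, Cfsg.Omega, commutator_def, commutator_def, Subgroup.map_commutator,
    Subgroup.map_top_of_surjective _ T.isoEquiv.surjective]

/-- The isomorphism of `Omega`. -/
noncomputable def FormSim.omegaEquiv (T : FormSim R Q) : Cfsg.Omega F R ≃* Cfsg.Omega F Q :=
  (T.isoEquiv.subgroupMap _).trans (MulEquiv.subgroupCongr T.map_omega)

theorem FormSim.omegaEquiv_coe (T : FormSim R Q) (s : Cfsg.Omega F R) :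
    (((T.omegaEquiv s : Cfsg.Omega F Q) : Cfsg.isometryGroup F Q) : GL ι F) =
      conjGL T.equiv ((s : Cfsg.isometryGroup F R) : GL κ F) := rfl

theorem map_center_equiv {X Y : Type*} [Group X] [Group Y] (φ : X ≃* Y) :
    (Subgroup.center X).map φ.toMonoidHom = Subgroup.center Y := by
  ext y
  obtain ⟨x, rfl⟩ := φ.surjective y
  rw [MulEquiv.toMonoidHom_eq_coe, ← MonoidHom.coe_coe φ, Subgroup.mem_map_iff_mem (f := (φ : X →* Y)) φ.injective,
    Subgroup.mem_center_iff, Subgroup.mem_center_iff]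
  exact ⟨fun h z => by obtain ⟨w, rfl⟩ := φ.surjective z; simp [← map_mul, h w],
    fun h z => φ.injective (by simpa using h (φ z))⟩

/-- The isomorphism of `POmega`. -/
noncomputable def FormSim.pomegaEquiv (T : FormSim R Q) : Cfsg.POmega F R ≃* Cfsg.POmega F Q :=
  QuotientGroup.congr _ _ T.omegaEquiv (map_center_equiv T.omegaEquiv)

theorem FormSim.pomegaEquiv_mk (T : FormSim R Q) (s : Cfsg.Omega F R) :
    T.pomegaEquiv (QuotientGroup.mk s) = QuotientGroup.mk (T.omegaEquiv s) := rfl

/-- The isomorphism of automorphism groups. -/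
noncomputable def FormSim.autEquiv (T : FormSim R Q) :
    MulAut (Cfsg.POmega F R) ≃* MulAut (Cfsg.POmega F Q) :=
  MulAut.congr T.pomegaEquiv

/-- Transport of semisimilarities. -/
theorem FormSim.autEquiv_autOmega (T : FormSim R Q) (x : semiSim R) (y : semiSim Q)
    (h : ∀ v, slAct (y : GammaL ι F) (T.equiv v) = T.equiv (slAct (x : GammaL κ F) v)) :
    T.autEquiv (autOmega R x) = autOmega Q y := by
  refine MulEquiv.ext fun z => ?_
  induction z using QuotientGroup.induction_on with
  | H s =>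
    obtain ⟨t, rfl⟩ := T.omegaEquiv.surjective s
    show T.pomegaEquiv (autOmega R x (T.pomegaEquiv.symm (T.pomegaEquiv (QuotientGroup.mk t)))) = _
    rw [MulEquiv.symm_apply_apply, autOmega_mk, T.pomegaEquiv_mk, autOmega_mk]
    refine congrArg _ (Subtype.ext (Subtype.ext (Units.ext (matrix_eq_of_mulVec fun v => ?_))))
    obtain ⟨w, rfl⟩ : ∃ w, slAct (y : GammaL ι F) w = v := ⟨_, slAct_apply_inv _ v⟩
    obtain ⟨u, rfl⟩ := T.equiv.surjective w
    rw [restrictChar_coe, conjIsometry_mulVec, T.omegaEquiv_coe, T.omegaEquiv_coe, conjGL_mulVec, h, h,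
      conjGL_mulVec, restrictChar_coe, conjIsometry_mulVec]

/-- Every semisimilarity has a transport. -/
theorem FormSim.exists_semiSim (T : FormSim R Q) (x : semiSim R) :
    ∃ y : semiSim Q, (y : GammaL ι F).right = (x : GammaL κ F).right ∧
      ∀ v, slAct (y : GammaL ι F) (T.equiv v) = T.equiv (slAct (x : GammaL κ F) v) := by
  set σ := (x : GammaL κ F).right with hσ
  let si : (ι → F) → (ι → F) := fun v i => σ.symm (v i)
  let M : (ι → F) →ₗ[F] (ι → F) :=
    { toFun := fun v => T.equiv (slAct (x : GammaL κ F) (T.equiv.symm (si v)))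
      map_add' := fun a b => by
        rw [show si (a + b) = si a + si b from funext fun i => map_add _ _ _, map_add, slAct_add, map_add]
      map_smul' := fun k a => by
        rw [show si (k • a) = σ.symm k • si a from funext fun i => map_mul _ _ _, map_smul, slAct_smul, map_smul,
          ← hσ, σ.apply_symm_apply]; rfl }
  have hM : Function.Injective M := fun a b h => by
    have h1 := congrArg (slAct (x : GammaL κ F)⁻¹) (T.equiv.injective h)
    rw [slAct_inv_apply, slAct_inv_apply] at h1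
    funext i
    exact σ.symm.injective (congrFun (T.equiv.symm.injective h1) i)
  let g : GL ι F := glEquiv.symm (LinearEquiv.ofBijective M
    ⟨hM, (LinearMap.injective_iff_surjective (f := M)).1 hM⟩)
  have hact : ∀ v, slAct (⟨g, σ⟩ : GammaL ι F) (T.equiv v) = T.equiv (slAct (x : GammaL κ F) v) := fun v => by
    show (g : Matrix ι ι F) *ᵥ (fun i => σ (T.equiv v i)) = _
    rw [glEquiv_symm_mulVec]
    show T.equiv (slAct (x : GammaL κ F) (T.equiv.symm fun i => σ.symm (σ (T.equiv v i)))) = _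
    simp
  obtain ⟨c, hc⟩ := x.2
  refine ⟨⟨⟨g, σ⟩, c * T.mult * (Units.map (σ : F →* F) T.mult)⁻¹, fun v => ?_⟩, rfl, hact⟩
  obtain ⟨w, rfl⟩ := T.equiv.surjective v
  rw [hact, T.map_app, T.map_app, hc, ← hσ]
  show _ = _ * σ ((T.mult : F) * R w)
  rw [map_mul, Units.val_mul, Units.val_mul, Units.val_inv_eq_inv_val]
  show _ = _ * (σ (T.mult : F))⁻¹ * (σ (T.mult : F) * σ (R w))
  have : σ (T.mult : F) ≠ 0 := (map_ne_zero σ).2 T.mult.ne_zero
  field_simp

theorem FormSim.autEquiv_simAut (T : FormSim R Q) (g : Cfsg.Geo.quadSimilarityGroup R) :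
    T.autEquiv (simAut R g) = simAut Q (T.simEquiv g) := by
  refine T.autEquiv_autOmega (simIncl R g) (simIncl Q (T.simEquiv g)) fun v => ?_
  show slAct (SemidirectProduct.inl _) _ = T.equiv (slAct (SemidirectProduct.inl _) v)
  rw [slAct_inl, slAct_inl]
  exact conjGL_mulVec _ _ _

/-- Inner automorphisms correspond under a transport of automorphism groups. -/
theorem map_inn_congr {X Y : Type*} [Group X] [Group Y] (φ : X ≃* Y) :
    (Cfsg.Inn X).map (MulAut.congr φ).toMonoidHom = Cfsg.Inn Y := by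
  have h : ∀ x, MulAut.congr φ (MulAut.conj x) = MulAut.conj (φ x) := fun x =>
    MulEquiv.ext fun y => by simp [MulAut.congr]
  ext β
  constructor
  · rintro ⟨_, ⟨x, rfl⟩, rfl⟩
    exact ⟨φ x, (h x).symm⟩
  · rintro ⟨y, rfl⟩
    exact ⟨_, ⟨φ.symm y, rfl⟩, by rw [MulEquiv.coe_toMonoidHom, h, φ.apply_symm_apply]⟩

theorem FormSim.map_map_simAut (T : FormSim R Q) (S : Subgroup (Cfsg.Geo.quadSimilarityGroup R)) :
    (S.map (simAut R)).map T.autEquiv.toMonoidHom = (S.map T.simEquiv.toMonoidHom).map (simAut Q) := by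
  rw [Subgroup.map_map, Subgroup.map_map]
  congr 1
  exact MonoidHom.ext T.autEquiv_simAut

/-- The class-preserving similarities correspond. -/
theorem FormSim.map_clsSub [Finite F] {M : Matrix κ κ F} {M' : Matrix ι ι F} {k : ℕ}
    (D : EvenHyp M k) (D' : EvenHyp M' k) (T : FormSim ⇑(matQuad M) ⇑(matQuad M')) :
    (clsSub M k).map T.simEquiv.toMonoidHom = clsSub M' k := by
  have key : ∀ g, T.simEquiv g ∈ clsSub M' k ↔ g ∈ clsSub M k := by
    intro g
    by_cases h2 : (2 : F) = 0
    · rw [clsSub_two h2, clsSub_two h2]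
      show simAut ⇑(matQuad M') (T.simEquiv g) ∈ Cfsg.Inn _ ↔ simAut ⇑(matQuad M) g ∈ Cfsg.Inn _
      rw [← T.autEquiv_simAut, ← map_inn_congr T.pomegaEquiv]
      exact Subgroup.mem_map_equiv.trans (by rw [FormSim.autEquiv, MulEquiv.symm_apply_apply])
    · rw [D'.mem_clsSub_odd h2, D.mem_clsSub_odd h2, simChi_eq_one_iff, simChi_eq_one_iff]
      have hm : (simMult D'.ne (T.simEquiv g) : F) = simMult D.ne g := by
        refine simMult_eq D'.ne _ fun v => ?_
        obtain ⟨w, rfl⟩ := T.equiv.surjective v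
        show matQuad M' ((conjGL T.equiv (g : GL κ F) : Matrix ι ι F) *ᵥ _) = _
        rw [conjGL_mulVec, T.map_app, T.map_app, simMult_spec D.ne]; ring
      rw [hm]
      show (conjGL T.equiv (g : GL κ F) : Matrix ι ι F).det = _ ↔ _
      rw [det_conjGL]
  ext g
  obtain ⟨g, rfl⟩ := T.simEquiv.surjective g
  rw [key]
  exact Subgroup.mem_map_iff_mem T.simEquiv.injective

theorem FormSim.map_inndiag [Finite F] {M : Matrix κ κ F} {M' : Matrix ι ι F} {k : ℕ}
    (D : EvenHyp M k) (D' : EvenHyp M' k) (T : FormSim ⇑(matQuad M) ⇑(matQuad M')) :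
    ((clsSub M k).map (simAut _)).map T.autEquiv.toMonoidHom = (clsSub M' k).map (simAut _) := by
  rw [T.map_map_simAut, T.map_clsSub D D']

/-- A similarity relation gives a similitude. -/
theorem IsSimTo.nonempty_formSim {R' : (κ → F) → F} {Q' : (ι → F) → F} (h : IsSimTo Q' R') :
    Nonempty (FormSim R' Q') := by
  obtain ⟨E, c, hc, he⟩ := h
  exact ⟨⟨E, Units.mk0 c hc, he⟩⟩

end CfsgLib.Geometry
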