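import Cfsg.Agent.Lib.Geometry.OmegaPerfect

/-! Iwasawa's argument: normal subgroups and centre of `Omega`. -/

set_option autoImplicit false

namespace CfsgLib.Geometry

open QuadraticMap

/-- A group generated, modulo a normal subgroup, by commuting elements. -/
theorem commutator_le_of_commuting_gen {G : Type*} [Group G] (N : Subgroup G) [N.Normal]
    (A : Set G) (hA : ∀ a ∈ A, ∀ b ∈ A, a * b = b * a) (hgen : Subgroup.closure A ⊔ N = ⊤) :
    commutator G ≤ N := by
  have htop : Subgroup.closure (QuotientGroup.mk' N '' A) = ⊤ := by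
    rw [← MonoidHom.map_closure]
    have h := congrArg (Subgroup.map (QuotientGroup.mk' N)) hgen
    rwa [Subgroup.map_sup, Subgroup.map_top_of_surjective _ (QuotientGroup.mk'_surjective N),
      QuotientGroup.map_mk'_self, sup_bot_eq] at h
  have h1 : ∀ x ∈ QuotientGroup.mk' N '' A, ∀ y : G ⧸ N, Commute x y := fun x hx y => by
    have hy : y ∈ Subgroup.closure (QuotientGroup.mk' N '' A) := htop ▸ Subgroup.mem_top y
    induction hy using Subgroup.closure_induction with
    | mem y hy =>
      obtain ⟨a, ha, rfl⟩ := hx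
      obtain ⟨b, hb, rfl⟩ := hy
      show _ * _ = _ * _
      rw [← map_mul, ← map_mul, hA a ha b hb]
    | one => exact Commute.one_right x
    | mul a b _ _ iha ihb => exact iha.mul_right ihb
    | inv a _ iha => exact iha.inv_right
  have hall : ∀ x y : G ⧸ N, Commute x y := fun x y => by
    have hx : x ∈ Subgroup.closure (QuotientGroup.mk' N '' A) := htop ▸ Subgroup.mem_top x
    induction hx using Subgroup.closure_induction with
    | mem x hx => exact h1 x hx y
    | one => exact Commute.one_left y
    | mul a b _ _ iha ihb => exact iha.mul_left ihb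
    | inv a _ iha => exact iha.inv_left
  rw [commutator_def, Subgroup.commutator_le]
  intro a _ b _
  rw [← QuotientGroup.eq_one_iff]
  show QuotientGroup.mk' N _ = 1
  rw [map_commutatorElement, commutatorElement_eq_one_iff_commute]
  exact hall _ _

variable {F V : Type*} [Field F] [AddCommGroup V] [Module F V] [FiniteDimensional F V] [Finite F]
variable {Q : QuadraticForm F V}

/-- A linear map fixing every singular point is a scalar. -/
theorem exists_smul_of_fix_points (hQ : (polarBilin Q).Nondegenerate) (hn : 5 ≤ Module.finrank F V)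
    {g : V →ₗ[F] V} (h : ∀ e, e ≠ 0 → Q e = 0 → ∃ t : F, g e = t • e) :
    ∃ t : F, ∀ v, g v = t • v := by
  obtain ⟨e, he0, he⟩ := exists_singular hQ (by omega)
  obtain ⟨f, hf, hef⟩ := exists_pair hQ he0 he
  have hf0 : f ≠ 0 := fun h' => by
    rw [h', QuadraticMap.polar_zero_right] at hef; exact zero_ne_one hef
  obtain ⟨x, hx0, hx, hxW⟩ := exists_singular_pairPerp hQ hn he hf hef
  obtain ⟨t, ht⟩ := h e he0 he
  -- orthogonal independent singular vectors have the same multiplier
  have same : ∀ a b : V, a ≠ 0 → b ∉ Submodule.span F {a} → Q a = 0 → Q b = 0 → polar Q a b = 0 →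
      ∀ s : F, g a = s • a → g b = s • b := by
    intro a b ha hba hQa hQb hab s hs
    have hb : b ≠ 0 := fun hb => hba (hb ▸ Submodule.zero_mem _)
    obtain ⟨r, hr⟩ := h b hb hQb
    have hne : a + b ≠ 0 := fun h0 => hba (Submodule.mem_span_singleton.2 ⟨-1, by
      rw [neg_one_smul]; exact (eq_neg_of_add_eq_zero_right h0).symm⟩)
    obtain ⟨q, hq⟩ := h _ hne (by rw [map_add', hQa, hQb, hab]; ring)
    rw [map_add, hs, hr, smul_add] at hq
    have hli : ∀ c d : F, c • a + d • b = 0 → c = 0 ∧ d = 0 := fun c d hcd => by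
      have hd : d = 0 := by
        by_contra hd
        refine hba (Submodule.mem_span_singleton.2 ⟨-(d⁻¹ * c), ?_⟩)
        rw [neg_smul, mul_smul, eq_neg_of_add_eq_zero_left hcd, smul_neg, neg_neg, inv_smul_smul₀ hd]
      rw [hd, zero_smul, add_zero, smul_eq_zero] at hcd
      exact ⟨hcd.resolve_right ha, hd⟩
    obtain ⟨h1, h2⟩ := hli (s - q) (r - q) (by
      rw [sub_smul, sub_smul, sub_add_sub_comm, hq, sub_self])
    rw [hr, show r = s by linear_combination h2 - h1]
  have hxe : x ∉ Submodule.span F {e} := fun hm => by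
    obtain ⟨c, rfl⟩ := Submodule.mem_span_singleton.1 hm
    have := (mem_pairPerp.1 hxW).2
    rw [polar_smul_right', polar_comm, hef, mul_one] at this
    exact hx0 (by rw [this, zero_smul])
  have hgx : g x = t • x := same e x he0 hxe he hx (mem_pairPerp.1 hxW).1 t ht
  have hfx : f ∉ Submodule.span F {x} := fun hm => by
    obtain ⟨c, hc⟩ := Submodule.mem_span_singleton.1 hm
    rw [← hc, polar_smul_right', (mem_pairPerp.1 hxW).1, mul_zero] at hef
    exact zero_ne_one hef
  have hgf : g f = t • f := same x f hx0 hfx hx hf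
    (by rw [polar_comm]; exact (mem_pairPerp.1 hxW).2) t hgx
  refine ⟨t, fun v => ?_⟩
  have hW : ∀ w ∈ pairPerp Q e f, g w = t • w :=
    pairPerp_induction hQ he hf hef hx0 hx hxW (fun w => g w = t • w)
      (fun a b _ _ ha hb => by rw [map_add, ha, hb, smul_add])
      (fun z hz hz0 hzne => by
        refine same e z he0 (fun hm => ?_) he hz0 (mem_pairPerp.1 hz).1 t ht
        obtain ⟨c, rfl⟩ := Submodule.mem_span_singleton.1 hm
        have := (mem_pairPerp.1 hz).2
        rw [polar_smul_right', polar_comm, hef, mul_one] at this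
        exact hzne (by rw [this, zero_smul]))
      (by simp)
  have hv : v - polar Q v f • e - polar Q v e • f ∈ pairPerp Q e f := by
    refine mem_pairPerp.2 ⟨?_, ?_⟩ <;>
      simp [polar_sub_right, polar_smul_right', polar_self', he, hf, hef, polar_comm Q f e,
        polar_comm Q v e, polar_comm Q v f]
  have := hW _ hv
  simp only [map_sub, map_smul, ht, hgf] at this
  calc g v = (g v - polar Q v f • t • e - polar Q v e • t • f) + polar Q v f • t • e
        + polar Q v e • t • f := by abel
    _ = t • v := by rw [this]; module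

/-- An isometry fixing every singular point is a sign. -/
theorem eq_sign_of_fix_points (hQ : (polarBilin Q).Nondegenerate) (hn : 5 ≤ Module.finrank F V)
    {g : V ≃ₗ[F] V} (hg : g ∈ orth Q)
    (h : ∀ e, e ≠ 0 → Q e = 0 → ∃ t : F, g e = t • e) :
    ∃ t : F, t * t = 1 ∧ ∀ v, g v = t • v := by
  obtain ⟨t, ht⟩ := exists_smul_of_fix_points hQ hn (g := g.toLinearMap) h
  obtain ⟨e, he0, he⟩ := exists_singular hQ (by omega)
  obtain ⟨f, -, hef⟩ := exists_pair hQ he0 he
  refine ⟨t, ?_, ht⟩
  have := orth_polar hg e f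
  rwa [show g e = t • e from ht e, show g f = t • f from ht f, polar_smul_left', polar_smul_right',
    hef, mul_one] at this

/-- Transitivity of the Siegel group on orthogonal pairs of singular points. -/
theorem siegel_trans_orth (hQ : (polarBilin Q).Nondegenerate) (hn : 5 ≤ Module.finrank F V)
    {a b a' b' : V} (ha0 : a ≠ 0) (ha'0 : a' ≠ 0) (ha : Q a = 0) (hb : Q b = 0) (ha' : Q a' = 0)
    (hb' : Q b' = 0) (hab : polar Q a b = 0) (hab' : polar Q a' b' = 0)
    (hba : b ∉ Submodule.span F {a}) (hba' : b' ∉ Submodule.span F {a'}) :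
    ∃ s ∈ siegelGroup Q, s a = a' ∧ ∃ t : F, t ≠ 0 ∧ s b = t • b' := by
  obtain ⟨s₀, hs₀, hs₀a⟩ := siegel_trans_singular hQ (by omega) ha0 ha'0 ha ha'
  have hs₀o := siegelGroup_le_orth hs₀
  obtain ⟨f, hf, hef⟩ := exists_pair hQ ha'0 ha'
  have hee : polar Q a' a' = 0 := by rw [polar_self', ha', mul_zero]
  -- push a singular vector orthogonal to `a'` into the complement of `(a', f)`
  have push : ∀ z, Q z = 0 → polar Q a' z = 0 → z ∉ Submodule.span F {a'} →
      ∃ s ∈ siegelGroup Q, s a' = a' ∧ s z ∈ pairPerp Q a' f ∧ Q (s z) = 0 ∧ s z ≠ 0 := by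
    intro z hz haz hza
    let z₀ := z - polar Q f z • a'
    have hz₀ : z₀ ∈ pairPerp Q a' f := mem_pairPerp.2
      ⟨by simp [z₀, polar_sub_right, polar_smul_right', haz, hee],
       by simp [z₀, polar_sub_right, polar_smul_right', polar_comm Q f a', hef]⟩
    have hz₀0 : z₀ ≠ 0 := fun h => hza (Submodule.mem_span_singleton.2 ⟨_, (sub_eq_zero.1 h).symm⟩)
    have hz₀Q : Q z₀ = 0 := by
      simp [z₀, map_sub', map_smul', hz, ha', polar_smul_right', polar_comm Q z a', haz]
    have hz₀H : z₀ ∉ Submodule.span F ({a', f} : Set V) := fun h =>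
      hz₀0 (pair_nondeg ha' hf hef z₀ h fun s hs => by
        obtain ⟨c, d, rfl⟩ := Submodule.mem_span_pair.1 hs
        rw [polar_add_right, polar_smul_right', polar_smul_right', polar_comm Q z₀ a', polar_comm Q z₀ f,
          (mem_pairPerp.1 hz₀).1, (mem_pairPerp.1 hz₀).2]; ring)
    obtain ⟨u, hu, huz⟩ := exists_polar hQ _ hz₀H (polar Q f z)
    have hua : polar Q a' u = 0 := by
      rw [polar_comm]; exact hu a' (Submodule.subset_span (by simp))
    refine ⟨siegel Q a' u ha' hua, siegel_mem _ _ _ _, ?_, ?_⟩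
    · exact siegel_eq_self Q _ _ ha' hua hee hua
    have hEz : siegel Q a' u ha' hua z = z₀ := by
      have hzu : polar Q z u = polar Q f z := by
        rw [show z = z₀ + polar Q f z • a' by simp [z₀], polar_add_left, polar_smul_left', hua,
          polar_comm, huz]
        simp [z₀]
      rw [siegel_apply, polar_comm Q z a', haz, hzu]
      simp [z₀]
    rw [hEz]
    exact ⟨hz₀, hz₀Q, hz₀0⟩
  have hs₀b : s₀ b ∉ Submodule.span F {a'} := fun hm => by
    obtain ⟨c, hc⟩ := Submodule.mem_span_singleton.1 hm
    exact hba (Submodule.mem_span_singleton.2 ⟨c, s₀.injective (by rw [map_smul, hs₀a, hc])⟩)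
  obtain ⟨s₁, hs₁, hs₁a, hz, hzQ, hz0⟩ := push (s₀ b) (by rw [mem_orth.1 hs₀o, hb])
    (by rw [← hs₀a, orth_polar hs₀o, hab]) hs₀b
  obtain ⟨s₂, hs₂, hs₂a, hz', hz'Q, hz'0⟩ := push b' hb' hab' hba'
  generalize hzdef : s₁ (s₀ b) = z at hz hzQ hz0
  generalize hz'def : s₂ b' = z' at hz' hz'Q hz'0
  -- move `z` to a multiple of `z'` fixing `a'`
  obtain ⟨r, hr, hra, t, ht, hrz⟩ : ∃ r ∈ siegelGroup Q, r a' = a' ∧ ∃ t : F, t ≠ 0 ∧ r z = t • z' := by
    have haz := (mem_pairPerp.1 hz).1
    have hfz := (mem_pairPerp.1 hz).2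
    have haz' := (mem_pairPerp.1 hz').1
    have hfz' := (mem_pairPerp.1 hz').2
    by_cases hdep : z' ∈ Submodule.span F {z}
    · obtain ⟨c, hc⟩ := Submodule.mem_span_singleton.1 hdep
      have hc0 : c ≠ 0 := fun h => hz'0 (by rw [← hc, h, zero_smul])
      exact ⟨1, one_mem _, rfl, c⁻¹, inv_ne_zero hc0, by rw [← hc, inv_smul_smul₀ hc0]; rfl⟩
    have hff : polar Q f f = 0 := by rw [polar_self', hf, mul_zero]
    have hzz : polar Q z z = 0 := by rw [polar_self', hzQ, mul_zero]
    have hz'z' : polar Q z' z' = 0 := by rw [polar_self', hz'Q, mul_zero]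
    by_cases hp : polar Q z z' = 0
    · obtain ⟨a₁, ha₁, hza₁, ha₁H⟩ := exists_partner hQ (Submodule.span F ({a', f, z'} : Set V))
        (e := z) (fun hm => by
          obtain ⟨x, y, r, hxyr⟩ := Submodule.mem_span_triple.1 hm
          have h1 := haz
          have h2 := hfz
          rw [← hxyr] at h1 h2
          simp [polar_add_right, polar_smul_right', hee, hef, haz', hfz', hff, polar_comm Q f a'] at h1 h2
          rw [h1, h2] at hxyr
          simp at hxyr
          have hr0 : r ≠ 0 := fun h => hz0 (by rw [← hxyr, h, zero_smul])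
          exact hdep (Submodule.mem_span_singleton.2 ⟨r⁻¹, by rw [← hxyr, inv_smul_smul₀ hr0]⟩))
        hzQ (fun h hh => by
          obtain ⟨x, y, r, rfl⟩ := Submodule.mem_span_triple.1 hh
          simp [polar_add_right, polar_smul_right', polar_comm Q z a', polar_comm Q z f, haz, hfz, hp])
      obtain ⟨b₁, hb₁, hzb₁, hb₁H⟩ := exists_partner hQ (Submodule.span F ({a', f, z} : Set V))
        (e := z') (fun hm => by
          obtain ⟨x, y, r, hxyr⟩ := Submodule.mem_span_triple.1 hm
          have h1 := haz'
          have h2 := hfz'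
          rw [← hxyr] at h1 h2
          simp [polar_add_right, polar_smul_right', hee, hef, haz, hfz, hff, polar_comm Q f a'] at h1 h2
          rw [h1, h2] at hxyr
          simp at hxyr
          exact hdep (Submodule.mem_span_singleton.2 ⟨r, hxyr⟩))
        hz'Q (fun h hh => by
          obtain ⟨x, y, r, rfl⟩ := Submodule.mem_span_triple.1 hh
          simp [polar_add_right, polar_smul_right', polar_comm Q z' a', polar_comm Q z' f, haz', hfz',
            polar_comm Q z' z, hp])
      have a1 := ha₁H a' (Submodule.subset_span (by simp))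
      have a2 := ha₁H z' (Submodule.subset_span (by simp))
      have b1 := hb₁H a' (Submodule.subset_span (by simp))
      have b2 := hb₁H z (Submodule.subset_span (by simp))
      let c := a₁ + b₁ + (-(polar Q a₁ b₁)) • z
      have hc : Q c = 0 := by
        simp only [c, map_add', map_smul', hzQ, ha₁, hb₁, polar_add_left, polar_smul_right',
          polar_comm Q a₁ z, hza₁, b2]
        ring
      obtain ⟨s, hs, h1, -, h3⟩ := exists_siegel_move (e := z) (z := z') hzQ hz'Q hc
        (by simp only [c, polar_add_right, polar_smul_right', hza₁, polar_comm Q z b₁, b2, hzz]; ring)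
        (by simp only [c, polar_add_right, polar_smul_right', hzb₁, polar_comm Q z' a₁, a2,
          polar_comm Q z' z, hp]; ring)
      refine ⟨s, hs, h3 a' haz haz' ?_, 1, one_ne_zero, by rw [one_smul, h1]⟩
      simp [c, polar_add_right, polar_smul_right', polar_comm Q a' a₁, polar_comm Q a' b₁, a1, b1, haz]
    · have hnd : ∀ w ∈ Submodule.span F ({a', f} : Set V) ⊔ Submodule.span F ({z, z'} : Set V),
          (∀ s ∈ Submodule.span F ({a', f} : Set V) ⊔ Submodule.span F ({z, z'} : Set V),
            polar Q w s = 0) → w = 0 := by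
        intro w hw hws
        obtain ⟨u, hu, v, hv, rfl⟩ := Submodule.mem_sup.1 hw
        obtain ⟨p₁, p₂, rfl⟩ := Submodule.mem_span_pair.1 hu
        obtain ⟨p₃, p₄, rfl⟩ := Submodule.mem_span_pair.1 hv
        have e1 := hws a' (Submodule.mem_sup_left (Submodule.subset_span (by simp)))
        have e2 := hws f (Submodule.mem_sup_left (Submodule.subset_span (by simp)))
        have e3 := hws z (Submodule.mem_sup_right (Submodule.subset_span (by simp)))
        have e4 := hws z' (Submodule.mem_sup_right (Submodule.subset_span (by simp)))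
        simp [polar_add_left, polar_smul_left', hee, hff, hef, polar_comm Q f a', polar_comm Q z a',
          polar_comm Q z' a', polar_comm Q z f, polar_comm Q z' f, haz, hfz, haz', hfz', hzz, hz'z',
          polar_comm Q z' z, hp] at e1 e2 e3 e4
        simp [e1, e2, e3, e4]
      obtain ⟨w, hwT, hw⟩ := exists_nonsingular_perp hQ _ hnd (by
        have h1 := Submodule.finrank_add_le_finrank_add_finrank
          (Submodule.span F ({a', f} : Set V)) (Submodule.span F ({z, z'} : Set V))
        have h2 := finrank_pair_le (F := F) a' f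
        have h3 := finrank_pair_le (F := F) z z'
        omega)
      have w1 := hwT a' (Submodule.mem_sup_left (Submodule.subset_span (by simp)))
      have w3 := hwT z (Submodule.mem_sup_right (Submodule.subset_span (by simp)))
      have w4 := hwT z' (Submodule.mem_sup_right (Submodule.subset_span (by simp)))
      let c := (polar Q z z')⁻¹ • z' + (-Q w) • z + w
      have hc : Q c = 0 := by
        simp only [c, map_add', map_smul', hzQ, hz'Q, polar_add_left, polar_smul_left',
          polar_smul_right', polar_comm Q z' w, polar_comm Q z w, w3, w4, polar_comm Q z' z]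
        field_simp; ring
      let t := (-(Q w) * polar Q z z')⁻¹
      have ht : t ≠ 0 := inv_ne_zero (mul_ne_zero (neg_ne_zero.2 hw) hp)
      obtain ⟨s, hs, h1, -, h3⟩ := exists_siegel_move (e := z) (z := t • z') hzQ
        (by rw [map_smul', hz'Q, mul_zero]) hc
        (by simp only [c, polar_add_right, polar_smul_right', hzz, polar_comm Q z w, w3]
            field_simp; ring)
        (by simp only [c, t, polar_smul_left', polar_add_right, polar_smul_right', hz'z',
              polar_comm Q z' w, w4, polar_comm Q z' z]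
            field_simp; ring)
      refine ⟨s, hs, h3 a' haz (by rw [polar_smul_right', haz', mul_zero]) ?_, t, ht, h1⟩
      simp [c, polar_add_right, polar_smul_right', polar_comm Q a' w, w1, haz, haz']
  refine ⟨s₂⁻¹ * r * s₁ * s₀, mul_mem (mul_mem (mul_mem (inv_mem hs₂) hr) hs₁) hs₀, ?_, t, ht, ?_⟩
  · show s₂.symm (r (s₁ (s₀ a))) = a'
    rw [hs₀a, hs₁a, hra, LinearEquiv.symm_apply_eq, hs₂a]
  · show s₂.symm (r (s₁ (s₀ b))) = t • b'
    rw [hzdef, hrz, LinearEquiv.symm_apply_eq, map_smul, hz'def]

/-- A normal subgroup of the Siegel group consists of signs or is everything. -/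
theorem siegel_normal_cases (hQ : (polarBilin Q).Nondegenerate) (hn : 5 ≤ Module.finrank F V)
    (N : Subgroup (V ≃ₗ[F] V)) (hNS : N ≤ siegelGroup Q)
    (hnorm : ∀ s ∈ siegelGroup Q, ∀ g ∈ N, s * g * s⁻¹ ∈ N) :
    (∀ g ∈ N, ∃ t : F, t * t = 1 ∧ ∀ v, g v = t • v) ∨ siegelGroup Q ≤ N := by
  by_cases hfix : ∀ g ∈ N, ∀ e, e ≠ 0 → Q e = 0 → ∃ t : F, g e = t • e
  · exact Or.inl fun g hg => eq_sign_of_fix_points hQ hn (siegelGroup_le_orth (hNS hg)) (hfix g hg)
  right
  push Not at hfix
  obtain ⟨g, hg, e, he0, he, hge⟩ := hfix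
  have hgo := siegelGroup_le_orth (hNS hg)
  have he' : Q (g e) = 0 := by rw [mem_orth.1 hgo, he]
  let Rel : V → V → Prop := fun a b => ∃ n ∈ N, ∃ t : F, t ≠ 0 ∧ n a = t • b
  have hrefl : ∀ a b : V, a ≠ 0 → b ≠ 0 → b ∈ Submodule.span F {a} → Rel a b := fun a b _ hb hm => by
    obtain ⟨c, hc⟩ := Submodule.mem_span_singleton.1 hm
    have hc0 : c ≠ 0 := fun h => hb (by rw [← hc, h, zero_smul])
    exact ⟨1, one_mem _, c⁻¹, inv_ne_zero hc0, by rw [← hc, inv_smul_smul₀ hc0]; rfl⟩
  have htr : ∀ a b c, Rel a b → Rel b c → Rel a c := fun a b c ⟨n, hn, t, ht, h⟩ ⟨m, hm, r, hr, h'⟩ =>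
    ⟨m * n, mul_mem hm hn, t * r, mul_ne_zero ht hr, by
      show m (n a) = _
      rw [h, map_smul, h', smul_smul]⟩
  have hsy : ∀ a b, Rel a b → Rel b a := fun a b ⟨n, hn, t, ht, h⟩ =>
    ⟨n⁻¹, inv_mem hn, t⁻¹, inv_ne_zero ht, by
      show n.symm b = _
      rw [LinearEquiv.symm_apply_eq, map_smul, h, inv_smul_smul₀ ht]⟩
  have transport : ∀ s ∈ siegelGroup Q, ∀ a b : V, s e = a → ∀ t : F, t ≠ 0 → s (g e) = t • b → Rel a b := by
    intro s hs a b hsa t ht hsb
    refine ⟨s * g * s⁻¹, hnorm s hs g hg, t, ht, ?_⟩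
    show s (g (s.symm a)) = t • b
    rw [← hsa, s.symm_apply_apply, hsb]
  have all : ∀ a b, a ≠ 0 → b ≠ 0 → Q a = 0 → Q b = 0 → Rel a b := by
    by_cases hp : polar Q e (g e) = 0
    · have horth : ∀ a b, a ≠ 0 → b ∉ Submodule.span F {a} → Q a = 0 → Q b = 0 → polar Q a b = 0 →
          Rel a b := by
        intro a b ha0 hba ha hb hab
        obtain ⟨s, hs, hsa, t, ht, hsb⟩ := siegel_trans_orth hQ hn he0 ha0 he he' ha hb hp hab
          (fun hm => by
            obtain ⟨c, hc⟩ := Submodule.mem_span_singleton.1 hm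
            exact hge c hc.symm) hba
        exact transport s hs a b hsa t ht hsb
      intro a b ha0 hb0 ha hb
      by_cases hba : b ∈ Submodule.span F {a}
      · exact hrefl a b ha0 hb0 hba
      by_cases hab : polar Q a b = 0
      · exact horth a b ha0 hba ha hb hab
      let b₁ := (polar Q a b)⁻¹ • b
      have hab₁ : polar Q a b₁ = 1 := by simp [b₁, polar_smul_right', hab]
      obtain ⟨x, hx0, hx, hxW⟩ := exists_singular_pairPerp hQ hn ha
        (show Q b₁ = 0 by simp [b₁, map_smul', hb]) hab₁
      have hbx : polar Q b x = 0 := by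
        have := (mem_pairPerp.1 hxW).2
        rw [polar_smul_left'] at this
        exact (mul_eq_zero.1 this).resolve_left (inv_ne_zero hab)
      refine htr a x b (horth a x ha0 (fun hm => ?_) ha hx (mem_pairPerp.1 hxW).1)
        (horth x b hx0 (fun hm => ?_) hx hb (by rw [polar_comm, hbx]))
      · obtain ⟨c, rfl⟩ := Submodule.mem_span_singleton.1 hm
        rw [polar_smul_right', polar_comm, mul_eq_zero] at hbx
        exact hx0 (by rw [hbx.resolve_right hab, zero_smul])
      · obtain ⟨c, rfl⟩ := Submodule.mem_span_singleton.1 hm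
        exact hab (by rw [polar_smul_right', (mem_pairPerp.1 hxW).1, mul_zero])
    · have hnon : ∀ a b, Q a = 0 → Q b = 0 → polar Q a b ≠ 0 → Rel a b := by
        intro a b ha hb hab
        obtain ⟨s, hs, hse, hsf⟩ := siegel_trans_pair hQ (by omega) (e := e)
          (f := (polar Q e (g e))⁻¹ • g e) (e' := a) (f' := (polar Q a b)⁻¹ • b) he
          (by rw [map_smul', he', mul_zero]) ha (by rw [map_smul', hb, mul_zero])
          (by rw [polar_smul_right', inv_mul_cancel₀ hp])
          (by rw [polar_smul_right', inv_mul_cancel₀ hab])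
        refine transport s hs a b hse (polar Q e (g e) * (polar Q a b)⁻¹)
          (mul_ne_zero hp (inv_ne_zero hab)) ?_
        rw [mul_smul, ← hsf, ← map_smul, smul_inv_smul₀ hp]
      intro a b ha0 hb0 ha hb
      by_cases hab : polar Q a b = 0
      · obtain ⟨y, -, hya, hyb⟩ := exists_polar₂ hQ ⊥ (x := a) (y := b) (by simpa using ha0)
          (by simpa using hb0)
        let c := y - (Q y / polar Q y a) • a
        have hc : Q c = 0 := by
          simp only [c, map_sub', map_smul', ha, polar_smul_right']; field_simp; ring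
        have hca : polar Q c a = polar Q y a := by
          simp [c, polar_sub_left, polar_smul_left', polar_self', ha]
        have hcb : polar Q c b = polar Q y b := by
          simp [c, polar_sub_left, polar_smul_left', hab]
        exact htr a c b (hnon a c ha hc (by rw [polar_comm, hca]; exact hya))
          (hnon c b hc hb (by rw [hcb]; exact hyb))
      · exact hnon a b ha hb hab
  -- Iwasawa
  let S := siegelGroup Q
  haveI : (N.subgroupOf S).Normal := ⟨fun n hn s => hnorm s s.2 n hn⟩
  let A : Set S := {x | ∃ (w : V) (hw : polar Q e w = 0), (x : V ≃ₗ[F] V) = siegel Q e w he hw}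
  have hA : ∀ x ∈ A, ∀ y ∈ A, x * y = y * x := by
    rintro x ⟨w, hw, hx⟩ y ⟨w', hw', hy⟩
    refine Subtype.ext ?_
    rw [Subgroup.coe_mul, Subgroup.coe_mul, hx, hy, siegel_mul, siegel_mul]
    congr 1
    rw [add_comm]
  have hgen : Subgroup.closure A ⊔ N.subgroupOf S = ⊤ := by
    set M := Subgroup.closure A ⊔ N.subgroupOf S
    have hle : S ≤ M.map S.subtype := by
      show siegelGroup Q ≤ _
      conv_lhs => rw [siegelGroup]
      rw [Subgroup.closure_le]
      rintro _ ⟨a, w, ha, hw, rfl⟩
      by_cases ha0 : a = 0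
      · subst ha0
        rw [show siegel Q 0 w ha hw = 1 from LinearEquiv.ext fun v => by
          simp [siegel_apply, QuadraticMap.polar_zero_right]]
        exact one_mem _
      obtain ⟨n, hn, t, ht, hne⟩ := all e a he0 ha0 he ha
      have hno := siegelGroup_le_orth (hNS hn)
      let w' := t⁻¹ • n.symm w
      have hw' : polar Q e w' = 0 := by
        rw [polar_smul_right', show polar Q e (n.symm w) = polar Q (n e) w by
          conv_rhs => rw [← n.apply_symm_apply w, orth_polar hno], hne, polar_smul_left', hw,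
          mul_zero, mul_zero]
      let nS : S := ⟨n, hNS hn⟩
      let aS : S := ⟨siegel Q e w' he hw', siegel_mem _ _ _ _⟩
      refine ⟨nS * aS * nS⁻¹, mul_mem (mul_mem (Subgroup.mem_sup_right hn)
        (Subgroup.mem_sup_left (Subgroup.subset_closure ⟨w', hw', rfl⟩)))
        (inv_mem (Subgroup.mem_sup_right hn)), ?_⟩
      show n * siegel Q e w' he hw' * n⁻¹ = _
      rw [siegel_conj hno]
      refine LinearEquiv.ext fun v => ?_
      rw [siegel_apply, siegel_apply]
      simp only [hne, w', map_smul, n.apply_symm_apply, map_smul', polar_smul_right']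
      match_scalars <;> field_simp
    rw [eq_top_iff]
    intro x _
    obtain ⟨y, hy, hyx⟩ := hle x.2
    rwa [← Subtype.ext hyx]
  have hcomm := commutator_le_of_commuting_gen (N.subgroupOf S) A hA hgen
  intro x hx
  have hx' := siegelGroup_perfect hQ hn hx
  have heq : (commutator S).map S.subtype = ⁅S, S⁆ := by
    rw [commutator_def, Subgroup.map_commutator, ← MonoidHom.range_eq_map, Subgroup.range_subtype]
  rw [← heq] at hx'
  obtain ⟨y, hy, hyx⟩ := hx'
  rw [← hyx]
  exact hcomm hy

theorem siegelGroup_ne_bot (hQ : (polarBilin Q).Nondegenerate) (hn : 5 ≤ Module.finrank F V) :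
    siegelGroup Q ≠ ⊥ := by
  obtain ⟨e, he0, he⟩ := exists_singular hQ (by omega)
  obtain ⟨f, hf, hef⟩ := exists_pair hQ he0 he
  obtain ⟨x, hx0, hx, hxW⟩ := exists_singular_pairPerp hQ hn he hf hef
  intro h
  have hmem := siegel_mem (Q := Q) e x he (mem_pairPerp.1 hxW).1
  rw [h, Subgroup.mem_bot] at hmem
  have := LinearEquiv.congr_fun hmem f
  rw [siegel_apply, polar_comm Q f e, hef, (mem_pairPerp.1 hxW).2, hx] at this
  have h2 : f + x = f := by simpa using this
  exact hx0 (by simpa using h2)

end CfsgLib.Geometry
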