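import Cfsg.Agent.Lib.Geometry.OmegaIndex
import Cfsg.Agent.Lib.Geometry.OmegaGen

/-! The subgroup generated by the reflections of one square class. -/

set_option autoImplicit false

namespace CfsgLib.Geometry.ReflClass

open QuadraticMap CfsgLib.Geometry

variable {F V : Type*} [Field F] [AddCommGroup V] [Module F V] [FiniteDimensional F V]
  {Q : QuadraticForm F V}

/-- Products of three reflections in coplanar vectors are involutions. -/
theorem three_refl {u z : V} (huz : polar Q u z = 0) {x₁ y₁ x₂ y₂ x₃ y₃ : F}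
    (h₁ : Q (x₁ • u + y₁ • z) ≠ 0) (h₂ : Q (x₂ • u + y₂ • z) ≠ 0) (h₃ : Q (x₃ • u + y₃ • z) ≠ 0) :
    refl Q _ h₁ * refl Q _ h₂ * refl Q _ h₃ = refl Q _ h₃ * refl Q _ h₂ * refl Q _ h₁ := by
  have hQe : ∀ x y : F, Q (x • u + y • z) = x * x * Q u + y * y * Q z := fun x y => by
    rw [map_add', map_smul', map_smul', polar_smul_left', polar_smul_right', huz]; ring
  have e₁ := hQe x₁ y₁
  have e₂ := hQe x₂ y₂
  have e₃ := hQe x₃ y₃
  refine LinearEquiv.ext fun v => ?_
  simp only [LinearEquiv.mul_apply, refl_apply]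
  generalize Q (x₁ • u + y₁ • z) = D₁ at h₁ e₁ ⊢
  generalize Q (x₂ • u + y₂ • z) = D₂ at h₂ e₂ ⊢
  generalize Q (x₃ • u + y₃ • z) = D₃ at h₃ e₃ ⊢
  simp only [polar_sub_left, polar_smul_left', polar_add_left, polar_add_right,
    polar_smul_right', polar_self', polar_comm Q z u, huz]
  match_scalars <;> field_simp <;> subst e₁ e₂ e₃ <;> ring

/-- The Siegel transformation in a non-singular vector as a product of two reflections. -/
theorem siegel_eq_refl_mul {e b : V} (he : Q e = 0) (hb : polar Q e b = 0) (hb0 : Q b ≠ 0) :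
    ∃ hc : Q (b + Q b • e) ≠ 0, Q (b + Q b • e) = Q b ∧
      siegel Q e b he hb = refl Q b hb0 * refl Q (b + Q b • e) hc := by
  have hcQ : Q (b + Q b • e) = Q b := by
    rw [map_add', map_smul', he, polar_smul_right', polar_comm, hb, mul_zero, mul_zero, add_zero,
      add_zero]
  refine ⟨by rw [hcQ]; exact hb0, hcQ, LinearEquiv.ext fun v => ?_⟩
  show _ = refl Q b hb0 (refl Q (b + Q b • e) _ v)
  rw [refl_apply, refl_apply, siegel_apply, hcQ, polar_sub_left, polar_smul_left',
    polar_add_right, polar_smul_right', polar_add_left, polar_smul_left', polar_self', hb]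
  rw [show (Q b)⁻¹ * (polar Q v b - (Q b)⁻¹ * (polar Q v b + Q b * polar Q v e) * (2 * Q b + Q b * 0))
    = -((Q b)⁻¹ * polar Q v b) - 2 * polar Q v e by field_simp; ring]
  match_scalars <;> field_simp <;> ring

variable (Q) in
/-- The reflections whose norms are in the class of `c`. -/
def classSet (c : F) : Set (orth Q) :=
  {g | ∃ (a : V) (ha : Q a ≠ 0), IsSquare (Q a / c) ∧ g = oRefl Q a ha}

variable (Q) in
/-- The subgroup they generate. -/
noncomputable def classGroup (c : F) : Subgroup (orth Q) := Subgroup.closure (classSet Q c)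

variable {c : F}

theorem oRefl_mem {a : V} (ha : Q a ≠ 0) (h : IsSquare (Q a / c)) : oRefl Q a ha ∈ classGroup Q c :=
  Subgroup.subset_closure ⟨a, ha, h, rfl⟩

instance classGroup_normal : (classGroup Q c).Normal := by
  refine ⟨fun x hx g => ?_⟩
  unfold classGroup at hx ⊢
  induction hx using Subgroup.closure_induction with
  | mem x hx =>
    obtain ⟨a, ha, hc, rfl⟩ := hx
    refine Subgroup.subset_closure ⟨g.1 a, by rw [g.2]; exact ha, by rw [g.2]; exact hc, Subtype.ext ?_⟩
    show g.1 * refl Q a ha * g.1⁻¹ = _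
    rw [refl_conj Q g.2 a ha]
    rfl
  | one => simp
  | mul x y _ _ ihx ihy =>
    rw [show g * (x * y) * g⁻¹ = (g * x * g⁻¹) * (g * y * g⁻¹) by group]
    exact mul_mem ihx ihy
  | inv x _ ih =>
    rw [show g * x⁻¹ * g⁻¹ = (g * x * g⁻¹)⁻¹ by group]
    exact inv_mem ih

/-- A plane vector of class `c` off the second axis. -/
theorem exists_coeff [Finite F] (h2 : (2 : F) ≠ 0) (hc : c ≠ 0) {β γ : F} (hβ : β ≠ 0) (hγ : γ ≠ 0)
    (hβc : ¬ IsSquare (β / c)) (h : 5 ≤ Nat.card F ∨ ¬ IsSquare (γ / c)) :
    ∃ s r : F, s ≠ 0 ∧ s * s * β + r * r * γ ≠ 0 ∧ IsSquare ((s * s * β + r * r * γ) / c) := by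
  classical
  haveI := Fintype.ofFinite F
  by_cases hγc : IsSquare (γ / c)
  · have hq : 5 ≤ Fintype.card F := by
      rw [← Nat.card_eq_fintype_card]; exact h.resolve_right (not_not.2 hγc)
    obtain ⟨m, hm, hden⟩ : ∃ m : F, m ≠ 0 ∧ β + γ * (m * m) ≠ 0 := by
      by_cases hr : ∃ r : F, β + γ * (r * r) = 0
      · obtain ⟨r, hr⟩ := hr
        obtain ⟨m, hm⟩ : ∃ m, m ∉ ({0, r, -r} : Finset F) := by
          by_contra hall
          push Not at hall
          have h' := Finset.card_le_card (fun x _ => hall x : (Finset.univ : Finset F) ⊆ {0, r, -r})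
          have := (Finset.card_le_three (a := (0 : F)) (b := r) (c := -r))
          rw [Finset.card_univ] at h'
          omega
        simp only [Finset.mem_insert, Finset.mem_singleton, not_or] at hm
        refine ⟨m, hm.1, fun he => ?_⟩
        have : γ * ((m - r) * (m + r)) = 0 := by linear_combination he - hr
        rcases mul_eq_zero.1 ((mul_eq_zero.1 this).resolve_left hγ) with h' | h'
        · exact hm.2.1 (sub_eq_zero.1 h')
        · exact hm.2.2 (eq_neg_of_add_eq_zero_left h')
      · push Not at hr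
        exact ⟨1, one_ne_zero, hr 1⟩
    set s := -(2 * γ * m) / (β + γ * (m * m)) with hs
    have hsum : s * s * β + (1 + m * s) * (1 + m * s) * γ = γ := by
      have : s * (β + γ * (m * m)) = -(2 * γ * m) := by rw [hs, div_mul_cancel₀ _ hden]
      linear_combination s * this
    exact ⟨s, 1 + m * s, div_ne_zero (neg_ne_zero.2 (by simp [h2, hγ, hm])) hden, by rw [hsum]; exact hγ,
      by rw [hsum]; exact hγc⟩
  · obtain ⟨s, r, hsr⟩ : ∃ s r : F, s * s * β + r * r * γ = c := by
      obtain ⟨x, y, hxy⟩ := FiniteField.exists_root_sum_quadratic (R := F)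
        (f := Polynomial.C β * Polynomial.X ^ 2)
        (g := Polynomial.C γ * Polynomial.X ^ 2 - Polynomial.C c)
        (Polynomial.degree_C_mul_X_pow 2 hβ)
        (by rw [Polynomial.degree_sub_C (by rw [Polynomial.degree_C_mul_X_pow 2 hγ]; decide),
          Polynomial.degree_C_mul_X_pow 2 hγ]; rfl)
        (FiniteField.odd_card_of_char_ne_two fun h' => h2 (by
          haveI := ringChar.of_eq h'
          exact CharTwo.two_eq_zero))
      simp only [Polynomial.eval_sub, Polynomial.eval_mul, Polynomial.eval_C, Polynomial.eval_pow,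
        Polynomial.eval_X] at hxy
      exact ⟨x, y, by linear_combination hxy⟩
    refine ⟨s, r, fun hs => hγc ?_, by rw [hsr]; exact hc, by rw [hsr, div_self hc]; exact IsSquare.one⟩
    subst hs
    have hr : r ≠ 0 := fun hr => hc (by rw [← hsr, hr]; ring)
    exact ⟨r⁻¹, by field_simp; linear_combination hsr⟩

/-- Siegel transformations in non-singular vectors lie in the class group. -/
theorem siegel_mem [Finite F] (hQ : (polarBilin Q).Nondegenerate) (h2 : (2 : F) ≠ 0) (hc : c ≠ 0)
    (hbig : Module.finrank F V = 2 ∨ 5 ≤ Module.finrank F V ∨ (4 ≤ Module.finrank F V ∧ 5 ≤ Nat.card F))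
    {e a : V} (he0 : e ≠ 0) (he : Q e = 0) (hea : polar Q e a = 0) (ha : Q a ≠ 0) :
    (⟨siegel Q e a he hea, siegel_mem_orth Q e a he hea⟩ : orth Q) ∈ classGroup Q c := by
  have nons : ∀ (w : V) (hw : polar Q e w = 0), Q w ≠ 0 → IsSquare (Q w / c) →
      (⟨siegel Q e w he hw, siegel_mem_orth Q e w he hw⟩ : orth Q) ∈ classGroup Q c := fun w hw hw0 hwc => by
    obtain ⟨h', hQ', heq⟩ := siegel_eq_refl_mul he hw hw0
    rw [show (⟨siegel Q e w he hw, _⟩ : orth Q) = oRefl Q w hw0 * oRefl Q _ h' from Subtype.ext heq]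
    exact mul_mem (oRefl_mem hw0 hwc) (oRefl_mem h' (by rwa [hQ']))
  by_cases hac : IsSquare (Q a / c)
  · exact nons a hea ha hac
  obtain ⟨f, hf, hef, hfa⟩ := exists_partner hQ (Submodule.span F {a}) (e := e) (fun hm => by
      obtain ⟨t, ht⟩ := Submodule.mem_span_singleton.1 hm
      rw [← ht, map_smul'] at he
      rcases mul_eq_zero.1 he with h | h
      · exact he0 (by rw [← ht, mul_self_eq_zero.1 h, zero_smul])
      · exact ha h) he (fun z hz => by
      obtain ⟨t, rfl⟩ := Submodule.mem_span_singleton.1 hz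
      rw [polar_smul_right', hea, mul_zero])
  have hfa' := hfa a (Submodule.mem_span_singleton_self a)
  have hn3 : 3 ≤ Module.finrank F V := by
    have hli : LinearIndependent F ![e, f, a] := Fintype.linearIndependent_iff.2 fun k hk i => by
      simp only [Fin.sum_univ_three, Matrix.cons_val_zero, Matrix.cons_val_one, Matrix.cons_val] at hk
      have k1 := congrArg (fun z => polar Q z f) hk
      have k2 := congrArg (fun z => polar Q z e) hk
      have k3 := congrArg (fun z => polar Q z a) hk
      simp [polar_add_left, polar_smul_left', polar_self', polar_comm Q f e, polar_comm Q a e, polar_comm Q a f,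
        hef, hea, hfa', hf, he, ha, h2] at k1 k2 k3
      fin_cases i <;> simp [k1, k2, k3]
    simpa using hli.fintype_card_le_finrank
  let L : V →ₗ[F] Fin 3 → F := LinearMap.pi ![polarBilin Q e, polarBilin Q f, polarBilin Q a]
  have hW : ∀ x, x ∈ LinearMap.ker L ↔ polar Q e x = 0 ∧ polar Q f x = 0 ∧ polar Q a x = 0 := fun x => by
    rw [LinearMap.mem_ker, funext_iff, Fin.forall_fin_succ, Fin.forall_fin_two]; rfl
  have hWdim : Module.finrank F V ≤ Module.finrank F (LinearMap.ker L) + 3 := by
    have := LinearMap.finrank_range_add_finrank_ker L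
    have := Submodule.finrank_le (LinearMap.range L)
    simp at this
    omega
  have hWnd : ∀ x ∈ LinearMap.ker L, (∀ y ∈ LinearMap.ker L, polar Q x y = 0) → x = 0 := by
    intro x hx h
    refine hQ.1 x fun v => ?_
    rw [polarBilin_apply_apply]
    obtain ⟨hx1, hx2, hx3⟩ := (hW x).1 hx
    let w := v - polar Q f v • e - polar Q e v • f - ((2 * Q a)⁻¹ * polar Q a v) • a
    have hw : w ∈ LinearMap.ker L := by
      rw [hW]
      simp only [w, polar_sub_right, polar_smul_right', polar_self', he, hf, hef, hea, hfa', polar_comm Q f e,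
        polar_comm Q a e, polar_comm Q a f]
      refine ⟨by ring, by ring, ?_⟩
      field_simp; ring
    have h' := h w hw
    simp only [w, polar_sub_right, polar_smul_right', polar_comm Q x e, polar_comm Q x f, polar_comm Q x a,
      hx1, hx2, hx3] at h'
    linear_combination h'
  obtain ⟨u, hue, hua, hu0, hu⟩ : ∃ u, polar Q e u = 0 ∧ polar Q a u = 0 ∧ Q u ≠ 0 ∧
      (5 ≤ Nat.card F ∨ ¬ IsSquare (Q u / c)) := by
    rcases hbig with h | h | h
    · omega
    · obtain ⟨⟨u, hu⟩, hQu⟩ := exists_represents (Q := Q.comp (LinearMap.ker L).subtype)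
        ⟨fun x hx => Subtype.ext (hWnd x.1 x.2 fun y hy => by
            simpa [QuadraticMap.polar, QuadraticMap.polarBilin] using hx ⟨y, hy⟩),
          fun x hx => Subtype.ext (hWnd x.1 x.2 fun y hy => by
            rw [polar_comm]
            simpa [QuadraticMap.polar, QuadraticMap.polarBilin] using hx ⟨y, hy⟩)⟩
        (by omega) (Q a)
      have hQu' : Q u = Q a := hQu
      exact ⟨u, ((hW u).1 hu).1, ((hW u).1 hu).2.2, hQu' ▸ ha, Or.inr (hQu' ▸ hac)⟩
    · obtain ⟨u, hu, hu0⟩ : ∃ u ∈ LinearMap.ker L, Q u ≠ 0 := by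
        by_contra hall
        push Not at hall
        haveI : Nontrivial (LinearMap.ker L) := Module.nontrivial_of_finrank_pos (R := F) (by omega)
        obtain ⟨x, hx⟩ := exists_ne (0 : LinearMap.ker L)
        refine hx (Subtype.ext (hWnd x.1 x.2 fun y hy => ?_))
        have := hall _ (add_mem x.2 hy)
        rwa [map_add', hall _ x.2, hall _ hy, zero_add, zero_add] at this
      exact ⟨u, ((hW u).1 hu).1, ((hW u).1 hu).2.2, hu0, Or.inl h.2⟩
  obtain ⟨s, r, hs, hN, hNc⟩ := exists_coeff h2 hc ha hu0 hac hu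
  let t := (2 * s)⁻¹
  have ht : t ≠ 0 := inv_ne_zero (mul_ne_zero h2 hs)
  have key : ∀ ε : F, ε * ε = 1 → ∀ w, w = t • (s • a + (ε * r) • u) →
      polar Q e w = 0 ∧ Q w ≠ 0 ∧ IsSquare (Q w / c) := by
    rintro ε hε w rfl
    have hw : Q (t • (s • a + (ε * r) • u)) = t * t * (s * s * Q a + r * r * Q u) := by
      rw [map_smul', map_add', map_smul', map_smul', polar_smul_left', polar_smul_right', hua]
      linear_combination (t * t * (r * r) * Q u) * hε
    refine ⟨by simp [polar_smul_right', polar_add_right, hea, hue], ?_, ?_⟩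
    · rw [hw]; exact mul_ne_zero (mul_ne_zero ht ht) hN
    · rw [hw, mul_div_assoc]; exact (isSquare_mul_sq_iff' ht).2 hNc
  obtain ⟨p1, p2, p3⟩ := key 1 (by ring) _ rfl
  obtain ⟨m1, m2, m3⟩ := key (-1) (by ring) _ rfl
  have heq : (⟨siegel Q e a he hea, siegel_mem_orth Q e a he hea⟩ : orth Q) =
      ⟨siegel Q e _ he p1, siegel_mem_orth Q e _ he p1⟩ * ⟨siegel Q e _ he m1, siegel_mem_orth Q e _ he m1⟩ := by
    refine Subtype.ext (LinearEquiv.ext fun v => ?_)
    show siegelMap Q e a v = siegelMap Q e _ (siegelMap Q e _ v)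
    rw [siegelMap_comp Q he p1 m1]
    congr 2
    simp only [t]
    match_scalars <;> field_simp <;> ring
  rw [heq]
  exact mul_mem (nons _ p1 p2 p3) (nons _ m1 m2 m3)
where
  isSquare_mul_sq_iff' {t d : F} (ht : t ≠ 0) : IsSquare (t * t * d) ↔ IsSquare d := by
    refine ⟨fun h => ?_, fun h => IsSquare.mul (⟨t, rfl⟩ : IsSquare (t * t)) h⟩
    have := h.div (⟨t, rfl⟩ : IsSquare (t * t))
    rwa [mul_div_cancel_left₀ _ (mul_ne_zero ht ht)] at this

theorem pair_sq_mem [Finite F] (hQ : (polarBilin Q).Nondegenerate) (h2 : (2 : F) ≠ 0) (hc : c ≠ 0)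
    (hbig : Module.finrank F V = 2 ∨ 5 ≤ Module.finrank F V ∨ (4 ≤ Module.finrank F V ∧ 5 ≤ Nat.card F))
    {a b : V} (ha : Q a ≠ 0) (hb : Q b ≠ 0) :
    oRefl Q a ha * oRefl Q b hb * (oRefl Q a ha * oRefl Q b hb) ∈ classGroup Q c := by
  set s := polar Q b a / (2 * Q a) with hs
  have hz : polar Q a (b - s • a) = 0 := by
    rw [polar_sub_right, polar_smul_right', polar_self', polar_comm Q a b, hs]; field_simp; ring
  by_cases hQz : Q (b - s • a) = 0
  · have hbs : Q b = s * s * Q a := by
      have : Q (s • a + (b - s • a)) = s * s * Q a := by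
        rw [map_add', map_smul', hQz, polar_smul_left', hz]; ring
      simpa using this
    have hs0 : s ≠ 0 := fun h => hb (by rw [hbs, h]; ring)
    by_cases hz0 : b - s • a = 0
    · have e : oRefl Q b hb = oRefl Q a ha := Subtype.ext (by
        subst_vars
        simp only [sub_eq_zero] at hz0
        show refl Q b hb = refl Q a ha
        simp only [hz0] at hb ⊢
        exact refl_smul Q a ha hs0 hb)
      rw [e, oRefl_mul_self, one_mul]; exact one_mem _
    · set e := (s * Q a)⁻¹ • (b - s • a) with he_def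
      have he0 : e ≠ 0 := smul_ne_zero (inv_ne_zero (mul_ne_zero hs0 ha)) hz0
      have he : Q e = 0 := by rw [he_def, map_smul', hQz, mul_zero]
      have hea : polar Q e a = 0 := by rw [he_def, polar_smul_left', polar_comm, hz, mul_zero]
      obtain ⟨h', -, heq⟩ := siegel_eq_refl_mul he hea ha
      have hb' : b = s • (a + Q a • e) := by
        rw [he_def]; match_scalars <;> field_simp <;> ring
      have : oRefl Q a ha * oRefl Q b hb = ⟨siegel Q e a he hea, siegel_mem_orth Q e a he hea⟩ := by
        refine Subtype.ext ?_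
        show refl Q a ha * refl Q b hb = siegel Q e a he hea
        rw [heq]
        congr 1
        simp only [hb'] at hb ⊢
        exact refl_smul Q _ h' hs0 hb
      rw [this]
      exact mul_mem (siegel_mem hQ h2 hc hbig he0 he hea ha) (siegel_mem hQ h2 hc hbig he0 he hea ha)
  · haveI := Fintype.ofFinite F
    obtain ⟨x, y, hxy⟩ : ∃ x y : F, Q (x • a + y • (b - s • a)) = c := by
      obtain ⟨x, y, hxy⟩ := FiniteField.exists_root_sum_quadratic (R := F) (f := Polynomial.C (Q a) * Polynomial.X ^ 2)
        (g := Polynomial.C (Q (b - s • a)) * Polynomial.X ^ 2 - Polynomial.C c)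
        (Polynomial.degree_C_mul_X_pow 2 ha)
        (by rw [Polynomial.degree_sub_C (by rw [Polynomial.degree_C_mul_X_pow 2 hQz]; decide),
          Polynomial.degree_C_mul_X_pow 2 hQz]; rfl)
        (by
          exact FiniteField.odd_card_of_char_ne_two fun h' => h2 (by
            haveI := ringChar.of_eq h'
            exact CharTwo.two_eq_zero))
      simp only [Polynomial.eval_sub, Polynomial.eval_mul, Polynomial.eval_C, Polynomial.eval_pow,
        Polynomial.eval_X] at hxy
      exact ⟨x, y, by rw [map_add', map_smul', map_smul', polar_smul_left', polar_smul_right', hz]; linear_combination hxy⟩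
    have hw0 : Q (x • a + y • (b - s • a)) ≠ 0 := hxy ▸ hc
    set w := x • a + y • (b - s • a) with hw
    have hwH : oRefl Q w hw0 ∈ classGroup Q c := oRefl_mem hw0 (by rw [hxy, div_self hc]; exact IsSquare.one)
    have key : refl Q w hw0 * refl Q a ha * refl Q b hb = refl Q b hb * refl Q a ha * refl Q w hw0 := by
      have ea : (1 : F) • a + (0 : F) • (b - s • a) = a := by simp
      have eb : s • a + (1 : F) • (b - s • a) = b := by simp
      have := three_refl (Q := Q) (u := a) (z := b - s • a) hz (x₁ := x) (y₁ := y) (x₂ := 1) (y₂ := 0)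
        (x₃ := s) (y₃ := 1) hw0 (by rw [ea]; exact ha) (by rw [eb]; exact hb)
      simpa only [ea, eb, ← hw] using this
    have e1 : oRefl Q a ha * oRefl Q b hb * (oRefl Q a ha * oRefl Q b hb) =
        (oRefl Q a ha * oRefl Q b hb) * oRefl Q w hw0 * (oRefl Q a ha * oRefl Q b hb)⁻¹ * oRefl Q w hw0 := by
      have key' : oRefl Q w hw0 * oRefl Q a ha * oRefl Q b hb =
          oRefl Q b hb * oRefl Q a ha * oRefl Q w hw0 := Subtype.ext key
      have hinv : ∀ (d : V) (hd : Q d ≠ 0), (oRefl Q d hd)⁻¹ = oRefl Q d hd := fun d hd =>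
        inv_eq_of_mul_eq_one_left (oRefl_mul_self d hd)
      rw [mul_inv_rev, hinv, hinv, mul_assoc _ (oRefl Q b hb * oRefl Q a ha), ← key']
      simp only [← mul_assoc]
      rw [mul_assoc (oRefl Q a ha * oRefl Q b hb) (oRefl Q w hw0) (oRefl Q w hw0), oRefl_mul_self, mul_one]
    rw [e1]
    exact mul_mem ((classGroup_normal (Q := Q) (c := c)).conj_mem _ hwH _) hwH

/-- The reflections of one square class generate a subgroup of index two. -/
theorem index_classGroup [Finite F] (hQ : (polarBilin Q).Nondegenerate) (h2 : (2 : F) ≠ 0) (hc : c ≠ 0)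
    (hbig : Module.finrank F V = 2 ∨ 5 ≤ Module.finrank F V ∨ (4 ≤ Module.finrank F V ∧ 5 ≤ Nat.card F)) :
    (classGroup Q c).index = 2 := by
  have hn : 2 ≤ Module.finrank F V := by omega
  have hR : reflGroup Q = orth Q := reflGroup_eq_orth hQ (Or.inr ⟨-1, by simp, fun h => h2 (by linear_combination -h)⟩)
  have hcomm : commutator (orth Q) ≤ classGroup Q c := by
    let π := QuotientGroup.mk' (classGroup Q c)
    have hπ : Subgroup.closure (π '' {g : orth Q | ∃ (a : V) (ha : Q a ≠ 0), g = oRefl Q a ha}) = ⊤ := by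
      rw [← MonoidHom.map_closure, closure_oRefl hR,
        Subgroup.map_top_of_surjective _ (QuotientGroup.mk'_surjective _)]
    have hab : ∀ x ∈ π '' {g : orth Q | ∃ (a : V) (ha : Q a ≠ 0), g = oRefl Q a ha},
        ∀ y ∈ π '' {g : orth Q | ∃ (a : V) (ha : Q a ≠ 0), g = oRefl Q a ha}, y * x = x * y := by
      rintro _ ⟨_, ⟨a, ha, rfl⟩, rfl⟩ _ ⟨_, ⟨b, hb, rfl⟩, rfl⟩
      have h1 : π (oRefl Q a ha * oRefl Q b hb * (oRefl Q a ha * oRefl Q b hb)) = 1 :=
        (QuotientGroup.eq_one_iff _).2 (pair_sq_mem hQ h2 hc hbig ha hb)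
      have h3 : ∀ (d : V) (hd : Q d ≠ 0), (π (oRefl Q d hd))⁻¹ = π (oRefl Q d hd) := fun d hd =>
        inv_eq_of_mul_eq_one_left (by rw [← map_mul, oRefl_mul_self, map_one])
      simp only [map_mul] at h1
      rw [eq_inv_of_mul_eq_one_left h1, mul_inv_rev, h3, h3]
    have htop : ∀ x y, π y * π x = π x * π y := by
      intro x y
      have h1 : Subgroup.closure (π '' {g : orth Q | ∃ (a : V) (ha : Q a ≠ 0), g = oRefl Q a ha}) ≤
          Subgroup.center _ := by
        rw [Subgroup.closure_le]
        intro z hz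
        refine Subgroup.mem_center_iff.2 fun g => ?_
        have h2' : Subgroup.closure (π '' {g : orth Q | ∃ (a : V) (ha : Q a ≠ 0), g = oRefl Q a ha}) ≤
            Subgroup.centralizer {z} := by
          rw [Subgroup.closure_le]
          exact fun y hy => Subgroup.mem_centralizer_singleton_iff.2 (hab z hz y hy)
        exact Subgroup.mem_centralizer_singleton_iff.1 (h2' (hπ ▸ Subgroup.mem_top g))
      exact Subgroup.mem_center_iff.1 (h1 (hπ ▸ Subgroup.mem_top (π x))) (π y)
    rw [commutator_def, Subgroup.commutator_le]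
    intro x _ y _
    rw [← QuotientGroup.eq_one_iff]
    show π _ = 1
    rw [map_commutatorElement, commutatorElement_eq_one_iff_commute]
    exact htop y x
  obtain ⟨r, hr⟩ := exists_represents hQ hn c
  have hr0 : Q r ≠ 0 := hr ▸ hc
  set I := orthInvariant hQ hR
  set p : SqClass F × Multiplicative (ZMod 2) := (sqMk hc, Multiplicative.ofAdd 1) with hp
  have hrI : I (oRefl Q r hr0) = p := by
    rw [orthInvariant_oRefl hQ hR hr0, hp]; simp only [hr]
  have hK : classGroup Q c = (Subgroup.zpowers p).comap I := by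
    refine le_antisymm ((Subgroup.closure_le _).2 ?_) fun g hg => ?_
    · rintro _ ⟨a, ha, hac, rfl⟩
      rw [SetLike.mem_coe, Subgroup.mem_comap, orthInvariant_oRefl hQ hR ha]
      obtain ⟨t, ht⟩ := hac
      have e : Q a = c * t * t := by rw [mul_assoc, ← ht]; field_simp
      have : sqMk ha = sqMk hc := by
        have h' : c * t * t ≠ 0 := e ▸ ha
        rw [show sqMk ha = sqMk h' by simp only [e], sqMk_mul_sq hc h']
      rw [this]; exact Subgroup.mem_zpowers p
    · obtain ⟨k, hk⟩ := Subgroup.mem_zpowers_iff.1 hg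
      have hmem : ((oRefl Q r hr0) ^ k)⁻¹ * g ∈ classGroup Q c := hcomm (by
        rw [← ker_orthInvariant hQ hn h2 hR, MonoidHom.mem_ker, map_mul, map_inv, map_zpow, hrI, hk,
          inv_mul_cancel])
      have hk' : (oRefl Q r hr0) ^ k ∈ classGroup Q c :=
        zpow_mem (oRefl_mem hr0 (by rw [hr, div_self hc]; exact IsSquare.one)) k
      simpa using mul_mem hk' hmem
  rw [hK, Subgroup.index_comap_of_surjective _ (orthInvariant_surjective hQ hn h2 hR)]
  have hord : orderOf p = 2 := orderOf_eq_prime (by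
      rw [pow_two, hp]; exact Prod.ext (sqClass_mul_self _) (by
        show Multiplicative.ofAdd (1 : ZMod 2) * Multiplicative.ofAdd 1 = 1
        decide))
    (fun h => (show Multiplicative.ofAdd (1 : ZMod 2) ≠ 1 by decide) (congrArg Prod.snd h))
  have h4 := (Subgroup.zpowers p).index_mul_card
  rw [Nat.card_zpowers, hord, Nat.card_prod, card_sqClass h2] at h4
  simp at h4
  omega

end CfsgLib.Geometry.ReflClass
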