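import Cfsg.Agent.Lib.Geometry.WallForm
import Cfsg.Agent.Lib.Geometry.OrthMatrix

/-! The abelianisation of the orthogonal group over a finite field. -/

set_option autoImplicit false

namespace CfsgLib.Geometry

open QuadraticMap

section Group

variable {G : Type*} [Group G]

/-- A homomorphism to a commutative group of exponent 2 is determined up to two generators. -/
theorem four_cases {A : Type*} [CommGroup A] (q : G →* A) (S : Set G) (hS : Subgroup.closure S = ⊤)
    (x y : G) (hx : q x * q x = 1) (hy : q y * q y = 1) (hgen : ∀ s ∈ S, q s = q x ∨ q s = q y)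
    (g : G) : q g = 1 ∨ q g = q x ∨ q g = q y ∨ q g = q x * q y := by
  have hgen' : ∀ s ∈ S, q s = q x ∨ q s = q y := hgen
  have hx' : ∀ c, q x * (q x * c) = c := fun c => by rw [← mul_assoc, hx, one_mul]
  have hy' : ∀ c, q y * (q y * c) = c := fun c => by rw [← mul_assoc, hy, one_mul]
  have hg : g ∈ Subgroup.closure S := hS ▸ Subgroup.mem_top g
  induction hg using Subgroup.closure_induction with
  | mem s hs => rcases hgen' s hs with h | h <;> simp [h]
  | one => simp
  | mul a b _ _ iha ihb =>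
    rw [map_mul]
    rcases iha with h | h | h | h <;> rcases ihb with h' | h' | h' | h' <;>
      simp [h, h', hx, hy, hx', hy', mul_comm, mul_left_comm]
  | inv a _ iha =>
    have hxi : (q x)⁻¹ = q x := inv_eq_of_mul_eq_one_left hx
    have hyi : (q y)⁻¹ = q y := inv_eq_of_mul_eq_one_left hy
    rw [map_inv]
    rcases iha with h | h | h | h <;> simp [h, hxi, hyi, mul_comm]

end Group

variable {F V : Type*} [Field F] [AddCommGroup V] [Module F V] [FiniteDimensional F V]
variable {Q : QuadraticForm F V}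

/-- A reflection as an element of the orthogonal group. -/
noncomputable def oRefl (Q : QuadraticForm F V) (a : V) (ha : Q a ≠ 0) : orth Q :=
  ⟨refl Q a ha, refl_mem_orth Q a ha⟩

theorem oRefl_mul_self (a : V) (ha : Q a ≠ 0) : oRefl Q a ha * oRefl Q a ha = 1 :=
  Subtype.ext (refl_mul_self Q a ha)

theorem closure_oRefl (hR : reflGroup Q = orth Q) :
    Subgroup.closure {g : orth Q | ∃ (a : V) (ha : Q a ≠ 0), g = oRefl Q a ha} = ⊤ := by
  rw [eq_top_iff]
  intro g _
  have hg : (g : V ≃ₗ[F] V) ∈ reflGroup Q := hR.ge g.2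
  have hle : reflGroup Q ≤ (Subgroup.closure {g : orth Q | ∃ (a : V) (ha : Q a ≠ 0),
      g = oRefl Q a ha}).map (orth Q).subtype := by
    rw [MonoidHom.map_closure, reflGroup]
    refine Subgroup.closure_mono ?_
    rintro _ ⟨a, ha, rfl⟩
    exact ⟨oRefl Q a ha, ⟨a, ha, rfl⟩, rfl⟩
  obtain ⟨g', hg', he⟩ := hle hg
  rwa [← Subtype.ext he]

theorem finite_finrank [Finite F] : Finite V := Module.finite_of_finite F

/-- Reflections in vectors of norms in the same square class are conjugate. -/
theorem isConj_oRefl (hQ : (polarBilin Q).Nondegenerate) {a b : V} (ha : Q a ≠ 0) (hb : Q b ≠ 0)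
    (h : IsSquare (Q b / Q a)) : IsConj (oRefl Q a ha) (oRefl Q b hb) := by
  obtain ⟨t, ht⟩ := h
  have hta : Q (t • a) = Q b := by rw [map_smul', ← ht, div_mul_cancel₀ _ ha]
  have ht0 : t ≠ 0 := fun h0 => hb (by rw [← hta, h0, zero_smul, QuadraticMap.map_zero])
  have ha0 : a ≠ 0 := fun h => ha (by rw [h, QuadraticMap.map_zero])
  have hb0 : b ≠ 0 := fun h => hb (by rw [h, QuadraticMap.map_zero])
  obtain ⟨g, hg, hgv⟩ := quad_extend hQ ![t • a] ![b]
    (LinearIndependent.of_subsingleton 0 (smul_ne_zero ht0 ha0))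
    (LinearIndependent.of_subsingleton 0 hb0) (fun i => by fin_cases i; exact hta)
    (fun i j => by fin_cases i; fin_cases j; simp [polar_self', hta])
  have hga : g (t • a) = b := by simpa using hgv 0
  refine isConj_iff.2 ⟨⟨g, hg⟩, Subtype.ext ?_⟩
  show g * refl Q a ha * g⁻¹ = refl Q b hb
  rw [← refl_smul Q a ha ht0 (hta ▸ hb), refl_conj Q hg]
  simp only [hga]

theorem map_oRefl_eq {A : Type*} [CommGroup A] (q : orth Q →* A)
    (hQ : (polarBilin Q).Nondegenerate) {a b : V} (ha : Q a ≠ 0) (hb : Q b ≠ 0)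
    (h : IsSquare (Q b / Q a)) : q (oRefl Q a ha) = q (oRefl Q b hb) := by
  obtain ⟨g, hg⟩ := isConj_iff.1 (isConj_oRefl hQ ha hb h)
  rw [← hg, map_mul, map_mul, map_inv, mul_comm (q g), mul_inv_cancel_right]

/-- A form of dimension at least two over a finite field represents everything. -/
theorem exists_represents [Finite F] (hQ : (polarBilin Q).Nondegenerate)
    (hn : 2 ≤ Module.finrank F V) (c : F) : ∃ v, Q v = c := by
  haveI := Fintype.ofFinite F
  by_cases hiso : ∃ e, e ≠ 0 ∧ Q e = 0
  · obtain ⟨e, he0, he⟩ := hiso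
    obtain ⟨f, hf, hef, -⟩ := exists_partner hQ ⊥ (by simpa using he0) he
      (fun z hz => by rw [(Submodule.mem_bot F).1 hz, QuadraticMap.polar_zero_right])
    exact ⟨e + c • f, by rw [map_add', map_smul', he, hf, polar_smul_right', hef]; ring⟩
  push Not at hiso
  haveI : Nontrivial V := Module.nontrivial_of_finrank_pos (R := F) (by omega)
  obtain ⟨u, hu⟩ := exists_ne (0 : V)
  have hQu := hiso u hu
  by_cases h2 : ringChar F = 2
  · obtain ⟨t, ht⟩ := FiniteField.isSquare_of_char_two h2 (c / Q u)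
    exact ⟨t • u, by rw [map_smul', ← ht, div_mul_cancel₀ _ hQu]⟩
  obtain ⟨w, hw0, huw⟩ : ∃ w, w ≠ 0 ∧ polar Q u w = 0 := by
    have h := LinearMap.finrank_range_add_finrank_ker (polarBilin Q u)
    have h' : Module.finrank F (LinearMap.range (polarBilin Q u)) ≤ 1 :=
      le_trans (Submodule.finrank_le _) (by simp)
    haveI : Nontrivial (LinearMap.ker (polarBilin Q u)) :=
      Module.nontrivial_of_finrank_pos (R := F) (by omega)
    obtain ⟨w, hw⟩ := exists_ne (0 : LinearMap.ker (polarBilin Q u))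
    exact ⟨w, fun h => hw (Subtype.ext h), w.2⟩
  have hQw := hiso w hw0
  obtain ⟨x, y, hxy⟩ := FiniteField.exists_root_sum_quadratic (R := F)
    (f := Polynomial.C (Q u) * Polynomial.X ^ 2)
    (g := Polynomial.C (Q w) * Polynomial.X ^ 2 - Polynomial.C c)
    (Polynomial.degree_C_mul_X_pow 2 hQu)
    (by rw [Polynomial.degree_sub_C (by rw [Polynomial.degree_C_mul_X_pow 2 hQw]; decide),
      Polynomial.degree_C_mul_X_pow 2 hQw]; rfl)
    (FiniteField.odd_card_of_char_ne_two h2)
  simp only [Polynomial.eval_sub, Polynomial.eval_mul, Polynomial.eval_C, Polynomial.eval_pow,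
    Polynomial.eval_X] at hxy
  refine ⟨x • u + y • w, ?_⟩
  rw [map_add', map_smul', map_smul', polar_smul_left', polar_smul_right', huw]
  linear_combination hxy

omit [AddCommGroup V] [Module F V] [FiniteDimensional F V] in
theorem isSquare_mul_of_not [Finite F] {a b : F} (ha : ¬ IsSquare a) (hb : ¬ IsSquare b) :
    IsSquare (a * b) := by
  classical
  haveI := Fintype.ofFinite F
  rcases eq_or_ne a 0 with rfl | ha0
  · exact absurd IsSquare.zero ha
  rcases eq_or_ne b 0 with rfl | hb0
  · exact absurd IsSquare.zero hb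
  rw [← quadraticChar_one_iff_isSquare (mul_ne_zero ha0 hb0), map_mul,
    quadraticChar_neg_one_iff_not_isSquare.2 ha, quadraticChar_neg_one_iff_not_isSquare.2 hb]
  rfl

omit [AddCommGroup V] [Module F V] [FiniteDimensional F V] in
theorem card_sqClass [Finite F] (h2 : (2 : F) ≠ 0) : Nat.card (SqClass F) = 2 := by
  classical
  haveI := Fintype.ofFinite F
  obtain ⟨a, ha⟩ := FiniteField.exists_nonsquare (F := F) (fun h => h2 (by
    haveI := ringChar.of_eq h
    exact CharTwo.two_eq_zero))
  have ha0 : a ≠ 0 := fun h => ha (h ▸ IsSquare.zero)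
  have hne : sqMk ha0 ≠ 1 := fun h => ha ((sqMk_eq_one_iff _).1 h)
  refine Nat.card_eq_two_iff.2 ⟨1, sqMk ha0, Ne.symm hne, ?_⟩
  refine Set.eq_univ_of_forall fun s => ?_
  obtain ⟨u, rfl⟩ := sqHom_surjective s
  by_cases hu : IsSquare (u : F)
  · exact Or.inl ((sqHom_eq_one_iff u).2 hu)
  · refine Or.inr ?_
    show sqHom F u = sqMk ha0
    have : sqHom F (u * Units.mk0 a ha0) = 1 := (sqHom_eq_one_iff _).2 (isSquare_mul_of_not hu ha)
    rw [map_mul] at this
    calc sqHom F u = sqHom F u * (sqMk ha0 * sqMk ha0) := by rw [sqClass_mul_self, mul_one]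
      _ = sqMk ha0 := by rw [← mul_assoc]; show sqHom F u * sqHom F (Units.mk0 a ha0) * _ = _; rw [this, one_mul]

/-- Spinor norm and Dickson invariant together. -/
noncomputable def orthInvariant (hQ : (polarBilin Q).Nondegenerate) (hR : reflGroup Q = orth Q) :
    orth Q →* SqClass F × Multiplicative (ZMod 2) :=
  (spinorHom hQ hR).prod (dicksonHom hQ hR)

theorem orthInvariant_oRefl (hQ : (polarBilin Q).Nondegenerate) (hR : reflGroup Q = orth Q) {a : V}
    (ha : Q a ≠ 0) :
    orthInvariant hQ hR (oRefl Q a ha) = (sqMk ha, Multiplicative.ofAdd 1) :=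
  Prod.ext (spinorHom_refl hQ hR ha) (dicksonHom_refl hQ hR ha)

/-- Data on two reflections generating the abelianisation. -/
theorem exists_two_refls [Finite F] (hQ : (polarBilin Q).Nondegenerate)
    (hn : 2 ≤ Module.finrank F V) (h2 : (2 : F) ≠ 0) (hR : reflGroup Q = orth Q) :
    ∃ x y : orth Q,
      (∀ (g : orth Q),
        let q := (Abelianization.of).prod (orthInvariant hQ hR)
        q g = 1 ∨ q g = q x ∨ q g = q y ∨ q g = q x * q y) ∧
      orthInvariant hQ hR x = (1, Multiplicative.ofAdd 1) ∧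
      ∃ s : SqClass F, s ≠ 1 ∧ orthInvariant hQ hR y = (s, Multiplicative.ofAdd 1) := by
  haveI := Fintype.ofFinite F
  obtain ⟨c, hc⟩ := FiniteField.exists_nonsquare (F := F) (fun h => h2 (by
    haveI := ringChar.of_eq h
    exact CharTwo.two_eq_zero))
  have hc0 : c ≠ 0 := fun h => hc (h ▸ IsSquare.zero)
  obtain ⟨a, ha⟩ := exists_represents hQ hn 1
  obtain ⟨b, hb⟩ := exists_represents hQ hn c
  have ha0 : Q a ≠ 0 := by rw [ha]; exact one_ne_zero
  have hb0 : Q b ≠ 0 := by rw [hb]; exact hc0
  refine ⟨oRefl Q a ha0, oRefl Q b hb0, fun g => ?_, ?_, sqMk hb0,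
    fun h => hc (hb ▸ (sqMk_eq_one_iff _).1 h), orthInvariant_oRefl hQ hR hb0⟩
  · intro q
    refine four_cases q _ (closure_oRefl hR) _ _ (by rw [← map_mul, oRefl_mul_self, map_one])
      (by rw [← map_mul, oRefl_mul_self, map_one]) ?_ g
    rintro _ ⟨d, hd, rfl⟩
    by_cases hsq : IsSquare (Q d)
    · exact Or.inl (map_oRefl_eq q hQ hd ha0 (by rw [ha]; exact IsSquare.one.div hsq))
    · refine Or.inr (map_oRefl_eq q hQ hd hb0 ?_)
      rw [hb, div_eq_mul_inv]
      exact isSquare_mul_of_not hc fun h => hsq (by simpa using h.inv)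
  · rw [orthInvariant_oRefl hQ hR ha0, (sqMk_eq_one_iff ha0).2 (ha ▸ IsSquare.one)]

theorem ker_orthInvariant [Finite F] (hQ : (polarBilin Q).Nondegenerate)
    (hn : 2 ≤ Module.finrank F V) (h2 : (2 : F) ≠ 0) (hR : reflGroup Q = orth Q) :
    (orthInvariant hQ hR).ker = commutator (orth Q) := by
  obtain ⟨x, y, hcov, hx, s, hs, hy⟩ := exists_two_refls hQ hn h2 hR
  refine le_antisymm (fun g hg => ?_) (Abelianization.commutator_subset_ker _)
  rw [← Abelianization.ker_of, MonoidHom.mem_ker]
  rw [MonoidHom.mem_ker] at hg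
  have hne : (Multiplicative.ofAdd (1 : ZMod 2)) ≠ 1 := by decide
  -- transport the four cases through the pair of maps
  rcases hcov g with h | h | h | h <;>
    simp only [MonoidHom.prod_apply, Prod.ext_iff, hg] at h
  · exact h.1
  · rw [hx] at h; exact absurd h.2.2.symm hne
  · rw [hy] at h; exact absurd h.2.2.symm hne
  · rw [hx, hy] at h
    exact absurd (by simpa using h.2.1.symm) hs

theorem orthInvariant_surjective [Finite F] (hQ : (polarBilin Q).Nondegenerate)
    (hn : 2 ≤ Module.finrank F V) (h2 : (2 : F) ≠ 0) (hR : reflGroup Q = orth Q) :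
    Function.Surjective (orthInvariant hQ hR) := by
  obtain ⟨x, y, -, hx, s, hs, hy⟩ := exists_two_refls hQ hn h2 hR
  have hcard : ∀ t : SqClass F, t = 1 ∨ t = s := fun t => by
    obtain ⟨a, b, -, hab⟩ := Nat.card_eq_two_iff.1 (card_sqClass (F := F) h2)
    have h : ∀ z : SqClass F, z = a ∨ z = b := fun z => by
      have : z ∈ ({a, b} : Set (SqClass F)) := hab.symm ▸ trivial
      exact this
    rcases h 1 with h1 | h1 <;> rcases h s with h2' | h2' <;> rcases h t with h3 | h3 <;> simp_all
  have hd : ∀ d : Multiplicative (ZMod 2), d = 1 ∨ d = Multiplicative.ofAdd 1 := by decide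
  rintro ⟨t, d⟩
  rcases hcard t with rfl | rfl <;> rcases hd d with rfl | rfl
  · exact ⟨1, map_one _⟩
  · exact ⟨x, hx⟩
  · refine ⟨x * y, ?_⟩
    rw [map_mul, hx, hy]
    exact Prod.ext (one_mul _) (show Multiplicative.ofAdd (1 : ZMod 2) * Multiplicative.ofAdd 1 = 1 by decide)
  · exact ⟨y, hy⟩

theorem index_commutator_orth_odd [Finite F] (hQ : (polarBilin Q).Nondegenerate)
    (hn : 2 ≤ Module.finrank F V) (h2 : (2 : F) ≠ 0) (hR : reflGroup Q = orth Q) :
    (commutator (orth Q)).index = 4 := by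
  rw [← ker_orthInvariant hQ hn h2 hR, Subgroup.index_ker,
    MonoidHom.range_eq_top.2 (orthInvariant_surjective hQ hn h2 hR), Subgroup.card_top,
    Nat.card_prod, card_sqClass h2]
  simp

theorem ker_dicksonHom [Finite F] [CharP F 2] (hQ : (polarBilin Q).Nondegenerate)
    (hR : reflGroup Q = orth Q) : (dicksonHom hQ hR).ker = commutator (orth Q) := by
  refine le_antisymm (fun g hg => ?_) (Abelianization.commutator_subset_ker _)
  rw [← Abelianization.ker_of, MonoidHom.mem_ker]
  rw [MonoidHom.mem_ker] at hg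
  haveI := Fintype.ofFinite F
  have hne : (Multiplicative.ofAdd (1 : ZMod 2)) ≠ 1 := by decide
  by_cases hex : ∃ a, Q a ≠ 0
  · obtain ⟨a, ha⟩ := hex
    have hcov := four_cases ((Abelianization.of).prod (dicksonHom hQ hR)) _ (closure_oRefl hR)
      (oRefl Q a ha) (oRefl Q a ha) (by rw [← map_mul, oRefl_mul_self, map_one])
      (by rw [← map_mul, oRefl_mul_self, map_one]) (by
        rintro _ ⟨d, hd, rfl⟩
        exact Or.inl (map_oRefl_eq _ hQ hd ha
          (FiniteField.isSquare_of_char_two (ringChar.eq F 2) _))) g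
    have hd' : dicksonHom hQ hR (oRefl Q a ha) = Multiplicative.ofAdd 1 := dicksonHom_refl hQ hR ha
    rcases hcov with h | h | h | h <;>
      simp only [MonoidHom.prod_apply, Prod.ext_iff, hg] at h
    · exact h.1
    · rw [hd'] at h; exact absurd h.2.symm hne
    · rw [hd'] at h; exact absurd h.2.symm hne
    · rw [Prod.fst_mul, ← map_mul, oRefl_mul_self, map_one] at h
      exact h.1
  · have : g = 1 := by
      have hg' : (g : V ≃ₗ[F] V) ∈ reflGroup Q := hR.ge g.2
      have hle : reflGroup Q ≤ ⊥ := by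
        rw [reflGroup, Subgroup.closure_le]
        rintro _ ⟨a, ha, rfl⟩
        exact absurd ⟨a, ha⟩ hex
      exact Subtype.ext (Subgroup.mem_bot.1 (hle hg'))
    rw [this, map_one]

theorem index_commutator_orth_even [Finite F] [CharP F 2] (hQ : (polarBilin Q).Nondegenerate)
    (hn : 2 ≤ Module.finrank F V) (hR : reflGroup Q = orth Q) :
    (commutator (orth Q)).index = 2 := by
  obtain ⟨a, ha⟩ := exists_represents hQ hn 1
  have ha0 : Q a ≠ 0 := by rw [ha]; exact one_ne_zero
  have hd : ∀ d : Multiplicative (ZMod 2), d = 1 ∨ d = Multiplicative.ofAdd 1 := by decide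
  have hsur : Function.Surjective (dicksonHom hQ hR) := fun d => by
    rcases hd d with rfl | rfl
    · exact ⟨1, map_one _⟩
    · exact ⟨oRefl Q a ha0, dicksonHom_refl hQ hR ha0⟩
  rw [← ker_dicksonHom hQ hR, Subgroup.index_ker, MonoidHom.range_eq_top.2 hsur, Subgroup.card_top]
  simp

theorem index_commutator_of_mulEquiv {G H : Type*} [Group G] [Group H] (e : G ≃* H) :
    (commutator G).index = (commutator H).index := by
  rw [← Subgroup.index_map_equiv (commutator G) e]
  congr 1
  show (commutator G).map e.toMonoidHom = _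
  rw [map_commutator_eq, MonoidHom.range_eq_top.2 e.surjective, commutator_def]

end CfsgLib.Geometry
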