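import Cfsg.Agent.Lib.Geometry.Alternating
import Cfsg.Agent.Lib.Geometry.SymplecticBasis
import Cfsg.Agent.Lib.Geometry.OmegaIndex

/-! Conjugacy of involutions and of square roots of `-1` in symplectic groups. -/

set_option autoImplicit false

namespace CfsgLib.Geometry

universe u v

variable {F : Type u} [Field F] {V : Type v} [AddCommGroup V] [Module F V] [FiniteDimensional F V]
variable {B : LinearMap.BilinForm F V}

/-- A symplectic basis of a nondegenerate subspace, as a basis of the subspace. -/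
theorem exists_sympBasis_of_nondeg (hA : B.IsAlt) (W : Submodule F V)
    (hW : ∀ x ∈ W, (∀ y ∈ W, B x y = 0) → x = 0) :
    ∃ (m : ℕ) (b : Module.Basis (Fin m ⊕ Fin m) F W),
      (∀ i j : Fin m, B (b (.inl i) : V) (b (.inr j) : V) = if i = j then 1 else 0) ∧
      (∀ i j : Fin m, B (b (.inl i) : V) (b (.inl j) : V) = 0) ∧
      (∀ i j : Fin m, B (b (.inr i) : V) (b (.inr j) : V) = 0) := by
  obtain ⟨m, k, b, h1, h2, h3, h4⟩ := exists_sympBasis_aux (Module.finrank F W) rfl (B.restrict W)
    (fun x => hA x)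
  rcases k with _ | k
  · exact ⟨m, b.reindex (Equiv.sumEmpty _ _), fun i j => by simpa using h1 i j,
      fun i j => by simpa using h2 i j, fun i j => by simpa using h3 i j⟩
  · exact absurd (Subtype.ext (hW _ (b (.inr 0)).2 fun y hy => h4 0 ⟨y, hy⟩)) (b.ne_zero _)

theorem finrank_eq_two_mul (hA : B.IsAlt) (W : Submodule F V)
    (hW : ∀ x ∈ W, (∀ y ∈ W, B x y = 0) → x = 0) :
    ∃ j, Module.finrank F W = 2 * j := by
  obtain ⟨m, b, -⟩ := exists_sympBasis_of_nondeg hA W hW
  exact ⟨m, by rw [Module.finrank_eq_card_basis b]; simp; omega⟩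

/-- Nondegenerate subspaces of equal dimension are carried to each other by isometries. -/
theorem alt_exists_map_eq (hB : B.Nondegenerate) (hA : B.IsAlt) (W W' : Submodule F V)
    (hW : ∀ x ∈ W, (∀ y ∈ W, B x y = 0) → x = 0) (hW' : ∀ x ∈ W', (∀ y ∈ W', B x y = 0) → x = 0)
    (hd : Module.finrank F W = Module.finrank F W') :
    ∃ g : V ≃ₗ[F] V, (∀ x y, B (g x) (g y) = B x y) ∧ W.map g.toLinearMap = W' := by
  obtain ⟨m, b, h1, h2, h3⟩ := exists_sympBasis_of_nondeg hA W hW
  obtain ⟨m', b', h1', h2', h3'⟩ := exists_sympBasis_of_nondeg hA W' hW'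
  obtain rfl : m = m' := by
    rw [Module.finrank_eq_card_basis b, Module.finrank_eq_card_basis b'] at hd
    simp at hd; omega
  let ψ := b.equiv b' (Equiv.refl _)
  have hψ : ∀ i, ψ (b i) = b' i := fun i => by simp [ψ]
  have hform : ∀ i j, B (b' i : V) (b' j : V) = B (b i : V) (b j : V) := by
    rintro (i | i) (j | j)
    · rw [h2, h2']
    · rw [h1, h1']
    · rw [← hA.neg_eq (b' (.inl j) : V), ← hA.neg_eq (b (.inl j) : V), h1, h1']
    · rw [h3, h3']
  have hpres : ((B.restrict W').comp ψ.toLinearMap ψ.toLinearMap) = B.restrict W := by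
    refine LinearMap.BilinForm.ext_basis b fun i j => ?_
    simp [hψ, hform]
  obtain ⟨g, hg, hgψ⟩ := alt_witt hB hA W (W'.subtype.comp ψ.toLinearMap)
    (W'.injective_subtype.comp ψ.injective) (fun x x' => by
      simpa using LinearMap.congr_fun₂ hpres x x')
  refine ⟨g, altTransvGroup_preserves hA hg, le_antisymm ?_ fun y hy => ?_⟩
  · rintro _ ⟨x, hx, rfl⟩
    rw [LinearEquiv.coe_coe, hgψ ⟨x, hx⟩]
    exact (ψ ⟨x, hx⟩).2
  · refine ⟨(ψ.symm ⟨y, hy⟩ : V), (ψ.symm ⟨y, hy⟩).2, ?_⟩
    rw [LinearEquiv.coe_coe, hgψ]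
    simp

/-- The `-1`-eigenspace. -/
def negSpace (s : V ≃ₗ[F] V) : Submodule F V :=
  LinearMap.ker (s.toLinearMap + LinearMap.id)

omit [FiniteDimensional F V] in
theorem mem_negSpace {s : V ≃ₗ[F] V} {x : V} : x ∈ negSpace s ↔ s x = -x := by
  simp [negSpace, eq_neg_iff_add_eq_zero]

theorem negSpace_nondeg (h2 : (2 : F) ≠ 0) (hB : B.Nondegenerate) {s : V ≃ₗ[F] V}
    (hs : ∀ x y, B (s x) (s y) = B x y) (hs2 : ∀ x, s (s x) = x) :
    ∀ x ∈ negSpace s, (∀ y ∈ negSpace s, B x y = 0) → x = 0 := by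
  intro x hx h
  refine hB.1 x fun y => ?_
  have hd : B x (y - s y) = 0 := h _ (mem_negSpace.2 (by rw [map_sub, hs2, neg_sub]))
  have hp : B x (y + s y) = 0 := by
    have e := hs x (y + s y)
    rw [mem_negSpace.1 hx, map_add, hs2, add_comm (s y) y, map_neg, LinearMap.neg_apply] at e
    have : (2 : F) * B x (y + s y) = 0 := by linear_combination (-1 : F) * e
    exact (mul_eq_zero.1 this).resolve_left h2
  rw [map_sub] at hd
  rw [map_add] at hp
  have : (2 : F) * B x y = 0 := by linear_combination hd + hp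
  exact (mul_eq_zero.1 this).resolve_left h2

theorem finrank_negSpace_add (h2 : (2 : F) ≠ 0) {s t : V ≃ₗ[F] V} (hs2 : ∀ x, s (s x) = x)
    (ht : ∀ x, t x = -s x) :
    Module.finrank F (negSpace s) + Module.finrank F (negSpace t) = Module.finrank F V := by
  have hd : IsCompl (negSpace s) (negSpace t) := by
    constructor
    · rw [disjoint_iff, eq_bot_iff]
      rintro x ⟨h1, h3⟩
      simp only [SetLike.mem_coe, mem_negSpace, ht, neg_inj] at h1 h3
      rw [h3] at h1
      have : (2 : F) • x = 0 := by rw [two_smul]; exact eq_neg_iff_add_eq_zero.1 h1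
      exact (smul_eq_zero.1 this).resolve_left h2
    · rw [codisjoint_iff, eq_top_iff]
      intro x _
      refine Submodule.mem_sup.2 ⟨(2⁻¹ : F) • (x - s x), ?_, (2⁻¹ : F) • (x + s x), ?_, ?_⟩
      · rw [mem_negSpace, map_smul, map_sub, hs2, ← smul_neg, neg_sub]
      · rw [mem_negSpace, ht, map_smul, map_add, hs2, add_comm]
      · rw [← smul_add, show x - s x + (x + s x) = (2 : F) • x by rw [two_smul]; abel,
          inv_smul_smul₀ h2]
  exact Submodule.finrank_add_eq_of_isCompl hd

/-- Symplectic involutions with eigenspaces of the same dimension are conjugate. -/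
theorem alt_involution_conj (h2 : (2 : F) ≠ 0) (hB : B.Nondegenerate) (hA : B.IsAlt)
    {s t : V ≃ₗ[F] V} (hs : ∀ x y, B (s x) (s y) = B x y) (hs2 : ∀ x, s (s x) = x)
    (ht : ∀ x y, B (t x) (t y) = B x y) (ht2 : ∀ x, t (t x) = x)
    (hd : Module.finrank F (negSpace s) = Module.finrank F (negSpace t)) :
    ∃ g : V ≃ₗ[F] V, (∀ x y, B (g x) (g y) = B x y) ∧ ∀ x, g (s x) = t (g x) := by
  obtain ⟨g, hg, hmap⟩ := alt_exists_map_eq hB hA _ _ (negSpace_nondeg h2 hB hs hs2)
    (negSpace_nondeg h2 hB ht ht2) hd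
  have hN : ∀ y ∈ negSpace t, ∃ x ∈ negSpace s, g x = y := fun y hy => by
    rw [← hmap] at hy
    exact hy
  refine ⟨g, hg, fun x => ?_⟩
  have key : ∀ p, s p = p → t (g p) = g p := fun p hp => by
    have hz : g p - t (g p) ∈ negSpace t := mem_negSpace.2 (by rw [map_sub, ht2, neg_sub])
    refine (sub_eq_zero.1 (negSpace_nondeg h2 hB ht ht2 _ hz fun y hy => ?_)).symm
    obtain ⟨n, hn, rfl⟩ := hN y hy
    have e1 : B p n = 0 := by
      have e := hs p n
      rw [hp, mem_negSpace.1 hn, map_neg] at e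
      have : (2 : F) * B p n = 0 := by linear_combination (-1 : F) * e
      exact (mul_eq_zero.1 this).resolve_left h2
    have e2 := ht (g p) (g n)
    rw [mem_negSpace.1 hy, map_neg, hg, e1, neg_eq_zero] at e2
    rw [map_sub, LinearMap.sub_apply, e2, sub_zero, hg, e1]
  have key' : ∀ n, s n = -n → t (g n) = -g n := fun n hn =>
    mem_negSpace.1 (hmap ▸ Submodule.mem_map_of_mem (mem_negSpace.2 hn))
  have h1 := key (x + s x) (by rw [map_add, hs2, add_comm])
  have h3 := key' (x - s x) (by rw [map_sub, hs2, neg_sub])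
  simp only [map_add, map_sub] at h1 h3
  have : (2 : F) • (g (s x) - t (g x)) = 0 := by
    rw [two_smul, show g (s x) - t (g x) + (g (s x) - t (g x)) =
      ((g x + g (s x)) - (t (g x) + t (g (s x)))) - ((t (g x) - t (g (s x))) + (g x - g (s x))) by
        abel, h1, h3]
    abel
  exact sub_eq_zero.1 ((smul_eq_zero.1 this).resolve_left h2)

omit [FiniteDimensional F V] in
/-- A symplectic complex structure has a hyperbolic vector pair `v, j v`. -/
theorem exists_pair_complex [FiniteDimensional F V] [Finite F] (h2 : (2 : F) ≠ 0)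
    (hB : B.Nondegenerate) (hA : B.IsAlt) {j : V →ₗ[F] V}
    (hj : ∀ x y, B (j x) (j y) = B x y) (hj2 : ∀ x, j (j x) = -x)
    (hn : 0 < Module.finrank F V) : ∃ v, B v (j v) = 1 := by
  let Q : QuadraticForm F V := LinearMap.BilinMap.toQuadraticMap (B.compl₂ j)
  have hsymm : ∀ x y, B y (j x) = B x (j y) := fun x y => by
    have e := hj y (j x)
    rw [hj2, map_neg] at e
    rw [← e, ← hA.neg_eq (j y) x]
  have hpol : ∀ x y, QuadraticMap.polar Q x y = 2 * B x (j y) := fun x y => by
    rw [show (⇑Q) = ⇑(LinearMap.BilinMap.toQuadraticMap (B.compl₂ j)) from rfl,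
      LinearMap.BilinMap.polar_toQuadraticMap, LinearMap.compl₂_apply, LinearMap.compl₂_apply,
      hsymm]
    ring
  have hQ : (QuadraticMap.polarBilin Q).Nondegenerate := by
    have hl : ∀ x, (∀ y, QuadraticMap.polar Q x y = 0) → x = 0 := fun x hx => hB.1 x fun y => by
      have := hx (-j y)
      rw [hpol, map_neg, hj2, neg_neg] at this
      exact (mul_eq_zero.1 this).resolve_left h2
    exact ⟨fun x hx => hl x hx, fun y hy => hl y fun x => by
      rw [QuadraticMap.polar_comm]; exact hy x⟩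
  have hn2 : 2 ≤ Module.finrank F V := by
    obtain ⟨k, hk⟩ := finrank_eq_two_mul hA (⊤ : Submodule F V) fun x _ h =>
      hB.1 x fun y => h y trivial
    rw [finrank_top] at hk
    omega
  obtain ⟨v, hv⟩ := exists_represents hQ hn2 1
  exact ⟨v, hv⟩

/-- Any two symplectic complex structures on spaces of equal dimension are isomorphic. -/
theorem exists_iso_complex [Finite F] (h2 : (2 : F) ≠ 0) (n : ℕ) :
    ∀ {V V' : Type v} [AddCommGroup V] [Module F V] [FiniteDimensional F V]
    [AddCommGroup V'] [Module F V'] [FiniteDimensional F V']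
    (B : LinearMap.BilinForm F V) (B' : LinearMap.BilinForm F V') (j : V →ₗ[F] V) (j' : V' →ₗ[F] V'),
    Module.finrank F V = n → Module.finrank F V' = n → B.Nondegenerate → B'.Nondegenerate →
    B.IsAlt → B'.IsAlt → (∀ x y, B (j x) (j y) = B x y) → (∀ x, j (j x) = -x) →
    (∀ x y, B' (j' x) (j' y) = B' x y) → (∀ x, j' (j' x) = -x) →
    ∃ f : V →ₗ[F] V', (∀ x y, B' (f x) (f y) = B x y) ∧ ∀ x, f (j x) = j' (f x) := by
  induction n using Nat.strong_induction_on with
  | _ n ih =>
  intro V V' _ _ _ _ _ _ B B' j j' hn hn' hB hB' hA hA' hj hj2 hj' hj2'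
  rcases Nat.eq_zero_or_pos n with rfl | hpos
  · haveI : Subsingleton V := Module.finrank_zero_iff.1 hn
    exact ⟨0, fun x y => by simp [Subsingleton.elim x 0], fun x => by simp⟩
  obtain ⟨v, hv⟩ := exists_pair_complex h2 hB hA hj hj2 (by omega)
  obtain ⟨v', hv'⟩ := exists_pair_complex h2 hB' hA' hj' hj2' (by omega)
  have hvj : B (j v) v = -1 := by rw [← hA.neg_eq, hv]
  have hvj' : B' (j' v') v' = -1 := by rw [← hA'.neg_eq, hv']
  let W : Submodule F V := LinearMap.ker ((B v).prod (B (j v)))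
  let W' : Submodule F V' := LinearMap.ker ((B' v').prod (B' (j' v')))
  have hmem : ∀ w, w ∈ W ↔ B v w = 0 ∧ B (j v) w = 0 := fun w => by simp [W]
  have hmem' : ∀ w, w ∈ W' ↔ B' v' w = 0 ∧ B' (j' v') w = 0 := fun w => by simp [W']
  let pr : V →ₗ[F] W := LinearMap.codRestrict W
    (LinearMap.id - (B.flip (j v)).smulRight v - (B v).smulRight (j v)) fun x => by
      rw [hmem]
      constructor <;> simp [hv, hvj, hA.self_eq_zero, ← hA.neg_eq x (j v)]
  have hpr : ∀ x, (pr x : V) = x - B x (j v) • v - B v x • j v := fun x => rfl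
  have hjW : ∀ x ∈ W, j x ∈ W := fun x hx => by
    obtain ⟨a, b⟩ := (hmem x).1 hx
    rw [hmem, hj]
    refine ⟨?_, a⟩
    have e := hj v (j x)
    rw [hj2, map_neg, b, neg_zero] at e
    exact e.symm
  have hjW' : ∀ x ∈ W', j' x ∈ W' := fun x hx => by
    obtain ⟨a, b⟩ := (hmem' x).1 hx
    rw [hmem', hj']
    refine ⟨?_, a⟩
    have e := hj' v' (j' x)
    rw [hj2', map_neg, b, neg_zero] at e
    exact e.symm
  have hdim : Module.finrank F W + 2 = n := by
    have hs : Function.Surjective ((B v).prod (B (j v))) := fun ⟨a, b⟩ =>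
      ⟨a • j v - b • v, by simp [hv, hvj, hA.self_eq_zero]⟩
    have h1 := LinearMap.finrank_range_add_finrank_ker ((B v).prod (B (j v)))
    rw [LinearMap.range_eq_top.2 hs, finrank_top, Module.finrank_prod, Module.finrank_self, hn] at h1
    change 1 + 1 + Module.finrank F W = _ at h1
    omega
  have hdim' : Module.finrank F W' + 2 = n := by
    have hs : Function.Surjective ((B' v').prod (B' (j' v'))) := fun ⟨a, b⟩ =>
      ⟨a • j' v' - b • v', by simp [hv', hvj', hA'.self_eq_zero]⟩
    have h1 := LinearMap.finrank_range_add_finrank_ker ((B' v').prod (B' (j' v')))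
    rw [LinearMap.range_eq_top.2 hs, finrank_top, Module.finrank_prod, Module.finrank_self, hn'] at h1
    change 1 + 1 + Module.finrank F W' = _ at h1
    omega
  have hWn : (B.restrict W).Nondegenerate := by
    have hr : (B.restrict W).IsRefl := fun x y h => hA.isRefl _ _ h
    refine hr.nondegenerate_iff_separatingLeft.2
      fun (x : W) hx => (Subtype.ext (hB.1 _ fun y => ?_) : x = (0 : W))
    obtain ⟨a, b⟩ := (hmem _).1 x.2
    have := hx (pr y)
    simpa [hpr, hA.isRefl _ _ a, hA.isRefl _ _ b] using this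
  have hWn' : (B'.restrict W').Nondegenerate := by
    have hr : (B'.restrict W').IsRefl := fun x y h => hA'.isRefl _ _ h
    refine hr.nondegenerate_iff_separatingLeft.2
      fun (x : W') hx => (Subtype.ext (hB'.1 _ fun y => ?_) : x = (0 : W'))
    obtain ⟨a, b⟩ := (hmem' _).1 x.2
    have := hx ⟨y - B' y (j' v') • v' - B' v' y • j' v', by
      rw [hmem']; constructor <;> simp [hv', hvj', hA'.self_eq_zero, ← hA'.neg_eq y (j' v')]⟩
    simpa [hA'.isRefl _ _ a, hA'.isRefl _ _ b] using this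
  obtain ⟨f₀, hf₀, hf₀j⟩ := ih (Module.finrank F W) (by omega) (B.restrict W) (B'.restrict W')
    (j.restrict hjW) (j'.restrict hjW') rfl (by omega) hWn hWn' (fun x => hA x) (fun x => hA' x)
    (fun x y => hj x y) (fun x => Subtype.ext (hj2 x)) (fun x y => hj' x y)
    (fun x => Subtype.ext (hj2' x))
  refine ⟨(B.flip (j v)).smulRight v' + (B v).smulRight (j' v') + W'.subtype.comp (f₀.comp pr),
    fun x y => ?_, fun x => ?_⟩
  · have e := hf₀ (pr x) (pr y)
    obtain ⟨a1, b1⟩ := (hmem' _).1 (f₀ (pr x)).2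
    obtain ⟨a2, b2⟩ := (hmem' _).1 (f₀ (pr y)).2
    simp [hv', hvj', hA'.self_eq_zero, a2, b2, hA'.isRefl _ _ a1, hA'.isRefl _ _ b1] at e ⊢
    rw [e, hpr, hpr]
    simp [hv, hvj, hA.self_eq_zero, ← hA.neg_eq x v, ← hA.neg_eq (j v) y,
      ← hA.neg_eq x (j v)]
    ring
  · have ea : B (j x) (j v) = -B v x := by rw [hj, hA.neg_eq]
    have eb : B v (j x) = B x (j v) := by
      have e := hj v (j x)
      rw [hj2, map_neg, hA.neg_eq] at e
      exact e.symm
    have ep : pr (j x) = j.restrict hjW (pr x) := Subtype.ext (by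
      rw [hpr, LinearMap.coe_restrict_apply, hpr, ea, eb]
      simp [hj2]
      abel)
    have e := congrArg Subtype.val (hf₀j (pr x))
    rw [LinearMap.coe_restrict_apply] at e
    simp [ea, eb, ep, e, hj2']
    abel

/-- Square roots of `-1` in a symplectic group are conjugate. -/
theorem alt_complex_conj [Finite F] (h2 : (2 : F) ≠ 0) (hB : B.Nondegenerate) (hA : B.IsAlt)
    {s t : V ≃ₗ[F] V} (hs : ∀ x y, B (s x) (s y) = B x y) (hs2 : ∀ x, s (s x) = -x)
    (ht : ∀ x y, B (t x) (t y) = B x y) (ht2 : ∀ x, t (t x) = -x) :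
    ∃ g : V ≃ₗ[F] V, (∀ x y, B (g x) (g y) = B x y) ∧ ∀ x, g (s x) = t (g x) := by
  obtain ⟨f, hf, hfj⟩ := exists_iso_complex h2 (Module.finrank F V) B B s.toLinearMap t.toLinearMap
    rfl rfl hB hB hA hA hs hs2 ht ht2
  have hinj : Function.Injective f := (injective_iff_map_eq_zero f).2 fun x hx => hB.1 x fun y => by
    rw [← hf, hx, map_zero, LinearMap.zero_apply]
  exact ⟨LinearEquiv.ofInjectiveEndo f hinj, hf, hfj⟩

end CfsgLib.Geometry
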