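import Cfsg.Agent.Lib.Geometry.FieldOddStd
import Cfsg.Agent.Lib.KnownB.PSLAut.Out

/-! Standard field automorphisms as a group; the outer automorphism group in odd dimension. -/

set_option autoImplicit false

namespace CfsgLib.Geometry

open Matrix QuadraticMap

variable {ι : Type} [Fintype ι] [DecidableEq ι] {F : Type*} [Field F]

theorem inr_mem_semiSim {M : Matrix ι ι F} (hfix : ∀ σ : F ≃+* F, M.map σ = M) (σ : F ≃+* F) :
    (SemidirectProduct.inr σ : GammaL ι F) ∈ semiSim ⇑(matQuad M) := by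
  refine ⟨1, fun v => ?_⟩
  have h : M.map σ *ᵥ (fun i => σ (v i)) = M *ᵥ fun i => σ (v i) := by rw [hfix σ]
  rw [slAct_inr, SemidirectProduct.right_inr, Units.val_one, one_mul, matQuad_apply, matQuad_apply, ← h,
    ← map_mulVec']
  simp [dotProduct, map_sum, map_mul]

/-- The field automorphisms of a form over the prime field. -/
noncomputable def fieldHom {M : Matrix ι ι F} (hfix : ∀ σ : F ≃+* F, M.map σ = M) :
    (F ≃+* F) →* MulAut (Cfsg.POmega F ⇑(matQuad M)) :=
  (autOmega _).comp ((SemidirectProduct.inr (φ := glAut ι F)).codRestrict _ (inr_mem_semiSim hfix))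

theorem fieldHom_mem_sim [Finite F] {M : Matrix ι ι F} (hfix : ∀ σ : F ≃+* F, M.map σ = M)
    (hM : (M + Mᵀ).det ≠ 0) (hn : 5 ≤ Fintype.card ι) {σ : F ≃+* F}
    (h : fieldHom hfix σ ∈ (simAut ⇑(matQuad M)).range) : σ = 1 := by
  obtain ⟨g, hg⟩ := h
  have h1 : autOmega _ ((simIncl _ g)⁻¹ * ⟨SemidirectProduct.inr σ, inr_mem_semiSim hfix σ⟩) = 1 := by
    rw [map_mul, map_inv, inv_mul_eq_one]; exact hg
  have h2 := ((autOmega_eq_one_iff (nondegenerate_matQuad hM) hn _).1 h1).1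
  rw [Subgroup.coe_mul, Subgroup.coe_inv, SemidirectProduct.mul_right, SemidirectProduct.inv_right,
    show ((simIncl ⇑(matQuad M) g : semiSim ⇑(matQuad M)) : GammaL ι F) = SemidirectProduct.inl (g : GL ι F) from rfl,
    SemidirectProduct.right_inl, SemidirectProduct.right_inr, inv_one, one_mul] at h2
  exact h2

theorem exists_sim_mul_field {M : Matrix ι ι F} (hfix : ∀ σ : F ≃+* F, M.map σ = M)
    (hΓ : Cfsg.gammaPOmega F ⇑(matQuad M) = ⊤) (a : MulAut (Cfsg.POmega F ⇑(matQuad M))) :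
    ∃ g σ, a = simAut ⇑(matQuad M) g * fieldHom hfix σ := by
  have ha : a ∈ (autOmega ⇑(matQuad M)).range := by rw [← gammaPOmega_eq, hΓ]; trivial
  obtain ⟨x, rfl⟩ := ha
  set σ := (x : GammaL ι F).right
  set y : semiSim ⇑(matQuad M) := x * ⟨SemidirectProduct.inr σ, inr_mem_semiSim hfix σ⟩⁻¹ with hy
  have hy1 : (y : GammaL ι F) = SemidirectProduct.inl (y : GammaL ι F).left := by
    refine SemidirectProduct.ext (by simp) ?_
    simp [hy, σ]
  obtain ⟨c, hc⟩ := y.2
  have hg : (y : GammaL ι F).left ∈ Cfsg.Geo.quadSimilarityGroup ⇑(matQuad M) := ⟨c, fun v => by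
    have := hc v
    rw [hy1, slAct_inl, SemidirectProduct.right_inl] at this
    exact this⟩
  refine ⟨⟨_, hg⟩, σ, ?_⟩
  rw [fieldHom, MonoidHom.comp_apply, simAut, MonoidHom.comp_apply, ← map_mul]
  refine congrArg _ ?_
  rw [show simIncl ⇑(matQuad M) ⟨_, hg⟩ = y from Subtype.ext hy1.symm, hy]
  exact (inv_mul_cancel_right x _).symm

/-- A quotient that is a direct product of a group of order two and a group of field automorphisms. -/
theorem out_equiv_two_prod {X G : Type*} [Group X] [Group G] (K H : Subgroup X) [K.Normal] [H.Normal]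
    (hKH : K ≤ H) (θ : G →* X) (hsurj : ∀ a : X, ∃ h ∈ H, ∃ g, a = h * θ g)
    (hinj : ∀ g, θ g ∈ H → g = 1) {d : X} (hd : d ∈ H) (hdK : d ∉ K)
    (hcov : ∀ h ∈ H, h ∈ K ∨ h * d⁻¹ ∈ K) : Nonempty (X ⧸ K ≃* Multiplicative (ZMod 2) × G) := by
  let q := QuotientGroup.mk' K
  have hdd : q d * q d = 1 := by
    rcases hcov _ (H.mul_mem hd hd) with h | h
    · rw [← map_mul]; exact (QuotientGroup.eq_one_iff _).2 h
    · exact absurd (by simpa using h) hdK
  have h1 : ∀ h ∈ H, q h = 1 ∨ q h = q d := fun h hh => (hcov h hh).imp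
    (fun e => (QuotientGroup.eq_one_iff _).2 e) fun e => by
      have : q (h * d⁻¹) = 1 := (QuotientGroup.eq_one_iff _).2 e
      rwa [map_mul, map_inv, mul_inv_eq_one] at this
  have hcomm : ∀ g, Commute (q d) (q (θ g)) := fun g => by
    rcases h1 _ (‹H.Normal›.conj_mem d hd (θ g)) with h | h
    · refine absurd ?_ hdK
      have h' := ‹K.Normal›.conj_mem _ ((QuotientGroup.eq_one_iff _).1 h) (θ g)⁻¹
      simpa [mul_assoc] using h'
    · rw [map_mul, map_mul, map_inv, mul_inv_eq_iff_eq_mul] at h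
      exact h.symm
  let two : Multiplicative (ZMod 2) →* X ⧸ K :=
    { toFun := fun z => if z = 1 then 1 else q d
      map_one' := if_pos rfl
      map_mul' := by
        have hz : ∀ z : Multiplicative (ZMod 2), z = 1 ∨ z = Multiplicative.ofAdd 1 := by decide
        intro a b
        rcases hz a with rfl | rfl <;> rcases hz b with rfl | rfl
        · simp
        · simp
        · simp
        · rw [show (Multiplicative.ofAdd (1 : ZMod 2) * Multiplicative.ofAdd 1) = 1 by decide, if_pos rfl,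
            if_neg (by decide), hdd] }
  have htwo : ∀ z, two z = 1 ∨ two z = q d := fun z => by
    by_cases hz : z = 1
    · exact Or.inl (if_pos hz)
    · exact Or.inr (if_neg hz)
  let Φ : Multiplicative (ZMod 2) × G →* X ⧸ K := two.noncommCoprod (q.comp θ) fun z g => by
    rcases htwo z with h | h <;> rw [h]
    · exact Commute.one_left _
    · exact hcomm g
  refine ⟨(MulEquiv.ofBijective Φ ⟨(injective_iff_map_eq_one _).2 ?_, ?_⟩).symm⟩
  · rintro ⟨z, g⟩ hzg
    have hzg' : two z * q (θ g) = 1 := hzg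
    have hg : g = 1 := by
      refine hinj g ?_
      rcases htwo z with h | h <;> rw [h] at hzg'
      · rw [one_mul] at hzg'
        exact hKH ((QuotientGroup.eq_one_iff _).1 hzg')
      · rw [← map_mul] at hzg'
        have := H.mul_mem (H.inv_mem hd) (hKH ((QuotientGroup.eq_one_iff _).1 hzg'))
        rwa [inv_mul_cancel_left] at this
    subst hg
    rw [map_one, map_one, mul_one] at hzg'
    refine Prod.ext ?_ rfl
    by_contra hz
    rw [show two z = q d from if_neg hz] at hzg'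
    exact hdK ((QuotientGroup.eq_one_iff _).1 hzg')
  · intro a
    induction a using QuotientGroup.induction_on with
    | H a =>
      obtain ⟨h, hh, g, rfl⟩ := hsurj a
      rcases h1 h hh with e | e
      · exact ⟨(1, g), show two 1 * q (θ g) = q (h * θ g) by rw [map_one, map_mul, e]⟩
      · exact ⟨(Multiplicative.ofAdd 1, g), show two _ * q (θ g) = q (h * θ g) by
          rw [map_mul, e]; rfl⟩

variable [Finite F]

theorem oddMat_fix (m : ℕ) (σ : F ≃+* F) : (oddMat m F).map σ = oddMat m F :=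
  oddMat_map (σ : F →+* F) m

/-- The inner-diagonal group modulo `Inn` has order two. -/
theorem odd_outer_element {M : Matrix ι ι F} (h2 : (2 : F) ≠ 0) (hM : (M + Mᵀ).det ≠ 0) {m : ℕ}
    (hm : 3 ≤ m) (hn : Fintype.card ι = 2 * m + 1) :
    ∃ d ∈ (simAut ⇑(matQuad M)).range, d ∉ Cfsg.Inn (Cfsg.POmega F ⇑(matQuad M)) ∧
      ∀ h ∈ (simAut ⇑(matQuad M)).range, h ∈ Cfsg.Inn (Cfsg.POmega F ⇑(matQuad M)) ∨
        h * d⁻¹ ∈ Cfsg.Inn (Cfsg.POmega F ⇑(matQuad M)) := by
  have hQ := nondegenerate_matQuad hM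
  have h5 : 5 ≤ Fintype.card ι := by omega
  have hne : ∃ v, matQuad M v ≠ 0 := exists_ne_zero_of_nondegenerate _ hQ (by omega)
  have hdet1 : ∀ w ∈ Cfsg.Omega F ⇑(matQuad M), detHom ⇑(matQuad M) w = 1 := fun w hw =>
    (detHom_eq_one_iff hQ h2 w).2 (by rw [(mem_Omega_iff_isoInv hQ h2 w).1 hw]; rfl)
  haveI : Nontrivial (SqClass F) := (Nat.card_eq_two_iff.1 (card_sqClass (F := F) h2)).elim
    fun a ha => ha.elim fun b hb => ⟨⟨a, b, hb.1⟩⟩
  obtain ⟨t, ht⟩ := exists_ne (1 : SqClass F)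
  obtain ⟨x, hx⟩ := orthInvariant_surjective hQ
    (by rw [Module.finrank_fintype_fun_eq_card]; omega) h2 (reflGroup_eq_orth_of_two_ne hQ h2) (t, 1)
  set s := (isomEquiv (matQuad M)).symm x
  have hs : isoInv hQ h2 s = (t, 1) := by
    show orthInvariant hQ _ (isomEquiv _ s) = _
    rw [MulEquiv.apply_symm_apply, hx]
  have hsd : detHom ⇑(matQuad M) s = 1 := (detHom_eq_one_iff hQ h2 s).2 (by rw [hs])
  have hin : ∀ h : Cfsg.isometryGroup F ⇑(matQuad M), detHom ⇑(matQuad M) h = 1 →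
      (isoInv hQ h2 h).1 = 1 → simAut _ (simIso _ h) ∈ Cfsg.Inn (Cfsg.POmega F ⇑(matQuad M)) :=
    fun h hh h1 => (mem_innPre_iff hQ h5 _).2 ⟨h,
      (mem_Omega_iff_isoInv hQ h2 h).2 (Prod.ext h1 ((detHom_eq_one_iff hQ h2 h).1 hh)), 1,
      by rw [map_one, one_mul]⟩
  refine ⟨_, ⟨simIso _ s, rfl⟩, fun hmem => ht ?_, ?_⟩
  · obtain ⟨w, hw, c, e⟩ := (mem_innPre_iff hQ h5 (simIso _ s)).1 hmem
    have hm := congrArg (simMult hne) e
    rw [map_mul, simMult_scalar, simMult_iso, simMult_iso, mul_one] at hm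
    have hd := congrArg (fun x : Cfsg.Geo.quadSimilarityGroup ⇑(matQuad M) =>
      Matrix.GeneralLinearGroup.det (x : GL ι F)) e
    simp only [Subgroup.coe_mul, map_mul] at hd
    rw [show Matrix.GeneralLinearGroup.det ((simIso ⇑(matQuad M) s : Cfsg.Geo.quadSimilarityGroup ⇑(matQuad M)) : GL ι F) = 1 from hsd,
      show Matrix.GeneralLinearGroup.det ((simIso ⇑(matQuad M) w : Cfsg.Geo.quadSimilarityGroup ⇑(matQuad M)) : GL ι F) = 1 from hdet1 w hw, mul_one] at hd
    have hc : c = 1 := by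
      have e3 : Matrix.GeneralLinearGroup.det (simScalar (matQuad M) c : GL ι F) = c ^ (2 * m + 1) := Units.ext (by
        rw [Matrix.GeneralLinearGroup.val_det_apply, simScalar_coe, det_smul, det_one, mul_one, hn,
          Units.val_pow_eq_pow_val])
      rw [e3, pow_succ, pow_mul, pow_two, ← hm, one_pow, one_mul] at hd
      exact hd.symm
    rw [hc, map_one, one_mul] at e
    have hsw : s = w := Subtype.ext
      (congrArg (Subtype.val : Cfsg.Geo.quadSimilarityGroup ⇑(matQuad M) → GL ι F) e :)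
    rw [hsw, (mem_Omega_iff_isoInv hQ h2 w).1 hw] at hs
    exact (congrArg Prod.fst hs).symm
  · rintro _ ⟨g, rfl⟩
    obtain ⟨c, h, rfl, hh⟩ := exists_scalar_special hM hn hne g
    rw [map_mul, (simAut_eq_one_iff hQ h5 _).2 (simScalar_mem_scalars _ c), one_mul]
    rcases sqClass_cases h2 ht (isoInv hQ h2 h).1 with h1 | h1
    · exact Or.inl (hin h hh h1)
    · refine Or.inr ?_
      rw [← map_inv, ← map_inv, ← map_mul, ← map_mul]
      refine hin _ (by rw [map_mul, map_inv, hh, hsd, inv_one, mul_one]) ?_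
      rw [map_mul, map_inv, hs]
      show (isoInv hQ h2 h).1 * t⁻¹ = 1
      rw [h1, mul_inv_cancel]

theorem out_pOmega_odd [Fintype F] {p f m : ℕ} [Fact p.Prime] (hf : 1 ≤ f) (hF : Fintype.card F = p ^ f)
    (hp : p ≠ 2) (hm : 3 ≤ m) :
    Nonempty (Cfsg.Out (Cfsg.POmega F (Cfsg.quadFormOdd m F)) ≃* Multiplicative (ZMod 2 × ZMod f)) := by
  have h2 : (2 : F) ≠ 0 := two_ne_zero_of_odd (by
    rw [hF]; exact ((Fact.out : p.Prime).odd_of_ne_two hp).pow)
  have hΓ := gammaPOmega_odd_eq_top h2 hm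
  rw [← coe_matQuad_odd] at hΓ ⊢
  have hM : (oddMat m F + (oddMat m F)ᵀ).det ≠ 0 := by
    rw [det_odd_gram]; exact mul_ne_zero h2 (pow_ne_zero _ (neg_ne_zero.2 one_ne_zero))
  have hn : Fintype.card (Unit ⊕ (Fin m ⊕ Fin m)) = 2 * m + 1 := by simp; omega
  haveI := Cfsg.innNormal (Cfsg.POmega F ⇑(matQuad (oddMat m F)))
  haveI : ((simAut ⇑(matQuad (oddMat m F))).range).Normal := by
    rw [MonoidHom.range_eq_map]; exact normal_map_simAut hΓ ⊤ fun _ _ _ => trivial
  obtain ⟨d, hd, hdK, hcov⟩ := odd_outer_element h2 hM hm hn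
  obtain ⟨e⟩ := out_equiv_two_prod (Cfsg.Inn (Cfsg.POmega F ⇑(matQuad (oddMat m F))))
    (simAut ⇑(matQuad (oddMat m F))).range
    (fun β hβ => by rw [inn_eq_map] at hβ; obtain ⟨w, rfl⟩ := hβ; exact ⟨_, rfl⟩)
    (fieldHom (oddMat_fix m))
    (fun a => by
      obtain ⟨g, σ, rfl⟩ := exists_sim_mul_field (oddMat_fix m) hΓ a
      exact ⟨_, ⟨g, rfl⟩, σ, rfl⟩)
    (fun g hg => fieldHom_mem_sim (oddMat_fix m) hM (by omega) hg) hd hdK hcov
  haveI := CfsgLib.KnownB.PSLAut.isCyclic_gal hf hF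
  haveI : IsCyclic (Multiplicative (ZMod f)) := inferInstance
  have e2 : (F ≃+* F) ≃* Multiplicative (ZMod f) := mulEquivOfCyclicCardEq (by
    rw [CfsgLib.KnownB.PSLAut.card_gal hf hF, Nat.card_congr Multiplicative.toAdd, Nat.card_zmod])
  exact ⟨e.trans ((MulEquiv.prodCongr (MulEquiv.refl _) e2).trans (MulEquiv.prodMultiplicative _ _).symm)⟩

end CfsgLib.Geometry
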