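import Cfsg.Agent.Lib.Classical.UnitaryFrame
import Cfsg.Prelude.Def_ClassicalGeometry

/-! The stabiliser in `GU` of a non-degenerate subspace. -/

set_option autoImplicit false

namespace CfsgLib.Geometry.UnSplit

open Matrix CfsgLib.Classical CfsgLib.Classical.Unitary CfsgLib.Geometry

variable {F : Type*} [Field F] {σ : F →+* F} {q n : ℕ}

theorem mem_GU_iff_mul (h : UFrob σ q) {g : GL (Fin n) F} :
    g ∈ Cfsg.GU n F q ↔ g.1ᵀ * g.1.map σ = 1 := by
  have hσ := h.pow
  constructor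
  · intro hg
    ext i j
    have := hg (Pi.single i 1) (Pi.single j 1)
    simp only [Units.coeHom_apply, mulVec_single_one] at this
    rw [h.hermForm_eq, h.hermForm_eq, uh, uh] at this
    refine Eq.trans ?_ (this.trans ?_)
    · simp [Matrix.mul_apply, dotProduct]
    · simp [Matrix.one_apply, Pi.single_apply, apply_ite σ, eq_comm]
  · intro hg u v
    simp only [Units.coeHom_apply]
    rw [h.hermForm_eq, h.hermForm_eq, uh, uh]
    have : σ ∘ (g.1 *ᵥ v) = g.1.map σ *ᵥ (σ ∘ v) := funext fun i => RingHom.map_mulVec σ g.1 v i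
    rw [this, dotProduct_mulVec, ← vecMul_transpose, vecMul_vecMul, hg, vecMul_one]

/-- The stabiliser of a coordinate subspace. -/
theorem coord_equiv (h : UFrob σ q) {k l : ℕ} (e : Fin k ⊕ Fin l ≃ Fin n) :
    Nonempty (↥((Cfsg.stabilizing (Cfsg.glToMat (Fin n) F) {v : Fin n → F | ∀ i, v (e (Sum.inr i)) = 0}).subgroupOf
      (Cfsg.GU n F q)) ≃* ↥(Cfsg.GU k F q) × ↥(Cfsg.GU l F q)) := by
  set S := (Cfsg.stabilizing (Cfsg.glToMat (Fin n) F) {v : Fin n → F | ∀ i, v (e (Sum.inr i)) = 0}).subgroupOf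
      (Cfsg.GU n F q)
  have hmap : ∀ {M : Matrix (Fin n) (Fin n) F}, (M.submatrix e e).toBlocks₂₁ = 0 →
      ∀ v : Fin n → F, (∀ i, v (e (Sum.inr i)) = 0) → ∀ i, (M *ᵥ v) (e (Sum.inr i)) = 0 := by
    intro M h v hv i
    rw [Matrix.mulVec, dotProduct, ← e.sum_comp, Fintype.sum_sum_type]
    simp only [hv, mul_zero, Finset.sum_const_zero, add_zero]
    exact Finset.sum_eq_zero fun j _ => by
      rw [show M (e (Sum.inr i)) (e (Sum.inl j)) = 0 from congrFun (congrFun h i) j, zero_mul]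
  have hblock : ∀ A : S, ∃ (a : Cfsg.GU k F q) (b : Cfsg.GU l F q),
      A.1.1.1.submatrix e e = fromBlocks a.1.1 0 0 b.1.1 := by
    intro A
    set M := A.1.1.1.submatrix e e with hM
    have h21 : M.toBlocks₂₁ = 0 := Matrix.ext fun i j => by
      have := (Subgroup.mem_subgroupOf.1 A.2 (Pi.single (e (Sum.inl j)) 1)).1
        (fun i => Pi.single_eq_of_ne (fun h => by simpa using e.injective h) _) i
      simpa [Matrix.mulVec_single, Matrix.toBlocks₂₁, hM] using this
    have hm : Mᵀ * M.map σ = 1 := by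
      rw [hM, transpose_submatrix, ← Matrix.submatrix_map, submatrix_mul_equiv,
        (mem_GU_iff_mul h).1 A.1.2, submatrix_one_equiv]
    rw [← fromBlocks_toBlocks M, h21, fromBlocks_transpose, fromBlocks_map, fromBlocks_multiply,
      ← fromBlocks_one] at hm
    simp only [Matrix.map_zero _ (map_zero σ), Matrix.mul_zero, Matrix.zero_mul, add_zero, zero_add,
      transpose_zero] at hm
    obtain ⟨h1, h2, -, h4⟩ := fromBlocks_inj.1 hm
    have h12 : M.toBlocks₁₂ = 0 := by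
      have h0 : M.toBlocks₁₂.map σ = 0 := by
        rw [← Matrix.one_mul (M.toBlocks₁₂.map σ), ← mul_eq_one_comm.1 h1, Matrix.mul_assoc, h2, Matrix.mul_zero]
      exact Matrix.ext fun i j => (map_eq_zero σ).1 (congrFun (congrFun h0 i) j)
    simp only [h12, Matrix.map_zero _ (map_zero σ), Matrix.mul_zero, zero_add] at h4
    let a : GL (Fin k) F := ⟨M.toBlocks₁₁, (M.toBlocks₁₁.map σ)ᵀ,
      mul_eq_one_comm.1 (by simpa using congrArg Matrix.transpose h1),
      by simpa using congrArg Matrix.transpose h1⟩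
    let b : GL (Fin l) F := ⟨M.toBlocks₂₂, (M.toBlocks₂₂.map σ)ᵀ,
      mul_eq_one_comm.1 (by simpa using congrArg Matrix.transpose h4),
      by simpa using congrArg Matrix.transpose h4⟩
    exact ⟨⟨a, (mem_GU_iff_mul h).2 h1⟩, ⟨b, (mem_GU_iff_mul h).2 h4⟩, by
      conv_lhs => rw [← fromBlocks_toBlocks M, h21, h12]⟩
  have hmk : ∀ (a : Cfsg.GU k F q) (b : Cfsg.GU l F q),
      ∃ A : S, A.1.1.1.submatrix e e = fromBlocks a.1.1 0 0 b.1.1 := by
    intro a b
    let mk : Cfsg.GU k F q → Cfsg.GU l F q → Matrix (Fin n) (Fin n) F := fun a b =>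
      (fromBlocks a.1.1 0 0 b.1.1).submatrix e.symm e.symm
    have hinv : ∀ a b, mk a b * mk a⁻¹ b⁻¹ = 1 := fun a b => by
      simp [mk, submatrix_mul_equiv, fromBlocks_multiply]
    let g : GL (Fin n) F := ⟨mk a b, mk a⁻¹ b⁻¹, hinv a b, by simpa using hinv a⁻¹ b⁻¹⟩
    have hg : g ∈ Cfsg.GU n F q := (mem_GU_iff_mul h).2 (by
      show (mk a b)ᵀ * (mk a b).map σ = 1
      simp only [mk, transpose_submatrix, ← Matrix.submatrix_map, submatrix_mul_equiv, fromBlocks_transpose,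
        fromBlocks_map, fromBlocks_multiply]
      simp [(mem_GU_iff_mul h).1 a.2, (mem_GU_iff_mul h).1 b.2])
    refine ⟨⟨⟨g, hg⟩, Subgroup.mem_subgroupOf.2 fun v =>
      ⟨hmap (M := mk a b) (by simp [mk, submatrix_submatrix]) v, fun hv => ?_⟩⟩, by simp [g, mk, submatrix_submatrix]⟩
    have h' := hmap (M := mk a⁻¹ b⁻¹) (by simp [mk, submatrix_submatrix]) (mk a b *ᵥ v) hv
    rwa [mulVec_mulVec, show mk a⁻¹ b⁻¹ * mk a b = 1 by simpa using hinv a⁻¹ b⁻¹, one_mulVec] at h'
  choose g hg using hmk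
  have ext' : ∀ A B : S, A.1.1.1.submatrix e e = B.1.1.1.submatrix e e → A = B := fun A B h =>
    Subtype.ext (Subtype.ext (Units.ext ((Matrix.reindex e.symm e.symm).injective h)))
  let φ : Cfsg.GU k F q × Cfsg.GU l F q →* S :=
    MonoidHom.mk' (fun p => g p.1 p.2) fun p q' => ext' _ _ (by
      show _ = ((g p.1 p.2).1.1.1 * (g q'.1 q'.2).1.1.1).submatrix e e
      rw [← submatrix_mul_equiv _ _ e e e, hg, hg, hg, fromBlocks_multiply]
      simp)
  refine ⟨(MulEquiv.ofBijective φ ⟨fun p r hpr => ?_, fun A => ?_⟩).symm⟩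
  · have h' : (g p.1 p.2).1.1.1.submatrix e e = (g r.1 r.2).1.1.1.submatrix e e := by
      rw [show g p.1 p.2 = g r.1 r.2 from hpr]
    rw [hg, hg] at h'
    obtain ⟨h1, -, -, h4⟩ := fromBlocks_inj.1 h'
    exact Prod.ext (Subtype.ext (Units.ext h1)) (Subtype.ext (Units.ext h4))
  · obtain ⟨a, b, hab⟩ := hblock A
    exact ⟨(a, b), ext' _ _ ((hg a b).trans hab.symm)⟩

/-- The stabiliser of a non-degenerate subspace. -/
theorem nondeg_equiv [Finite F] (h : UFrob σ q) {k : ℕ} (hk : k ≤ n) (W : Submodule F (Fin n → F))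
    (hWk : Module.finrank F W = k) (hW : ∀ u ∈ W, (∀ v ∈ W, Cfsg.hermForm n F q u v = 0) → u = 0) :
    Nonempty (↥((Cfsg.stabilizing (Cfsg.glToMat (Fin n) F) (W : Set (Fin n → F))).subgroupOf (Cfsg.GU n F q)) ≃*
      ↥(Cfsg.GU k F q) × ↥(Cfsg.GU (n - k) F q)) := by
  let e : Fin k ⊕ Fin (n - k) ≃ Fin n := finSumFinEquiv.trans (finCongr (by omega))
  let B := (hermB σ n).domRestrict₁₂ W W
  have hB : B.Nondegenerate := by
    refine ⟨fun x hx => Subtype.ext (hW _ x.2 fun v hv => ?_), fun x hx => Subtype.ext (hW _ x.2 fun v hv => ?_)⟩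
    · rw [h.hermForm_eq, uh_eq_hermB, ← (hermB_isSymm h.invol n).eq]
      exact (map_eq_zero σ).2 (hx ⟨v, hv⟩)
    · rw [h.hermForm_eq, uh_eq_hermB]
      exact hx ⟨v, hv⟩
  have hS : B.IsSymm := ⟨fun x y => (hermB_isSymm h.invol n).eq x.1 y.1⟩
  obtain ⟨b, hb⟩ := exists_orthonormal h.ne h.invol hS hB
  let b' := b.reindex (finCongr hWk)
  let v : Fin k → Fin n → F := fun i => Pi.single (e (Sum.inl i)) 1
  let w : Fin k → Fin n → F := fun i => (b' i : Fin n → F)
  have hv : LinearIndependent F v :=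
    (Pi.linearIndependent_single_one (Fin n) F).comp _ (e.injective.comp Sum.inl_injective)
  have hw : LinearIndependent F w := b'.linearIndependent.map' W.subtype W.ker_subtype
  obtain ⟨g, hg, hgv⟩ := exists_gu_map h v w hv hw fun i j => by
    have e1 : hermB σ n (b' j : Fin n → F) (b' i) = if i = j then 1 else 0 := by
      show B (b' j) (b' i) = _
      simp only [b', Module.Basis.reindex_apply, hb, Fin.ext_iff]
      simp [eq_comm]
    rw [uh_eq_hermB, uh_eq_hermB, e1, hermB_apply]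
    simp [v, Pi.single_apply, apply_ite σ, e.injective.eq_iff]
  set T : Set (Fin n → F) := {v | ∀ i, v (e (Sum.inr i)) = 0}
  have hTW : ∀ x, g.1 *ᵥ x ∈ W ↔ x ∈ T := by
    have h1 : ∀ x ∈ T, g.1 *ᵥ x ∈ W := by
      intro x hx
      have : x = ∑ i, x (e (Sum.inl i)) • v i := funext fun z => by
        obtain ⟨z, rfl⟩ := e.surjective z
        rw [Finset.sum_apply]
        rcases z with z | z
        · simp [v, Pi.single_apply, e.injective.eq_iff]
        · simp [v, show x (e (Sum.inr z)) = 0 from hx z, e.injective.eq_iff]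
      rw [this, mulVec_sum]
      exact Submodule.sum_mem _ fun i _ => by rw [mulVec_smul, hgv]; exact Submodule.smul_mem _ _ (b' i).2
    refine fun x => ⟨fun hx => ?_, h1 x⟩
    obtain ⟨c, hc⟩ := (Submodule.mem_span_range_iff_exists_fun F).1
      ((b'.mem_span (⟨g.1 *ᵥ x, hx⟩ : W)))
    have hx' : g.1 *ᵥ x = g.1 *ᵥ (∑ i, c i • v i) := by
      rw [mulVec_sum]
      simp only [mulVec_smul, hgv]
      simpa [w] using (congrArg Subtype.val hc).symm
    have hx'' : x = ∑ i, c i • v i := by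
      have := congrArg (fun z => (g⁻¹).1 *ᵥ z) hx'
      simpa [mulVec_mulVec] using this
    intro i
    simp [hx'', v, e.injective.eq_iff, Finset.sum_apply]
  have hconj : ((Cfsg.stabilizing (Cfsg.glToMat (Fin n) F) T).subgroupOf (Cfsg.GU n F q)).map
      (MulAut.conj (⟨g, hg⟩ : Cfsg.GU n F q)).toMonoidHom =
      (Cfsg.stabilizing (Cfsg.glToMat (Fin n) F) (W : Set (Fin n → F))).subgroupOf (Cfsg.GU n F q) := by
    ext A
    rw [Subgroup.mem_map_equiv, Subgroup.mem_subgroupOf, Subgroup.mem_subgroupOf, MulAut.conj_symm_apply]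
    have key : ∀ x, (g⁻¹ * A.1 * g).1 *ᵥ x ∈ T ↔ A.1.1 *ᵥ (g.1 *ᵥ x) ∈ W := fun x => by
      rw [← hTW, mulVec_mulVec, mulVec_mulVec, ← Units.val_mul, ← Units.val_mul,
        show g * (g⁻¹ * A.1 * g) = A.1 * g by group]
    constructor
    · intro hA y
      have := hA ((g⁻¹).1 *ᵥ y)
      change (_ ↔ (g⁻¹ * A.1 * g).1 *ᵥ _ ∈ T) at this
      rw [key, ← hTW] at this
      simpa [mulVec_mulVec] using this
    · intro hA x
      change _ ↔ (g⁻¹ * A.1 * g).1 *ᵥ x ∈ T
      rw [key, ← hTW]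
      exact hA (g.1 *ᵥ x)
  obtain ⟨ε⟩ := coord_equiv h e
  exact ⟨((Subgroup.equivMapOfInjective _ _ (MulAut.conj (⟨g, hg⟩ : Cfsg.GU n F q)).injective).trans
    (MulEquiv.subgroupCongr hconj)).symm.trans ε⟩

end CfsgLib.Geometry.UnSplit
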