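import Cfsg.Agent.Lib.Geometry.Symplectic
import Cfsg.Agent.Lib.Geometry.SymplecticBasis
import Cfsg.Agent.Lib.Classical.SympBasic
import Cfsg.Prelude.Def_ClassicalGeometry

/-! Stabilisers in `Sp` of a non-degenerate subspace and of a pair of complementary Lagrangians. -/

set_option autoImplicit false

namespace CfsgLib.Geometry.SpSplit

open Matrix

variable {F : Type*} [Field F] {m : ℕ}

/-- The joint stabiliser of the coordinate Lagrangians. -/
theorem lagrangian_pair_equiv :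
    Nonempty (↥(Cfsg.stabilizing (Cfsg.spToMat m F) {v : Fin m ⊕ Fin m → F | ∀ i : Fin m, v (Sum.inr i) = 0} ⊓
      Cfsg.stabilizing (Cfsg.spToMat m F) {v : Fin m ⊕ Fin m → F | ∀ i : Fin m, v (Sum.inl i) = 0}) ≃*
      Matrix.GeneralLinearGroup (Fin m) F) := by
  set S := Cfsg.stabilizing (Cfsg.spToMat m F) {v : Fin m ⊕ Fin m → F | ∀ i : Fin m, v (Sum.inr i) = 0} ⊓
    Cfsg.stabilizing (Cfsg.spToMat m F) {v : Fin m ⊕ Fin m → F | ∀ i : Fin m, v (Sum.inl i) = 0}
  have hmem : ∀ (A : Matrix.symplecticGroup (Fin m) F), A ∈ S ↔ A.1.toBlocks₂₁ = 0 ∧ A.1.toBlocks₁₂ = 0 := by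
    intro A
    have key : ∀ (A : Matrix.symplecticGroup (Fin m) F), A ∈ S → A.1.toBlocks₂₁ = 0 ∧ A.1.toBlocks₁₂ = 0 := by
      intro A hA
      refine ⟨Matrix.ext fun i j => ?_, Matrix.ext fun i j => ?_⟩
      · have := (hA.1 (Pi.single (Sum.inl j) 1)).1 (fun i => by simp) i
        simpa [Matrix.mulVec_single, Matrix.toBlocks₂₁] using this
      · have := (hA.2 (Pi.single (Sum.inr j) 1)).1 (fun i => by simp) i
        simpa [Matrix.mulVec_single, Matrix.toBlocks₁₂] using this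
    refine ⟨key A, fun h => ?_⟩
    have half : ∀ (B : Matrix.symplecticGroup (Fin m) F), B.1.toBlocks₂₁ = 0 → B.1.toBlocks₁₂ = 0 →
        ∀ v : Fin m ⊕ Fin m → F, ((∀ i, v (Sum.inr i) = 0) → ∀ i, (B.1 *ᵥ v) (Sum.inr i) = 0) ∧
          ((∀ i, v (Sum.inl i) = 0) → ∀ i, (B.1 *ᵥ v) (Sum.inl i) = 0) := by
      intro B h1 h2 v
      constructor
      · intro hv i
        simp only [Matrix.mulVec, dotProduct, Fintype.sum_sum_type, hv, mul_zero, Finset.sum_const_zero, add_zero]
        exact Finset.sum_eq_zero fun j _ => by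
          rw [show B.1 (Sum.inr i) (Sum.inl j) = 0 from congrFun (congrFun h1 i) j, zero_mul]
      · intro hv i
        simp only [Matrix.mulVec, dotProduct, Fintype.sum_sum_type, hv, mul_zero, Finset.sum_const_zero, zero_add]
        exact Finset.sum_eq_zero fun j _ => by
          rw [show B.1 (Sum.inl i) (Sum.inr j) = 0 from congrFun (congrFun h2 i) j, zero_mul]
    have hinv : (A⁻¹).1.toBlocks₂₁ = 0 ∧ (A⁻¹).1.toBlocks₁₂ = 0 := by
      rw [SymplecticGroup.coe_inv, ← fromBlocks_toBlocks A.1, h.1, h.2, fromBlocks_transpose, Matrix.J,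
        fromBlocks_neg, fromBlocks_multiply, fromBlocks_multiply]
      simp
    refine ⟨fun v => ⟨(half A h.1 h.2 v).1, fun hv => ?_⟩, fun v => ⟨(half A h.1 h.2 v).2, fun hv => ?_⟩⟩
    · have h' := (half A⁻¹ hinv.1 hinv.2 (A.1 *ᵥ v)).1 hv
      rwa [mulVec_mulVec, show (A⁻¹).1 * A.1 = 1 from congrArg Subtype.val (inv_mul_cancel A), one_mulVec] at h'
    · have h' := (half A⁻¹ hinv.1 hinv.2 (A.1 *ᵥ v)).2 hv
      rwa [mulVec_mulVec, show (A⁻¹).1 * A.1 = 1 from congrArg Subtype.val (inv_mul_cancel A), one_mulVec] at h'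
  have hblock : ∀ A : S, A.1.1 = fromBlocks A.1.1.toBlocks₁₁ 0 0 A.1.1.toBlocks₂₂ := fun A => by
    conv_lhs => rw [← fromBlocks_toBlocks A.1.1, ((hmem A.1).1 A.2).1, ((hmem A.1).1 A.2).2]
  have hrel : ∀ A : S, A.1.1.toBlocks₁₁ * A.1.1.toBlocks₂₂ᵀ = 1 := fun A => by
    have h := SymplecticGroup.mem_iff.1 A.1.2
    rw [hblock A, fromBlocks_transpose, Matrix.J, fromBlocks_multiply, fromBlocks_multiply] at h
    have := congrArg Matrix.toBlocks₁₂ h
    simpa using this
  let f : S →* Matrix.GeneralLinearGroup (Fin m) F :=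
    { toFun := fun A => ⟨A.1.1.toBlocks₁₁, A.1.1.toBlocks₂₂ᵀ, hrel A, mul_eq_one_comm.1 (hrel A)⟩
      map_one' := Units.ext (by ext i j; simp [Matrix.toBlocks₁₁, Matrix.one_apply])
      map_mul' := fun A B => Units.ext (by
        show (A.1.1 * B.1.1).toBlocks₁₁ = A.1.1.toBlocks₁₁ * B.1.1.toBlocks₁₁
        conv_lhs => rw [hblock A, hblock B, fromBlocks_multiply]
        simp) }
  refine ⟨MulEquiv.ofBijective f ⟨fun A B h => ?_, fun a => ?_⟩⟩
  · have h1 : A.1.1.toBlocks₁₁ = B.1.1.toBlocks₁₁ := congrArg Units.val h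
    have h2 : A.1.1.toBlocks₂₂ᵀ = B.1.1.toBlocks₂₂ᵀ := congrArg Units.inv h
    exact Subtype.ext (Subtype.ext (by rw [hblock A, hblock B, h1, Matrix.transpose_injective h2]))
  · let M : Matrix (Fin m ⊕ Fin m) (Fin m ⊕ Fin m) F := fromBlocks a.1 0 0 (a⁻¹).1ᵀ
    have hM : M ∈ Matrix.symplecticGroup (Fin m) F := SymplecticGroup.mem_iff.2 (by
      simp only [M, Matrix.J, fromBlocks_transpose, fromBlocks_multiply, transpose_zero, transpose_transpose]
      simp only [mul_zero, zero_mul, add_zero, zero_add, mul_neg, neg_mul, Matrix.mul_one, neg_zero]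
      congr 1
      · rw [Units.mul_inv]
      · rw [← transpose_mul, Units.mul_inv, transpose_one])
    refine ⟨⟨⟨M, hM⟩, (hmem _).2 ⟨by simp [M], by simp [M]⟩⟩, Units.ext (by simp [f, M])⟩

/-- The regrouping of coordinates. -/
def split {k l : ℕ} (e : Fin k ⊕ Fin l ≃ Fin m) :
    (Fin k ⊕ Fin k) ⊕ (Fin l ⊕ Fin l) ≃ Fin m ⊕ Fin m :=
  (Equiv.sumSumSumComm _ _ _ _).trans (Equiv.sumCongr e e)

theorem J_split {k l : ℕ} (e : Fin k ⊕ Fin l ≃ Fin m) :
    (Matrix.J (Fin m) F).submatrix (split e) (split e) =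
      fromBlocks (Matrix.J (Fin k) F) 0 0 (Matrix.J (Fin l) F) := by
  ext i j
  rcases i with (i | i) | (i | i) <;> rcases j with (j | j) | (j | j) <;>
    simp [split, Matrix.J, Matrix.one_apply, e.injective.eq_iff]

theorem mem_sp_split {k l : ℕ} (e : Fin k ⊕ Fin l ≃ Fin m) (A : Matrix (Fin m ⊕ Fin m) (Fin m ⊕ Fin m) F) :
    A ∈ Matrix.symplecticGroup (Fin m) F ↔
      A.submatrix (split e) (split e) * fromBlocks (Matrix.J (Fin k) F) 0 0 (Matrix.J (Fin l) F) *
        (A.submatrix (split e) (split e))ᵀ = fromBlocks (Matrix.J (Fin k) F) 0 0 (Matrix.J (Fin l) F) := by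
  rw [SymplecticGroup.mem_iff, ← J_split e, transpose_submatrix, submatrix_mul_equiv, submatrix_mul_equiv]
  exact ⟨fun h => by rw [h], fun h => (Matrix.reindex (split e).symm (split e).symm).injective h⟩

/-- The stabiliser of the coordinate non-degenerate subspace. -/
theorem coord_equiv {k l : ℕ} (e : Fin k ⊕ Fin l ≃ Fin m) :
    Nonempty (↥(Cfsg.stabilizing (Cfsg.spToMat m F) {v : Fin m ⊕ Fin m → F | ∀ i, v (split e (Sum.inr i)) = 0}) ≃*
      Matrix.symplecticGroup (Fin k) F × Matrix.symplecticGroup (Fin l) F) := by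
  set S := Cfsg.stabilizing (Cfsg.spToMat m F) {v : Fin m ⊕ Fin m → F | ∀ i, v (split e (Sum.inr i)) = 0}
  let σ := split e
  have hmap : ∀ {M : Matrix (Fin m ⊕ Fin m) (Fin m ⊕ Fin m) F}, (M.submatrix σ σ).toBlocks₂₁ = 0 →
      ∀ v : Fin m ⊕ Fin m → F, (∀ i, v (σ (Sum.inr i)) = 0) → ∀ i, (M *ᵥ v) (σ (Sum.inr i)) = 0 := by
    intro M h v hv i
    rw [Matrix.mulVec, dotProduct, ← σ.sum_comp]
    rw [Fintype.sum_sum_type]
    simp only [hv, mul_zero, Finset.sum_const_zero, add_zero]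
    exact Finset.sum_eq_zero fun j _ => by
      rw [show M (σ (Sum.inr i)) (σ (Sum.inl j)) = 0 from congrFun (congrFun h i) j, zero_mul]
  have hblock : ∀ A : S, ∃ (a : Matrix.symplecticGroup (Fin k) F) (b : Matrix.symplecticGroup (Fin l) F),
      A.1.1.submatrix σ σ = fromBlocks a.1 0 0 b.1 := by
    intro A
    set M := A.1.1.submatrix σ σ with hM
    have h21 : M.toBlocks₂₁ = 0 := Matrix.ext fun i j => by
      have := (A.2 (Pi.single (σ (Sum.inl j)) 1)).1
        (fun i => Pi.single_eq_of_ne (fun h => by simpa using σ.injective h) _) i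
      simpa [Matrix.mulVec_single, Matrix.toBlocks₂₁, hM] using this
    have h := (mem_sp_split e A.1.1).1 A.1.2
    change M * _ * Mᵀ = _ at h
    rw [← fromBlocks_toBlocks M, h21, fromBlocks_transpose, fromBlocks_multiply, fromBlocks_multiply] at h
    simp only [Matrix.mul_zero, Matrix.zero_mul, add_zero, zero_add, transpose_zero] at h
    obtain ⟨h1, h2, -, h4⟩ := fromBlocks_inj.1 h
    have h12 : M.toBlocks₁₂ = 0 := by
      have hd : M.toBlocks₂₂ ∈ Matrix.symplecticGroup (Fin l) F := SymplecticGroup.mem_iff.2 h4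
      have hu : IsUnit (Matrix.J (Fin l) F * M.toBlocks₂₂ᵀ) := by
        rw [Matrix.isUnit_iff_isUnit_det, det_mul, det_transpose]
        exact (Matrix.isUnit_det_J _ _).mul (SymplecticGroup.symplectic_det hd)
      obtain ⟨u, hu⟩ := hu
      have h2' : M.toBlocks₁₂ * u.1 = 0 := by rw [hu, ← Matrix.mul_assoc]; exact h2
      calc M.toBlocks₁₂ = M.toBlocks₁₂ * (u.1 * (u⁻¹).1) := by rw [Units.mul_inv, Matrix.mul_one]
        _ = 0 := by rw [← Matrix.mul_assoc, h2', Matrix.zero_mul]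
    simp only [h12, Matrix.zero_mul, Matrix.mul_zero, transpose_zero, add_zero] at h1
    exact ⟨⟨_, SymplecticGroup.mem_iff.2 h1⟩, ⟨_, SymplecticGroup.mem_iff.2 h4⟩, by
      conv_lhs => rw [← fromBlocks_toBlocks M, h21, h12]⟩
  have hmk : ∀ (a : Matrix.symplecticGroup (Fin k) F) (b : Matrix.symplecticGroup (Fin l) F),
      ∃ A : S, A.1.1.submatrix σ σ = fromBlocks a.1 0 0 b.1 := by
    intro a b
    have hmem : ∀ (a : Matrix.symplecticGroup (Fin k) F) (b : Matrix.symplecticGroup (Fin l) F),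
        (fromBlocks a.1 0 0 b.1).submatrix σ.symm σ.symm ∈ Matrix.symplecticGroup (Fin m) F := fun a b => by
      rw [mem_sp_split e, submatrix_submatrix, Equiv.symm_comp_self, submatrix_id_id, fromBlocks_transpose,
        fromBlocks_multiply, fromBlocks_multiply]
      simp [SymplecticGroup.mem_iff.1 a.2, SymplecticGroup.mem_iff.1 b.2]
    set A : Matrix.symplecticGroup (Fin m) F := ⟨_, hmem a b⟩
    have hA : A.1.submatrix σ σ = fromBlocks a.1 0 0 b.1 := by simp [A, submatrix_submatrix]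
    have hinv : (⟨_, hmem a⁻¹ b⁻¹⟩ : Matrix.symplecticGroup (Fin m) F).1 * A.1 = 1 := by
      show (fromBlocks (a⁻¹).1 0 0 (b⁻¹).1).submatrix σ.symm σ.symm * (fromBlocks a.1 0 0 b.1).submatrix σ.symm σ.symm = 1
      rw [submatrix_mul_equiv, fromBlocks_multiply,
        show (a⁻¹).1 * a.1 = 1 from congrArg Subtype.val (inv_mul_cancel a),
        show (b⁻¹).1 * b.1 = 1 from congrArg Subtype.val (inv_mul_cancel b)]
      simp
    refine ⟨⟨A, fun v => ⟨hmap (M := A.1) (by rw [hA, toBlocks_fromBlocks₂₁]) v, fun hv => ?_⟩⟩, hA⟩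
    have h' := hmap (M := (fromBlocks (a⁻¹).1 0 0 (b⁻¹).1).submatrix σ.symm σ.symm)
      (by simp [submatrix_submatrix]) (A.1 *ᵥ v) hv
    rwa [mulVec_mulVec, show (fromBlocks (a⁻¹).1 0 0 (b⁻¹).1).submatrix σ.symm σ.symm * A.1 = 1 from hinv,
      one_mulVec] at h'
  choose g hg using hmk
  have ext' : ∀ A B : S, A.1.1.submatrix σ σ = B.1.1.submatrix σ σ → A = B := fun A B h =>
    Subtype.ext (Subtype.ext ((Matrix.reindex σ.symm σ.symm).injective h))
  let φ : Matrix.symplecticGroup (Fin k) F × Matrix.symplecticGroup (Fin l) F →* S :=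
    MonoidHom.mk' (fun p => g p.1 p.2) fun p q => ext' _ _ (by
      show _ = ((g p.1 p.2).1.1 * (g q.1 q.2).1.1).submatrix σ σ
      rw [← submatrix_mul_equiv _ _ σ σ σ, hg, hg, hg, fromBlocks_multiply]
      simp)
  refine ⟨(MulEquiv.ofBijective φ ⟨fun p q h => ?_, fun A => ?_⟩).symm⟩
  · have h' : (g p.1 p.2).1.1.submatrix σ σ = (g q.1 q.2).1.1.submatrix σ σ := by
      rw [show g p.1 p.2 = g q.1 q.2 from h]
    rw [hg, hg] at h'
    obtain ⟨h1, -, -, h4⟩ := fromBlocks_inj.1 h'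
    exact Prod.ext (Subtype.ext h1) (Subtype.ext h4)
  · obtain ⟨a, b, h⟩ := hblock A
    exact ⟨(a, b), ext' _ _ ((hg a b).trans h.symm)⟩

/-- The stabiliser of a non-degenerate subspace. -/
theorem nondeg_equiv {k : ℕ} (hk : k ≤ m) (W : Submodule F (Fin m ⊕ Fin m → F))
    (hWk : Module.finrank F W = 2 * k)
    (hW : ∀ u ∈ W, (∀ v ∈ W, Cfsg.sympForm m F u v = 0) → u = 0) :
    Nonempty (↥(Cfsg.stabilizing (Cfsg.spToMat m F) (W : Set (Fin m ⊕ Fin m → F))) ≃*
      Matrix.symplecticGroup (Fin k) F × Matrix.symplecticGroup (Fin (m - k)) F) := by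
  classical
  let e : Fin k ⊕ Fin (m - k) ≃ Fin m := finSumFinEquiv.trans (finCongr (by omega))
  obtain ⟨k', j, b, b1, b2, b3, b4⟩ := exists_sympBasis_aux _ (V := W) rfl ((sympBilin m F).restrict W)
    fun x => sympBilin_isAlt m F x
  obtain rfl : j = 0 := by
    by_contra hj
    let i : Fin j := ⟨0, by omega⟩
    refine b.ne_zero (Sum.inr i) (Subtype.ext (hW _ (b (Sum.inr i)).2 fun v hv => ?_))
    rw [← sympBilin_apply]
    exact b4 i ⟨v, hv⟩
  obtain rfl : k' = k := by
    have := Module.finrank_eq_card_basis b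
    rw [hWk] at this
    simp at this
    omega
  let τ : Fin (k' + k') → (Fin k' ⊕ Fin k') ⊕ Fin 0 := fun i => Sum.inl (finSumFinEquiv.symm i)
  let v : Fin (k' + k') → Fin m ⊕ Fin m → F := fun i =>
    Pi.single (split e (Sum.inl (Sum.swap (finSumFinEquiv.symm i)))) 1
  let w : Fin (k' + k') → Fin m ⊕ Fin m → F := fun i => (b (τ i) : Fin m ⊕ Fin m → F)
  have hv : LinearIndependent F v :=
    (Pi.linearIndependent_single_one (Fin m ⊕ Fin m) F).comp _
      ((split e).injective.comp (Sum.inl_injective.comp (Sum.swap_rightInverse.injective.comp finSumFinEquiv.symm.injective)))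
  have hw : LinearIndependent F w :=
    (b.linearIndependent.map' W.subtype W.ker_subtype).comp τ (Sum.inl_injective.comp finSumFinEquiv.symm.injective)
  have hvw : ∀ i j, Cfsg.sympForm m F (v i) (v j) = Cfsg.sympForm m F (w i) (w j) := by
    intro i j
    obtain ⟨i, rfl⟩ := finSumFinEquiv.surjective i
    obtain ⟨j, rfl⟩ := finSumFinEquiv.surjective j
    simp only [v, w, τ, Equiv.symm_apply_apply]
    rw [← sympBilin_apply m F (b _ : Fin m ⊕ Fin m → F)]
    have hflip : ∀ x y : W, sympBilin m F x y = -sympBilin m F y x := fun x y =>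
      ((sympBilin_isAlt m F).neg_eq _ _).symm
    rcases i with i | i <;> rcases j with j | j
    · rw [show sympBilin m F (b (Sum.inl (Sum.inl i))) (b (Sum.inl (Sum.inl j))) = 0 from b2 i j]
      simp [Cfsg.sympForm, Matrix.J, split, Sum.swap, Matrix.mulVec, dotProduct, Pi.single_apply]
    · rw [show sympBilin m F (b (Sum.inl (Sum.inl i))) (b (Sum.inl (Sum.inr j))) = _ from b1 i j]
      simp [Cfsg.sympForm, Matrix.J, split, Sum.swap, Matrix.mulVec, dotProduct, Pi.single_apply, Matrix.one_apply,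
        e.injective.eq_iff]
    · rw [hflip, show sympBilin m F (b (Sum.inl (Sum.inl j))) (b (Sum.inl (Sum.inr i))) = _ from b1 j i,
        sympForm_eq]
      simp [split, Sum.swap, Pi.single_apply, e.injective.eq_iff, ite_and]
    · rw [show sympBilin m F (b (Sum.inl (Sum.inr i))) (b (Sum.inl (Sum.inr j))) = 0 from b3 i j]
      simp [Cfsg.sympForm, Matrix.J, split, Sum.swap, Matrix.mulVec, dotProduct, Pi.single_apply]
  -- `v i` are standard, the sign convention of `sympForm` may differ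
  obtain ⟨A, hA⟩ := sp_extend m F w v hw hv fun i j => (hvw i j).symm
  have hspan : ∀ x, x ∈ W ↔ ∀ i, (A.1 *ᵥ x) (split e (Sum.inr i)) = 0 := by
    have h1 : ∀ x ∈ W, ∀ i, (A.1 *ᵥ x) (split e (Sum.inr i)) = 0 := by
      intro x hx i
      have : (W.map (spEquiv m F A).toLinearMap) ≤
          LinearMap.ker (LinearMap.proj (R := F) (split e (Sum.inr i) : Fin m ⊕ Fin m)) := by
        rw [show W = Submodule.span F (Set.range w) from ?_, Submodule.map_span, ← Set.range_comp,
          Submodule.span_le]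
        · rintro _ ⟨r, rfl⟩
          show (A.1 *ᵥ w r) _ = 0
          rw [show A.1 *ᵥ w r = v r from hA r]
          simp [v]
        · refine (Submodule.eq_of_le_of_finrank_le (Submodule.span_le.2 ?_) ?_).symm
          · rintro _ ⟨r, rfl⟩; exact (b (τ r)).2
          · rw [finrank_span_eq_card hw, hWk, Fintype.card_fin]; omega
      exact this ⟨x, hx, rfl⟩
    intro x
    refine ⟨h1 x, fun hx => ?_⟩
    let T : Submodule F (Fin m ⊕ Fin m → F) :=
      { carrier := {y | ∀ i, y (split e (Sum.inr i)) = 0}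
        add_mem' := fun hu hv i => by simp [hu i, hv i]
        zero_mem' := fun _ => rfl
        smul_mem' := fun c y hy i => by simp [hy i] }
    have hT : T ≤ Submodule.span F (Set.range v) := by
      intro y hy
      have : y = ∑ i, y (split e (Sum.inl (Sum.swap (finSumFinEquiv.symm i)))) • v i := by
        funext z
        obtain ⟨z, rfl⟩ := (split e).surjective z
        rw [Finset.sum_apply]
        rcases z with z | z
        · obtain ⟨z, rfl⟩ := Sum.swap_leftInverse.surjective z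
          obtain ⟨z, rfl⟩ := finSumFinEquiv.symm.surjective z
          simp [v, Pi.single_apply, Sum.swap_rightInverse.injective.eq_iff]
        · simp [v, hy z]
      rw [this]
      exact Submodule.sum_mem _ fun i _ => Submodule.smul_mem _ _ (Submodule.subset_span ⟨i, rfl⟩)
    have hvW : Submodule.span F (Set.range v) ≤ W.map (spEquiv m F A).toLinearMap :=
      Submodule.span_le.2 (by rintro _ ⟨r, rfl⟩; exact ⟨w r, (b (τ r)).2, hA r⟩)
    obtain ⟨u, hu, eq⟩ := hvW (hT hx)
    rwa [← (spEquiv m F A).injective (eq : spEquiv m F A u = spEquiv m F A x)]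
  set S₀ := Cfsg.stabilizing (Cfsg.spToMat m F) {v : Fin m ⊕ Fin m → F | ∀ i, v (split e (Sum.inr i)) = 0}
  have hconj : (Cfsg.stabilizing (Cfsg.spToMat m F) (W : Set (Fin m ⊕ Fin m → F))).map
      (MulAut.conj A).toMonoidHom = S₀ := by
    ext B
    rw [Subgroup.mem_map_equiv]
    constructor
    · intro h y
      have := h ((A⁻¹).1 *ᵥ y)
      simp only [SetLike.mem_coe, hspan, MulAut.conj_symm_apply] at this
      simp only [Set.mem_setOf_eq]
      show (∀ i, _ = 0) ↔ ∀ i, (B.1 *ᵥ y) _ = 0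
      change (_ ↔ ∀ i, (A.1 *ᵥ ((A⁻¹ * B * A).1 *ᵥ ((A⁻¹).1 *ᵥ y))) _ = 0) at this
      refine Iff.trans ?_ (this.trans ?_)
      · rw [show A.1 *ᵥ ((A⁻¹).1 *ᵥ y) = y from by
          rw [mulVec_mulVec, show A.1 * (A⁻¹).1 = 1 from congrArg Subtype.val (mul_inv_cancel A), one_mulVec]]
      · rw [show A.1 *ᵥ ((A⁻¹ * B * A).1 *ᵥ ((A⁻¹).1 *ᵥ y)) = B.1 *ᵥ y from by
          rw [mulVec_mulVec, mulVec_mulVec]
          exact congrArg (· *ᵥ y) (congrArg Subtype.val (show A * (A⁻¹ * B * A) * A⁻¹ = B by group))]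
    · intro h x
      rw [SetLike.mem_coe, SetLike.mem_coe, hspan, hspan, MulAut.conj_symm_apply]
      refine (h (A.1 *ᵥ x)).trans ?_
      show (∀ i, _ = 0) ↔ ∀ i, (A.1 *ᵥ ((A⁻¹ * B * A).1 *ᵥ x)) _ = 0
      rw [show A.1 *ᵥ ((A⁻¹ * B * A).1 *ᵥ x) = B.1 *ᵥ (A.1 *ᵥ x) from by
        rw [mulVec_mulVec, mulVec_mulVec]
        exact congrArg (· *ᵥ x) (congrArg Subtype.val (show A * (A⁻¹ * B * A) = B * A by group))]
      exact Iff.rfl
  obtain ⟨ε⟩ := coord_equiv (F := F) e
  exact ⟨((Subgroup.equivMapOfInjective _ _ (MulAut.conj A).injective).trans (MulEquiv.subgroupCongr hconj)).trans ε⟩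

end CfsgLib.Geometry.SpSplit
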