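import Cfsg.Agent.Lib.Classical.OrthStd
import Cfsg.Agent.Lib.Geometry.OmegaMore
import Cfsg.Prelude.Def_ClassicalGeometry

/-! Small orthogonal groups as symmetric groups on permutation modules, and transfer along field isomorphisms. -/

set_option autoImplicit false

namespace CfsgLib.Geometry.SmallOrth

open Matrix

variable {ι : Type} [Fintype ι] [DecidableEq ι]

/-- Isometry groups over isomorphic fields. -/
theorem isometry_congr {F F' : Type*} [Field F] [Field F'] (e : F ≃+* F') (Q : (ι → F) → F) (Q' : (ι → F') → F')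
    (h : ∀ v, e (Q v) = Q' (e ∘ v)) :
    ∃ f : Cfsg.isometryGroup F Q ≃* Cfsg.isometryGroup F' Q',
      ∀ x, GeneralLinearGroup.det (f x : GL ι F') = Units.map (e : F →* F') (GeneralLinearGroup.det (x : GL ι F)) := by
  let E : GL ι F ≃* GL ι F' := Units.mapEquiv e.mapMatrix.toMulEquiv
  have hmem : ∀ g : GL ι F, E g ∈ Cfsg.isometryGroup F' Q' ↔ g ∈ Cfsg.isometryGroup F Q := by
    intro g
    have key : ∀ v : ι → F, (E g : Matrix ι ι F') *ᵥ (e ∘ v) = e ∘ ((g : Matrix ι ι F) *ᵥ v) := fun v =>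
      funext fun i => (RingHom.map_mulVec (e : F →+* F') (g : Matrix ι ι F) v i).symm
    constructor
    · intro hg u v
      apply e.injective
      show e (Q ((g : Matrix ι ι F) *ᵥ u)) = e (Q u)
      rw [h, h, ← key]
      exact hg (e ∘ u) (e ∘ v)
    · intro hg u v
      show Q' ((E g : Matrix ι ι F') *ᵥ u) = Q' u
      rw [show u = e ∘ (e.symm ∘ u) from funext fun i => (e.apply_symm_apply _).symm, key, ← h, ← h]
      exact congrArg e (hg (e.symm ∘ u) (e.symm ∘ u))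
  let f := E.subgroupMap (Cfsg.isometryGroup F Q)
  have hmap : (Cfsg.isometryGroup F Q).map (E : GL ι F →* GL ι F') = Cfsg.isometryGroup F' Q' := by
    ext g
    constructor
    · rintro ⟨g, hg, rfl⟩
      exact (hmem g).2 hg
    · intro hg
      exact ⟨E.symm g, (hmem _).1 (by rwa [E.apply_symm_apply]), E.apply_symm_apply g⟩
  refine ⟨f.trans (MulEquiv.subgroupCongr hmap), fun x => Units.ext ?_⟩
  show (((x : GL ι F) : Matrix ι ι F).map e).det = e ((x : GL ι F) : Matrix ι ι F).det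
  exact ((e : F →+* F').map_det _).symm

variable {n : ℕ} {F : Type} [Field F]

/-- The matrix of a twisted permutation on a presented module. -/
def permMat (mk : (ι → F) →ₗ[F] (Fin n → F)) (co : (Fin n → F) →ₗ[F] (ι → F)) (χ : Equiv.Perm (Fin n) →* Fˣ)
    (σ : Equiv.Perm (Fin n)) : Matrix ι ι F :=
  LinearMap.toMatrix' ((χ σ : F) • co.comp ((LinearMap.funLeft F F (σ⁻¹ : Equiv.Perm (Fin n))).comp mk))

theorem permMat_mulVec (mk : (ι → F) →ₗ[F] (Fin n → F)) (co : (Fin n → F) →ₗ[F] (ι → F))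
    (χ : Equiv.Perm (Fin n) →* Fˣ) (σ : Equiv.Perm (Fin n)) (v : ι → F) :
    permMat mk co χ σ *ᵥ v = (χ σ : F) • co (mk v ∘ (σ⁻¹ : Equiv.Perm (Fin n))) := by
  rw [permMat, ← Matrix.toLin'_apply, Matrix.toLin'_toMatrix']
  rfl

/-- A presented permutation module gives a homomorphism into the isometry group. -/
theorem perm_hom (Q : (ι → F) → F) (mk : (ι → F) →ₗ[F] (Fin n → F)) (co : (Fin n → F) →ₗ[F] (ι → F))
    (χ : Equiv.Perm (Fin n) →* Fˣ) (left : ∀ v, co (mk v) = v)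
    (closed : ∀ (σ : Equiv.Perm (Fin n)) v, co (mk (co (mk v ∘ σ))) = co (mk v ∘ σ))
    (step : ∀ (σ τ : Equiv.Perm (Fin n)) v, co (mk (co (mk v ∘ σ)) ∘ τ) = co (mk v ∘ σ ∘ τ))
    (inv : ∀ (σ : Equiv.Perm (Fin n)) v, Q ((χ σ : F) • co (mk v ∘ (σ⁻¹ : Equiv.Perm (Fin n)))) = Q v) :
    ∃ φ : Equiv.Perm (Fin n) →* Cfsg.isometryGroup F Q,
      ∀ σ, ((φ σ : GL ι F) : Matrix ι ι F) = permMat mk co χ σ := by
  have hone : permMat mk co χ 1 = 1 := by
    refine Matrix.toLin'.injective (LinearMap.ext fun v => ?_)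
    rw [toLin'_apply, toLin'_apply, permMat_mulVec, one_mulVec, map_one, Units.val_one, one_smul, inv_one]
    exact left v
  have hmul : ∀ σ τ, permMat mk co χ (σ * τ) = permMat mk co χ σ * permMat mk co χ τ := by
    intro σ τ
    refine Matrix.toLin'.injective (LinearMap.ext fun v => ?_)
    rw [toLin'_apply, toLin'_apply, ← mulVec_mulVec, permMat_mulVec, permMat_mulVec, permMat_mulVec,
      LinearMap.map_smul mk]
    show _ = (χ σ : F) • co ((χ τ : F) • (mk (co (mk v ∘ (τ⁻¹ : Equiv.Perm (Fin n)))) ∘ (σ⁻¹ : Equiv.Perm (Fin n))))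
    rw [LinearMap.map_smul co, smul_smul, map_mul, Units.val_mul, step, _root_.mul_inv_rev, Equiv.Perm.coe_mul]
  let u : Equiv.Perm (Fin n) →* GL ι F := MonoidHom.toHomUnits
    { toFun := permMat mk co χ, map_one' := hone, map_mul' := hmul }
  refine ⟨u.codRestrict _ fun σ v w => ?_, fun σ => rfl⟩
  show Q (permMat mk co χ σ *ᵥ v) = Q v
  rw [permMat_mulVec]
  exact inv σ v

/-- The sum-zero module of five points over `𝔽₂`. -/
def fiveMk : ((Fin 1 ⊕ Fin 1) ⊕ Fin 2 → ZMod 2) →ₗ[ZMod 2] (Fin 5 → ZMod 2) where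
  toFun v := v (.inl (.inl 0)) • ![1, 1, 1, 1, 0] + v (.inl (.inr 0)) • ![1, 1, 1, 0, 1] +
    v (.inr 0) • ![1, 1, 0, 0, 0] + v (.inr 1) • ![0, 1, 1, 0, 0]
  map_add' u v := by simp only [Pi.add_apply]; module
  map_smul' c v := by simp only [Pi.smul_apply, smul_eq_mul, RingHom.id_apply]; module

/-- Coordinates by the polar form. -/
def fiveCoord : (Fin 5 → ZMod 2) →ₗ[ZMod 2] ((Fin 1 ⊕ Fin 1) ⊕ Fin 2 → ZMod 2) where
  toFun w := Sum.elim (Sum.elim (fun _ => w 0 + w 1 + w 2 + w 4) (fun _ => w 0 + w 1 + w 2 + w 3))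
    ![w 1 + w 2, w 0 + w 1]
  map_add' u v := by
    ext j; rcases j with (j | j) | j <;> fin_cases j <;> simp <;> ring
  map_smul' c v := by
    ext j; rcases j with (j | j) | j <;> fin_cases j <;> simp <;> ring

theorem five_left : ∀ v, fiveCoord (fiveMk v) = v := by decide +kernel

theorem five_closed : ∀ (σ : Equiv.Perm (Fin 5)) v, fiveMk (fiveCoord (fiveMk v ∘ σ)) = fiveMk v ∘ σ := by
  decide +kernel

theorem five_faithful : ∀ σ : Equiv.Perm (Fin 5), (∀ v, fiveCoord (fiveMk v ∘ σ) = v) → σ = 1 := by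
  decide +kernel

theorem five_inv : ∀ (σ : Equiv.Perm (Fin 5)) v,
    Cfsg.quadFormMinus 1 (ZMod 2) 1 1 (fiveCoord (fiveMk v ∘ σ)) = Cfsg.quadFormMinus 1 (ZMod 2) 1 1 v := by
  decide +kernel

theorem perm5_equiv : Nonempty (Cfsg.isometryGroup (ZMod 2) (Cfsg.quadFormMinus 1 (ZMod 2) 1 1) ≃* Equiv.Perm (Fin 5)) := by
  obtain ⟨φ, hφ⟩ := perm_hom (Cfsg.quadFormMinus 1 (ZMod 2) 1 1) fiveMk fiveCoord 1 five_left
    (fun σ v => five_left _) (fun σ τ v => by rw [five_closed]; rfl)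
    (fun σ v => by rw [MonoidHom.one_apply, Units.val_one, one_smul]; exact five_inv σ⁻¹ v)
  have hinj : Function.Injective φ := by
    rw [injective_iff_map_eq_one]
    intro σ hσ
    have h := hφ σ
    rw [hσ] at h
    refine inv_eq_one.1 (five_faithful σ⁻¹ fun v => ?_)
    have h2 := congrArg (· *ᵥ v) h
    simp only [permMat_mulVec, MonoidHom.one_apply, Units.val_one, one_smul, OneMemClass.coe_one, one_mulVec] at h2
    exact h2.symm
  refine ⟨(MulEquiv.ofBijective φ ((Nat.bijective_iff_injective_and_card φ).2 ⟨hinj, ?_⟩)).symm⟩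
  rw [CfsgLib.Classical.card_isometry_minus 1 (F := ZMod 2) (a := 1) (b := 1) (show ∀ z₁ z₂ : ZMod 2, _ by decide),
    Nat.card_perm, Nat.card_fin, Nat.card_zmod]
  rfl

/-- The sum-zero module of four points over `𝔽₃`. -/
def fourMk : (Unit ⊕ (Fin 1 ⊕ Fin 1) → ZMod 3) →ₗ[ZMod 3] (Fin 4 → ZMod 3) where
  toFun v := v (.inl ()) • ![1, 2, 0, 0] + v (.inr (.inl 0)) • ![1, 1, 1, 0] + v (.inr (.inr 0)) • ![2, 2, 0, 2]
  map_add' u v := by simp only [Pi.add_apply]; module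
  map_smul' c v := by simp only [Pi.smul_apply, smul_eq_mul, RingHom.id_apply]; module

/-- Coordinates by the polar form. -/
def fourCoord : (Fin 4 → ZMod 3) →ₗ[ZMod 3] (Unit ⊕ (Fin 1 ⊕ Fin 1) → ZMod 3) where
  toFun w := Sum.elim (fun _ => 2 * w 0 + w 1)
    (Sum.elim (fun _ => 2 * w 0 + 2 * w 1 + 2 * w 3) (fun _ => w 0 + w 1 + w 2))
  map_add' u v := by
    ext j; rcases j with j | j | j <;> simp <;> ring
  map_smul' c v := by
    ext j; rcases j with j | j | j <;> simp <;> ring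

/-- The sign character with values in the units of `𝔽₃`. -/
def sgn3 : Equiv.Perm (Fin 4) →* (ZMod 3)ˣ := (Units.map (Int.castRingHom (ZMod 3)).toMonoidHom).comp Equiv.Perm.sign

theorem four_left : ∀ v, fourCoord (fourMk v) = v := by decide +kernel

theorem four_closed : ∀ (σ : Equiv.Perm (Fin 4)) v, fourMk (fourCoord (fourMk v ∘ σ)) = fourMk v ∘ σ := by
  decide +kernel

theorem four_faithful : ∀ σ : Equiv.Perm (Fin 4),
    (∀ v, (sgn3 σ : ZMod 3) • fourCoord (fourMk v ∘ (σ⁻¹ : Equiv.Perm (Fin 4))) = v) → σ = 1 := by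
  decide +kernel

theorem four_inv : ∀ (σ : Equiv.Perm (Fin 4)) v,
    Cfsg.quadFormOdd 1 (ZMod 3) ((sgn3 σ : ZMod 3) • fourCoord (fourMk v ∘ (σ⁻¹ : Equiv.Perm (Fin 4)))) =
      Cfsg.quadFormOdd 1 (ZMod 3) v := by
  decide +kernel

theorem four_det : ∀ σ : Equiv.Perm (Fin 4), (permMat fourMk fourCoord sgn3 σ).det = 1 := by
  decide +kernel

theorem perm4_equiv :
    Nonempty (↥(Cfsg.specialIsometryGroup (ZMod 3) (Cfsg.quadFormOdd 1 (ZMod 3))) ≃* Equiv.Perm (Fin 4)) := by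
  obtain ⟨φ, hφ⟩ := perm_hom (Cfsg.quadFormOdd 1 (ZMod 3)) fourMk fourCoord sgn3 four_left
    (fun σ v => four_left _) (fun σ τ v => by rw [four_closed]; rfl) four_inv
  let ψ : Equiv.Perm (Fin 4) →* ↥(Cfsg.specialIsometryGroup (ZMod 3) (Cfsg.quadFormOdd 1 (ZMod 3))) :=
    φ.codRestrict _ fun σ => MonoidHom.mem_ker.2 (Units.ext (by
      show ((φ σ : GL (Unit ⊕ (Fin 1 ⊕ Fin 1)) (ZMod 3)) : Matrix (Unit ⊕ (Fin 1 ⊕ Fin 1)) (Unit ⊕ (Fin 1 ⊕ Fin 1)) (ZMod 3)).det = 1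
      rw [hφ]; exact four_det σ))
  have hinj : Function.Injective ψ := by
    rw [injective_iff_map_eq_one]
    intro σ hσ
    have h := hφ σ
    rw [show φ σ = 1 from congrArg Subtype.val hσ] at h
    refine four_faithful σ fun v => ?_
    have h2 := congrArg (· *ᵥ v) h
    simp only [permMat_mulVec, OneMemClass.coe_one, Units.val_one, one_mulVec] at h2
    exact h2.symm
  refine ⟨(MulEquiv.ofBijective ψ ((Nat.bijective_iff_injective_and_card ψ).2 ⟨hinj, ?_⟩)).symm⟩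
  have hne : ∃ x : Cfsg.isometryGroup (ZMod 3) (Cfsg.quadFormOdd 1 (ZMod 3)),
      x ∉ Cfsg.specialIsometryGroup (ZMod 3) (Cfsg.quadFormOdd 1 (ZMod 3)) := by
    refine ⟨⟨-1, fun u v => ?_⟩, fun h => ?_⟩
    · show Cfsg.quadFormOdd 1 (ZMod 3) ((-1 : Matrix _ _ (ZMod 3)) *ᵥ u) = _
      rw [neg_mulVec, one_mulVec]
      simp [Cfsg.quadFormOdd]
    · have h' : (-1 : Matrix (Unit ⊕ (Fin 1 ⊕ Fin 1)) (Unit ⊕ (Fin 1 ⊕ Fin 1)) (ZMod 3)).det = 1 :=
        congrArg Units.val (MonoidHom.mem_ker.1 h)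
      simp [Matrix.det_neg] at h'
      exact absurd h' (by decide)
  have h2 : (2 : ℕ) ≤ (Cfsg.specialIsometryGroup (ZMod 3) (Cfsg.quadFormOdd 1 (ZMod 3))).index := by
    obtain ⟨x, hx⟩ := hne
    refine Nat.lt_of_le_of_ne (Nat.one_le_iff_ne_zero.2 Subgroup.index_ne_zero_of_finite) fun h => hx ?_
    rw [Subgroup.index_eq_one.1 h.symm]
    exact Subgroup.mem_top x
  have h3 := Subgroup.index_mul_card (Cfsg.specialIsometryGroup (ZMod 3) (Cfsg.quadFormOdd 1 (ZMod 3)))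
  have h4 := Nat.card_le_card_of_injective ψ hinj
  rw [CfsgLib.Classical.card_isometry_odd (F := ZMod 3) (by decide) 1, Nat.card_zmod] at h3
  rw [Nat.card_perm, Nat.card_fin] at h4 ⊢
  simp [Nat.factorial] at h3 h4 ⊢
  nlinarith

end CfsgLib.Geometry.SmallOrth
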