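import Cfsg.Agent.Lib.Geometry.AutRootCalc

/-! Centres of Sylow `p`-subgroups of `POmega` are long root groups. -/

set_option autoImplicit false

namespace CfsgLib.Geometry

open QuadraticMap

section Space

variable {F V : Type*} [Field F] [AddCommGroup V] [Module F V] [FiniteDimensional F V]
variable {Q : QuadraticForm F V}

/-- Two orthogonal hyperbolic pairs. -/
structure Frame (Q : QuadraticForm F V) (e f e' f' : V) : Prop where
  he : Q e = 0
  hf : Q f = 0
  hef : polar Q e f = 1
  he' : Q e' = 0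
  hf' : Q f' = 0
  hef' : polar Q e' f' = 1
  e'W : e' ∈ pairPerp Q e f
  f'W : f' ∈ pairPerp Q e f

variable {e f e' f' : V}

theorem Frame.decomp (H : Frame Q e f e' f') {v : V} (hv : v ∈ pairPerp Q e f) :
    v - polar Q v f' • e' - polar Q v e' • f' ∈ pairPerp Q e f ⊓ pairPerp Q e' f' :=
  ⟨sub_mem (sub_mem hv (Submodule.smul_mem _ _ H.e'W)) (Submodule.smul_mem _ _ H.f'W),
    decomp_pair H.he' H.hf' H.hef' v⟩

theorem Frame.eq_zero (H : Frame Q e f e' f') (hQ : (polarBilin Q).Nondegenerate) {x : V}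
    (hx : x ∈ pairPerp Q e f ⊓ pairPerp Q e' f')
    (h : ∀ y ∈ pairPerp Q e f ⊓ pairPerp Q e' f', polar Q x y = 0) : x = 0 := by
  refine hQ.1 x fun v => ?_
  have hv := h _ (H.decomp (decomp_pair H.he H.hf H.hef v))
  obtain ⟨⟨h1, h2⟩, h3, h4⟩ := Submodule.mem_inf.1 hx |>.imp mem_pairPerp.1 mem_pairPerp.1
  simp [polar_sub_right, polar_smul_right', polar_comm Q x e, polar_comm Q x f, polar_comm Q x e',
    polar_comm Q x f', h1, h2, h3, h4] at hv
  exact hv

/-- A partner inside the complement of a pair. -/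
theorem exists_frame (hQ : (polarBilin Q).Nondegenerate) (he : Q e = 0) (hf : Q f = 0)
    (hef : polar Q e f = 1) (he'0 : e' ≠ 0) (he' : Q e' = 0) (he'W : e' ∈ pairPerp Q e f) :
    ∃ f', Frame Q e f e' f' := by
  obtain ⟨f', hf', hef', -⟩ := exists_partner (nondeg_pairPerp hQ he hf hef) ⊥
    (e := (⟨e', he'W⟩ : pairPerp Q e f)) (fun h => he'0 (congrArg Subtype.val ((Submodule.mem_bot F).1 h))) he'
    (fun h hh => by rw [(Submodule.mem_bot F).1 hh, QuadraticMap.polar_zero_right])
  exact ⟨(f' : V), he, hf, hef, he', hf', by simpa [polar] using hef', he'W, f'.2⟩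

theorem Frame.exists_singular [Finite F] (H : Frame Q e f e' f') (hQ : (polarBilin Q).Nondegenerate)
    (hn : 7 ≤ Module.finrank F V) :
    ∃ x, x ≠ 0 ∧ Q x = 0 ∧ x ∈ pairPerp Q e f ⊓ pairPerp Q e' f' := by
  have h5 : 5 ≤ Module.finrank F (pairPerp Q e f) := by
    have := finrank_pairPerp (Q := Q) e f; omega
  obtain ⟨x, hx0, hx, hxW⟩ := exists_singular_pairPerp (nondeg_pairPerp hQ H.he H.hf H.hef) h5
    (e := (⟨e', H.e'W⟩ : pairPerp Q e f)) (f := ⟨f', H.f'W⟩) H.he' H.hf'
    (by simpa [polar] using H.hef')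
  obtain ⟨h1, h2⟩ := mem_pairPerp.1 hxW
  exact ⟨(x : V), fun h => hx0 (Subtype.ext h), hx, x.2,
    mem_pairPerp.2 ⟨by simpa [polar] using h1, by simpa [polar] using h2⟩⟩

/-- The number of zeros of a form in at least three variables is divisible by the characteristic. -/
theorem prime_dvd_card_zeros [Finite F] (p : ℕ) [CharP F p] (Q : QuadraticForm F V)
    (hn : 3 ≤ Module.finrank F V) : p ∣ Nat.card {v : V // Q v = 0} := by
  classical
  haveI := Fintype.ofFinite F
  let b := Module.finBasis F V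
  let B := Q.toBilin b
  let P : MvPolynomial (Fin (Module.finrank F V)) F :=
    ∑ i, ∑ j, MvPolynomial.C (B (b i) (b j)) * MvPolynomial.X i * MvPolynomial.X j
  have hP : ∀ x : Fin (Module.finrank F V) → F, MvPolynomial.eval x P = Q (b.equivFun.symm x) := by
    intro x
    have hB : ∀ v, B v v = Q v := fun v => by
      conv_rhs => rw [← QuadraticMap.toQuadraticMap_toBilin Q b]
      rfl
    rw [← hB, Module.Basis.equivFun_symm_apply]
    simp only [P, map_sum, map_mul, MvPolynomial.eval_C, MvPolynomial.eval_X, LinearMap.sum_apply,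
      map_smul, LinearMap.smul_apply, smul_eq_mul, Finset.mul_sum]
    rw [Finset.sum_comm]
    exact Finset.sum_congr rfl fun i _ => Finset.sum_congr rfl fun j _ => by ring
  have hdeg : P.totalDegree ≤ 2 := by
    refine (MvPolynomial.totalDegree_finset_sum _ _).trans (Finset.sup_le fun i _ => ?_)
    refine (MvPolynomial.totalDegree_finset_sum _ _).trans (Finset.sup_le fun j _ => ?_)
    refine (MvPolynomial.totalDegree_mul _ _).trans ?_
    refine (Nat.add_le_add_right (MvPolynomial.totalDegree_mul _ _) _).trans ?_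
    rw [MvPolynomial.totalDegree_C, MvPolynomial.totalDegree_X, MvPolynomial.totalDegree_X]
  have h := char_dvd_card_solutions p (f := P) (by rw [Fintype.card_fin]; omega)
  rw [← Nat.card_eq_fintype_card] at h
  rwa [Nat.card_congr (b.equivFun.toEquiv.subtypeEquiv (p := fun v => Q v = 0)
    (q := fun x => MvPolynomial.eval x P = 0)
    (fun v => by rw [hP]; simp))]

/-- A `p`-group acting on the zeros of a form fixes a second zero. -/
theorem exists_fixed_zero [Finite F] (p : ℕ) [Fact p.Prime] [CharP F p] (hn : 3 ≤ Module.finrank F V)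
    {S : Type*} [Group S] (hS : IsPGroup p S) (act : S → V → V) (hone : ∀ v, Q v = 0 → act 1 v = v)
    (hmul : ∀ s t v, Q v = 0 → act (s * t) v = act s (act t v))
    (hQ0 : ∀ s v, Q v = 0 → Q (act s v) = 0) (h0 : ∀ s, act s 0 = 0) :
    ∃ v, v ≠ 0 ∧ Q v = 0 ∧ ∀ s, act s v = v := by
  letI : MulAction S {v : V // Q v = 0} :=
    { smul := fun s v => ⟨act s v, hQ0 s v v.2⟩
      one_smul := fun v => Subtype.ext (hone v v.2)
      mul_smul := fun s t v => Subtype.ext (hmul s t v v.2) }
  haveI : Finite V := Module.finite_of_finite F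
  obtain ⟨b, hb, hne⟩ := hS.exists_fixed_point_of_prime_dvd_card_of_fixed_point
    {v : V // Q v = 0} (prime_dvd_card_zeros p Q hn)
    (a := ⟨0, QuadraticMap.map_zero Q⟩) (fun s => Subtype.ext (h0 s))
  exact ⟨b.1, fun h => hne (Subtype.ext h.symm), b.2, fun s => congrArg Subtype.val (hb s)⟩

end Space

section Group

variable {ι : Type} [Fintype ι] [DecidableEq ι] {F : Type*} [Field F] [Finite F]
variable {Q : QuadraticForm F (ι → F)} {p : ℕ}

variable (Q) in
/-- A totally singular line given by a basis. -/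
structure IsLine (e w : ι → F) : Prop where
  he : Q e = 0
  hw : Q w = 0
  hew : polar Q e w = 0
  ne : e ≠ 0
  notMem : w ∉ Submodule.span F {e}

theorem IsLine.perp {e w : ι → F} (h : IsLine Q e w) (a : F) : polar Q e (a • w) = 0 := by
  rw [polar_smul_right', h.hew, mul_zero]

/-- The root group at a line, as a set. -/
def lineSet (Q : QuadraticForm F (ι → F)) (e w : ι → F) : Set (Cfsg.POmega F ⇑Q) :=
  Set.range fun a : F => proot Q e (a • w)

/-- The centre of a subgroup, inside the group. -/
def centreSet {G : Type*} [Group G] (U : Subgroup G) : Set G := {z | z ∈ U ∧ ∀ u ∈ U, Commute u z}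

theorem RootHyp.pr_act_eq (D : RootHyp Q p) {g : Cfsg.Omega F ⇑Q} {e w : ι → F} (he : Q e = 0)
    (hw : polar Q e w = 0) (h : omAct Q g = siegel Q e w he hw) : g = rootEl Q e w :=
  omAct_injective (h.trans (D.act_root he hw).symm)

/-- A `p`-group normalised by a Sylow subgroup lies in it. -/
theorem le_sylow_of_normalized {G : Type*} [Group G] {p : ℕ} (S : Sylow p G) {K : Subgroup G}
    (hK : IsPGroup p K) (h : ∀ s ∈ (S : Subgroup G), ∀ g ∈ K, s * g * s⁻¹ ∈ K) : K ≤ S := by
  have hn : (S : Subgroup G) ≤ Subgroup.normalizer (K : Set G) := fun s hs => by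
    rw [Subgroup.mem_normalizer_iff]
    refine fun g => ⟨h s hs g, fun hg => ?_⟩
    have := h s⁻¹ (inv_mem hs) _ hg
    simpa [mul_assoc] using this
  exact le_sup_right.trans (S.3 (S.2.to_sup_of_normal_right' hK hn) le_sup_left).le

set_option maxHeartbeats 1000000 in
/-- The structure of a Sylow subgroup of `Omega`: its centre is a root group. -/
theorem RootHyp.exists_sylow_centre (D : RootHyp Q p) [Fact p.Prime] (S : Sylow p (Cfsg.Omega F ⇑Q)) :
    ∃ e w, IsLine Q e w ∧
      (∀ z ∈ (S : Subgroup (Cfsg.Omega F ⇑Q)), (∀ s ∈ (S : Subgroup (Cfsg.Omega F ⇑Q)), Commute s z) →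
        ∃ a : F, z = rootEl Q e (a • w)) ∧
      ∀ a : F, rootEl Q e (a • w) ∈ (S : Subgroup (Cfsg.Omega F ⇑Q)) ∧
        ∀ s ∈ (S : Subgroup (Cfsg.Omega F ⇑Q)), Commute s (rootEl Q e (a • w)) := by
  haveI := D.charP
  have hQ := D.nondeg
  have hn7 : 7 ≤ Module.finrank F (ι → F) := by rw [RootHyp.finrank_eq]; exact D.seven_le
  set A := omAct Q with hA
  have ho : ∀ g, A g ∈ orth Q := omAct_mem_orth
  -- the point
  obtain ⟨e, he0, he, hfix⟩ := exists_fixed_zero (Q := Q) p (by omega) S.2
    (fun s v => A (s : Cfsg.Omega F ⇑Q) v) (fun v _ => by simp)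
    (fun s t v _ => by simp) (fun s v hv => by rw [mem_orth.1 (ho _), hv]) (fun s => map_zero _)
  have hse : ∀ s ∈ (S : Subgroup _), A s e = e := fun s hs => hfix ⟨s, hs⟩
  obtain ⟨f, hf, hef⟩ := exists_pair hQ he0 he
  have hperp : ∀ s ∈ (S : Subgroup _), ∀ v, polar Q e v = 0 → polar Q e (A s v) = 0 := fun s hs v hv => by
    conv_lhs => rw [← hse s hs, orth_polar (ho s)]
    exact hv
  -- the second point
  set W := pairPerp Q e f with hW
  let act : ↥(S : Subgroup (Cfsg.Omega F ⇑Q)) → W → W := fun s v =>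
    ⟨A (s : Cfsg.Omega F ⇑Q) (v : ι → F) - polar Q f (A (s : Cfsg.Omega F ⇑Q) (v : ι → F)) • e,
      decomp_perp he hef (hperp _ s.2 _ (mem_pairPerp.1 v.2).1)⟩
  obtain ⟨⟨e', he'W⟩, he'0, he', hfix'⟩ := exists_fixed_zero (V := W) (Q := Q.comp W.subtype) p
    (by have := finrank_pairPerp (Q := Q) e f; rw [← hW] at this; omega) S.2 act
    (fun v _ => Subtype.ext (by simp [act, (mem_pairPerp.1 v.2).2]))
    (fun s t v _ => Subtype.ext (by
      have h1 := hse _ s.2
      simp only [act, Subgroup.coe_mul, map_mul, LinearEquiv.mul_apply, map_sub, map_smul, h1,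
        polar_sub_right, polar_smul_right', polar_comm Q f e, hef]
      module))
    (fun s v hv => by
      have hv' : Q (v : ι → F) = 0 := hv
      show Q (A (s : Cfsg.Omega F ⇑Q) (v : ι → F) - _) = 0
      rw [map_sub', map_smul', mem_orth.1 (ho _), hv', he, polar_smul_right', polar_comm Q _ e,
        hperp _ s.2 _ (mem_pairPerp.1 v.2).1]
      ring)
    (fun s => Subtype.ext (by simp [act, QuadraticMap.polar_zero_right]))
  have he'0' : e' ≠ 0 := fun h => he'0 (Subtype.ext h)
  have he'Q : Q e' = 0 := he'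
  have hee' : polar Q e e' = 0 := (mem_pairPerp.1 he'W).1
  have hse' : ∀ s ∈ (S : Subgroup _), A s e' = e' + polar Q f (A s e') • e := fun s hs => by
    have := congrArg Subtype.val (hfix' ⟨s, hs⟩)
    simp only [act] at this
    exact sub_eq_iff_eq_add.1 this
  have hline : IsLine Q e e' := ⟨he, he'Q, hee', he0, not_mem_span_of_pairPerp hef he'W he'0'⟩
  -- the radical at `e`
  let K₁ : Subgroup (Cfsg.Omega F ⇑Q) :=
    { carrier := {g | ∃ u, polar Q e u = 0 ∧ g = rootEl Q e u}
      one_mem' := ⟨0, QuadraticMap.polar_zero_right .., (D.root_zero he).symm⟩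
      mul_mem' := by
        rintro _ _ ⟨u, hu, rfl⟩ ⟨u', hu', rfl⟩
        exact ⟨u + u', by rw [polar_add_right, hu, hu', add_zero], D.root_add he hu hu'⟩
      inv_mem' := by
        rintro _ ⟨u, hu, rfl⟩
        have hu' : polar Q e (-u) = 0 := by rw [polar_neg_right, hu, neg_zero]
        exact ⟨-u, hu', inv_eq_of_mul_eq_one_right (by rw [D.root_add he hu hu', add_neg_cancel, D.root_zero he])⟩ }
  have hK₁ : K₁ ≤ S := le_sylow_of_normalized S
    (fun ⟨g, u, hu, hg⟩ => ⟨1, Subtype.ext (by subst hg; rw [SubgroupClass.coe_pow]; exact D.root_pow_p he hu)⟩)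
    (by
      rintro s hs _ ⟨u, hu, rfl⟩
      exact ⟨_, hperp s hs u hu, by rw [D.conj_root s he hu, hse s hs]⟩)
  -- the radical at the line
  let K₂ : Subgroup (Cfsg.Omega F ⇑Q) :=
    { carrier := {g | A g e = e ∧ (∃ c : F, A g e' = e' + c • e) ∧
        ∀ v, polar Q e v = 0 → polar Q e' v = 0 → ∃ a c : F, A g v = v + a • e + c • e'}
      one_mem' := ⟨by simp, ⟨0, by simp⟩, fun v _ _ => ⟨0, 0, by simp⟩⟩
      mul_mem' := by
        rintro g h ⟨g1, ⟨c, g2⟩, g3⟩ ⟨h1, ⟨d, h2⟩, h3⟩
        refine ⟨by simp [h1, g1], ⟨c + d, ?_⟩, fun v hv hv' => ?_⟩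
        · rw [map_mul, LinearEquiv.mul_apply, h2, map_add, map_smul, g1, g2]; module
        · obtain ⟨a, b, hab⟩ := h3 v hv hv'
          obtain ⟨a', b', hab'⟩ := g3 v hv hv'
          refine ⟨a' + a + b * c, b' + b, ?_⟩
          rw [map_mul, LinearEquiv.mul_apply, hab, map_add, map_add, map_smul, map_smul, g1, g2, hab']
          module
      inv_mem' := by
        rintro g ⟨g1, ⟨c, g2⟩, g3⟩
        have k1 : A g⁻¹ e = e := by
          rw [map_inv]; show (A g).symm e = e
          rw [LinearEquiv.symm_apply_eq, g1]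
        refine ⟨k1, ⟨-c, ?_⟩, fun v hv hv' => ?_⟩
        · rw [map_inv]; show (A g).symm e' = _
          rw [LinearEquiv.symm_apply_eq, map_add, map_smul, g1, g2]; module
        · obtain ⟨a, b, hab⟩ := g3 v hv hv'
          refine ⟨b * c - a, -b, ?_⟩
          rw [map_inv]; show (A g).symm v = _
          rw [LinearEquiv.symm_apply_eq, map_add, map_add, map_smul, map_smul, g1, g2, hab]; module }
  have hK₂ : K₂ ≤ S := by
    refine le_sylow_of_normalized S (fun ⟨g, g1, ⟨c, g2⟩, g3⟩ => ⟨3, Subtype.ext ?_⟩) ?_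
    · -- unipotence
      set G : Module.End F (ι → F) := (A g : (ι → F) →ₗ[F] (ι → F)) with hG
      set N : Module.End F (ι → F) := G - 1 with hN
      have hNv : ∀ v, N v = A g v - v := fun v => rfl
      have n1 : ∀ v, polar Q e (N v) = 0 := fun v => by
        rw [hNv, polar_sub_right]
        conv_lhs => arg 1; rw [← g1, orth_polar (ho g)]
        exact sub_self _
      have n2 : ∀ v, polar Q e v = 0 → polar Q e' (N v) = 0 := fun v hv => by
        have h := orth_polar (ho g) e' v
        rw [g2, polar_add_left, polar_smul_left',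
          show polar Q e (A g v) = 0 by conv_lhs => rw [← g1, orth_polar (ho g), hv],
          mul_zero, add_zero] at h
        rw [hNv, polar_sub_right, h, sub_self]
      have n5 : N ^ 5 = 0 := LinearMap.ext fun v => by
        simp only [pow_succ', pow_zero, mul_one, Module.End.mul_apply]
        obtain ⟨a, b, hab⟩ := g3 (N (N v)) (n1 _) (n2 _ (n1 v))
        have e3 : N (N (N v)) = a • e + b • e' := by rw [hNv (N (N v)), hab]; abel
        have e4 : N (N (N (N v))) = (b * c) • e := by
          rw [e3, hNv, map_add, map_smul, map_smul, g1, g2]; module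
        rw [e4, hNv, map_smul, g1]
        simp
      haveI : Nontrivial (ι → F) := ⟨e, 0, he0⟩
      haveI : CharP (Module.End F (ι → F)) p :=
        charP_of_injective_algebraMap (algebraMap F (Module.End F (ι → F))).injective p
      have h5 : 5 ≤ p ^ 3 := le_trans (by norm_num) (Nat.pow_le_pow_left D.prime.two_le 3)
      have hpow : G ^ p ^ 3 = 1 := by
        rw [show G = N + 1 by rw [hN, sub_add_cancel],
          add_pow_char_pow_of_commute _ _ (Commute.one_right N), one_pow,
          show p ^ 3 = 5 + (p ^ 3 - 5) by omega, pow_add, n5, zero_mul, zero_add]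
      rw [SubgroupClass.coe_pow]
      refine omAct_injective (LinearEquiv.ext fun v => ?_)
      rw [OneMemClass.coe_one, map_pow, map_one]
      have := LinearMap.congr_fun hpow v
      rw [Module.End.pow_apply] at this
      rw [LinearEquiv.coe_pow]
      exact this
    · rintro s hs g ⟨g1, ⟨c, g2⟩, g3⟩
      have hs' := inv_mem hs
      have hcancel : ∀ v, A s (A s⁻¹ v) = v := fun v => by
        rw [← LinearEquiv.mul_apply, ← map_mul, mul_inv_cancel, map_one]; rfl
      refine ⟨?_, ⟨c, ?_⟩, fun v hv hv' => ?_⟩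
      · simp only [map_mul, LinearEquiv.mul_apply, hse _ hs', g1, hse _ hs]
      · have hd : A s (A s⁻¹ e') = e' := hcancel e'
        rw [hse' _ hs', map_add, map_smul, hse _ hs] at hd
        simp only [map_mul, LinearEquiv.mul_apply]
        rw [hse' _ hs', map_add, map_smul, g1, g2, map_add, map_add, map_smul, map_smul, hse _ hs]
        linear_combination (norm := module) hd
      · have hw := hperp _ hs' v hv
        have hw' : polar Q e' (A s⁻¹ v) = 0 := by
          have h := orth_polar (ho s) e' (A s⁻¹ v)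
          rw [hcancel, hse' _ hs, polar_add_left, polar_smul_left', hv, hv'] at h
          linear_combination -h
        obtain ⟨a, b, hab⟩ := g3 _ hw hw'
        refine ⟨a + b * polar Q f (A s e'), b, ?_⟩
        simp only [map_mul, LinearEquiv.mul_apply]
        rw [hab, map_add, map_add, map_smul, map_smul, hcancel, hse _ hs, hse' _ hs]
        simp only [polar_add_right, polar_smul_right', polar_comm Q f e, hef, (mem_pairPerp.1 he'W).2]
        module
  refine ⟨e, e', hline, fun z hz hcz => ?_, fun a => ⟨?_, fun s hs => ?_⟩⟩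
  · have hzw : ∀ v, polar Q e v = 0 → ∃ c : F, A z v = v + c • e := by
      intro v hv
      have h := hcz _ (hK₁ ⟨v, hv, rfl⟩)
      have e1 : A (z * rootEl Q e v * z⁻¹) = A (rootEl Q e v) := by rw [← h.eq, mul_inv_cancel_right]
      rw [D.conj_root z he hv, show omAct Q z e = e from hse z hz, hA] at e1
      rw [D.act_root he hv, D.act_root he (hperp z hz v hv)] at e1
      exact mem_span_of_siegel_eq he _ _ hef e1.symm
    obtain ⟨u, hu, hzu⟩ := exists_eq_siegel hQ (ho z) he hf hef (hse z hz) hzw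
    obtain rfl : z = rootEl Q e u := D.pr_act_eq he _ hzu
    obtain ⟨f', H⟩ := exists_frame hQ he hf hef he'0' he'Q he'W
    have hsu : ∀ x ∈ pairPerp Q e f, ∀ hx : polar Q e' x = 0,
        ∃ c : F, siegel Q e' x he'Q hx u = u + c • e := by
      intro x hxW hx
      have hfix : siegel Q e' x he'Q hx e = e :=
        siegel_eq_self Q _ _ he'Q hx hee' (mem_pairPerp.1 hxW).1
      have hmem : rootEl Q e' x ∈ K₂ := by
        refine ⟨?_, ⟨0, ?_⟩, fun v hv hv' => ⟨0, -polar Q v x, ?_⟩⟩
        · rw [hA, D.act_root he'Q hx]; exact hfix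
        · rw [hA, D.act_root he'Q hx, siegel_apply_ker _ _ (by rw [polar_self', he'Q, mul_zero]), hx]
          module
        · rw [hA, D.act_root he'Q hx, siegel_apply_ker _ _ hv']; module
      have h := hcz _ (hK₂ hmem)
      have e1 : A (rootEl Q e' x * rootEl Q e u * (rootEl Q e' x)⁻¹) = A (rootEl Q e u) := by
        rw [h.eq, mul_inv_cancel_right]
      have hu' := (mem_pairPerp.1 hu).1
      simp only [D.conj_root _ he hu', hA, D.act_root he'Q hx, hfix] at e1
      rw [D.act_root he hu', D.act_root he (by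
        conv_lhs => rw [← hfix, orth_polar (siegel_mem_orth Q e' x he'Q hx), hu'])] at e1
      exact mem_span_of_siegel_eq he _ _ hef e1.symm
    set a := polar Q u e' with ha
    have key : ∀ x ∈ pairPerp Q e f ⊓ pairPerp Q e' f', polar Q u x = -(Q x * a) := by
      rintro x ⟨hxW, hxW'⟩
      obtain ⟨c, hc⟩ := hsu x hxW (mem_pairPerp.1 hxW').1
      have := congrArg (polar Q f') hc
      rw [siegel_apply] at this
      simp only [polar_sub_right, polar_add_right, polar_smul_right'] at this
      rw [polar_comm Q f' e', H.hef', (mem_pairPerp.1 hxW').2, polar_comm Q f' e, (mem_pairPerp.1 H.f'W).1] at this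
      linear_combination -this
    obtain ⟨x, hx0, -, hxm⟩ := H.exists_singular hQ hn7
    have ha0 : a = 0 := by
      by_contra ha0
      refine hx0 (H.eq_zero hQ hxm fun y hy => ?_)
      have h1 := key _ (add_mem hxm hy)
      rw [polar_add_right, key _ hxm, key _ hy, map_add'] at h1
      exact (mul_eq_zero.1 (show a * polar Q x y = 0 by linear_combination h1)).resolve_left ha0
    set u₀ := u - polar Q u f' • e' - polar Q u e' • f' with hu₀
    have hu₀m := H.decomp hu
    have hu₀0 : u₀ = 0 := H.eq_zero hQ hu₀m fun y hy => by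
      obtain ⟨h3, h4⟩ := mem_pairPerp.1 hy.2
      rw [hu₀, polar_sub_left, polar_sub_left, polar_smul_left', polar_smul_left', h3, h4, key y hy, ha0]
      ring
    refine ⟨polar Q u f', congrArg _ ?_⟩
    rw [hu₀, ← ha, ha0, zero_smul, sub_zero, sub_eq_zero] at hu₀0
    exact hu₀0
  · exact hK₁ ⟨_, hline.perp a, rfl⟩
  · show s * _ = _ * s
    refine mul_inv_eq_iff_eq_mul.1 (omAct_injective ?_)
    rw [D.conj_root s he (hline.perp a)]
    obtain ⟨d, hd⟩ : ∃ d : F, omAct Q s e' = e' + d • e := ⟨_, hse' s hs⟩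
    simp only [show omAct Q s e = e from hse s hs, map_smul, hd, smul_add, smul_smul]
    rw [D.act_root he (hline.perp a), D.act_root he
      (by rw [polar_add_right, hline.perp, polar_smul_right', polar_self', he]; ring)]
    exact siegel_add_self _ he (hline.perp a) _

theorem RootHyp.proot_mem_center_iff (D : RootHyp Q p) [Fact p.Prime] (U : Sylow p (Cfsg.POmega F ⇑Q)) :
    ∃ e w, IsLine Q e w ∧ centreSet (U : Subgroup (Cfsg.POmega F ⇑Q)) = lineSet Q e w := by
  obtain ⟨S, rfl⟩ := Sylow.mapSurjective_surjective (f := omPr Q)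
    (QuotientGroup.mk'_surjective _) p U
  obtain ⟨e, w, hl, h1, h2⟩ := D.exists_sylow_centre S
  refine ⟨e, w, hl, Set.ext fun z => ⟨?_, ?_⟩⟩
  · rintro ⟨hz, hc⟩
    rw [Sylow.coe_mapSurjective] at hz hc
    obtain ⟨z, hzS, rfl⟩ := hz
    obtain ⟨k, hk⟩ := S.2 ⟨z, hzS⟩
    obtain ⟨a, rfl⟩ := h1 z hzS fun s hs =>
      D.commute_of_pr (congrArg Subtype.val hk) (hc _ ⟨s, hs, rfl⟩)
    exact ⟨a, rfl⟩
  · rintro ⟨a, rfl⟩
    refine ⟨?_, ?_⟩
    · rw [Sylow.coe_mapSurjective]; exact ⟨_, (h2 a).1, rfl⟩
    · intro u hu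
      rw [Sylow.coe_mapSurjective] at hu
      obtain ⟨s, hs, rfl⟩ := hu
      exact ((h2 a).2 s hs).map _

end Group

end CfsgLib.Geometry
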