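import Mathlib

/-! Recognising small products of cyclic and dihedral groups from generators and the order. -/

set_option autoImplicit false

namespace CfsgLib.Geometry

variable {G : Type*} [Group G]

/-- The homomorphism from `ZMod n` determined by an element killed by `n`. -/
def zmodGen (n : ℕ) (u : G) (hu : u ^ n = 1) : Multiplicative (ZMod n) →* G :=
  AddMonoidHom.toMultiplicativeLeft (ZMod.lift n ⟨zmultiplesHom (Additive G) (Additive.ofMul u), by
    rw [zmultiplesHom_apply, natCast_zsmul, ← ofMul_pow, hu, ofMul_one]⟩)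

theorem zmodGen_intCast (n : ℕ) (u : G) (hu : u ^ n = 1) (j : ℤ) :
    zmodGen n u hu (Multiplicative.ofAdd (j : ZMod n)) = u ^ j := by
  simp [zmodGen]

theorem zmodGen_natCast (n : ℕ) (u : G) (hu : u ^ n = 1) (j : ℕ) :
    zmodGen n u hu (Multiplicative.ofAdd (j : ZMod n)) = u ^ j := by
  rw [show ((j : ℕ) : ZMod n) = ((j : ℤ) : ZMod n) from (Int.cast_natCast j).symm, zmodGen_intCast, zpow_natCast]

theorem zmodGen_commute {n : ℕ} {u : G} (hu : u ^ n = 1) {x : G} (h : Commute u x) (z : Multiplicative (ZMod n)) :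
    Commute (zmodGen n u hu z) x := by
  obtain ⟨j, hj⟩ := ZMod.intCast_surjective z.toAdd
  rw [← ofAdd_toAdd z, ← hj, zmodGen_intCast]
  exact h.zpow_left j

/-- A surjection onto a group of the same order. -/
theorem nonempty_equiv_of_surjective {A : Type*} [Group A] (f : A →* G) (hf : Function.Surjective f)
    (h : Nat.card G = Nat.card A) (h0 : Nat.card A ≠ 0) : Nonempty (G ≃* A) := by
  haveI : Finite A := Nat.finite_of_card_ne_zero h0
  exact ⟨(MulEquiv.ofBijective f (Nat.bijective_iff_surjective_and_card f |>.2 ⟨hf, h.symm⟩)).symm⟩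

/-- A cyclic group of known order. -/
theorem isCyclic_of_gen (u : G) (hgen : ∀ S : Subgroup G, u ∈ S → S = ⊤) : IsCyclic G :=
  ⟨⟨u, fun x => (hgen (Subgroup.zpowers u) (Subgroup.mem_zpowers u)).ge (Subgroup.mem_top x)⟩⟩

theorem nonempty_two_cyclic (n : ℕ) (hn : n ≠ 0) (u c : G) (hu : u ^ 2 = 1) (hc : c ^ n = 1) (huc : Commute u c)
    (hgen : ∀ S : Subgroup G, u ∈ S → c ∈ S → S = ⊤) (hcard : Nat.card G = 2 * n) :
    Nonempty (G ≃* Multiplicative (ZMod 2 × ZMod n)) := by
  let f : Multiplicative (ZMod 2) × Multiplicative (ZMod n) →* G := (zmodGen 2 u hu).noncommCoprod (zmodGen n c hc)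
    fun a b => zmodGen_commute hu ((zmodGen_commute hc huc.symm b).symm) a
  let g := f.comp (MulEquiv.prodMultiplicative (ZMod 2) (ZMod n)).toMonoidHom
  have hc2 : Nat.card (Multiplicative (ZMod 2 × ZMod n)) = 2 * n := by
    rw [Nat.card_congr Multiplicative.toAdd, Nat.card_prod, Nat.card_zmod, Nat.card_zmod]
  refine nonempty_equiv_of_surjective g (MonoidHom.range_eq_top.1 (hgen _
    ⟨Multiplicative.ofAdd ((1 : ℕ), (0 : ℕ)), ?_⟩ ⟨Multiplicative.ofAdd ((0 : ℕ), (1 : ℕ)), ?_⟩))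
    (hcard.trans hc2.symm) (by rw [hc2]; omega)
  · show zmodGen 2 u hu (Multiplicative.ofAdd ((1 : ℕ) : ZMod 2)) *
      zmodGen n c hc (Multiplicative.ofAdd ((0 : ℕ) : ZMod n)) = _
    rw [zmodGen_natCast, zmodGen_natCast, pow_one, pow_zero, mul_one]
  · show zmodGen 2 u hu (Multiplicative.ofAdd ((0 : ℕ) : ZMod 2)) *
      zmodGen n c hc (Multiplicative.ofAdd ((1 : ℕ) : ZMod n)) = _
    rw [zmodGen_natCast, zmodGen_natCast, pow_one, pow_zero, one_mul]

theorem nonempty_two_two_cyclic (n : ℕ) (hn : n ≠ 0) (u s c : G) (hu : u ^ 2 = 1) (hs : s ^ 2 = 1)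
    (hc : c ^ n = 1) (hus : Commute u s) (huc : Commute u c) (hsc : Commute s c)
    (hgen : ∀ S : Subgroup G, u ∈ S → s ∈ S → c ∈ S → S = ⊤) (hcard : Nat.card G = 4 * n) :
    Nonempty (G ≃* Multiplicative (ZMod 2 × ZMod 2 × ZMod n)) := by
  let f₁ : Multiplicative (ZMod 2) × Multiplicative (ZMod n) →* G := (zmodGen 2 s hs).noncommCoprod (zmodGen n c hc)
    fun a b => zmodGen_commute hs ((zmodGen_commute hc hsc.symm b).symm) a
  let f : Multiplicative (ZMod 2) × (Multiplicative (ZMod 2) × Multiplicative (ZMod n)) →* G :=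
    (zmodGen 2 u hu).noncommCoprod f₁ fun a b => zmodGen_commute hu (by
      show Commute u (zmodGen 2 s hs b.1 * zmodGen n c hc b.2)
      exact ((zmodGen_commute hs hus.symm b.1).symm).mul_right ((zmodGen_commute hc huc.symm b.2).symm)) a
  let g := f.comp (((MulEquiv.prodMultiplicative (ZMod 2) (ZMod 2 × ZMod n))).trans
    ((MulEquiv.refl _).prodCongr (MulEquiv.prodMultiplicative (ZMod 2) (ZMod n)))).toMonoidHom
  have hc2 : Nat.card (Multiplicative (ZMod 2 × ZMod 2 × ZMod n)) = 4 * n := by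
    rw [Nat.card_congr Multiplicative.toAdd, Nat.card_prod, Nat.card_prod, Nat.card_zmod, Nat.card_zmod]; ring
  refine nonempty_equiv_of_surjective g (MonoidHom.range_eq_top.1 (hgen _
    ⟨Multiplicative.ofAdd ((1 : ℕ), (0 : ℕ), (0 : ℕ)), ?_⟩ ⟨Multiplicative.ofAdd ((0 : ℕ), (1 : ℕ), (0 : ℕ)), ?_⟩
    ⟨Multiplicative.ofAdd ((0 : ℕ), (0 : ℕ), (1 : ℕ)), ?_⟩)) (hcard.trans hc2.symm) (by rw [hc2]; omega)
  · show zmodGen 2 u hu (Multiplicative.ofAdd ((1 : ℕ) : ZMod 2)) *
      (zmodGen 2 s hs (Multiplicative.ofAdd ((0 : ℕ) : ZMod 2)) *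
      zmodGen n c hc (Multiplicative.ofAdd ((0 : ℕ) : ZMod n))) = _
    rw [zmodGen_natCast, zmodGen_natCast, zmodGen_natCast]
    simp
  · show zmodGen 2 u hu (Multiplicative.ofAdd ((0 : ℕ) : ZMod 2)) *
      (zmodGen 2 s hs (Multiplicative.ofAdd ((1 : ℕ) : ZMod 2)) *
      zmodGen n c hc (Multiplicative.ofAdd ((0 : ℕ) : ZMod n))) = _
    rw [zmodGen_natCast, zmodGen_natCast, zmodGen_natCast]
    simp
  · show zmodGen 2 u hu (Multiplicative.ofAdd ((0 : ℕ) : ZMod 2)) *
      (zmodGen 2 s hs (Multiplicative.ofAdd ((0 : ℕ) : ZMod 2)) *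
      zmodGen n c hc (Multiplicative.ofAdd ((1 : ℕ) : ZMod n))) = _
    rw [zmodGen_natCast, zmodGen_natCast, zmodGen_natCast]
    simp

/-- The homomorphism from the dihedral group of order `2n`. -/
def dihedralGen (n : ℕ) (u s : G) (hu : u ^ n = 1) (hs : s * s = 1) (hsu : s * u * s = u⁻¹) :
    DihedralGroup n →* G where
  toFun
    | .r i => zmodGen n u hu (Multiplicative.ofAdd i)
    | .sr i => s * zmodGen n u hu (Multiplicative.ofAdd i)
  map_one' := map_one (zmodGen n u hu)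
  map_mul' := by
    have key : ∀ i : ZMod n, zmodGen n u hu (Multiplicative.ofAdd i) * s =
        s * (zmodGen n u hu (Multiplicative.ofAdd i))⁻¹ := fun i => by
      obtain ⟨j, rfl⟩ := ZMod.intCast_surjective i
      rw [zmodGen_intCast]
      have hss : s⁻¹ = s := inv_eq_of_mul_eq_one_left hs
      have h : s * u ^ j * s = (u ^ j)⁻¹ := by
        have h1 := conj_zpow (a := s) (b := u) (i := j)
        rw [hss, hsu] at h1
        rw [← h1, inv_zpow]
      rw [← h, ← mul_assoc, ← mul_assoc, hs, one_mul]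
    rintro (i | i) (j | j)
    · show zmodGen n u hu (Multiplicative.ofAdd (i + j)) = _
      rw [ofAdd_add, map_mul]
    · show s * zmodGen n u hu (Multiplicative.ofAdd (j - i)) = _ * (s * _)
      rw [← mul_assoc, key, mul_assoc, sub_eq_neg_add, ofAdd_add, map_mul, ofAdd_neg, map_inv]
    · show s * zmodGen n u hu (Multiplicative.ofAdd (i + j)) = s * _ * _
      rw [mul_assoc, ofAdd_add, map_mul]
    · show zmodGen n u hu (Multiplicative.ofAdd (j - i)) = s * _ * (s * _)
      rw [mul_assoc, ← mul_assoc (zmodGen n u hu _), key, ← mul_assoc, ← mul_assoc, hs, one_mul,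
        sub_eq_neg_add, ofAdd_add, map_mul, ofAdd_neg, map_inv]

theorem nonempty_dihedral_cyclic (n : ℕ) (hn : n ≠ 0) (u s c : G) (hu : u ^ 4 = 1) (hs : s * s = 1)
    (hsu : s * u * s = u⁻¹) (hc : c ^ n = 1) (huc : Commute u c) (hsc : Commute s c)
    (hgen : ∀ S : Subgroup G, u ∈ S → s ∈ S → c ∈ S → S = ⊤) (hcard : Nat.card G = 8 * n) :
    Nonempty (G ≃* DihedralGroup 4 × Multiplicative (ZMod n)) := by
  let f : DihedralGroup 4 × Multiplicative (ZMod n) →* G := (dihedralGen 4 u s hu hs hsu).noncommCoprod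
    (zmodGen n c hc) fun a b => by
      rcases a with i | i
      · exact zmodGen_commute hu ((zmodGen_commute hc huc.symm b).symm) _
      · exact Commute.mul_left ((zmodGen_commute hc hsc.symm b).symm)
          (zmodGen_commute hu ((zmodGen_commute hc huc.symm b).symm) _)
  have hc2 : Nat.card (DihedralGroup 4 × Multiplicative (ZMod n)) = 8 * n := by
    rw [Nat.card_prod, DihedralGroup.nat_card, Nat.card_congr Multiplicative.toAdd, Nat.card_zmod]
  refine nonempty_equiv_of_surjective f (MonoidHom.range_eq_top.1 (hgen _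
    ⟨(DihedralGroup.r (1 : ℕ), Multiplicative.ofAdd ((0 : ℕ) : ZMod n)), ?_⟩
    ⟨(DihedralGroup.sr (0 : ℕ), Multiplicative.ofAdd ((0 : ℕ) : ZMod n)), ?_⟩
    ⟨(DihedralGroup.r (0 : ℕ), Multiplicative.ofAdd ((1 : ℕ) : ZMod n)), ?_⟩)) (hcard.trans hc2.symm) (by rw [hc2]; omega)
  · show zmodGen 4 u hu (Multiplicative.ofAdd ((1 : ℕ) : ZMod 4)) *
      zmodGen n c hc (Multiplicative.ofAdd ((0 : ℕ) : ZMod n)) = _
    rw [zmodGen_natCast, zmodGen_natCast, pow_one, pow_zero, mul_one]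
  · show s * zmodGen 4 u hu (Multiplicative.ofAdd ((0 : ℕ) : ZMod 4)) *
      zmodGen n c hc (Multiplicative.ofAdd ((0 : ℕ) : ZMod n)) = _
    rw [zmodGen_natCast, zmodGen_natCast, pow_zero, pow_zero, mul_one, mul_one]
  · show zmodGen 4 u hu (Multiplicative.ofAdd ((0 : ℕ) : ZMod 4)) *
      zmodGen n c hc (Multiplicative.ofAdd ((1 : ℕ) : ZMod n)) = _
    rw [zmodGen_natCast, zmodGen_natCast, pow_one, pow_zero, one_mul]

end CfsgLib.Geometry
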