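import Cfsg.Agent.Lib.Geometry.InvolutionClasses
import Cfsg.Agent.Lib.Geometry.OmegaPerfect

/-! Standard bases and classification of nondegenerate forms over finite fields; discriminants. -/

set_option autoImplicit false

namespace CfsgLib.Geometry

open QuadraticMap

universe u v

/-- The discriminant changes by a square under a change of basis. -/
theorem det_polar_change {F V : Type*} [Field F] [AddCommGroup V] [Module F V]
    (Q : QuadraticForm F V) {ι κ : Type*} [Fintype ι] [DecidableEq ι] [Fintype κ] [DecidableEq κ]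
    (b : Module.Basis ι F V) (c : Module.Basis κ F V) :
    ∃ t : F, t ≠ 0 ∧ (Matrix.of fun i j => polar Q (c i) (c j)).det =
      t * t * (Matrix.of fun i j => polar Q (b i) (b j)).det := by
  let e : κ ≃ ι := c.indexEquiv b
  let c' := c.reindex e
  have hc : (Matrix.of fun i j => polar Q (c i) (c j)) =
      (Matrix.of fun i j => polar Q (c' i) (c' j)).submatrix e e := by
    ext i j; simp [c']
  refine ⟨(b.toMatrix c').det, ?_, ?_⟩
  · intro h
    have := congrArg Matrix.det (b.toMatrix_mul_toMatrix_flip c')
    rw [Matrix.det_mul, h, zero_mul, Matrix.det_one] at this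
    exact zero_ne_one this
  · have hb : ∀ d : Module.Basis ι F V, (Matrix.of fun i j => polar Q (d i) (d j)) =
        LinearMap.BilinForm.toMatrix d (polarBilin Q) := fun d => by
      ext i j; simp [LinearMap.BilinForm.toMatrix_apply]
    rw [hc, Matrix.det_submatrix_equiv_self, hb, hb,
      ← LinearMap.BilinForm.toMatrix_mul_basis_toMatrix (b := b) c' (polarBilin Q), Matrix.det_mul,
      Matrix.det_mul, Matrix.det_transpose]
    ring

theorem isSquare_mul_sq_iff {F : Type*} [Field F] {t d : F} (ht : t ≠ 0) :
    IsSquare (t * t * d) ↔ IsSquare d := by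
  refine ⟨fun h => ?_, fun h => IsSquare.mul (⟨t, rfl⟩ : IsSquare (t * t)) h⟩
  have := h.div (⟨t, rfl⟩ : IsSquare (t * t))
  rwa [mul_div_cancel_left₀ _ (mul_ne_zero ht ht)] at this

theorem isSquare_det_polar_iff {F V : Type*} [Field F] [AddCommGroup V] [Module F V]
    (Q : QuadraticForm F V) {ι κ : Type*} [Fintype ι] [DecidableEq ι] [Fintype κ] [DecidableEq κ]
    (b : Module.Basis ι F V) (c : Module.Basis κ F V) :
    IsSquare (Matrix.of fun i j => polar Q (c i) (c j)).det ↔
      IsSquare (Matrix.of fun i j => polar Q (b i) (b j)).det := by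
  obtain ⟨t, ht, e⟩ := det_polar_change Q b c
  rw [e, isSquare_mul_sq_iff ht]

variable {F : Type u} [Field F] [Finite F] {V : Type v} [AddCommGroup V] [Module F V]
  [FiniteDimensional F V] {Q : QuadraticForm F V}

/-- An orthogonal basis with all norms one but the last. -/
theorem exists_orth_basis_ones (h2 : (2 : F) ≠ 0) (hQ : (polarBilin Q).Nondegenerate) {k : ℕ}
    (hn : Module.finrank F V = k + 1) :
    ∃ (b : Module.Basis (Fin (k + 1)) F V) (c : F), c ≠ 0 ∧
      (Matrix.of fun i j => polar Q (b i) (b j)) =
        Matrix.diagonal (Fin.snoc (fun _ : Fin k => (2 : F)) (2 * c)) := by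
  obtain ⟨a, ha, hab⟩ := exists_orth_ones h2 k Q hQ (by omega)
  let L : V →ₗ[F] (Fin k → F) := LinearMap.pi fun i => polarBilin Q (a i)
  obtain ⟨v, hv0, hv⟩ : ∃ v, v ≠ 0 ∧ ∀ i, polar Q (a i) v = 0 := by
    have h := LinearMap.finrank_range_add_finrank_ker L
    have h' : Module.finrank F (LinearMap.range L) ≤ k := le_trans (Submodule.finrank_le _) (by simp)
    haveI : Nontrivial (LinearMap.ker L) := Module.nontrivial_of_finrank_pos (R := F) (by omega)
    obtain ⟨v, hv⟩ := exists_ne (0 : LinearMap.ker L)
    exact ⟨v, fun h => hv (Subtype.ext h), fun i => congrFun v.2 i⟩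
  let fam : Fin (k + 1) → V := Fin.snoc a v
  have hgram : ∀ i j, i ≠ j → polar Q (fam i) (fam j) = 0 := fun i j hij => by
    induction i using Fin.lastCases <;> induction j using Fin.lastCases
    · exact absurd rfl hij
    · simp only [fam, Fin.snoc_last, Fin.snoc_castSucc]; rw [polar_comm]; exact hv _
    · simp only [fam, Fin.snoc_last, Fin.snoc_castSucc]; exact hv _
    · simp only [fam, Fin.snoc_castSucc]; exact hab _ _ fun h => hij (congrArg _ h)
  have hfne : ∀ i : Fin k, polar Q (a i) (a i) ≠ 0 := fun i => by
    rw [polar_self' Q (a i), ha, mul_one]; exact h2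
  have hli0 : LinearIndependent F fam := by
    refine linearIndependent_finSnoc.2 ⟨?_, fun hmem => ?_⟩
    · rw [Fintype.linearIndependent_iff]
      intro c hc i
      have e := congrArg (polarBilin Q (a i)) hc
      rw [map_sum, map_zero, Finset.sum_eq_single i (fun j _ hj => by
        rw [map_smul, polarBilin_apply_apply, hab _ _ hj.symm, smul_zero])
        (fun h => absurd (Finset.mem_univ i) h), map_smul, polarBilin_apply_apply, smul_eq_mul] at e
      exact (mul_eq_zero.1 e).resolve_right (hfne i)
    · obtain ⟨c, rfl⟩ := (Submodule.mem_span_range_iff_exists_fun F).1 hmem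
      refine hv0 (Finset.sum_eq_zero fun i _ => ?_)
      have e := hv i
      rw [← polarBilin_apply_apply, map_sum, Finset.sum_eq_single i (fun j _ hj => by
        rw [map_smul, polarBilin_apply_apply, hab _ _ hj.symm, smul_zero])
        (fun h => absurd (Finset.mem_univ i) h), map_smul, polarBilin_apply_apply, smul_eq_mul] at e
      rw [(mul_eq_zero.1 e).resolve_right (hfne i), zero_smul]
  let b := basisOfLinearIndependentOfCardEqFinrank hli0 (by simp [hn])
  have hb : ∀ i, b i = fam i := fun i => by simp [b]
  have hQv : Q v ≠ 0 := fun h => by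
    refine hv0 (hQ.1 v fun y => ?_)
    have : polarBilin Q v = 0 := b.ext fun i => by
      rw [hb, LinearMap.zero_apply, polarBilin_apply_apply]
      induction i using Fin.lastCases with
      | last => simp only [fam, Fin.snoc_last]; rw [polar_self' Q v, h, mul_zero]
      | cast i => simp only [fam, Fin.snoc_castSucc]; rw [polar_comm]; exact hv i
    rw [this, LinearMap.zero_apply]
  refine ⟨b, Q v, hQv, ?_⟩
  ext i j
  rw [Matrix.of_apply, hb, hb]
  rcases eq_or_ne i j with rfl | hij
  · rw [Matrix.diagonal_apply_eq, polar_self' Q (fam i)]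
    induction i using Fin.lastCases with
    | last => simp [fam]
    | cast i => simp [fam, ha]
  · rw [Matrix.diagonal_apply_ne _ hij, hgram i j hij]

omit [Finite F] [FiniteDimensional F V] in
theorem preserves_of_gram (h2 : (2 : F) ≠ 0) {W : Type*} [AddCommGroup W] [Module F W]
    (Q' : QuadraticForm F W) {ι : Type*} (b : Module.Basis ι F V) (b' : Module.Basis ι F W)
    (h : ∀ i j, polar Q' (b' i) (b' j) = polar Q (b i) (b j)) (v : V) :
    Q' (b.equiv b' (Equiv.refl ι) v) = Q v := by
  set g := b.equiv b' (Equiv.refl ι)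
  have e : LinearMap.compl₁₂ (polarBilin Q') g.toLinearMap g.toLinearMap = polarBilin Q :=
    LinearMap.BilinForm.ext_basis b fun i j => by simp [g, h]
  have := LinearMap.congr_fun₂ e v v
  simp only [LinearMap.compl₁₂_apply, LinearEquiv.coe_coe, polarBilin_apply_apply] at this
  rw [polar_self' Q' (g v), polar_self' Q v] at this
  exact mul_left_cancel₀ h2 this

/-- Forms in odd characteristic are classified by the square class of the discriminant. -/
theorem exists_isometry_of_disc (h2 : (2 : F) ≠ 0) {W : Type v} [AddCommGroup W] [Module F W]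
    [FiniteDimensional F W] (Q' : QuadraticForm F W) (hQ : (polarBilin Q).Nondegenerate)
    (hQ' : (polarBilin Q').Nondegenerate) (hd : Module.finrank F W = Module.finrank F V)
    {ι κ : Type*} [Fintype ι] [DecidableEq ι] [Fintype κ] [DecidableEq κ]
    (b : Module.Basis ι F V) (b' : Module.Basis κ F W)
    (hsq : IsSquare ((Matrix.of fun i j => polar Q (b i) (b j)).det *
      (Matrix.of fun i j => polar Q' (b' i) (b' j)).det)) :
    ∃ g : V ≃ₗ[F] W, ∀ v, Q' (g v) = Q v := by
  rcases Nat.eq_zero_or_pos (Module.finrank F V) with h0 | hpos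
  · haveI : Subsingleton V := Module.finrank_zero_iff.1 h0
    refine ⟨LinearEquiv.ofFinrankEq V W hd.symm, fun v => ?_⟩
    rw [Subsingleton.elim v 0, map_zero, map_zero, map_zero]
  obtain ⟨k, hk⟩ : ∃ k, Module.finrank F V = k + 1 := ⟨_, (Nat.succ_pred_eq_of_pos hpos).symm⟩
  obtain ⟨o, c, hc, ho⟩ := exists_orth_basis_ones h2 hQ hk
  obtain ⟨o', c', hc', ho'⟩ := exists_orth_basis_ones h2 hQ' (hd.trans hk)
  obtain ⟨t, ht, et⟩ := det_polar_change Q b o
  obtain ⟨t', ht', et'⟩ := det_polar_change Q' b' o'
  have hcc : IsSquare (c * c') := by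
    have hp : IsSquare ((Matrix.of fun i j => polar Q (o i) (o j)).det *
        (Matrix.of fun i j => polar Q' (o' i) (o' j)).det) := by
      rw [et, et', show ∀ A B : F, t * t * A * (t' * t' * B) = (t * t') * (t * t') * (A * B) from
        fun A B => by ring]
      exact (isSquare_mul_sq_iff (mul_ne_zero ht ht')).2 hsq
    rw [ho, ho', Matrix.det_diagonal, Matrix.det_diagonal] at hp
    simp only [Fin.prod_univ_castSucc, Fin.snoc_castSucc, Fin.snoc_last, Finset.prod_const,
      Finset.card_univ, Fintype.card_fin] at hp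
    rw [show (2 : F) ^ k * (2 * c) * (2 ^ k * (2 * c')) = (2 ^ k * 2) * (2 ^ k * 2) * (c * c') by
      ring] at hp
    exact (isSquare_mul_sq_iff (mul_ne_zero (pow_ne_zero _ h2) h2)).1 hp
  obtain ⟨s, hs⟩ : ∃ s : F, c = s * s * c' := by
    obtain ⟨r, hr⟩ := hcc
    exact ⟨r / c', by field_simp; linear_combination hr⟩
  have hs0 : s ≠ 0 := fun h => hc (by rw [hs, h, zero_mul, zero_mul])
  let w : Fin (k + 1) → Fˣ := Fin.snoc (fun _ => 1) (Units.mk0 s hs0)
  let o'' := o'.unitsSMul w
  refine ⟨o.equiv o'' (Equiv.refl _), fun v => preserves_of_gram h2 Q' o o'' (fun i j => ?_) v⟩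
  have e1 : ∀ i j, polar Q (o i) (o j) = _ := fun i j => congrFun (congrFun ho i) j
  have e2 : ∀ i j, polar Q' (o' i) (o' j) = _ := fun i j => congrFun (congrFun ho' i) j
  simp only [o'', Module.Basis.unitsSMul_apply, Units.smul_def, polar_smul_left',
    polar_smul_right', e1, e2]
  rcases eq_or_ne i j with rfl | hij
  · simp only [Matrix.diagonal_apply_eq, w]
    induction i using Fin.lastCases with
    | last => simp only [Fin.snoc_last, Units.val_mk0]; rw [hs]; ring
    | cast i => simp
  · simp [Matrix.diagonal_apply_ne _ hij]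

/-- Hyperbolic pairs exhausting all but `r` dimensions. -/
theorem exists_pairs (r : ℕ) (hr : 1 ≤ r) (m : ℕ) :
    ∀ {V : Type v} [AddCommGroup V] [Module F V] [FiniteDimensional F V] (Q : QuadraticForm F V),
    (polarBilin Q).Nondegenerate → Module.finrank F V = 2 * m + r →
    ∃ (e f : Fin m → V) (g : Fin r → V), LinearIndependent F g ∧
      (∀ i, Q (e i) = 0 ∧ Q (f i) = 0) ∧
      (∀ i j, polar Q (e i) (f j) = if i = j then 1 else 0) ∧
      (∀ i j, polar Q (e i) (e j) = 0 ∧ polar Q (f i) (f j) = 0) ∧
      (∀ i l, polar Q (e i) (g l) = 0 ∧ polar Q (f i) (g l) = 0) := by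
  induction m with
  | zero =>
    intro V _ _ _ Q _ hn
    let b := Module.finBasisOfFinrankEq F V (show Module.finrank F V = r by omega)
    exact ⟨fun i => i.elim0, fun i => i.elim0, b, b.linearIndependent, fun i => i.elim0,
      fun i => i.elim0, fun i => i.elim0, fun i => i.elim0⟩
  | succ m ih =>
    intro V _ _ _ Q hQ hn
    obtain ⟨e₀, he0, he⟩ := exists_singular hQ (by omega)
    obtain ⟨f₀, hf, hef⟩ := exists_pair hQ he0 he
    let W := pairPerp Q e₀ f₀
    have hfe : polar Q f₀ e₀ = 1 := by rw [polar_comm]; exact hef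
    have hee : polar Q e₀ e₀ = 0 := by rw [polar_self' Q e₀, he, mul_zero]
    have hff : polar Q f₀ f₀ = 0 := by rw [polar_self' Q f₀, hf, mul_zero]
    have hp : ∀ x y : W, polar (Q.comp W.subtype) x y = polar Q (x : V) (y : V) := fun x y => by
      simp [QuadraticMap.polar]
    have hQW : (polarBilin (Q.comp W.subtype)).Nondegenerate := by
      have hl : ∀ x : W, (∀ y : W, polar Q (x : V) (y : V) = 0) → x = 0 := fun x hx => by
        refine Subtype.ext (hQ.1 _ fun y => ?_)
        obtain ⟨hx1, hx2⟩ := mem_pairPerp.1 x.2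
        have hy : y - polar Q f₀ y • e₀ - polar Q e₀ y • f₀ ∈ W := by
          refine mem_pairPerp.2 ⟨?_, ?_⟩ <;>
            rw [polar_sub_right, polar_sub_right, polar_smul_right', polar_smul_right']
          · rw [hee, hef]; ring
          · rw [hfe, hff]; ring
        have := hx ⟨_, hy⟩
        rw [polar_sub_right, polar_sub_right, polar_smul_right', polar_smul_right',
          polar_comm Q (x : V) e₀, polar_comm Q (x : V) f₀, hx1, hx2, mul_zero, mul_zero, sub_zero,
          sub_zero] at this
        exact this
      exact ⟨fun x hx => hl x fun y => (hp x y).symm.trans (hx y), fun y hy => hl y fun x =>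
        by rw [QuadraticMap.polar_comm]; exact (hp x y).symm.trans (hy x)⟩
    have hdim : Module.finrank F W = 2 * m + r := by
      have hsur : Function.Surjective ((polarBilin Q e₀).prod (polarBilin Q f₀)) := fun ⟨a, b⟩ =>
        ⟨b • e₀ + a • f₀, by
          simp [polar_add_right, polar_smul_right', hee, hef, hfe, hff]⟩
      have h1 := LinearMap.finrank_range_add_finrank_ker ((polarBilin Q e₀).prod (polarBilin Q f₀))
      rw [LinearMap.range_eq_top.2 hsur, finrank_top, Module.finrank_prod, Module.finrank_self,
        LinearMap.ker_prod, hn] at h1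
      change 1 + 1 + Module.finrank F W = _ at h1
      omega
    obtain ⟨e, f, g, hg, hq, hef', hee', hgp⟩ := ih (Q.comp W.subtype) hQW hdim
    have pe : ∀ i, polar Q e₀ (e i : V) = 0 ∧ polar Q f₀ (e i : V) = 0 := fun i =>
      mem_pairPerp.1 (e i).2
    have pf : ∀ i, polar Q e₀ (f i : V) = 0 ∧ polar Q f₀ (f i : V) = 0 := fun i =>
      mem_pairPerp.1 (f i).2
    simp only [hp] at hef' hee' hgp
    refine ⟨Fin.cons e₀ fun i => (e i : V), Fin.cons f₀ fun i => (f i : V), fun l => (g l : V),
      hg.map' W.subtype (Submodule.ker_subtype W), ?_, ?_, ?_, ?_⟩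
    · intro i
      induction i using Fin.cases
      · simp [he, hf]
      · simpa using hq _
    · intro i j
      induction i using Fin.cases <;> induction j using Fin.cases
      · simp [hef]
      · simp [pf, (Fin.succ_ne_zero _).symm]
      · simp [Fin.succ_ne_zero, polar_comm Q _ f₀, pe]
      · simpa using hef' _ _
    · intro i j
      induction i using Fin.cases <;> induction j using Fin.cases
      · simp [hee, hff]
      · simp [pe, pf]
      · simp [polar_comm Q _ e₀, polar_comm Q _ f₀, pe, pf]
      · simpa using hee' _ _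
    · intro i l
      induction i using Fin.cases
      · simpa using mem_pairPerp.1 (g l).2
      · simpa using hgp _ l

omit [Finite F] in
/-- Pairs together with an independent family orthogonal to them are independent. -/
theorem linearIndependent_pairs {m r : ℕ} {e f : Fin m → V} {g : Fin r → V}
    (hg : LinearIndependent F g) (hef : ∀ i j, polar Q (e i) (f j) = if i = j then 1 else 0)
    (hee : ∀ i j, polar Q (e i) (e j) = 0 ∧ polar Q (f i) (f j) = 0)
    (hgp : ∀ i l, polar Q (e i) (g l) = 0 ∧ polar Q (f i) (g l) = 0) :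
    LinearIndependent F (Sum.elim (Sum.elim e f) g) := by
  rw [Fintype.linearIndependent_iff]
  intro c hc
  simp only [Fintype.sum_sum_type, Sum.elim_inl, Sum.elim_inr] at hc
  have hl : ∀ i, c (.inl (.inl i)) = 0 := fun i => by
    have e' := congrArg (polarBilin Q (f i)) hc
    rw [map_add, map_add, map_sum, map_sum, map_sum, map_zero] at e'
    simpa [polar_comm Q (f i) (e _), hef, hgp, hee] using e'
  have hr : ∀ i, c (.inl (.inr i)) = 0 := fun i => by
    have e' := congrArg (polarBilin Q (e i)) hc
    rw [map_add, map_add, map_sum, map_sum, map_sum, map_zero] at e'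
    simpa [hef, hee, hgp] using e'
  simp only [hl, hr, zero_smul, Finset.sum_const_zero, zero_add] at hc
  have hr' := Fintype.linearIndependent_iff.1 hg (fun l => c (.inr l)) hc
  rintro ((i | i) | l)
  · exact hl i
  · exact hr i
  · exact hr' l

end CfsgLib.Geometry
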