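import Cfsg.Agent.Lib.Geometry.OmegaMem
import Cfsg.Agent.Lib.Geometry.POmegaStd

/-! Diagonal elements and Levi elements of the standard forms in `Ω`. -/

set_option autoImplicit false

namespace CfsgLib.Geometry

open Matrix QuadraticMap

variable {F : Type*} [Field F] [Finite F]
variable {ι : Type} [Fintype ι] [DecidableEq ι]

/-- Scaling of coordinate hyperbolic pairs, and its invariant. -/
theorem exists_diag_invariant {Q : QuadraticForm F (ι → F)} (hQ : (polarBilin Q).Nondegenerate)
    (hR : reflGroup Q = orth Q) {k : ℕ} (a b : Fin k → ι)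
    (hinj : Function.Injective (Sum.elim a b))
    (hQa : ∀ j, Q (Pi.single (a j) 1) = 0) (hQb : ∀ j, Q (Pi.single (b j) 1) = 0)
    (hPa : ∀ x j, polar Q x (Pi.single (a j) 1) = x (b j))
    (hPb : ∀ x j, polar Q x (Pi.single (b j) 1) = x (a j))
    (d : Fin k → F) (hd : ∏ i, d i ≠ 0) (D : ι → F) (hDa : ∀ j, D (a j) = d j)
    (hDb : ∀ j, D (b j) = (d j)⁻¹) (hD1 : ∀ z, (∀ j, z ≠ a j ∧ z ≠ b j) → D z = 1) :
    ∃ g : Cfsg.isometryGroup F ⇑Q,
      ((g : Matrix.GeneralLinearGroup ι F) : Matrix ι ι F) = diagonal D ∧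
      orthInvariant hQ hR (isomEquiv Q g) = (sqMk hd, 1) := by
  have hab : ∀ i j, a i ≠ b j := fun i j h => Sum.inl_ne_inr (hinj (a₁ := .inl i) (a₂ := .inr j) h)
  have ha : Function.Injective a := fun i j h => Sum.inl_injective (hinj (a₁ := .inl i) (a₂ := .inl j) h)
  have hb : Function.Injective b := fun i j h => Sum.inr_injective (hinj (a₁ := .inr i) (a₂ := .inr j) h)
  obtain ⟨g, hg, hgx⟩ := exists_pairs_scale hQ hR k (fun j => Pi.single (a j) 1)
    (fun j => Pi.single (b j) 1) hQa hQb (fun i => by rw [hPb, Pi.single_eq_same])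
    (fun i j hij => ⟨by rw [hPa]; exact Pi.single_eq_of_ne (hab i j).symm _,
      by rw [hPb]; exact Pi.single_eq_of_ne (fun h => hij (ha h).symm) _,
      by rw [hPb]; exact Pi.single_eq_of_ne (hab j i) _⟩) d hd
  refine ⟨(isomEquiv Q).symm g, matrix_eq_of_mulVec fun x => ?_, by rw [MulEquiv.apply_symm_apply, hg]⟩
  rw [isomEquiv_symm_mulVec, hgx]
  funext z
  simp only [Pi.add_apply, Finset.sum_apply, Pi.smul_apply, smul_eq_mul, hPa, hPb, mulVec_diagonal,
    Pi.single_apply, mul_ite, mul_one, mul_zero]
  by_cases hza : ∃ j, z = a j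
  · obtain ⟨j, rfl⟩ := hza
    rw [Finset.sum_eq_single j (fun i _ hi => by
      rw [if_neg (fun h => hi (ha h).symm), if_neg (hab j i), add_zero])
      (fun h => absurd (Finset.mem_univ j) h), if_pos rfl, if_neg (hab j j), hDa]
    ring
  by_cases hzb : ∃ j, z = b j
  · obtain ⟨j, rfl⟩ := hzb
    rw [Finset.sum_eq_single j (fun i _ hi => by
      rw [if_neg (hab i j).symm, if_neg (fun h => hi (hb h).symm), add_zero])
      (fun h => absurd (Finset.mem_univ j) h), if_neg (hab j j).symm, if_pos rfl, hDb]
    ring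
  push Not at hza hzb
  rw [hD1 z fun j => ⟨hza j, hzb j⟩, Finset.sum_eq_zero (fun i _ => by
    rw [if_neg (hza i), if_neg (hzb i), add_zero]), add_zero, one_mul]

theorem exists_diag_mem_Omega_iff {Q : QuadraticForm F (ι → F)} (hQ : (polarBilin Q).Nondegenerate)
    (hR : reflGroup Q = orth Q) {k : ℕ} (a b : Fin k → ι)
    (hinj : Function.Injective (Sum.elim a b))
    (hQa : ∀ j, Q (Pi.single (a j) 1) = 0) (hQb : ∀ j, Q (Pi.single (b j) 1) = 0)
    (hPa : ∀ x j, polar Q x (Pi.single (a j) 1) = x (b j))
    (hPb : ∀ x j, polar Q x (Pi.single (b j) 1) = x (a j))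
    (d : Fin k → F) (hd : ∏ i, d i ≠ 0) (D : ι → F) (hDa : ∀ j, D (a j) = d j)
    (hDb : ∀ j, D (b j) = (d j)⁻¹) (hD1 : ∀ z, (∀ j, z ≠ a j ∧ z ≠ b j) → D z = 1) :
    (∃ g : Cfsg.isometryGroup F ⇑Q, g ∈ Cfsg.Omega F ⇑Q ∧
      ((g : Matrix.GeneralLinearGroup ι F) : Matrix ι ι F) = diagonal D) ↔ IsSquare (∏ i, d i) := by
  obtain ⟨g, hg, hgi⟩ := exists_diag_invariant hQ hR a b hinj hQa hQb hPa hPb d hd D hDa hDb hD1
  have hmem : g ∈ Cfsg.Omega F ⇑Q ↔ IsSquare (∏ i, d i) := by
    rw [mem_Omega_iff_invariant hQ hR, hgi, ← sqMk_eq_one_iff hd]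
    exact ⟨fun h => congrArg Prod.fst h, fun h => Prod.ext h rfl⟩
  constructor
  · rintro ⟨g', hg', e⟩
    have : g' = g := Subtype.ext (Units.ext (e.trans hg.symm))
    exact hmem.1 (this ▸ hg')
  · exact fun h => ⟨g, hmem.2 h, hg⟩

omit [Finite F] in
theorem quadFormPlus_single (m : ℕ) (z : Fin m ⊕ Fin m) :
    Cfsg.quadFormPlus m F (Pi.single z 1) = 0 := by
  cases z <;> simp [Cfsg.quadFormPlus]

omit [Finite F] in
theorem polar_plus (m : ℕ) (x y : Fin m ⊕ Fin m → F) :
    polar (matQuad (plusMat m F)) x y =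
      ∑ i, (x (.inl i) * y (.inr i) + x (.inr i) * y (.inl i)) := by
  rw [coe_matQuad_plus]
  simp only [polar, Cfsg.quadFormPlus, Pi.add_apply]
  rw [← Finset.sum_sub_distrib, ← Finset.sum_sub_distrib]
  exact Finset.sum_congr rfl fun i _ => by ring

omit [Finite F] in
/-- `diag(A, A⁻ᵀ)` is an isometry of the plus form. -/
theorem levi_isometry {m : ℕ} (A : GL (Fin m) F) (x : Fin m ⊕ Fin m → F) :
    Cfsg.quadFormPlus m F ((fromBlocks (A : Matrix (Fin m) (Fin m) F) 0 0
      ((A : Matrix (Fin m) (Fin m) F)⁻¹)ᵀ) *ᵥ x) = Cfsg.quadFormPlus m F x := by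
  have hA : IsUnit (A : Matrix (Fin m) (Fin m) F).det := (Matrix.isUnit_iff_isUnit_det _).1 A.isUnit
  have key : ∀ u v : Fin m → F, ((A : Matrix (Fin m) (Fin m) F) *ᵥ u) ⬝ᵥ
      (((A : Matrix (Fin m) (Fin m) F)⁻¹)ᵀ *ᵥ v) = u ⬝ᵥ v := fun u v => by
    rw [dotProduct_mulVec, vecMul_transpose, mulVec_mulVec, nonsing_inv_mul _ hA, one_mulVec]
  have e : ∀ y : Fin m ⊕ Fin m → F, Cfsg.quadFormPlus m F y = (y ∘ Sum.inl) ⬝ᵥ (y ∘ Sum.inr) :=
    fun y => rfl
  rw [e, e, fromBlocks_mulVec]
  simp only [Sum.elim_comp_inl, Sum.elim_comp_inr, zero_mulVec, add_zero, zero_add]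
  exact key _ _

/-- `diag(A, A⁻ᵀ)` in the isometry group of the plus form. -/
noncomputable def leviHom (m : ℕ) (F : Type*) [Field F] :
    GL (Fin m) F →* orth (matQuad (plusMat m F)) where
  toFun A := ⟨glEquiv ⟨fromBlocks (A : Matrix (Fin m) (Fin m) F) 0 0
      ((A : Matrix (Fin m) (Fin m) F)⁻¹)ᵀ,
    fromBlocks ((A⁻¹ : GL (Fin m) F) : Matrix (Fin m) (Fin m) F) 0 0
      (((A⁻¹ : GL (Fin m) F) : Matrix (Fin m) (Fin m) F)⁻¹)ᵀ,
    by simp [fromBlocks_multiply, ← Matrix.transpose_mul, ← Matrix.coe_units_inv],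
    by simp [fromBlocks_multiply, ← Matrix.transpose_mul, ← Matrix.coe_units_inv]⟩,
    fun v => by
      rw [glEquiv_apply, coe_matQuad_plus]
      exact levi_isometry A v⟩
  map_one' := Subtype.ext (LinearEquiv.ext fun v => by simp)
  map_mul' A B := Subtype.ext (LinearEquiv.ext fun v => by
    simp [Matrix.mulVec_mulVec, fromBlocks_multiply, Matrix.mul_inv_rev, Matrix.transpose_mul])

theorem leviHom_apply (m : ℕ) (A : GL (Fin m) F) (v : Fin m ⊕ Fin m → F) :
    (leviHom m F A : (Fin m ⊕ Fin m → F) ≃ₗ[F] (Fin m ⊕ Fin m → F)) v =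
      (fromBlocks (A : Matrix (Fin m) (Fin m) F) 0 0
        ((A : Matrix (Fin m) (Fin m) F)⁻¹)ᵀ) *ᵥ v := by
  simp [leviHom]

/-- The invariant of `diag(A, A⁻ᵀ)` is the square class of `det A`. -/
theorem orthInvariant_levi {m : ℕ} (hfield : m ≠ 2 ∨ ∃ a : F, a ≠ 0 ∧ a ≠ 1)
    (hQ : (polarBilin (matQuad (plusMat m F))).Nondegenerate)
    (hR : reflGroup (matQuad (plusMat m F)) = orth (matQuad (plusMat m F))) (A : GL (Fin m) F) :
    orthInvariant hQ hR (leviHom m F A) =
      (sqMk (Matrix.GeneralLinearGroup.det A).ne_zero, 1) := by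
  set f := (orthInvariant hQ hR).comp (leviHom m F)
  show f A = _
  let P : Matrix (Fin m) (Fin m) F → Prop := fun M =>
    ∀ A : GL (Fin m) F, (A : Matrix (Fin m) (Fin m) F) = M →
      f A = (sqMk (Matrix.GeneralLinearGroup.det A).ne_zero, 1)
  have hone : ∀ {A : GL (Fin m) F}, (A : Matrix (Fin m) (Fin m) F).det = 1 →
      sqMk (Matrix.GeneralLinearGroup.det A).ne_zero = 1 := fun {A} h =>
    (sqMk_eq_one_iff _).2 (by rw [Matrix.GeneralLinearGroup.val_det_apply, h]; exact IsSquare.one)
  suffices P (A : Matrix (Fin m) (Fin m) F) from this A rfl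
  refine Matrix.diagonal_transvection_induction_of_det_ne_zero P _
    (Matrix.GeneralLinearGroup.det A).ne_zero (fun D hD => ?_) (fun t => ?_) ?_
  · intro A hA
    have hd : ∏ i, D i ≠ 0 := by rwa [det_diagonal] at hD
    obtain ⟨g, hg, hgi⟩ := exists_diag_invariant hQ hR (Sum.inl : Fin m → Fin m ⊕ Fin m) Sum.inr
      (fun x y h => by cases x <;> cases y <;> simp_all)
      (fun j => by rw [coe_matQuad_plus]; exact quadFormPlus_single m _)
      (fun j => by rw [coe_matQuad_plus]; exact quadFormPlus_single m _)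
      (fun x j => by simp [polar_plus, Pi.single_apply])
      (fun x j => by simp [polar_plus, Pi.single_apply])
      D hd (Sum.elim D fun i => (D i)⁻¹) (fun j => rfl) (fun j => rfl)
      (fun z hz => by cases z with
        | inl i => exact absurd rfl (hz i).1
        | inr i => exact absurd rfl (hz i).2)
    have hinv : (diagonal D)⁻¹ = diagonal fun i => (D i)⁻¹ := by
      refine Matrix.inv_eq_right_inv ?_
      rw [diagonal_mul_diagonal, ← diagonal_one]
      congr 1
      funext i
      exact mul_inv_cancel₀ fun h => hd (Finset.prod_eq_zero (Finset.mem_univ i) h)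
    have : leviHom m F A = isomEquiv _ g := Subtype.ext (LinearEquiv.ext fun v => by
      rw [leviHom_apply, isomEquiv_apply, hg, hA, hinv, diagonal_transpose, fromBlocks_diagonal])
    show orthInvariant hQ hR (leviHom m F A) = _
    rw [this, hgi]
    congr 1
    simp only [Matrix.GeneralLinearGroup.val_det_apply, hA, det_diagonal]
  · intro A hA
    obtain ⟨i, j, hij, c⟩ := t
    have hdet : (A : Matrix (Fin m) (Fin m) F).det = 1 := by
      rw [hA]; exact det_transvection_of_ne i j hij c
    rw [hone hdet]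
    let T : (a b : Fin m) → a ≠ b → F → GL (Fin m) F := fun a b hab x =>
      ⟨transvection a b x, transvection a b (-x),
        by rw [transvection_mul_transvection_same a b hab, add_neg_cancel, transvection_zero],
        by rw [transvection_mul_transvection_same a b hab, neg_add_cancel, transvection_zero]⟩
    obtain rfl : A = T i j hij c := Units.ext hA
    rcases hfield with hm | ⟨a, ha0, ha1⟩
    · obtain ⟨l, hli, hlj⟩ : ∃ l : Fin m, l ≠ i ∧ l ≠ j := by
        by_contra hc
        push Not at hc
        have hsub : (Finset.univ : Finset (Fin m)) ⊆ {i, j} := fun l _ => by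
          rcases em (l = i) with h | h
          · simp [h]
          · simp [hc l h]
        have h2' := Finset.card_le_card hsub
        rw [Finset.card_univ, Fintype.card_fin, Finset.card_pair hij] at h2'
        have := i.isLt
        have := j.isLt
        have : (i : ℕ) ≠ j := fun h => hij (Fin.ext h)
        omega
      have e : T i j hij c =
          T i l hli.symm c * T l j hlj 1 * (T i l hli.symm c)⁻¹ * (T l j hlj 1)⁻¹ := by
        refine Units.ext ?_
        show transvection i j c = transvection i l c * transvection l j 1 *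
          transvection i l (-c) * transvection l j (-1)
        simp [transvection, Matrix.add_mul, Matrix.mul_add, hij, hij.symm, hli, hli.symm, hlj,
          hlj.symm]
        ext p r
        simp only [Matrix.add_apply, Matrix.single_apply]
        split_ifs <;> ring
      rw [e, map_mul, map_mul, map_mul, map_inv, map_inv, mul_right_comm (f _) (f _),
        mul_inv_cancel, one_mul, mul_inv_cancel]
      rfl
    · let D : GL (Fin m) F := ⟨diagonal (Function.update 1 i a),
        diagonal (Function.update 1 i a⁻¹),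
        by rw [diagonal_mul_diagonal, ← diagonal_one]; congr 1; funext l
           by_cases h : l = i <;> simp [h, ha0],
        by rw [diagonal_mul_diagonal, ← diagonal_one]; congr 1; funext l
           by_cases h : l = i <;> simp [h, ha0]⟩
      have e : T i j hij c = D * T i j hij (c / (a - 1)) * D⁻¹ * (T i j hij (c / (a - 1)))⁻¹ := by
        refine Units.ext ?_
        show transvection i j c = diagonal (Function.update 1 i a) * transvection i j (c / (a - 1)) *
          diagonal (Function.update 1 i a⁻¹) * transvection i j (-(c / (a - 1)))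
        have ha : a - 1 ≠ 0 := sub_ne_zero.2 ha1
        have hconj : diagonal (Function.update 1 i a) * transvection i j (c / (a - 1)) *
            diagonal (Function.update 1 i a⁻¹) = transvection i j (a * (c / (a - 1))) := by
          have h1 : ∀ l, Function.update (1 : Fin m → F) i a l * Function.update (1 : Fin m → F) i a⁻¹ l = 1 :=
            fun l => by
              rcases em (l = i) with h | h
              · simp [h, ha0]
              · simp [Function.update_of_ne h]
          ext p r
          rw [mul_diagonal, diagonal_mul, transvection, transvection, Matrix.add_apply,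
            Matrix.add_apply, Matrix.single_apply, Matrix.single_apply, Matrix.one_apply]
          rcases em (i = p ∧ j = r) with ⟨rfl, rfl⟩ | h
          · rw [Function.update_self, Function.update_of_ne hij.symm]
            simp [hij]
          · simp only [if_neg h, add_zero]
            rcases em (p = r) with rfl | hpr
            · rw [if_pos rfl, mul_one, h1]
            · simp [hpr]
        rw [hconj, transvection_mul_transvection_same i j hij]
        congr 1
        field_simp
        ring
      rw [e, map_mul, map_mul, map_mul, map_inv, map_inv, mul_right_comm (f _) (f _),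
        mul_inv_cancel, one_mul, mul_inv_cancel]
      rfl
  · intro M N hM hN hPM hPN A hA
    let M' := Matrix.GeneralLinearGroup.mkOfDetNeZero M hM
    let N' := Matrix.GeneralLinearGroup.mkOfDetNeZero N hN
    obtain rfl : A = M' * N' := Units.ext hA
    rw [map_mul, hPM M' rfl, hPN N' rfl, Prod.mk_mul_mk, one_mul, ← sqMk_mul]
    simp only [map_mul, Units.val_mul]

end CfsgLib.Geometry
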