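import Cfsg.Agent.Lib.Geometry.PGOQuot
import Cfsg.Agent.Lib.Geometry.SimClassesMinus
import Cfsg.Agent.Lib.Geometry.OmegaDiag

/-! The standard plus and minus forms: standard similarities and their invariants. -/

set_option autoImplicit false

namespace CfsgLib.Geometry

open Matrix QuadraticMap

variable {ι : Type} [Fintype ι] [DecidableEq ι] {F : Type*} [Field F]

/-- Everything the standard forms contribute to the structure theorems. -/
structure SimData (M : Matrix ι ι F) (k : ℕ) [Finite F] (P : Matrix ι ι F → Prop) (odd : Prop) :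
    Prop where
  hyp : SimHyp M k
  preserves : ∀ g : Cfsg.Geo.quadSimilarityGroup ⇑(matQuad M),
    P ((g : GL ι F) : Matrix ι ι F) ↔ hyp.chi g = 1
  witness : ∃ (ν : Fˣ) (g₀ : Cfsg.Geo.quadSimilarityGroup ⇑(matQuad M))
    (h₀ : Cfsg.isometryGroup F ⇑(matQuad M)),
    ¬ IsSquare (ν : F) ∧ hyp.mult g₀ = ν ∧ hyp.chi g₀ = 1 ∧
    g₀ * g₀ = simScalar (matQuad M) ν * simIso _ h₀ ∧
    ((isoInv hyp.nondeg hyp.two_ne h₀).1 ≠ 1 ↔ odd)

variable [Finite F] {M : Matrix ι ι F} {k : ℕ} {P : Matrix ι ι F → Prop} {odd : Prop}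
  {Q : (ι → F) → F}

theorem SimData.hom_pso (D : SimData M k P odd) (hQ : ⇑(matQuad M) = Q) :
    ∃ φ : ↥(Cfsg.pgoAut F Q) →* Multiplicative (ZMod 2 × ZMod 2), Function.Surjective φ ∧
      φ.ker = (Cfsg.psoAut F Q).subgroupOf (Cfsg.pgoAut F Q) := by
  subst hQ
  obtain ⟨ν, g₀, h₀, hν, hg, hc, -⟩ := D.witness
  exact D.hyp.exists_hom_pso hν g₀ hg hc

theorem SimData.relIndex_pso (D : SimData M k P odd) (hQ : ⇑(matQuad M) = Q) :
    (¬ IsSquare (M + Mᵀ).det →
      (Cfsg.Inn (Cfsg.POmega F Q)).relIndex (Cfsg.psoAut F Q) = 1) ∧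
    (IsSquare (M + Mᵀ).det →
      (Cfsg.Inn (Cfsg.POmega F Q)).relIndex (Cfsg.psoAut F Q) = 2) := by
  subst hQ
  obtain ⟨h1, h2⟩ := D.hyp.relIndex_psoAut
  exact ⟨fun h => by rw [h1 h, Subgroup.relIndex_self], h2⟩

theorem SimData.hom_inn (D : SimData M k P odd) (hQ : ⇑(matQuad M) = Q) :
    (¬ IsSquare (M + Mᵀ).det →
      ∃ φ : ↥(Cfsg.pgoAut F Q) →* Multiplicative (ZMod 2 × ZMod 2), Function.Surjective φ ∧
        φ.ker = (Cfsg.Inn (Cfsg.POmega F Q)).subgroupOf (Cfsg.pgoAut F Q)) ∧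
    (IsSquare (M + Mᵀ).det →
      ∃ φ : ↥(Cfsg.pgoAut F Q) →* DihedralGroup 4, Function.Surjective φ ∧
        φ.ker = (Cfsg.Inn (Cfsg.POmega F Q)).subgroupOf (Cfsg.pgoAut F Q)) := by
  subst hQ
  obtain ⟨ν, g₀, h₀, hν, hg, hc, -⟩ := D.witness
  refine ⟨fun h => ?_, fun h => D.hyp.exists_hom_dihedral h hν g₀ hg hc⟩
  rw [← D.hyp.relIndex_psoAut.1 h]
  exact D.hyp.exists_hom_pso hν g₀ hg hc

/-- The subgroup generated by similarities with a property. -/
abbrev simSub (Q : (ι → F) → F) (P : Matrix ι ι F → Prop) : Subgroup (MulAut (Cfsg.POmega F Q)) :=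
  Cfsg.autSubgroupOf fun β => ∃ g : GL ι F, g ∈ Cfsg.Geo.quadSimilarityGroup (F := F) Q ∧
    P (g : Matrix ι ι F) ∧ Cfsg.IsInducedBySemilinearPOmega Q g (RingEquiv.refl F) β

theorem SimData.simSub_eq (D : SimData M k P odd) :
    simSub ⇑(matQuad M) P = D.hyp.chi.ker.map (simAut ⇑(matQuad M)) :=
  autSubgroupOf_sim_eq _ fun β => ⟨fun ⟨g, hg, hP, h⟩ =>
      ⟨g, hg, (D.preserves ⟨g, hg⟩).1 hP, h⟩,
    fun ⟨g, hg, hK, h⟩ => ⟨g, hg, (D.preserves ⟨g, hg⟩).2 hK, h⟩⟩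

theorem SimData.hom_inndiag (D : SimData M k P odd) (hQ : ⇑(matQuad M) = Q) :
    (¬ IsSquare (M + Mᵀ).det → ∃ φ : ↥(simSub Q P) →* Multiplicative (ZMod 2), Function.Surjective φ ∧
      φ.ker = (Cfsg.Inn (Cfsg.POmega F Q)).subgroupOf (simSub Q P)) ∧
    (IsSquare (M + Mᵀ).det → odd →
      ∃ φ : ↥(simSub Q P) →* Multiplicative (ZMod 4), Function.Surjective φ ∧
        φ.ker = (Cfsg.Inn (Cfsg.POmega F Q)).subgroupOf (simSub Q P)) ∧
    (IsSquare (M + Mᵀ).det → ¬ odd →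
      ∃ φ : ↥(simSub Q P) →* Multiplicative (ZMod 2 × ZMod 2), Function.Surjective φ ∧
        φ.ker = (Cfsg.Inn (Cfsg.POmega F Q)).subgroupOf (simSub Q P)) := by
  subst hQ
  obtain ⟨ν, g₀, h₀, hν, hg, hc, hh, ho⟩ := D.witness
  obtain ⟨h1, h2, h3⟩ := D.hyp.inndiag_quot hν g₀ hg hc h₀ hh D.simSub_eq
  exact ⟨h1, fun hd h => h2 hd (ho.2 h), fun hd h => h3 hd (not_not.1 fun h' => h (ho.1 h'))⟩

omit [Finite F] in
theorem two_ne_zero_of_odd [Fintype F] (hodd : Odd (Fintype.card F)) : (2 : F) ≠ 0 :=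
  two_ne_zero_of_odd_card rfl hodd

omit [Finite F] in
theorem exists_nonsquare_unit [Fintype F] (h2 : (2 : F) ≠ 0) : ∃ ν : Fˣ, ¬ IsSquare (ν : F) := by
  obtain ⟨c, hc⟩ := FiniteField.exists_nonsquare (F := F) (fun h => h2 (by
    haveI := ringChar.of_eq h
    exact CharTwo.two_eq_zero))
  exact ⟨Units.mk0 c fun h => hc (h ▸ IsSquare.zero), hc⟩

omit [Finite F] in
theorem isSquare_inv_pow_iff {ν : Fˣ} (hν : ¬ IsSquare (ν : F)) (m : ℕ) :
    IsSquare (∏ _i : Fin m, ((ν : F))⁻¹) ↔ Even m := by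
  rw [Finset.prod_const, Finset.card_univ, Fintype.card_fin]
  refine ⟨fun h => by_contra fun he => hν ?_, fun h => h.isSquare_pow _⟩
  obtain ⟨j, rfl⟩ := Nat.not_even_iff_odd.1 he
  rw [pow_succ, pow_mul'] at h
  have h' := h.div (⟨((ν : F)⁻¹) ^ j, _root_.sq _⟩ : IsSquare (((ν : F)⁻¹ ^ j) ^ 2))
  rw [mul_div_cancel_left₀ _ (by simp)] at h'
  simpa using h'.inv

omit [Finite F] in
/-- The determinant of the plus form is a square unless `m` is odd and `q ≡ 3 mod 4`. -/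
theorem isSquare_det_plus_iff [Fintype F] (m : ℕ) :
    IsSquare (plusMat m F + (plusMat m F)ᵀ).det ↔ ¬ (Odd m ∧ Fintype.card F % 4 = 3) := by
  rw [det_plus_gram]
  rcases Nat.even_or_odd m with h | h
  · rw [h.neg_one_pow]
    exact iff_of_true IsSquare.one fun h' => Nat.not_odd_iff_even.2 h h'.1
  · rw [h.neg_one_pow, FiniteField.isSquare_neg_one_iff]
    exact ⟨fun h' h'' => h' h''.2, fun h' h'' => h' ⟨h, h''⟩⟩

omit [Finite F] in
/-- The determinant of the minus form is a square iff `m` is even and `q ≡ 3 mod 4`. -/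
theorem isSquare_det_minus_iff [Fintype F] (h2 : (2 : F) ≠ 0) (m : ℕ) {a b : F}
    (hab : ∀ z₁ z₂ : F, z₁ ^ 2 + a * z₁ * z₂ + b * z₂ ^ 2 = 0 → z₁ = 0 ∧ z₂ = 0) :
    IsSquare (minusMat m F a b + (minusMat m F a b)ᵀ).det ↔
      (Even m ∧ Fintype.card F % 4 = 3) := by
  have hns := (binAniso_discr hab).2 h2
  have hd0 : a * a - 4 * b ≠ 0 := fun h => hns (h ▸ IsSquare.zero)
  rw [det_minus_gram, show (-1 : F) ^ m * (4 * b - a * a) = (-1) ^ (m + 1) * (a * a - 4 * b) by ring]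
  have key : ∀ e : F, e ≠ 0 → (IsSquare (e * (a * a - 4 * b)) ↔ ¬ IsSquare e) := fun e he =>
    ⟨fun h he' => hns (by simpa [he] using h.div he'), fun h => isSquare_mul_of_not h hns⟩
  rw [key _ (pow_ne_zero _ (neg_ne_zero.2 one_ne_zero))]
  rcases Nat.even_or_odd m with h | h
  · rw [h.add_one.neg_one_pow, FiniteField.isSquare_neg_one_iff, not_not]
    exact ⟨fun h' => ⟨h, h'⟩, fun h' => h'.2⟩
  · rw [h.add_one.neg_one_pow]
    exact iff_of_false (fun h' => h' IsSquare.one) fun h' => Nat.not_odd_iff_even.2 h'.1 h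

theorem simData_plus (h2 : (2 : F) ≠ 0) {m : ℕ} (hm : 3 ≤ m) :
    SimData (plusMat m F) m
      (fun A => Cfsg.PreservesSingularClasses (Cfsg.quadFormPlus m F) A) (Odd m) := by
  haveI := Fintype.ofFinite F
  have D : SimHyp (plusMat m F) m := ⟨h2, by rw [det_plus_gram]; simp,
    by rw [Fintype.card_sum, Fintype.card_fin, two_mul], hm⟩
  refine ⟨D, fun g => by
    rw [← coe_matQuad_plus]; exact preserves_plus_iff h2 D.ne g, ?_⟩
  obtain ⟨ν, hν⟩ := exists_nonsquare_unit h2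
  let d : Fin m ⊕ Fin m → F := Sum.elim (fun _ => 1) fun _ => (ν : F)
  have hd : (diagonal d).det = (ν : F) ^ m := by
    rw [det_diagonal, Fintype.prod_sum_type]; simp [d]
  let G := Matrix.GeneralLinearGroup.mkOfDetNeZero (diagonal d) (by rw [hd]; simp)
  have hG : ∀ v, matQuad (plusMat m F) ((G : Matrix (Fin m ⊕ Fin m) (Fin m ⊕ Fin m) F) *ᵥ v) =
      (ν : F) * matQuad (plusMat m F) v := fun v => by
    rw [coe_matQuad_plus]
    show Cfsg.quadFormPlus m F (diagonal d *ᵥ v) = _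
    simp only [Cfsg.quadFormPlus, mulVec_diagonal, d, Sum.elim_inl, Sum.elim_inr, Finset.mul_sum]
    exact Finset.sum_congr rfl fun i _ => by ring
  let g₀ : Cfsg.Geo.quadSimilarityGroup ⇑(matQuad (plusMat m F)) := ⟨G, ν, hG⟩
  have hmult : D.mult g₀ = ν := Units.ext (simMult_eq D.ne g₀ hG)
  obtain ⟨h₀, hh₀, hi⟩ := exists_diag_invariant (Q := matQuad (plusMat m F)) D.nondeg
    (reflGroup_eq_orth_of_two_ne D.nondeg h2) (k := m) Sum.inl Sum.inr
    (fun x y h => by cases x <;> cases y <;> cases h <;> rfl)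
    (fun j => by rw [coe_matQuad_plus, quadFormPlus_single])
    (fun j => by rw [coe_matQuad_plus, quadFormPlus_single])
    (fun x j => by rw [polar_plus]; simp [Pi.single_apply])
    (fun x j => by rw [polar_plus]; simp [Pi.single_apply])
    (fun _ => (ν : F)⁻¹) (by simp) (Sum.elim (fun _ => (ν : F)⁻¹) fun _ => ((ν : F)⁻¹)⁻¹)
    (fun j => rfl) (fun j => rfl)
    (fun z hz => by
      rcases z with z | z
      · exact absurd rfl (hz z).1
      · exact absurd rfl (hz z).2)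
  refine ⟨ν, g₀, h₀, hν, hmult, (simChi_eq_one_iff D.ne m g₀).2 (by
    rw [show (simMult D.ne g₀ : F) = (ν : F) from congrArg Units.val hmult]; exact hd),
    Subtype.ext (Units.ext ?_), ?_⟩
  · show diagonal d * diagonal d =
      ((simScalar (matQuad (plusMat m F)) ν : GL (Fin m ⊕ Fin m) F) :
        Matrix (Fin m ⊕ Fin m) (Fin m ⊕ Fin m) F) *
      ((h₀ : GL (Fin m ⊕ Fin m) F) : Matrix (Fin m ⊕ Fin m) (Fin m ⊕ Fin m) F)
    rw [simScalar_coe, hh₀, smul_one_eq_diagonal, diagonal_mul_diagonal, diagonal_mul_diagonal]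
    congr 1
    funext z
    rcases z with z | z <;> simp [d]
  · show ((orthInvariant D.nondeg _ (isomEquiv _ h₀)).1 ≠ 1) ↔ Odd m
    rw [hi, ← Nat.not_even_iff_odd, ← isSquare_inv_pow_iff hν m, ne_eq, sqMk_eq_one_iff]

theorem simData_minus {m : ℕ} {a b : F} (h2 : (2 : F) ≠ 0) (hm : 2 ≤ m)
    (hab : ∀ z₁ z₂ : F, z₁ ^ 2 + a * z₁ * z₂ + b * z₂ ^ 2 = 0 → z₁ = 0 ∧ z₂ = 0) :
    SimData (minusMat m F a b) (m + 1)
      (fun A => Cfsg.PreservesSingularClassesMinus m a b A) (Even m) := by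
  haveI := Fintype.ofFinite F
  have D : SimHyp (minusMat m F a b) (m + 1) := ⟨h2, by
    rw [det_minus_gram]; exact mul_ne_zero (by simp) (binAniso_discr hab).1,
    by simp only [Fintype.card_sum, Fintype.card_fin]; omega, by omega⟩
  refine ⟨D, fun g => preserves_minus_iff h2 hab D.ne g, ?_⟩
  obtain ⟨ν, hν⟩ := exists_nonsquare_unit h2
  -- a plane element of norm `ν`
  obtain ⟨z, hz⟩ := exists_represents (Q := matQuad !![1, a; 0, b])
    (nondegenerate_matQuad (by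
      rw [det_fin_two]; simp
      exact fun h => (binAniso_discr hab).1 (by linear_combination h)))
    (by simp) (ν : F)
  obtain ⟨x, y, hxy⟩ : ∃ x y : F, x ^ 2 + a * x * y + b * y ^ 2 = (ν : F) := ⟨z 0, z 1, by
    rw [← hz, matQuad_apply]
    simp [Matrix.mulVec, dotProduct, Fin.sum_univ_two]
    ring⟩
  let T : Matrix (Fin 2) (Fin 2) F := !![x, -(b * y); y, x + a * y]
  let d : Fin m ⊕ Fin m → F := Sum.elim (fun _ => 1) fun _ => (ν : F)
  let A := fromBlocks (diagonal d) 0 0 T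
  have hd : A.det = (ν : F) ^ (m + 1) := by
    rw [det_fromBlocks_zero₁₂, det_diagonal, det_fin_two, Fintype.prod_sum_type]
    simp [d, T]
    rw [pow_succ]
    congr 1
    linear_combination hxy
  let G := Matrix.GeneralLinearGroup.mkOfDetNeZero A (by rw [hd]; simp)
  have hA : ∀ (v : (Fin m ⊕ Fin m) ⊕ Fin 2 → F), A *ᵥ v =
      Sum.elim (fun i => d i * v (.inl i))
        ![x * v (.inr 0) - b * y * v (.inr 1), y * v (.inr 0) + (x + a * y) * v (.inr 1)] := fun v => by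
    funext z
    rcases z with z | z
    · simp [A, fromBlocks_mulVec, mulVec_diagonal]
    · fin_cases z <;> simp [A, T, fromBlocks_mulVec, Matrix.mulVec, dotProduct, Fin.sum_univ_two]
      ring
  have hG : ∀ v, matQuad (minusMat m F a b) ((G : Matrix _ _ F) *ᵥ v) =
      (ν : F) * matQuad (minusMat m F a b) v := fun v => by
    rw [coe_matQuad_minus]
    show Cfsg.quadFormMinus m F a b (A *ᵥ v) = _
    rw [hA]
    simp only [Cfsg.quadFormMinus, d, Sum.elim_inl, Sum.elim_inr, Matrix.cons_val_zero,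
      Matrix.cons_val_one, Matrix.cons_val_fin_one, mul_add, Finset.mul_sum]
    congr 1
    · exact Finset.sum_congr rfl fun i _ => by ring
    · rw [← hxy]; ring
  let g₀ : Cfsg.Geo.quadSimilarityGroup ⇑(matQuad (minusMat m F a b)) := ⟨G, ν, hG⟩
  have hmult : D.mult g₀ = ν := Units.ext (simMult_eq D.ne g₀ hG)
  have hR := reflGroup_eq_orth_of_two_ne D.nondeg h2
  -- polar values
  have hpol : ∀ v w : (Fin m ⊕ Fin m) ⊕ Fin 2 → F, polar (matQuad (minusMat m F a b)) v w =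
      (∑ i, (v (.inl (.inl i)) * w (.inl (.inr i)) + v (.inl (.inr i)) * w (.inl (.inl i)))) +
      (2 * v (.inr 0) * w (.inr 0) + a * (v (.inr 0) * w (.inr 1) + v (.inr 1) * w (.inr 0)) +
        2 * b * v (.inr 1) * w (.inr 1)) := fun v w => by
    rw [coe_matQuad_minus]
    simp only [polar, Cfsg.quadFormMinus, Pi.add_apply]
    have : ∑ i : Fin m, (v (.inl (.inl i)) + w (.inl (.inl i))) * (v (.inl (.inr i)) + w (.inl (.inr i))) =
        (∑ i, v (.inl (.inl i)) * v (.inl (.inr i))) + (∑ i, w (.inl (.inl i)) * w (.inl (.inr i))) +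
        ∑ i, (v (.inl (.inl i)) * w (.inl (.inr i)) + v (.inl (.inr i)) * w (.inl (.inl i))) := by
      rw [← Finset.sum_add_distrib, ← Finset.sum_add_distrib]
      exact Finset.sum_congr rfl fun i _ => by ring
    rw [this]; ring
  obtain ⟨L, hL, hLi⟩ := exists_diag_invariant (Q := matQuad (minusMat m F a b)) D.nondeg
    hR (k := m) (fun i => Sum.inl (Sum.inl i)) (fun i => Sum.inl (Sum.inr i))
    (fun x y h => by cases x <;> cases y <;> cases h <;> rfl)
    (fun j => by rw [coe_matQuad_minus]; simp [Cfsg.quadFormMinus, Pi.single_apply])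
    (fun j => by rw [coe_matQuad_minus]; simp [Cfsg.quadFormMinus, Pi.single_apply])
    (fun v j => by rw [hpol]; simp [Pi.single_apply])
    (fun v j => by rw [hpol]; simp [Pi.single_apply])
    (fun _ => (ν : F)⁻¹) (by simp)
    (Sum.elim (Sum.elim (fun _ => (ν : F)⁻¹) fun _ => ((ν : F)⁻¹)⁻¹) fun _ => 1)
    (fun j => rfl) (fun j => rfl)
    (fun z hz => by
      rcases z with (z | z) | z
      · exact absurd rfl (hz z).1
      · exact absurd rfl (hz z).2
      · rfl)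
  -- the plane part
  let u : (Fin m ⊕ Fin m) ⊕ Fin 2 → F := Sum.elim 0 ![x, y]
  let e : (Fin m ⊕ Fin m) ⊕ Fin 2 → F := Sum.elim 0 ![1, 0]
  have hu : matQuad (minusMat m F a b) u = (ν : F) := by
    rw [coe_matQuad_minus]; simp [Cfsg.quadFormMinus, u, hxy]
  have he : matQuad (minusMat m F a b) e = 1 := by
    rw [coe_matQuad_minus]; simp [Cfsg.quadFormMinus, e]
  have hu0 : matQuad (minusMat m F a b) u ≠ 0 := by rw [hu]; exact ν.ne_zero
  have he0 : matQuad (minusMat m F a b) e ≠ 0 := by rw [he]; exact one_ne_zero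
  let R := (isomEquiv (matQuad (minusMat m F a b))).symm
    (oRefl _ u hu0 * oRefl _ e he0)
  refine ⟨ν, g₀, L * R, hν, hmult, (simChi_eq_one_iff D.ne (m + 1) g₀).2 (by
    rw [show (simMult D.ne g₀ : F) = (ν : F) from congrArg Units.val hmult]; exact hd),
    Subtype.ext (Units.ext (matrix_eq_of_mulVec fun v => ?_)), ?_⟩
  · show (A * A) *ᵥ v =
      (((simScalar (matQuad (minusMat m F a b)) ν : GL ((Fin m ⊕ Fin m) ⊕ Fin 2) F) :
          Matrix ((Fin m ⊕ Fin m) ⊕ Fin 2) ((Fin m ⊕ Fin m) ⊕ Fin 2) F) *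
      (((L : GL ((Fin m ⊕ Fin m) ⊕ Fin 2) F) :
          Matrix ((Fin m ⊕ Fin m) ⊕ Fin 2) ((Fin m ⊕ Fin m) ⊕ Fin 2) F) *
        ((R : GL ((Fin m ⊕ Fin m) ⊕ Fin 2) F) :
          Matrix ((Fin m ⊕ Fin m) ⊕ Fin 2) ((Fin m ⊕ Fin m) ⊕ Fin 2) F))) *ᵥ v
    rw [simScalar_coe, smul_mul, one_mul, smul_mulVec, ← mulVec_mulVec, ← mulVec_mulVec, hL,
      isomEquiv_symm_mulVec]
    show A *ᵥ (A *ᵥ v) = _ • (diagonal _ *ᵥ (refl _ u hu0 (refl _ e he0 v)))
    simp only [refl_apply, hu, he, hpol, hA]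
    funext z
    have h2ν : (ν : F) ≠ 0 := ν.ne_zero
    rcases z with (z | z) | z
    · simp [mulVec_diagonal, u, e, d]
    · simp [mulVec_diagonal, u, e, d]
    · fin_cases z <;> simp [mulVec_diagonal, u, e] <;> field_simp <;> rw [← hxy] <;> ring
  · show ((orthInvariant D.nondeg hR (isomEquiv _ (L * R))).1 ≠ 1) ↔ Even m
    rw [map_mul, map_mul, MulEquiv.apply_symm_apply, map_mul, hLi, orthInvariant_oRefl,
      orthInvariant_oRefl, (sqMk_eq_one_iff he0).2 (he ▸ IsSquare.one)]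
    simp only [Prod.fst_mul, mul_one]
    rw [← sqMk_mul, ne_eq, sqMk_eq_one_iff, hu, ← isSquare_inv_pow_iff hν m]
    refine ⟨fun h => by_contra fun h' => h (isSquare_mul_of_not h' hν), fun h h' => hν ?_⟩
    have h0 : ∏ _i : Fin m, (ν : F)⁻¹ ≠ 0 := by simp
    have := h'.div h
    rwa [mul_div_cancel_left₀ _ h0] at this

end CfsgLib.Geometry
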