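import Cfsg.Agent.Lib.Geometry.SemiSimKernel
import Cfsg.Agent.Lib.Geometry.OmegaMem

/-! Multiplier and determinant character of similarities; the preimage of `Inn` in odd characteristic. -/

set_option autoImplicit false

namespace CfsgLib.Geometry

open Matrix QuadraticMap

theorem unit_eq_one_or_neg_one {F : Type*} [Field F] {u : Fˣ} (h : u ^ 2 = 1) : u = 1 ∨ u = -1 := by
  rcases sq_eq_one_iff.1 (show (u : F) ^ 2 = 1 by rw [← Units.val_pow_eq_pow_val, h, Units.val_one])
    with e | e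
  · exact Or.inl (Units.ext e)
  · exact Or.inr (Units.ext (by rw [e, Units.val_neg, Units.val_one]))

variable {ι : Type} [Fintype ι] [DecidableEq ι] {F : Type*} [Field F]

/-- The multiplier of a similarity. -/
noncomputable def simMult {Q : (ι → F) → F} (hne : ∃ v, Q v ≠ 0) :
    Cfsg.Geo.quadSimilarityGroup Q →* Fˣ where
  toFun g := Classical.choose g.2
  map_one' := by
    obtain ⟨v, hv⟩ := hne
    refine Units.ext (mul_right_cancel₀ hv ?_)
    have := Classical.choose_spec (1 : Cfsg.Geo.quadSimilarityGroup Q).2 v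
    rw [Units.val_one, one_mul]
    refine this.symm.trans ?_
    simp
  map_mul' a b := by
    obtain ⟨v, hv⟩ := hne
    refine Units.ext (mul_right_cancel₀ hv ?_)
    have := Classical.choose_spec (a * b).2 v
    refine this.symm.trans ?_
    show Q (((((a : GL ι F) * (b : GL ι F)) : GL ι F) : Matrix ι ι F) *ᵥ v) = _
    rw [Units.val_mul, Units.val_mul, ← mulVec_mulVec, Classical.choose_spec a.2,
      Classical.choose_spec b.2, mul_assoc]

theorem simMult_spec {Q : (ι → F) → F} (hne : ∃ v, Q v ≠ 0)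
    (g : Cfsg.Geo.quadSimilarityGroup Q) (v : ι → F) :
    Q (((g : GL ι F) : Matrix ι ι F) *ᵥ v) = (simMult hne g : F) * Q v :=
  Classical.choose_spec g.2 v

theorem simMult_eq {Q : (ι → F) → F} (hne : ∃ v, Q v ≠ 0)
    (g : Cfsg.Geo.quadSimilarityGroup Q) {c : F}
    (h : ∀ v, Q (((g : GL ι F) : Matrix ι ι F) *ᵥ v) = c * Q v) : (simMult hne g : F) = c := by
  obtain ⟨v, hv⟩ := hne
  exact mul_right_cancel₀ hv ((simMult_spec ⟨v, hv⟩ g v).symm.trans (h v))

theorem simMult_eq_one_iff {Q : (ι → F) → F} (hne : ∃ v, Q v ≠ 0)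
    (g : Cfsg.Geo.quadSimilarityGroup Q) :
    simMult hne g = 1 ↔ (g : GL ι F) ∈ Cfsg.isometryGroup F Q := by
  rw [mem_isometryGroup_iff]
  refine ⟨fun h v => by rw [simMult_spec hne, h, Units.val_one, one_mul], fun h => ?_⟩
  exact Units.ext (simMult_eq hne g fun v => by rw [h, Units.val_one, one_mul])

/-- A scalar among the similarities. -/
noncomputable def simScalar (Q : QuadraticForm F (ι → F)) :
    Fˣ →* Cfsg.Geo.quadSimilarityGroup ⇑Q where
  toFun c := ⟨Units.map (Matrix.scalar ι : F →+* Matrix ι ι F).toMonoidHom c, c * c, fun v => by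
    show Q (Matrix.scalar ι (c : F) *ᵥ v) = _
    rw [Matrix.scalar_apply, ← smul_one_eq_diagonal, smul_mulVec, one_mulVec, map_smul',
      Units.val_mul]⟩
  map_one' := Subtype.ext (map_one _)
  map_mul' a b := Subtype.ext (map_mul _ a b)

theorem simScalar_coe (Q : QuadraticForm F (ι → F)) (c : Fˣ) :
    ((simScalar Q c : GL ι F) : Matrix ι ι F) = (c : F) • 1 := by
  show Matrix.scalar ι (c : F) = _
  rw [Matrix.scalar_apply, smul_one_eq_diagonal]

theorem simScalar_mem_scalars (Q : QuadraticForm F (ι → F)) (c : Fˣ) :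
    (simScalar Q c : GL ι F) ∈ Cfsg.Geo.scalars ι F :=
  (Cfsg.Geo.mem_scalars_iff _).2 ⟨c, simScalar_coe Q c⟩

theorem simMult_scalar (Q : QuadraticForm F (ι → F)) (hne : ∃ v, Q v ≠ 0) (c : Fˣ) :
    simMult hne (simScalar Q c) = c * c :=
  Units.ext (simMult_eq hne _ fun v => by
    rw [simScalar_coe, smul_mulVec, one_mulVec, map_smul', Units.val_mul])

variable (M : Matrix ι ι F)

/-- Determinant over a power of the multiplier. -/
noncomputable def simChi (hne : ∃ v, matQuad M v ≠ 0) (k : ℕ) :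
    Cfsg.Geo.quadSimilarityGroup ⇑(matQuad M) →* Fˣ :=
  Matrix.GeneralLinearGroup.det.comp (Cfsg.Geo.quadSimilarityGroup ⇑(matQuad M)).subtype *
    ((powMonoidHom k).comp (simMult hne))⁻¹

variable {M}

theorem simChi_apply (hne : ∃ v, matQuad M v ≠ 0) (k : ℕ)
    (g : Cfsg.Geo.quadSimilarityGroup ⇑(matQuad M)) :
    simChi M hne k g = Matrix.GeneralLinearGroup.det (g : GL ι F) * (simMult hne g ^ k)⁻¹ := rfl

theorem simChi_eq_one_iff (hne : ∃ v, matQuad M v ≠ 0) (k : ℕ)
    (g : Cfsg.Geo.quadSimilarityGroup ⇑(matQuad M)) :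
    simChi M hne k g = 1 ↔
      ((g : GL ι F) : Matrix ι ι F).det = (simMult hne g : F) ^ k := by
  rw [simChi_apply, mul_inv_eq_one, Units.ext_iff, Matrix.GeneralLinearGroup.val_det_apply,
    Units.val_pow_eq_pow_val]

theorem gram_of_sim (hne : ∃ v, matQuad M v ≠ 0) (g : Cfsg.Geo.quadSimilarityGroup ⇑(matQuad M)) :
    ((g : GL ι F) : Matrix ι ι F)ᵀ * (M + Mᵀ) * ((g : GL ι F) : Matrix ι ι F) =
      (simMult hne g : F) • (M + Mᵀ) := by
  set A := ((g : GL ι F) : Matrix ι ι F) with hA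
  set c := (simMult hne g : F) with hc
  have hp : ∀ u v, polar (matQuad M) (A *ᵥ u) (A *ᵥ v) = c * polar (matQuad M) u v := fun u v => by
    simp only [polar, ← mulVec_add, hA, hc, simMult_spec hne, mul_sub]
  ext i j
  have := hp (Pi.single i 1) (Pi.single j 1)
  rw [polar_matQuad, polar_matQuad, mulVec_mulVec] at this
  simp only [mulVec_single_one, single_one_dotProduct] at this
  rw [Matrix.mul_assoc, Matrix.mul_apply, Matrix.smul_apply, smul_eq_mul]
  simp only [dotProduct, col_apply, transpose_apply] at this ⊢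
  exact this

theorem det_mul_det_of_sim (hd : (M + Mᵀ).det ≠ 0) (hne : ∃ v, matQuad M v ≠ 0)
    (g : Cfsg.Geo.quadSimilarityGroup ⇑(matQuad M)) :
    ((g : GL ι F) : Matrix ι ι F).det * ((g : GL ι F) : Matrix ι ι F).det =
      (simMult hne g : F) ^ Fintype.card ι := by
  have := congrArg Matrix.det (gram_of_sim hne g)
  rw [det_mul, det_mul, det_transpose, det_smul] at this
  refine mul_right_cancel₀ hd ?_
  linear_combination this

theorem simChi_sq (hd : (M + Mᵀ).det ≠ 0) (hne : ∃ v, matQuad M v ≠ 0) {k : ℕ}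
    (hk : Fintype.card ι = 2 * k) (g : Cfsg.Geo.quadSimilarityGroup ⇑(matQuad M)) :
    simChi M hne k g = 1 ∨ simChi M hne k g = -1 := by
  refine unit_eq_one_or_neg_one ?_
  rw [simChi_apply, mul_pow, inv_pow, mul_inv_eq_one, Units.ext_iff, Units.val_pow_eq_pow_val,
    Units.val_pow_eq_pow_val, Units.val_pow_eq_pow_val, pow_two, Matrix.GeneralLinearGroup.val_det_apply,
    det_mul_det_of_sim hd hne, hk, two_mul, pow_add, pow_two]

theorem simChi_scalar (hne : ∃ v, matQuad M v ≠ 0) {k : ℕ} (hk : Fintype.card ι = 2 * k) (c : Fˣ) :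
    simChi M hne k (simScalar (matQuad M) c) = 1 := by
  rw [simChi_eq_one_iff, simMult_scalar, simScalar_coe, det_smul, det_one, mul_one, hk,
    Units.val_mul, pow_mul, pow_two]

theorem simMult_iso (hne : ∃ v, matQuad M v ≠ 0) (h : Cfsg.isometryGroup F ⇑(matQuad M)) :
    simMult hne (simIso ⇑(matQuad M) h) = 1 := (simMult_eq_one_iff hne _).2 h.2

theorem simChi_iso (hne : ∃ v, matQuad M v ≠ 0) (k : ℕ) (h : Cfsg.isometryGroup F ⇑(matQuad M)) :
    simChi M hne k (simIso ⇑(matQuad M) h) = detHom ⇑(matQuad M) h := by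
  rw [simChi_apply, simMult_iso, one_pow, inv_one, mul_one]
  rfl

/-- Spinor norm and Dickson invariant of a matrix isometry. -/
noncomputable def isoInv [Finite F] {Q : QuadraticForm F (ι → F)}
    (hQ : (polarBilin Q).Nondegenerate) (h2 : (2 : F) ≠ 0) :
    Cfsg.isometryGroup F ⇑Q →* SqClass F × Multiplicative (ZMod 2) :=
  (orthInvariant hQ (reflGroup_eq_orth_of_two_ne hQ h2)).comp (isomEquiv Q).toMonoidHom

/-- The determinant is one exactly when the Dickson invariant vanishes. -/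
theorem detHom_eq_one_iff [Finite F] {Q : QuadraticForm F (ι → F)}
    (hQ : (polarBilin Q).Nondegenerate) (h2 : (2 : F) ≠ 0) (g : Cfsg.isometryGroup F ⇑Q) :
    detHom ⇑Q g = 1 ↔ (isoInv hQ h2 g).2 = 1 := by
  have hR := reflGroup_eq_orth_of_two_ne hQ h2
  have hS := closure_matRefls Q hR
  have h1 : (-1 : Fˣ) ≠ 1 := fun h => h2 (by
    have := congrArg Units.val h
    rw [Units.val_neg, Units.val_one] at this
    linear_combination -this)
  have e1 := ker_eq_closure_pairs _ hS (matRefls_involutive Q) (detHom ⇑Q) (-1) h1 (detHom_refl Q)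
  have e2 := ker_eq_closure_pairs _ hS (matRefls_involutive Q)
    ((MonoidHom.snd _ _).comp (isoInv hQ h2)) (Multiplicative.ofAdd (1 : ZMod 2)) (by decide) (by
    rintro x ⟨v, hv, hx⟩
    have : isomEquiv Q x = oRefl Q v hv := Subtype.ext ((isomEquiv_eq_refl_iff Q x v hv).1 hx)
    show (orthInvariant hQ hR (isomEquiv Q x)).2 = _
    rw [this, orthInvariant_oRefl])
  show g ∈ (detHom ⇑Q).ker ↔ g ∈ ((MonoidHom.snd _ _).comp (isoInv hQ h2)).ker
  rw [e1, e2]

theorem mem_Omega_iff_isoInv [Finite F] {Q : QuadraticForm F (ι → F)}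
    (hQ : (polarBilin Q).Nondegenerate) (h2 : (2 : F) ≠ 0) (g : Cfsg.isometryGroup F ⇑Q) :
    g ∈ Cfsg.Omega F ⇑Q ↔ isoInv hQ h2 g = 1 :=
  mem_Omega_iff_invariant hQ (reflGroup_eq_orth_of_two_ne hQ h2) g

/-- Similarities acting on `POmega` as inner automorphisms. -/
noncomputable def innPre (Q : (ι → F) → F) : Subgroup (Cfsg.Geo.quadSimilarityGroup Q) :=
  (Cfsg.Inn (Cfsg.POmega F Q)).comap (simAut Q)

theorem mem_innPre_iff [Finite F] {Q : QuadraticForm F (ι → F)}
    (hQ : (polarBilin Q).Nondegenerate) (hn : 5 ≤ Fintype.card ι)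
    (g : Cfsg.Geo.quadSimilarityGroup ⇑Q) :
    g ∈ innPre ⇑Q ↔ ∃ w ∈ Cfsg.Omega F ⇑Q, ∃ c : Fˣ, g = simScalar Q c * simIso ⇑Q w := by
  constructor
  · intro hg
    rw [innPre, Subgroup.mem_comap, inn_eq_map] at hg
    obtain ⟨w, hw⟩ := hg
    have h1 : simAut ⇑Q (g * (simIso ⇑Q (w : Cfsg.isometryGroup F ⇑Q))⁻¹) = 1 := by
      rw [map_mul, map_inv, ← hw]; simp
    obtain ⟨c, hc⟩ := (simAut_eq_one_iff hQ hn _).1 h1
    refine ⟨w, w.2, c, ?_⟩
    rw [show simScalar Q c = g * (simIso ⇑Q (w : Cfsg.isometryGroup F ⇑Q))⁻¹ from Subtype.ext hc,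
      inv_mul_cancel_right]
  · rintro ⟨w, hw, c, rfl⟩
    rw [innPre, Subgroup.mem_comap, map_mul,
      (simAut_eq_one_iff hQ hn _).2 (simScalar_mem_scalars Q c), one_mul, inn_eq_map]
    exact ⟨⟨w, hw⟩, rfl⟩

/-- The isometries acting as inner automorphisms, by their invariants. -/
theorem simIso_mem_innPre_iff [Finite F] (hn : 5 ≤ Fintype.card ι) (he : Even (Fintype.card ι))
    (hd : (M + Mᵀ).det ≠ 0) (h2 : (2 : F) ≠ 0) (h : Cfsg.isometryGroup F ⇑(matQuad M)) :
    simIso ⇑(matQuad M) h ∈ innPre ⇑(matQuad M) ↔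
      isoInv (nondegenerate_matQuad hd) h2 h = 1 ∨
      isoInv (nondegenerate_matQuad hd) h2 h = (sqMk hd, 1) := by
  have hQ := nondegenerate_matQuad hd
  obtain ⟨hno, hnd, hns⟩ := neg_one_invariants h2 he hd (LinearEquiv.neg F) (fun v => rfl)
  let n1 : Cfsg.isometryGroup F ⇑(matQuad M) := (isomEquiv (matQuad M)).symm ⟨_, hno⟩
  have hn1 : isoInv hQ h2 n1 = (sqMk hd, 1) := by
    show orthInvariant hQ _ (isomEquiv (matQuad M) n1) = _
    rw [MulEquiv.apply_symm_apply]
    refine Prod.ext hns ?_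
    show dicksonMul _ = 1
    rw [dicksonMul, hnd, ofAdd_zero]
  have hn1m : ((n1 : GL ι F) : Matrix ι ι F) = -1 := matrix_eq_of_mulVec fun v => by
    rw [isomEquiv_symm_mulVec, neg_mulVec, one_mulVec]; rfl
  have hne := exists_ne_zero_of_nondegenerate _ hQ (by omega)
  rw [mem_innPre_iff hQ hn]
  constructor
  · rintro ⟨w, hw, c, hc⟩
    have h1 := congrArg (simMult hne) hc
    rw [simMult_iso, map_mul, simMult_scalar, simMult_iso, mul_one] at h1
    rcases unit_eq_one_or_neg_one (by rw [_root_.sq]; exact h1.symm) with rfl | rfl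
    · left
      rw [map_one, one_mul] at hc
      have : h = w := Subtype.ext (show (h : GL ι F) = (w : GL ι F) from congrArg
        (fun z : Cfsg.Geo.quadSimilarityGroup ⇑(matQuad M) => (z : GL ι F)) hc)
      rw [this]; exact (mem_Omega_iff_isoInv hQ h2 w).1 hw
    · right
      have : h = n1 * w := Subtype.ext (Units.ext (by
        have := congrArg (fun z : Cfsg.Geo.quadSimilarityGroup ⇑(matQuad M) =>
          ((z : GL ι F) : Matrix ι ι F)) hc
        simp only [simIso, Subgroup.coe_inclusion, Subgroup.coe_mul, Units.val_mul, simScalar_coe,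
          Units.val_neg, Units.val_one] at this ⊢
        rw [this, hn1m]; simp))
      rw [this, map_mul, hn1, (mem_Omega_iff_isoInv hQ h2 w).1 hw, mul_one]
  · rintro (h1 | h1)
    · exact ⟨h, (mem_Omega_iff_isoInv hQ h2 h).2 h1, 1, by rw [map_one, one_mul]⟩
    · refine ⟨n1 * h, (mem_Omega_iff_isoInv hQ h2 _).2 ?_, -1, Subtype.ext (Units.ext ?_)⟩
      · rw [map_mul, hn1, h1, Prod.mk_mul_mk, sqClass_mul_self, one_mul]; rfl
      · simp only [simIso, Subgroup.coe_inclusion, Subgroup.coe_mul, Units.val_mul, simScalar_coe,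
          Units.val_neg, Units.val_one, hn1m]
        simp

end CfsgLib.Geometry
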