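import Cfsg.Agent.Lib.Geometry.SemiSimKernel
import Cfsg.Agent.Lib.Geometry.SimClassesMinus
import Cfsg.Agent.Lib.Geometry.SimInvariant

/-! Semisimilarities with scalar square and nontrivial field part. -/

set_option autoImplicit false

namespace CfsgLib.Geometry

open Matrix QuadraticMap

variable {F : Type*} [Field F] [Finite F]

/-- Fixed elements of an involutive field automorphism are squares. -/
theorem isSquare_of_fixed (h2 : (2 : F) ≠ 0) {σ : F ≃+* F} (hσ : σ * σ = 1) (hne : σ ≠ 1)
    {a : F} (ha : σ a = a) : IsSquare a := by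
  classical
  haveI := Fintype.ofFinite F
  have hss : ∀ z, σ (σ z) = z := fun z => RingEquiv.congr_fun hσ z
  obtain ⟨θ, hθ⟩ : ∃ θ, σ θ ≠ θ := by
    by_contra h
    push Not at h
    exact hne (RingEquiv.ext h)
  let F₀ := RingHom.eqLocusField (σ : F →+* F) (RingHom.id F)
  have hmem : ∀ z, z ∈ F₀ ↔ σ z = z := fun z => Iff.rfl
  haveI := Fintype.ofFinite F₀
  have hd : θ - σ θ ≠ 0 := sub_ne_zero.2 (Ne.symm hθ)
  have hbij : Function.Bijective (fun p : F₀ × F₀ => (p.1 : F) + (p.2 : F) * θ) := by
    constructor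
    · rintro ⟨u, v⟩ ⟨u', v'⟩ h
      have h' := congrArg σ h
      simp only [map_add, map_mul, (hmem _).1 u.2, (hmem _).1 v.2, (hmem _).1 u'.2,
        (hmem _).1 v'.2] at h h'
      have hv : (v : F) = v' := by
        have : ((v : F) - v') * (θ - σ θ) = 0 := by linear_combination h - h'
        exact sub_eq_zero.1 ((mul_eq_zero.1 this).resolve_right hd)
      refine Prod.ext (Subtype.ext ?_) (Subtype.ext hv)
      rw [hv] at h
      exact add_right_cancel h
    · intro z
      have hv : σ ((z - σ z) / (θ - σ θ)) = (z - σ z) / (θ - σ θ) := by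
        rw [map_div₀, map_sub, map_sub, hss, hss, ← neg_sub z (σ z), ← neg_sub θ (σ θ), neg_div_neg_eq]
      refine ⟨(⟨z - (z - σ z) / (θ - σ θ) * θ, (hmem _).2 ?_⟩, ⟨_, (hmem _).2 hv⟩), by simp⟩
      rw [map_sub, map_mul, hv]
      field_simp
      ring
  have hcard : Nat.card F = Nat.card F₀ ^ 2 := by
    rw [← Nat.card_eq_of_bijective _ hbij, Nat.card_prod, pow_two]
  have hrk : Module.finrank F₀ F = 2 := by
    have := Module.natCard_eq_pow_finrank (K := F₀) (V := F)
    rw [hcard] at this
    exact (Nat.pow_right_injective (Finite.one_lt_card (α := F₀)) this).symm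
  exact isSquare_algebraMap h2 hrk (⟨a, ha⟩ : F₀)

variable {ι : Type} [Fintype ι] [DecidableEq ι] {M : Matrix ι ι F}

/-- An involution from a semisimilarity with nontrivial field part forces a square discriminant. -/
theorem isSquare_of_semiSim_involution (h2 : (2 : F) ≠ 0) (hd : (M + Mᵀ).det ≠ 0) {k : ℕ}
    (hk : Fintype.card ι = 2 * k) (hk3 : 3 ≤ k) {x : semiSim ⇑(matQuad M)}
    (hx : autOmega ⇑(matQuad M) x * autOmega ⇑(matQuad M) x = 1)
    (hne : (x : GammaL ι F).right ≠ 1) :
    IsSquare (M + Mᵀ).det ∧ IsSquare (-1 : F) := by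
  classical
  have hQ := nondegenerate_matQuad hd
  have h5 : 5 ≤ Fintype.card ι := by omega
  obtain ⟨hσ, hsc⟩ := (autOmega_eq_one_iff hQ h5 (x * x)).1 (by rw [map_mul]; exact hx)
  obtain ⟨l, hl⟩ := (Cfsg.Geo.mem_scalars_iff _).1 hsc
  set σ := (x : GammaL ι F).right with hσdef
  set A := ((x : GammaL ι F).left : Matrix ι ι F) with hA
  rw [Subgroup.coe_mul, SemidirectProduct.mul_right, ← hσdef] at hσ
  rw [Subgroup.coe_mul, SemidirectProduct.mul_left, Units.val_mul, glAut_coe, ← hA, ← hσdef] at hl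
  have hss : ∀ z, σ (σ z) = z := fun z => RingEquiv.congr_fun hσ z
  refine ⟨?_, isSquare_of_fixed h2 hσ hne (by simp)⟩
  obtain ⟨c, hc⟩ := x.2
  set d := (M + Mᵀ).det with hddef
  set G := M + Mᵀ with hG
  have hvec : ∀ v, slAct (x : GammaL ι F) v = A *ᵥ fun i => σ (v i) := fun v => rfl
  have hgram : Aᵀ * G * A = (c : F) • G.map σ := by
    ext i j
    have hb : ∀ (s : ι), (fun i' => σ ((Pi.single s (1 : F) : ι → F) i')) = Pi.single s 1 := fun s => by
      funext i'
      rw [Pi.single_apply, apply_ite σ, map_one, map_zero]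
    have hp : polar (matQuad M) (A *ᵥ Pi.single i 1) (A *ᵥ Pi.single j 1) =
        (c : F) * σ (polar (matQuad M) (Pi.single i 1) (Pi.single j 1)) := by
      conv_lhs => rw [← hb i, ← hb j, ← hvec, ← hvec]
      simp only [polar, ← slAct_add, hc, map_sub]
      ring
    rw [polar_matQuad, polar_matQuad, mulVec_mulVec, ← hG] at hp
    simp only [mulVec_single_one, single_one_dotProduct] at hp
    rw [Matrix.mul_assoc, Matrix.mul_apply, Matrix.smul_apply, smul_eq_mul, Matrix.map_apply]
    simp only [dotProduct, col_apply, transpose_apply] at hp ⊢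
    exact hp
  have hdet : A.det * A.det * d = (c : F) ^ (2 * k) * σ d := by
    have h := congrArg Matrix.det hgram
    rw [det_mul, det_mul, det_transpose, det_smul, ← RingEquiv.mapMatrix_apply, ← RingEquiv.map_det,
      hk] at h
    linear_combination h
  have hll : A.det * σ A.det = (l : F) ^ (2 * k) := by
    have h := congrArg Matrix.det hl
    rw [det_mul, ← RingEquiv.mapMatrix_apply, ← RingEquiv.map_det, det_smul, det_one, mul_one, hk] at h
    exact h
  have hcc : (c : F) * σ c = (l : F) ^ 2 := by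
    obtain ⟨v, hv⟩ := exists_ne_zero_of_nondegenerate (matQuad M) hQ (by omega)
    have h := hc (slAct (x : GammaL ι F) v)
    rw [hc v, ← slAct_mul, map_mul] at h
    have e : slAct ((x : GammaL ι F) * (x : GammaL ι F)) v = (l : F) • v := by
      rw [slAct_mul, hvec, hvec, map_mulVec', mulVec_mulVec, hl, smul_mulVec, one_mulVec]
      simp only [hss]
    rw [e, map_smul', ← hσdef, hss] at h
    refine mul_right_cancel₀ hv ?_
    linear_combination -h
  set w := A.det / (c : F) ^ k with hw
  have hck : (c : F) ^ k ≠ 0 := pow_ne_zero _ c.ne_zero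
  have hwd : σ d = w * w * d := by
    rw [hw]
    field_simp
    linear_combination -hdet
  have hww : w * σ w = 1 := by
    have e2 : (c : F) ^ k * σ ((c : F) ^ k) = (l : F) ^ (2 * k) := by
      rw [map_pow, ← mul_pow, hcc, ← pow_mul]
    rw [hw, map_div₀, div_mul_div_comm, hll, e2, div_self (pow_ne_zero _ l.ne_zero)]
  obtain ⟨y, hy0, hy⟩ : ∃ y : F, y ≠ 0 ∧ σ y = w * y := by
    have hw0 : w ≠ 0 := fun h => by rw [h, zero_mul] at hww; exact zero_ne_one hww
    have hgen : ∀ v, σ (v + σ w * σ v) = w * (v + σ w * σ v) := fun v => by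
      rw [map_add, map_mul, hss, hss]
      linear_combination (-(σ v)) * hww
    by_cases h1 : (1 : F) + σ w * σ 1 = 0
    · obtain ⟨θ, hθ⟩ : ∃ θ, σ θ ≠ θ := by
        by_contra h
        push Not at h
        exact hne (RingEquiv.ext h)
      refine ⟨θ + σ w * σ θ, fun h => hθ ?_, hgen θ⟩
      rw [map_one, mul_one] at h1
      linear_combination -h + (σ θ) * h1
    · exact ⟨_, h1, hgen 1⟩
  have hfix : σ (d / (y * y)) = d / (y * y) := by
    have hw0 : w ≠ 0 := fun h => by rw [h, zero_mul] at hww; exact zero_ne_one hww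
    rw [map_div₀, map_mul, hy, hwd]
    field_simp
  obtain ⟨r, hr⟩ := isSquare_of_fixed h2 hσ hne hfix
  exact ⟨r * y, by
    field_simp at hr
    linear_combination hr⟩

end CfsgLib.Geometry
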