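import Cfsg.Agent.Lib.Geometry.FieldModel
import Cfsg.Agent.Lib.Geometry.SemiSimInvolution
import Cfsg.Agent.Lib.Geometry.PGOStd

/-! Spinor norms of base-changed isometries; field automorphisms of the standard forms. -/

set_option autoImplicit false

namespace CfsgLib.Geometry

open Matrix QuadraticMap

variable {ι : Type} [Fintype ι] [DecidableEq ι] {F : Type*} [Field F]

theorem semiSim_conj_inl_mem {Q : (ι → F) → F} (x : semiSim Q) (g : Cfsg.Geo.quadSimilarityGroup Q) :
    (x : GammaL ι F).left * glAut ι F (x : GammaL ι F).right (g : GL ι F) * (x : GammaL ι F).left⁻¹ ∈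
      Cfsg.Geo.quadSimilarityGroup Q := by
  have h := (x * simIncl Q g * x⁻¹).2
  rw [Subgroup.coe_mul, Subgroup.coe_mul, Subgroup.coe_inv,
    show ((simIncl Q g : semiSim Q) : GammaL ι F) = SemidirectProduct.inl (g : GL ι F) from rfl, conj_inl_eq] at h
  obtain ⟨c, hc⟩ := h
  exact ⟨c, fun v => by simpa [slAct] using hc v⟩

/-- Conjugation of similarities by semisimilarities. -/
noncomputable def conjSim {Q : (ι → F) → F} (x : semiSim Q) :
    Cfsg.Geo.quadSimilarityGroup Q →* Cfsg.Geo.quadSimilarityGroup Q :=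
  MonoidHom.mk' (fun g => ⟨_, semiSim_conj_inl_mem x g⟩) fun g h => Subtype.ext (by
    simp only [Subgroup.coe_mul, map_mul]; group)

theorem simAut_conjSim {Q : (ι → F) → F} (x : semiSim Q) (g : Cfsg.Geo.quadSimilarityGroup Q) :
    simAut Q (conjSim x g) = autOmega Q x * simAut Q g * (autOmega Q x)⁻¹ := by
  rw [simAut, MonoidHom.comp_apply, MonoidHom.comp_apply, ← map_inv, ← map_mul, ← map_mul]
  congr 1
  refine Subtype.ext ?_
  rw [Subgroup.coe_mul, Subgroup.coe_mul, Subgroup.coe_inv,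
    show ((simIncl Q g : semiSim Q) : GammaL ι F) = SemidirectProduct.inl (g : GL ι F) from rfl, conj_inl_eq]
  rfl

/-- Images of stable groups of similarities are normal when all automorphisms come from semisimilarities. -/
theorem normal_map_simAut {Q : (ι → F) → F} (hΓ : Cfsg.gammaPOmega F Q = ⊤)
    (S : Subgroup (Cfsg.Geo.quadSimilarityGroup Q))
    (hS : ∀ (x : semiSim Q), ∀ g ∈ S, conjSim x g ∈ S) : (S.map (simAut Q)).Normal :=
  ⟨fun a ha α => by
    obtain ⟨g, hg, rfl⟩ := ha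
    have hα : α ∈ (autOmega Q).range := by rw [← gammaPOmega_eq, hΓ]; trivial
    obtain ⟨x, rfl⟩ := hα
    exact ⟨conjSim x g, hS x g hg, simAut_conjSim x g⟩⟩

variable [Finite F]

/-- The order of a field automorphism on `POmega` is that of the field map. -/
theorem orderOf_fieldAut {M : Matrix ι ι F} (hM : (M + Mᵀ).det ≠ 0) (hn : 5 ≤ Fintype.card ι)
    (σ : F ≃+* F) (hσ : M.map σ = M) {β : MulAut (Cfsg.POmega F ⇑(matQuad M))}
    (hβ : Cfsg.IsFieldAutPOmegaOf ⇑(matQuad M) σ β) : orderOf β = orderOf σ := by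
  have hmem : ∀ v, matQuad M (fun i => σ (v i)) = σ (matQuad M v) := fun v => by
    have h : M.map σ *ᵥ (fun i => σ (v i)) = M *ᵥ fun i => σ (v i) := by rw [hσ]
    rw [matQuad_apply, matQuad_apply, ← h, ← map_mulVec']
    simp [dotProduct, map_sum, map_mul]
  let x : semiSim ⇑(matQuad M) := ⟨SemidirectProduct.inr σ, 1, fun v => by
    rw [slAct_inr, hmem, SemidirectProduct.right_inr, Units.val_one, one_mul]⟩
  have hs : Cfsg.IsSemisimilarityPair ⇑(matQuad M) 1 σ := (mem_semiSim_iff _ _).1 x.2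
  have e : β = autOmega _ x := by
    rw [show x = ⟨⟨1, σ⟩, (mem_semiSim_iff _ ⟨1, σ⟩).2 hs⟩ from Subtype.ext rfl, ← isInduced_iff hs]
    intro s s' h
    exact hβ s s' (by rw [h, Units.val_one, one_mul, show ((1⁻¹ : GL ι F) : Matrix ι ι F) = 1 by simp, mul_one])
  rw [e]
  refine orderOf_eq_orderOf_iff.2 fun k => ?_
  rw [← map_pow, autOmega_eq_one_iff (nondegenerate_matQuad hM) hn, SubgroupClass.coe_pow,
    show ((x : GammaL ι F)) = SemidirectProduct.inr σ from rfl, ← map_pow, SemidirectProduct.right_inr,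
    SemidirectProduct.left_inr]
  exact ⟨fun h => h.1, fun h => ⟨h, one_mem _⟩⟩

/-- The automorphism of a field class of a standard form, as a conjugate of a standard one. -/
theorem exists_conj_of_fieldClass {M : Matrix ι ι F} (hM : (M + Mᵀ).det ≠ 0) (hn : 5 ≤ Fintype.card ι)
    (hfix : ∀ σ : F ≃+* F, M.map σ = M) {x : MulAut (Cfsg.POmega F ⇑(matQuad M))}
    (hx : Cfsg.IsFieldAutClassPOmega ⇑(matQuad M) x) :
    ∃ (α : MulAut (Cfsg.POmega F ⇑(matQuad M))) (σ : F ≃+* F), orderOf σ = orderOf x ∧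
      Cfsg.IsFieldAutPOmegaOf ⇑(matQuad M) σ (α * x * α⁻¹) := by
  obtain ⟨α, φ, σ, -, hφ, rfl⟩ := hx
  refine ⟨α, σ, ?_, hφ⟩
  rw [← orderOf_fieldAut hM hn σ (hfix σ) hφ]
  exact MulEquiv.orderOf_eq (MulAut.conj α) x

variable {F₀ : Type*} [Field F₀] {M₀ : Matrix ι ι F₀} {emb : F₀ →+* F} {σ : F ≃+* F} {r : ℕ}

theorem extend_mem_isometry (g : Cfsg.isometryGroup F₀ ⇑(matQuad M₀)) :
    GeneralLinearGroup.map emb (g : GL ι F₀) ∈ Cfsg.isometryGroup F ⇑(extForm emb M₀) := by
  refine (mem_isometryGroup_iff _).2 fun v => ?_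
  have e1 : (extForm emb M₀).comp (Matrix.mulVecLin (((g : GL ι F₀) : Matrix ι ι F₀).map emb)) =
      matQuad (M₀.map emb) := eq_matQuad_map emb fun u => by
    rw [QuadraticMap.comp_apply, Matrix.mulVecLin_apply, ← map_mulVec_comp, matQuad_map,
      (mem_isometryGroup_iff _).1 g.2]
  exact QuadraticMap.congr_fun e1 v

/-- Base change of isometries. -/
noncomputable def extendIso (emb : F₀ →+* F) (M₀ : Matrix ι ι F₀) :
    Cfsg.isometryGroup F₀ ⇑(matQuad M₀) →* Cfsg.isometryGroup F ⇑(extForm emb M₀) :=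
  ((GeneralLinearGroup.map (n := ι) emb).comp (Subgroup.subtype _)).codRestrict _ extend_mem_isometry

theorem extend_simIso (g : Cfsg.isometryGroup F₀ ⇑(matQuad M₀)) :
    extend emb M₀ (simIso _ g) = simIso _ (extendIso emb M₀ g) := rfl

theorem extendIso_refl [Finite F₀] {v : ι → F₀} (hv : matQuad M₀ v ≠ 0)
    (hv' : extForm emb M₀ (emb ∘ v) ≠ 0) :
    isomEquiv _ (extendIso emb M₀ ((isomEquiv (matQuad M₀)).symm (oRefl (matQuad M₀) v hv))) =
      oRefl (extForm emb M₀) (emb ∘ v) hv' := by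
  set g := (isomEquiv (matQuad M₀)).symm (oRefl (matQuad M₀) v hv) with hg
  refine Subtype.ext (LinearEquiv.toLinearMap_injective ((Pi.basisFun F ι).ext fun i => ?_))
  show (isomEquiv _ (extendIso emb M₀ g) : (ι → F) ≃ₗ[F] (ι → F)) (Pi.basisFun F ι i) =
    refl _ _ hv' (Pi.basisFun F ι i)
  have hs : (emb ∘ (Pi.single i 1 : ι → F₀)) = Pi.basisFun F ι i := by
    rw [Pi.basisFun_apply]; funext j; rcases eq_or_ne j i with rfl | hj <;> simp [*]
  rw [isomEquiv_apply, ← hs]
  show ((g : GL ι F₀) : Matrix ι ι F₀).map emb *ᵥ _ = _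
  rw [← map_mulVec_comp, hg, isomEquiv_symm_mulVec, show ((oRefl (matQuad M₀) v hv : orth (matQuad M₀)) :
    (ι → F₀) ≃ₗ[F₀] (ι → F₀)) = refl (matQuad M₀) v hv from rfl, refl_apply, refl_apply]
  have e : ∀ a b : ι → F₀, emb ∘ (a + b) = emb ∘ a + emb ∘ b := fun a b => funext fun k => map_add emb _ _
  rw [show polar (extForm emb M₀) (emb ∘ Pi.single i 1) (emb ∘ v) = emb (polar (matQuad M₀) (Pi.single i 1) v) by
    simp only [polar, map_sub, ← e, matQuad_map], matQuad_map]
  funext k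
  simp [map_sub, map_mul, map_inv₀]

theorem FieldHyp.two_ne₀ (_D : FieldHyp M₀ emb σ r) (h2 : (2 : F) ≠ 0) : (2 : F₀) ≠ 0 := fun h =>
  h2 (by rw [← map_ofNat emb 2, h, map_zero])

/-- For an involution all elements of the fixed field are squares. -/
theorem FieldHyp.isSquare_emb (D : FieldHyp M₀ emb σ r) (h2 : (2 : F) ≠ 0) (hr : r = 2) (y : F₀) :
    IsSquare (emb y) := by
  subst hr
  refine isSquare_of_fixed h2 (by rw [← pow_two, ← D.order, pow_orderOf_eq_one]) (fun h => ?_) (D.fix' y)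
  have := D.order
  rw [h, orderOf_one] at this
  omega

/-- For odd order squares descend. -/
theorem FieldHyp.isSquare_of_emb (D : FieldHyp M₀ emb σ r) (hr : Odd r) {y : F₀} (h : IsSquare (emb y)) :
    IsSquare y := by
  obtain ⟨b, hb⟩ := h
  have hbb : σ b = b ∨ σ b = -b := by
    have : σ b * σ b = b * b := by rw [← map_mul, ← hb, D.fix' y]
    exact mul_self_eq_mul_self_iff.1 this
  have hfix : σ b = b := by
    refine hbb.elim id fun h => ?_
    obtain ⟨j, hj⟩ := hr
    have hev : ∀ j : ℕ, (σ ^ (2 * j) : F ≃+* F) b = b := by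
      intro j
      induction j with
      | zero => simp
      | succ j ih =>
        rw [Nat.mul_succ, pow_add]
        show (σ ^ (2 * j) : F ≃+* F) ((σ ^ 2 : F ≃+* F) b) = b
        rw [show (σ ^ 2 : F ≃+* F) b = σ (σ b) by rw [pow_two]; rfl, h, map_neg, h, neg_neg, ih]
    have h1 : (σ ^ r : F ≃+* F) b = b := by rw [← D.order, pow_orderOf_eq_one]; rfl
    rw [hj, pow_succ'] at h1
    have : σ ((σ ^ (2 * j) : F ≃+* F) b) = b := h1
    rwa [hev] at this
  obtain ⟨z, rfl⟩ := (D.fix b).1 hfix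
  exact ⟨z, emb.injective (by rw [hb, map_mul])⟩

/-- Base-changed isometries have trivial spinor norm for an involution. -/
theorem FieldHyp.spinor_extend (D : FieldHyp M₀ emb σ r) (h2 : (2 : F) ≠ 0) (hr : r = 2)
    (g : Cfsg.isometryGroup F₀ ⇑(matQuad M₀)) :
    (isoInv D.nondeg h2 (extendIso emb M₀ g)).1 = 1 := by
  haveI := D.finite₀
  set χ := ((MonoidHom.fst _ _).comp ((isoInv D.nondeg h2).comp ((extendIso emb M₀).comp
    (isomEquiv (matQuad M₀)).symm.toMonoidHom)))
  have hall : ∀ x : orth (matQuad M₀), χ x = 1 := fun x => by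
    have hx : x ∈ Subgroup.closure {g : orth (matQuad M₀) | ∃ (a : ι → F₀) (ha : matQuad M₀ a ≠ 0),
        g = oRefl (matQuad M₀) a ha} := by
      rw [closure_oRefl (reflGroup_eq_orth_of_two_ne D.nondeg₀ (D.two_ne₀ h2))]; trivial
    induction hx using Subgroup.closure_induction with
    | mem y hy =>
      obtain ⟨a, ha, rfl⟩ := hy
      have hv : extForm emb M₀ (emb ∘ a) ≠ 0 := by rw [matQuad_map, map_ne_zero]; exact ha
      show (orthInvariant D.nondeg (reflGroup_eq_orth_of_two_ne D.nondeg h2) (isomEquiv _ (extendIso emb M₀ ((isomEquiv (matQuad M₀)).symm (oRefl (matQuad M₀) a ha))))).1 = 1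
      rw [extendIso_refl ha hv, orthInvariant_oRefl]
      exact (sqMk_eq_one_iff hv).2 (by rw [matQuad_map]; exact D.isSquare_emb h2 hr _)
    | one => exact map_one χ
    | mul a b _ _ ha hb => rw [map_mul, ha, hb, one_mul]
    | inv a _ ha => rw [map_inv, ha, inv_one]
  have := hall (isomEquiv _ g)
  simpa [χ] using this

/-- A rational isometry of determinant one with nonsquare spinor norm, for odd order. -/
theorem FieldHyp.exists_special (D : FieldHyp M₀ emb σ r) (h2 : (2 : F) ≠ 0) (hr : Odd r) :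
    ∃ s : Cfsg.isometryGroup F₀ ⇑(matQuad M₀), (isoInv D.nondeg h2 (extendIso emb M₀ s)).1 ≠ 1 ∧
      (isoInv D.nondeg h2 (extendIso emb M₀ s)).2 = 1 := by
  haveI := D.finite₀
  haveI := Fintype.ofFinite F₀
  have hn : 2 ≤ Module.finrank F₀ (ι → F₀) := by
    rw [Module.finrank_fintype_fun_eq_card]; have := D.seven_le; omega
  obtain ⟨ν, hν⟩ := exists_nonsquare_unit (D.two_ne₀ h2)
  obtain ⟨u, hu⟩ := exists_represents D.nondeg₀ hn (1 : F₀)
  obtain ⟨w, hw⟩ := exists_represents D.nondeg₀ hn (ν : F₀)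
  have hu0 : matQuad M₀ u ≠ 0 := by rw [hu]; exact one_ne_zero
  have hw0 : matQuad M₀ w ≠ 0 := by rw [hw]; exact ν.ne_zero
  have hu1 : extForm emb M₀ (emb ∘ u) ≠ 0 := by rw [matQuad_map, map_ne_zero]; exact hu0
  have hw1 : extForm emb M₀ (emb ∘ w) ≠ 0 := by rw [matQuad_map, map_ne_zero]; exact hw0
  refine ⟨(isomEquiv (matQuad M₀)).symm (oRefl _ u hu0) * (isomEquiv (matQuad M₀)).symm (oRefl _ w hw0), ?_⟩
  have e : ∀ (a : ι → F₀) (ha : matQuad M₀ a ≠ 0) (ha' : extForm emb M₀ (emb ∘ a) ≠ 0),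
      isoInv D.nondeg h2 (extendIso emb M₀ ((isomEquiv (matQuad M₀)).symm (oRefl _ a ha))) =
        (sqMk ha', Multiplicative.ofAdd 1) := fun a ha ha' => by
    show orthInvariant D.nondeg _ (isomEquiv _ _) = _
    rw [extendIso_refl ha ha', orthInvariant_oRefl]
  rw [map_mul, map_mul, e u hu0 hu1, e w hw0 hw1]
  constructor
  · show sqMk hu1 * sqMk hw1 ≠ 1
    rw [(sqMk_eq_one_iff hu1).2 (by rw [matQuad_map, hu, map_one]; exact IsSquare.one), one_mul, ne_eq,
      sqMk_eq_one_iff, matQuad_map, hw]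
    exact fun h => hν (D.isSquare_of_emb hr h)
  · show Multiplicative.ofAdd (1 : ZMod 2) * Multiplicative.ofAdd 1 = 1
    decide

end CfsgLib.Geometry
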