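import Cfsg.Agent.Lib.Geometry.EvenGraph
import Cfsg.Agent.Lib.Geometry.FieldSplit
import Cfsg.Agent.Lib.KnownB.PSpAut.Core

/-! When the centraliser of a standard field automorphism in an almost simple orthogonal group has a
nontrivial normal subgroup of order prime to the order of the automorphism. -/

set_option autoImplicit false

namespace CfsgLib.Geometry

open Matrix QuadraticMap

variable {ι : Type} [Fintype ι] [DecidableEq ι] {F : Type*} [Field F] [Finite F]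

/-- Conjugation identifies a simple `POmega` with its inner automorphisms. -/
theorem conj_pOmega_injective {Q : QuadraticForm F (ι → F)} (hQ : (polarBilin Q).Nondegenerate)
    (hn : 5 ≤ Fintype.card ι) :
    Function.Injective (MulAut.conj : Cfsg.POmega F ⇑Q →* MulAut (Cfsg.POmega F ⇑Q)) := by
  rw [← MonoidHom.ker_eq_bot_iff, Subgroup.eq_bot_iff_forall]
  intro x hx
  induction x using QuotientGroup.induction_on with
  | H s =>
    rw [MonoidHom.mem_ker, ← simAut_simIso_omega, simAut_eq_one_iff hQ hn] at hx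
    rw [QuotientGroup.eq_one_iff, Subgroup.mem_center_iff]
    obtain ⟨c, hc⟩ := (Cfsg.Geo.mem_scalars_iff _).1 hx
    intro g
    refine Subtype.ext (Subtype.ext (Units.ext ?_))
    have hc' : (((s : Cfsg.Omega F ⇑Q) : Cfsg.isometryGroup F ⇑Q) : GL ι F).1 = (c : F) • 1 := hc
    simp only [Subgroup.coe_mul, Units.val_mul, hc', mul_smul_comm, smul_mul_assoc, one_mul, _root_.mul_one]

/-- An automorphism commuting with all inner ones is trivial. -/
theorem eq_one_of_comm_conj {G : Type*} [Group G]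
    (hinj : Function.Injective (MulAut.conj : G →* MulAut G)) {α : MulAut G}
    (h : ∀ k, α * MulAut.conj k = MulAut.conj k * α) : α = 1 := by
  refine MulEquiv.ext fun k => hinj ?_
  calc MulAut.conj (α k) = α * MulAut.conj k * α⁻¹ := MulEquiv.ext fun y => by simp
    _ = MulAut.conj ((1 : MulAut G) k) := by rw [h k, mul_inv_cancel_right]; rfl

/-- Moving the criterion along an automorphism. -/
theorem criterion_transport {G : Type*} [Group G] (α x : MulAut G) (A : Subgroup (MulAut G)) (p : ℕ)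
    (hinn : ∀ k, MulAut.conj k ∈ A)
    (h : ∀ A' : Subgroup (MulAut G), (∀ k, MulAut.conj k ∈ A') →
      (Cfsg.pPrimeCore p ↥(A' ⊓ Subgroup.centralizer {α * x * α⁻¹}) ≠ ⊥ ↔
        Nat.Coprime p (Nat.card ↥(MonoidHom.eqLocus (α * x * α⁻¹).toMonoidHom (MonoidHom.id G))))) :
    Cfsg.pPrimeCore p ↥(A ⊓ Subgroup.centralizer {x}) ≠ ⊥ ↔
      Nat.Coprime p (Nat.card ↥(MonoidHom.eqLocus x.toMonoidHom (MonoidHom.id G))) := by
  set φ := MulAut.conj α
  have hφx : φ x = α * x * α⁻¹ := rfl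
  have hmap : (A ⊓ Subgroup.centralizer {x}).map φ.toMonoidHom =
      A.map φ.toMonoidHom ⊓ Subgroup.centralizer {α * x * α⁻¹} := by
    rw [Subgroup.map_inf _ _ _ φ.injective]
    congr 1
    ext y
    rw [Subgroup.mem_map, Subgroup.mem_centralizer_singleton_iff, ← hφx]
    constructor
    · rintro ⟨z, hz, rfl⟩
      rw [Subgroup.mem_centralizer_singleton_iff] at hz
      show φ z * φ x = φ x * φ z
      rw [← map_mul, hz, map_mul]
    · intro hy
      refine ⟨φ.symm y, Subgroup.mem_centralizer_singleton_iff.2 (φ.injective ?_), φ.apply_symm_apply y⟩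
      rw [map_mul φ (φ.symm y), map_mul φ x, φ.apply_symm_apply]
      exact hy
  have hinn' : ∀ k, MulAut.conj k ∈ A.map φ.toMonoidHom := fun k =>
    ⟨MulAut.conj (α⁻¹ k), hinn _, MulEquiv.ext fun y => by
      show α (α⁻¹ k * α⁻¹ y * (α⁻¹ k)⁻¹) = k * y * k⁻¹
      simp⟩
  rw [CfsgLib.KnownB.PSpAut.pPrimeCore_ne_bot_congr
    (((A ⊓ Subgroup.centralizer {x}).equivMapOfInjective φ.toMonoidHom φ.injective).trans
      (MulEquiv.subgroupCongr hmap)) p, h _ hinn']
  rw [Nat.card_congr (Equiv.subtypeEquiv (α⁻¹ : MulAut G).toEquiv ?_)]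
  intro k
  show α (x (α⁻¹ k)) = k ↔ x (α⁻¹ k) = α⁻¹ k
  exact ⟨fun e => α.injective (e.trans (α.apply_symm_apply k).symm), fun e => by rw [e]; exact α.apply_symm_apply k⟩

variable {F₀ : Type*} [Field F₀] {M₀ : Matrix ι ι F₀} {emb : F₀ →+* F} {σ : F ≃+* F} {r : ℕ}

theorem omega_extendIso_mem {w : Cfsg.isometryGroup F₀ ⇑(matQuad M₀)} (hw : w ∈ Cfsg.Omega F₀ ⇑(matQuad M₀)) :
    extendIso emb M₀ w ∈ Cfsg.Omega F ⇑(extForm emb M₀) := by
  have hle : (Cfsg.Omega F₀ ⇑(matQuad M₀)).map (extendIso emb M₀) ≤ Cfsg.Omega F ⇑(extForm emb M₀) := by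
    rw [Cfsg.Omega, Cfsg.Omega, commutator_def, commutator_def, Subgroup.map_commutator]
    exact Subgroup.commutator_mono le_top le_top
  exact hle ⟨w, hw, rfl⟩

/-- The group theoretic part of the criterion: `I` plays the inner automorphisms, `R` a simple subgroup
of the fixed points with small centraliser. -/
theorem centralizer_core_criterion {X : Type*} [Group X] [Finite X] (A I R : Subgroup X) [I.Normal] (x : X)
    {r : ℕ} (hr : r.Prime) (hIA : I ≤ A) (hRJ : R ≤ I ⊓ Subgroup.centralizer {x}) [IsSimpleGroup R]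
    (hrR : r ∣ Nat.card ↥(I ⊓ Subgroup.centralizer {x} : Subgroup X) → r ∣ Nat.card R)
    (hRn : ∀ a ∈ I ⊓ Subgroup.centralizer {x}, ∀ s ∈ R, a * s * a⁻¹ ∈ R)
    (hCJ : ∀ y ∈ I ⊓ Subgroup.centralizer {x}, (∀ s ∈ R, y * s = s * y) → y = 1)
    (hC : ∀ n ∈ A ⊓ Subgroup.centralizer {x}, (∀ s ∈ R, n * s = s * n) → n ^ r = 1) :
    Cfsg.pPrimeCore r ↥(A ⊓ Subgroup.centralizer {x}) ≠ ⊥ ↔
      Nat.Coprime r (Nat.card ↥(I ⊓ Subgroup.centralizer {x} : Subgroup X)) := by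
  classical
  have hJH : I ⊓ Subgroup.centralizer {x} ≤ A ⊓ Subgroup.centralizer {x} := inf_le_inf_right _ hIA
  have hJn : ((I ⊓ Subgroup.centralizer {x}).subgroupOf (A ⊓ Subgroup.centralizer {x})).Normal := ⟨fun a ha b => by
    rw [Subgroup.mem_subgroupOf] at ha ⊢
    exact ⟨Subgroup.Normal.conj_mem ‹_› _ ha.1 _,
      Subgroup.mul_mem _ (Subgroup.mul_mem _ b.2.2 ha.2) (Subgroup.inv_mem _ b.2.2)⟩⟩
  constructor
  swap
  · intro hcop hbot
    obtain ⟨s, hs⟩ := exists_ne (1 : R)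
    have hle : (I ⊓ Subgroup.centralizer {x}).subgroupOf (A ⊓ Subgroup.centralizer {x}) ≤ Cfsg.pPrimeCore r _ := by
      refine le_sSup ⟨hJn, ?_⟩
      rw [Nat.card_congr (Subgroup.subgroupOfEquivOfLe hJH).toEquiv]
      exact hcop.symm
    have hmem : (⟨s.1, hJH (hRJ s.2)⟩ : ↥(A ⊓ Subgroup.centralizer {x})) ∈ Cfsg.pPrimeCore r _ := hle (hRJ s.2)
    rw [hbot, Subgroup.mem_bot] at hmem
    exact hs (Subtype.ext (congrArg Subtype.val hmem :))
  intro hne
  obtain ⟨N, hN, hNp, hN1⟩ := (CfsgLib.KnownB.PSpAut.pPrimeCore_ne_bot_iff r).1 hne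
  by_contra hcop
  have hrR' : r ∣ Nat.card R := hrR (by
    by_contra hd
    exact hcop ((Nat.Prime.coprime_iff_not_dvd hr).2 hd))
  have hRH : R ≤ A ⊓ Subgroup.centralizer {x} := hRJ.trans hJH
  -- `N` meets `R` trivially
  have hNR : ∀ s ∈ R, ∀ (h : s ∈ A ⊓ Subgroup.centralizer {x}),
      (⟨s, h⟩ : ↥(A ⊓ Subgroup.centralizer {x})) ∈ N → s = 1 := by
    intro s hs h hsN
    have hn : (N.comap (Subgroup.inclusion hRH)).Normal := Subgroup.Normal.comap hN _
    rcases hn.eq_bot_or_eq_top with he | he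
    · have : (⟨s, hs⟩ : R) ∈ N.comap (Subgroup.inclusion hRH) := hsN
      rw [he, Subgroup.mem_bot] at this
      exact congrArg Subtype.val this
    · exfalso
      have hle : (⊤ : Subgroup R).map (Subgroup.inclusion hRH) ≤ N := Subgroup.map_le_iff_le_comap.2 (le_of_eq he.symm)
      have hd := Subgroup.card_dvd_of_le hle
      rw [Subgroup.card_map_of_injective (Subgroup.inclusion_injective hRH), Subgroup.card_top] at hd
      exact (Nat.Prime.coprime_iff_not_dvd hr).1 hNp.symm (hrR'.trans hd)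
  have hcomN : ∀ {a b : ↥(A ⊓ Subgroup.centralizer {x})}, a ∈ N → a * b * a⁻¹ * b⁻¹ ∈ N := by
    intro a b ha
    rw [show a * b * a⁻¹ * b⁻¹ = a * (b * a⁻¹ * b⁻¹) by group]
    exact N.mul_mem ha (hN.conj_mem _ (N.inv_mem ha) _)
  -- `N` centralises `R`
  have hNc : ∀ n, n ∈ N → ∀ s ∈ R, (n : X) * s = s * n := by
    intro n hn s hs
    let s' : ↥(A ⊓ Subgroup.centralizer {x}) := ⟨s, hRH hs⟩
    set c := n * s' * n⁻¹ * s'⁻¹ with hc
    have hcN : c ∈ N := hcomN hn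
    have hcJ : c ∈ (I ⊓ Subgroup.centralizer {x}).subgroupOf (A ⊓ Subgroup.centralizer {x}) :=
      Subgroup.mul_mem _ (hJn.conj_mem s' (hRJ hs) n) (Subgroup.inv_mem _ (show s' ∈ _ from hRJ hs))
    have hc1 : (c : X) = 1 := by
      refine hCJ _ hcJ fun t ht => ?_
      have h1 : (c : X) * t * (c : X)⁻¹ * t⁻¹ = 1 :=
        hNR _ (R.mul_mem (hRn _ hcJ t ht) (R.inv_mem ht)) (c * ⟨t, hRH ht⟩ * c⁻¹ * ⟨t, hRH ht⟩⁻¹).2
          (hcomN (b := ⟨t, hRH ht⟩) hcN)
      rwa [mul_inv_eq_one, mul_inv_eq_iff_eq_mul] at h1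
    change (n : X) * s * (n : X)⁻¹ * s⁻¹ = 1 at hc1
    rwa [mul_inv_eq_one, mul_inv_eq_iff_eq_mul] at hc1
  refine hN1 ((Subgroup.eq_bot_iff_forall _).2 fun n hn => ?_)
  have hnr : n ^ r = 1 := Subtype.ext (by
    rw [SubmonoidClass.coe_pow]; exact hC _ n.2 (hNc n hn))
  have h2 : (⟨n, hn⟩ : N) ^ (Nat.card N) = 1 := pow_card_eq_one'
  exact orderOf_eq_one_iff.1 (Nat.eq_one_of_dvd_coprimes hNp (orderOf_dvd_of_pow_eq_one (congrArg Subtype.val h2))
    (orderOf_dvd_of_pow_eq_one hnr))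

set_option maxHeartbeats 1600000 in
/-- The criterion for the standard field automorphism. -/
theorem FieldHyp.core_criterion (D : FieldHyp M₀ emb σ r)
    (hΓ : Cfsg.gammaPOmega F ⇑(extForm emb M₀) = ⊤)
    (hM : ∀ (τ : F ≃+* F) (i j : ι), τ (emb (M₀ i j)) = emb (M₀ i j))
    (hsq : ∀ g : Cfsg.Geo.quadSimilarityGroup ⇑(matQuad M₀), g * g ∈ innPre ⇑(matQuad M₀))
    (heven : 2 ∣ Nat.card (Cfsg.POmega F₀ ⇑(matQuad M₀)))
    (A : Subgroup (MulAut (Cfsg.POmega F ⇑(extForm emb M₀))))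
    (hinn : ∀ k, MulAut.conj k ∈ A) :
    Cfsg.pPrimeCore r ↥(A ⊓ Subgroup.centralizer {D.fld}) ≠ ⊥ ↔
      Nat.Coprime r (Nat.card ↥(MonoidHom.eqLocus D.fld.toMonoidHom
        (MonoidHom.id (Cfsg.POmega F ⇑(extForm emb M₀))))) := by
  classical
  haveI := D.finite₀
  haveI := D.nonempty
  haveI : Fact r.Prime := ⟨D.prime⟩
  haveI := Fintype.ofFinite F
  set x := D.fld with hx
  set J := Cfsg.Inn (Cfsg.POmega F ⇑(extForm emb M₀)) ⊓ Subgroup.centralizer {x} with hJ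
  let ψ : Cfsg.Geo.quadSimilarityGroup ⇑(matQuad M₀) →* MulAut (Cfsg.POmega F ⇑(extForm emb M₀)) := (simAut ⇑(extForm emb M₀)).comp (extend emb M₀)
  let χ : Cfsg.Geo.quadSimilarityGroup ⇑(matQuad M₀) →* MulAut (Cfsg.POmega F₀ ⇑(matQuad M₀)) := simAut ⇑(matQuad M₀)
  have hker : ∀ g, ψ g = 1 ↔ χ g = 1 := fun g => D.simAut_extend_eq_one_iff g
  have hinj := conj_pOmega_injective D.nondeg D.five_le
  have hinj₀ := conj_pOmega_injective D.nondeg₀ D.five_le
  haveI hIn : (Cfsg.Inn (Cfsg.POmega F₀ ⇑(matQuad M₀))).Normal := Cfsg.innNormal _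
  haveI hIn' : (Cfsg.Inn (Cfsg.POmega F ⇑(extForm emb M₀))).Normal := Cfsg.innNormal _
  -- the fixed points
  have hP0 : Nat.card ↥(MonoidHom.eqLocus x.toMonoidHom (MonoidHom.id (Cfsg.POmega F ⇑(extForm emb M₀)))) = Nat.card J := by
    have hfix : ∀ k, x k = k ↔ MulAut.conj k ∈ Subgroup.centralizer ({x} : Set _) := fun k => by
      rw [Subgroup.mem_centralizer_singleton_iff, ← mul_inv_eq_iff_eq_mul]
      constructor
      · intro h
        refine mul_inv_eq_iff_eq_mul.2 ?_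
        refine MulEquiv.ext fun y => ?_
        simp [MulAut.mul_apply, map_mul, map_inv, h]
      · intro h
        have h' : x * MulAut.conj k * x⁻¹ = MulAut.conj k := by
          rw [← mul_inv_eq_iff_eq_mul.1 h, mul_inv_cancel_right]
        refine hinj (Eq.trans ?_ h')
        exact MulEquiv.ext fun y => by simp
    rw [Nat.card_congr ((MonoidHom.eqLocus x.toMonoidHom (MonoidHom.id _)).equivMapOfInjective _ hinj).toEquiv]
    congr 2
    ext β
    constructor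
    · rintro ⟨k, hk, rfl⟩
      exact ⟨⟨k, rfl⟩, (hfix k).1 hk⟩
    · rintro ⟨⟨k, rfl⟩, hk⟩
      exact ⟨k, (hfix k).2 hk, rfl⟩
  rw [hP0]
  have hψc : ψ.range = (simAut ⇑(extForm emb M₀)).range ⊓ Subgroup.centralizer {x} := by
    rw [MonoidHom.range_eq_map (simAut ⇑(extForm emb M₀)), D.inf_centralizer ⊤ (fun _ => trivial), Subgroup.comap_top,
      ← MonoidHom.range_eq_map]
  have hJψ : J ≤ ψ.range := by
    rw [hψc]
    refine inf_le_inf_right _ ?_
    rw [inn_eq_map]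
    rintro _ ⟨s, rfl⟩
    exact ⟨_, rfl⟩
  set R := (innPre ⇑(matQuad M₀)).map ψ with hR
  have hχinn : (innPre ⇑(matQuad M₀)).map χ = Cfsg.Inn (Cfsg.POmega F₀ ⇑(matQuad M₀)) := by
    rw [innPre, Subgroup.map_comap_eq, inf_eq_right, inn_eq_map]
    rintro _ ⟨s, rfl⟩
    exact ⟨_, rfl⟩
  obtain ⟨eR⟩ := nonempty_map_equiv_of_ker (innPre ⇑(matQuad M₀)) ψ χ fun g _ => hker g
  let eP : R ≃* Cfsg.POmega F₀ ⇑(matQuad M₀) :=
    (eR.trans (MulEquiv.subgroupCongr hχinn)).trans (MonoidHom.ofInjective hinj₀).symm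
  haveI : IsSimpleGroup (Cfsg.POmega F₀ ⇑(matQuad M₀)) := isSimpleGroup_pOmega (matQuad M₀) D.nondeg₀ D.five_le
  haveI : IsSimpleGroup R := eP.isSimpleGroup
  have hRJ : R ≤ J := by
    rintro _ ⟨g, hg, rfl⟩
    refine ⟨?_, ((le_of_eq hψc) ⟨g, rfl⟩).2⟩
    obtain ⟨w, hw, c, rfl⟩ := (mem_innPre_iff D.nondeg₀ D.five_le g).1 hg
    show simAut ⇑(extForm emb M₀) (extend emb M₀ (simScalar (matQuad M₀) c * simIso _ w)) ∈ _
    rw [map_mul, map_mul, show simAut ⇑(extForm emb M₀) (extend emb M₀ (simScalar (matQuad M₀) c)) = 1 from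
      (D.simAut_extend_eq_one_iff _).2 ((simAut_eq_one_iff D.nondeg₀ D.five_le _).2 (simScalar_mem_scalars _ c)),
      one_mul, extend_simIso, inn_eq_map]
    exact ⟨⟨_, omega_extendIso_mem hw⟩, rfl⟩
  have hRn : ∀ a ∈ ψ.range, ∀ s ∈ R, a * s * a⁻¹ ∈ R := by
    rintro _ ⟨g, rfl⟩ _ ⟨w, hw, rfl⟩
    exact ⟨g * w * g⁻¹, (Subgroup.Normal.comap hIn (simAut ⇑(matQuad M₀))).conj_mem w hw g, by
      rw [map_mul, map_mul, map_inv]⟩
  have hCJ : ∀ y ∈ ψ.range, (∀ s ∈ R, y * s = s * y) → y = 1 := by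
    rintro _ ⟨g, rfl⟩ hg
    refine (hker g).2 (eq_one_of_comm_conj hinj₀ fun k => ?_)
    obtain ⟨w, hw, hwk⟩ : MulAut.conj k ∈ (innPre ⇑(matQuad M₀)).map χ := hχinn ▸ ⟨k, rfl⟩
    have h1 := hg _ ⟨w, hw, rfl⟩
    rw [← mul_inv_eq_iff_eq_mul, ← map_mul, ← map_inv, ← map_mul, ← mul_inv_eq_one, ← map_inv, ← map_mul,
      hker, map_mul, map_inv, mul_inv_eq_one, map_mul, map_inv, map_mul, hwk, mul_inv_eq_iff_eq_mul] at h1
    exact h1
  refine centralizer_core_criterion A (Cfsg.Inn _) R x D.prime (fun β hβ => ?_) hRJ ?_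
    (fun a ha => hRn a (hJψ ha)) ?_ ?_
  · obtain ⟨k, rfl⟩ := hβ
    exact hinn k
  · intro hrJ
    rcases D.prime.eq_two_or_odd' with rfl | hodd
    · rwa [Nat.card_congr eP.toEquiv]
    obtain ⟨y, hy⟩ := exists_prime_orderOf_dvd_card' r hrJ
    obtain ⟨g, hg⟩ := hJψ y.2
    have h2 : (y.1 ^ 2) ∈ R := ⟨g * g, hsq g, by rw [map_mul, hg, _root_.sq]⟩
    obtain ⟨k, hk⟩ := hodd
    have hy' : orderOf (y : MulAut (Cfsg.POmega F ⇑(extForm emb M₀))) = r := by rw [Subgroup.orderOf_coe, hy]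
    have hyR : (y : MulAut (Cfsg.POmega F ⇑(extForm emb M₀))) ∈ R := by
      have e : (y.1 ^ 2) ^ (k + 1) = y.1 := by
        rw [← pow_mul, show 2 * (k + 1) = r + 1 by omega, pow_succ, ← hy', pow_orderOf_eq_one, one_mul]
      exact e ▸ pow_mem h2 _
    rw [← hy', ← Subgroup.orderOf_mk _ hyR]
    exact orderOf_dvd_natCard _
  · exact fun y hy h => hCJ y (hJψ hy) h
  intro n hnH hnc
  -- the field part fixes the subfield
  obtain ⟨y, hy⟩ : n ∈ (autOmega ⇑(extForm emb M₀)).range := by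
    rw [← gammaPOmega_eq, hΓ]; trivial
  set τ := (y : GammaL ι F).right with hτ
  have hMτ : ∀ v, (extForm emb M₀) (fun i => τ (v i)) = τ ((extForm emb M₀) v) := fun v => by
    have h : (M₀.map emb).map τ *ᵥ (fun i => τ (v i)) = (M₀.map emb) *ᵥ fun i => τ (v i) := by
      congr 1; ext i j; exact hM τ i j
    rw [extForm, matQuad_apply, matQuad_apply, ← h, ← map_mulVec']
    simp [dotProduct, map_sum, map_mul]
  let yτ : semiSim ⇑(extForm emb M₀) := ⟨SemidirectProduct.inr τ, 1, fun v => by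
    rw [slAct_inr, hMτ, SemidirectProduct.right_inr, Units.val_one, one_mul]⟩
  have hg : ((y * yτ⁻¹ : semiSim ⇑(extForm emb M₀)) : GammaL ι F).right = 1 := by
    rw [Subgroup.coe_mul, Subgroup.coe_inv, SemidirectProduct.mul_right, SemidirectProduct.inv_right]
    exact mul_inv_cancel τ
  obtain ⟨g, hg'⟩ : ∃ g, y * yτ⁻¹ = simIncl ⇑(extForm emb M₀) g := by
    obtain ⟨c, hc⟩ := (y * yτ⁻¹).2
    have e : ((y * yτ⁻¹ : semiSim ⇑(extForm emb M₀)) : GammaL ι F) =
        SemidirectProduct.inl ((y * yτ⁻¹ : semiSim ⇑(extForm emb M₀)) : GammaL ι F).left :=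
      SemidirectProduct.ext (by simp) (by rw [SemidirectProduct.right_inl]; exact hg)
    refine ⟨⟨_, c, fun v => ?_⟩, Subtype.ext e⟩
    have := hc v
    rw [e, slAct_inl, SemidirectProduct.right_inl] at this
    exact this
  have hn' : n = simAut ⇑(extForm emb M₀) g * autOmega ⇑(extForm emb M₀) yτ := by
    rw [← hy, simAut, MonoidHom.comp_apply, ← hg', ← map_mul, inv_mul_cancel_right]
  have hcomm : autOmega ⇑(extForm emb M₀) yτ * x = x * autOmega ⇑(extForm emb M₀) yτ := by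
    rw [hx, FieldHyp.fld, ← map_mul, ← map_mul]
    congr 1
    refine Subtype.ext ?_
    show SemidirectProduct.inr τ * SemidirectProduct.inr σ = SemidirectProduct.inr σ * SemidirectProduct.inr τ
    rw [← map_mul, ← map_mul, fieldMap_commute]
  have hgx : simAut ⇑(extForm emb M₀) g * x = x * simAut ⇑(extForm emb M₀) g := by
    have h1 : n * x = x * n :=
      Subgroup.mem_centralizer_singleton_iff.1 hnH.2
    rw [hn', mul_assoc, hcomm, ← mul_assoc, ← mul_assoc] at h1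
    exact mul_right_cancel h1
  obtain ⟨g₀, hg₀⟩ : simAut ⇑(extForm emb M₀) g ∈ ψ.range := by
    rw [hψc]; exact ⟨⟨g, rfl⟩, Subgroup.mem_centralizer_singleton_iff.2 hgx⟩
  have hτfix : ∀ a, ∃ b, emb b = τ (emb a) := fun a => (D.fix _).1 (by
    have h1 : σ (τ (emb a)) = τ (σ (emb a)) := DFunLike.congr_fun (fieldMap_commute σ τ) (emb a)
    rw [h1, D.fix'])
  choose t ht using hτfix
  let τ₀ : F₀ ≃+* F₀ := RingEquiv.ofBijective
    ({ toFun := t
       map_one' := emb.injective (by rw [ht, map_one, map_one])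
       map_mul' := fun a b => emb.injective (by simp only [map_mul, ht])
       map_zero' := emb.injective (by rw [ht, map_zero, map_zero])
       map_add' := fun a b => emb.injective (by simp only [map_add, ht]) } : F₀ →+* F₀)
    ⟨RingHom.injective _, Finite.surjective_of_injective (RingHom.injective _)⟩
  have hτ₀ : ∀ a, emb (τ₀ a) = τ (emb a) := ht
  have hM₀ : ∀ v, (matQuad M₀) (fun i => τ₀ (v i)) = τ₀ ((matQuad M₀) v) := fun v => emb.injective (by
    rw [hτ₀, ← matQuad_map emb M₀, ← matQuad_map emb M₀ v]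
    refine Eq.trans ?_ (hMτ (emb ∘ v))
    congr 1
    funext i; exact hτ₀ (v i))
  let y₀ : semiSim ⇑(matQuad M₀) := ⟨SemidirectProduct.inr τ₀, 1, fun v => by
    rw [slAct_inr, hM₀, SemidirectProduct.right_inr, Units.val_one, one_mul]⟩
  have htw : ∀ w, conjSim yτ (extend emb M₀ w) = extend emb M₀ (conjSim y₀ w) := by
    intro w
    refine Subtype.ext (Units.ext ?_)
    show ((1 : GL ι F) * glAut ι F τ (extend emb M₀ w : GL ι F) * (1 : GL ι F)⁻¹ : GL ι F).1 =
      (((1 : GL ι F₀) * glAut ι F₀ τ₀ (w : GL ι F₀) * (1 : GL ι F₀)⁻¹ : GL ι F₀).1).map emb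
    simp only [one_mul, inv_one, mul_one, glAut_coe, extend_coe]
    ext i j
    exact (hτ₀ _).symm
  have hkey : χ g₀ * autOmega ⇑(matQuad M₀) y₀ = 1 := by
    refine eq_one_of_comm_conj hinj₀ fun k => ?_
    obtain ⟨w, hw, hwk⟩ : MulAut.conj k ∈ (innPre ⇑(matQuad M₀)).map χ := hχinn ▸ ⟨k, rfl⟩
    have h1 := hnc _ ⟨w, hw, rfl⟩
    have h2 : ψ (g₀ * conjSim y₀ w * g₀⁻¹) = ψ w := by
      rw [hn', ← hg₀, mul_assoc] at h1
      have h3 : autOmega ⇑(extForm emb M₀) yτ * ψ w * (autOmega ⇑(extForm emb M₀) yτ)⁻¹ = ψ (conjSim y₀ w) := by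
        show _ = simAut ⇑(extForm emb M₀) (extend emb M₀ (conjSim y₀ w))
        rw [← htw, simAut_conjSim]
        rfl
      rw [← mul_inv_eq_iff_eq_mul] at h1
      rw [map_mul, map_mul, map_inv, ← h3]
      refine Eq.trans ?_ h1
      group
    have h4 : χ (g₀ * conjSim y₀ w * g₀⁻¹) = χ w := by
      rw [← mul_inv_eq_one, ← map_inv, ← map_mul, ← hker, map_mul, map_inv, mul_inv_eq_one]
      exact h2
    rw [map_mul, map_mul, map_inv, show χ (conjSim y₀ w) = _ from simAut_conjSim y₀ w,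
      show simAut ⇑(matQuad M₀) w = MulAut.conj k from hwk] at h4
    rw [← mul_inv_eq_iff_eq_mul]
    refine Eq.trans ?_ h4
    group
  have hτ1 : τ₀ = 1 := by
    rw [show χ g₀ = autOmega ⇑(matQuad M₀) (simIncl ⇑(matQuad M₀) g₀) from rfl, ← map_mul,
      autOmega_eq_one_iff D.nondeg₀ D.five_le] at hkey
    simpa [y₀, simIncl] using hkey.1
  obtain ⟨i, hi⟩ := Subgroup.mem_zpowers_iff.1 (CfsgLib.KnownB.PSpAut.mem_zpowers_of_fix σ τ fun a ha => by
    obtain ⟨b, rfl⟩ := (D.fix a).1 ha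
    rw [← hτ₀, hτ1]; rfl)
  have hyτ : autOmega ⇑(extForm emb M₀) yτ = x ^ i := by
    rw [hx, FieldHyp.fld, ← map_zpow]
    congr 1
    refine Subtype.ext ?_
    rw [SubgroupClass.coe_zpow]
    show SemidirectProduct.inr τ = SemidirectProduct.inr σ ^ i
    rw [← map_zpow, hi]
  have hg1 : simAut ⇑(extForm emb M₀) g = 1 := by
    refine hCJ _ ⟨g₀, hg₀⟩ fun s hs => ?_
    have h1 := hnc s hs
    have hsx : x * s = s * x := (Subgroup.mem_centralizer_singleton_iff.1 (hRJ hs).2).symm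
    have hxs : x ^ i * s = s * x ^ i := (Commute.zpow_left hsx i).eq
    rw [hn', hyτ, mul_assoc, hxs, ← mul_assoc, ← mul_assoc] at h1
    exact mul_right_cancel h1
  have hxr : x ^ r = 1 := by
    rw [hx, FieldHyp.fld, ← map_pow]
    have : D.base ^ r = 1 := Subtype.ext (by
      rw [SubmonoidClass.coe_pow]
      show SemidirectProduct.inr σ ^ r = 1
      rw [← map_pow, ← D.order, pow_orderOf_eq_one, map_one])
    rw [this, map_one]
  rw [hn', hg1, one_mul, hyτ, ← zpow_natCast, ← _root_.zpow_mul, mul_comm, _root_.zpow_mul, zpow_natCast, hxr,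
    _root_.one_zpow]

end CfsgLib.Geometry
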