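import Mathlib

/-! Groups of order two, four and eight as quotients: recognition lemmas. -/

set_option autoImplicit false

namespace CfsgLib.Geometry

variable {G A B : Type*} [Group G] [Group A] [Group B]

/-- A homomorphism on the range, from one on the source. -/
theorem exists_hom_range (α : G →* A) (T : Subgroup A) (ψ : G →* B) (hψ : Function.Surjective ψ)
    (hk : ∀ g, ψ g = 1 ↔ α g ∈ T) {H : Subgroup A} (hH : H = α.range) :
    ∃ φ : ↥H →* B, Function.Surjective φ ∧ φ.ker = T.subgroupOf H := by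
  subst hH
  have hle : α.rangeRestrict.ker ≤ ψ.ker := fun g hg => (hk g).2 (by
    rw [MonoidHom.mem_ker] at hg
    rw [show α g = 1 from congrArg Subtype.val hg]
    exact T.one_mem)
  set φ := α.rangeRestrict.liftOfSurjective α.rangeRestrict_surjective ⟨ψ, hle⟩ with hφ
  have hc : ∀ g, φ (α.rangeRestrict g) = ψ g := fun g =>
    MonoidHom.liftOfRightInverse_comp_apply _ _ _ _ g
  refine ⟨φ, fun b => ?_, ?_⟩
  · obtain ⟨g, rfl⟩ := hψ b
    exact ⟨_, hc g⟩
  · ext x
    obtain ⟨g, rfl⟩ := α.rangeRestrict_surjective x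
    rw [MonoidHom.mem_ker, hc, Subgroup.mem_subgroupOf]
    exact hk g

/-- The quotient of an image by a normal subgroup, through an identification. -/
theorem exists_hom_map_of_equiv (α : G →* A) (N : Subgroup A) [N.Normal] (K : Subgroup G)
    (e : ↥(K.map ((QuotientGroup.mk' N).comp α)) ≃* B) {H : Subgroup A} (hH : H = K.map α) :
    ∃ φ : ↥H →* B, Function.Surjective φ ∧ φ.ker = N.subgroupOf H := by
  refine exists_hom_range (α.comp K.subtype) N
    (e.toMonoidHom.comp (((QuotientGroup.mk' N).comp α).subgroupMap K)) ?_ (fun g => ?_) ?_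
  · exact e.surjective.comp (MonoidHom.subgroupMap_surjective _ _)
  · rw [MonoidHom.comp_apply, MulEquiv.coe_toMonoidHom, MulEquiv.map_eq_one_iff, Subtype.ext_iff]
    exact QuotientGroup.eq_one_iff _
  · rw [hH, MonoidHom.range_comp, Subgroup.range_subtype]

theorem relIndex_eq_of_hom {N H : Subgroup A} (φ : ↥H →* B) (hφ : Function.Surjective φ)
    (hk : φ.ker = N.subgroupOf H) : N.relIndex H = Nat.card B := by
  rw [Subgroup.relIndex, ← hk, Subgroup.index_ker, MonoidHom.range_eq_top.2 hφ]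
  exact Nat.card_congr Subgroup.topEquiv.toEquiv

/-- Four elements. -/
theorem card_four_of_cover {x y : G} (hx : x ≠ 1) (hy : y ≠ 1) (hxy : x ≠ y) (hp : x * y ≠ 1)
    (hcov : ∀ z : G, z = 1 ∨ z = x ∨ z = y ∨ z = x * y) : Nat.card G = 4 := by
  have hu : (Set.univ : Set G) = {1, x, y, x * y} := by
    ext z
    simpa using hcov z
  rw [← Set.ncard_univ, hu, Set.ncard_insert_of_notMem (by simp [Ne.symm hx, Ne.symm hy, Ne.symm hp]),
    Set.ncard_insert_of_notMem (by simp [hxy, hy]),
    Set.ncard_insert_of_notMem (by simp [hx]), Set.ncard_singleton]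

/-- Two commuting involutions generating: the four group. -/
theorem nonempty_klein {x y : G} (hx : x ≠ 1) (hy : y ≠ 1) (hxy : x ≠ y) (hxx : x * x = 1)
    (hyy : y * y = 1) (hcov : ∀ z : G, z = 1 ∨ z = x ∨ z = y ∨ z = x * y) :
    Nonempty (G ≃* Multiplicative (ZMod 2 × ZMod 2)) := by
  have hp : x * y ≠ 1 := fun h => hxy (by
    rw [← inv_eq_of_mul_eq_one_right hxx, inv_eq_of_mul_eq_one_right h])
  have h4 := card_four_of_cover hx hy hxy hp hcov
  haveI : Fact (Nat.Prime 2) := ⟨Nat.prime_two⟩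
  have hcomm := IsPGroup.commutative_of_card_eq_prime_sq (p := 2) (G := G) (by rw [h4]; rfl)
  have hsq : ∀ z : G, z * z = 1 := fun z => by
    rcases hcov z with rfl | rfl | rfl | rfl
    · exact one_mul 1
    · exact hxx
    · exact hyy
    · rw [hcomm x y, mul_assoc, ← mul_assoc x, ← hcomm y x, mul_assoc y x x, hxx, mul_one, hyy]
  haveI : Nontrivial G := ⟨⟨x, 1, hx⟩⟩
  haveI : IsKleinFour G := ⟨h4, (Monoid.exponent_eq_prime_iff Nat.prime_two).2 fun g hg =>
    orderOf_eq_prime (by rw [_root_.sq, hsq]) hg⟩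
  exact IsKleinFour.nonempty_mulEquiv

/-- An element of order four among four. -/
theorem nonempty_cyclic_four {x y : G} (hx : x ≠ 1) (hy : y ≠ 1) (hxy : x ≠ y) (hp : x * y ≠ 1) (hxx : x * x = y)
    (hcov : ∀ z : G, z = 1 ∨ z = x ∨ z = y ∨ z = x * y) :
    Nonempty (G ≃* Multiplicative (ZMod 4)) := by
  have h4 := card_four_of_cover hx hy hxy hp hcov
  haveI : Finite G := Nat.finite_of_card_ne_zero (by omega)
  haveI : Fact (Nat.Prime 2) := ⟨Nat.prime_two⟩
  have ho : orderOf x = 2 ^ (1 + 1) := orderOf_eq_prime_pow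
    (by rw [pow_one, _root_.sq, hxx]; exact hy)
    (by rw [show 2 ^ (1 + 1) = Nat.card G by omega]; exact pow_card_eq_one')
  haveI := isCyclic_of_orderOf_eq_card x (by rw [ho, h4]; rfl)
  exact ⟨mulEquivOfCyclicCardEq (by rw [h4, Nat.card_eq_fintype_card, Fintype.card_multiplicative, ZMod.card])⟩

/-- Two elements. -/
theorem nonempty_two {x : G} (hx : x ≠ 1) (hcov : ∀ z : G, z = 1 ∨ z = x) :
    Nonempty (G ≃* Multiplicative (ZMod 2)) := by
  haveI : Fact (Nat.Prime 2) := ⟨Nat.prime_two⟩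
  refine ⟨mulEquivOfPrimeCardEq (p := 2) ?_ ?_⟩
  · exact Nat.card_eq_two_iff.2 ⟨x, 1, hx, Set.eq_univ_of_forall fun z => by
      rcases hcov z with h | h
      · exact Or.inr h
      · exact Or.inl h⟩
  · rw [Nat.card_eq_fintype_card, Fintype.card_multiplicative, ZMod.card]

/-- The dihedral group of order eight from a non-central involution. -/
theorem nonempty_dihedral {a g : G} (ha : a ≠ 1) (haa : a * a = 1)
    (hne : g * a * g⁻¹ ≠ a) (hcomm : Commute a (g * a * g⁻¹))
    (hgg : g * g = 1 ∨ g * g = a * (g * a * g⁻¹))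
    (hgen : Subgroup.closure {a, g} = ⊤) :
    Nonempty (G ≃* DihedralGroup 4) := by
  set b := g * a * g⁻¹ with hb
  have hbb : b * b = 1 := by rw [hb]; simp [mul_assoc]; rw [← mul_assoc a a, haa]; simp
  have hab : a * b ≠ 1 := fun h => hne (by
    rw [← inv_eq_of_mul_eq_one_right haa, inv_eq_of_mul_eq_one_right h])
  -- an element of order four inverted by `a`
  obtain ⟨ρ, hρ2, hρ, hgρ⟩ : ∃ ρ : G, ρ * ρ = a * b ∧ a * ρ * a = ρ⁻¹ ∧
      g ∈ Subgroup.closure {a, ρ} := by
    rcases hgg with h | h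
    · have hg : g⁻¹ = g := inv_eq_of_mul_eq_one_right h
      refine ⟨a * g, ?_, ?_, ?_⟩
      · rw [hb, hg]; simp only [mul_assoc]
      · rw [_root_.mul_inv_rev, hg, inv_eq_of_mul_eq_one_right haa, ← mul_assoc, haa, one_mul]
      · have h1 : a ∈ Subgroup.closure {a, a * g} := Subgroup.subset_closure (Or.inl rfl)
        have h2 : a * g ∈ Subgroup.closure {a, a * g} := Subgroup.subset_closure (Or.inr rfl)
        have := mul_mem (inv_mem h1) h2
        rwa [inv_mul_cancel_left] at this
    · refine ⟨g, h, ?_, Subgroup.subset_closure (Or.inr rfl)⟩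
      refine eq_inv_of_mul_eq_one_left ?_
      have e : g * a = b * g := by rw [hb, inv_mul_cancel_right]
      calc a * g * a * g = a * (g * a) * g := by group
        _ = a * b * (g * g) := by rw [e]; group
        _ = (a * b) * (a * b) := by rw [h]
        _ = a * (b * a) * b := by group
        _ = 1 := by rw [← hcomm.eq, ← mul_assoc a a, haa, one_mul, hbb]
  have hρ4 : ρ ^ 4 = 1 := by
    rw [show ρ ^ 4 = (ρ * ρ) * (ρ * ρ) by simp [pow_succ, mul_assoc], hρ2, mul_assoc, ← mul_assoc b, ← hcomm.eq,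
      mul_assoc, hbb, mul_one, haa]
  have hord : orderOf ρ = 4 := by
    haveI : Fact (Nat.Prime 2) := ⟨Nat.prime_two⟩
    exact orderOf_eq_prime_pow (n := 1) (show ¬ ρ ^ 2 ^ 1 = 1 by rwa [pow_one, _root_.sq, hρ2])
      (show ρ ^ 2 ^ (1 + 1) = 1 from hρ4)
  have hz : ∀ i j : ZMod 4, ρ ^ (i + j).val = ρ ^ i.val * ρ ^ j.val := fun i j => by
    rw [← pow_add, ← pow_mod_orderOf ρ (i.val + j.val), hord, ZMod.val_add]
  have hconj : ∀ n : ℕ, ρ ^ n * a = a * (ρ ^ n)⁻¹ := fun n => by
    induction n with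
    | zero => simp
    | succ n ih =>
      have h1 : ρ * a = a * ρ⁻¹ := by rw [← hρ, ← mul_assoc, ← mul_assoc, haa, one_mul]
      rw [pow_succ, mul_assoc, h1, ← mul_assoc, ih, _root_.mul_inv_rev, mul_assoc,
        ← inv_pow, ← pow_succ, ← pow_succ']
  have hsub : ∀ i j : ZMod 4, (ρ ^ i.val)⁻¹ * ρ ^ j.val = ρ ^ (j - i).val := fun i j => by
    rw [inv_mul_eq_iff_eq_mul, ← hz, add_sub_cancel]
  let f : DihedralGroup 4 →* G :=
    { toFun := fun z => match z with
        | .r i => ρ ^ i.val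
        | .sr i => a * ρ ^ i.val
      map_one' := pow_zero ρ
      map_mul' := by
        rintro (i | i) (j | j)
        · rw [DihedralGroup.r_mul_r]; exact hz i j
        · rw [DihedralGroup.r_mul_sr]
          show a * ρ ^ (j - i).val = ρ ^ i.val * (a * ρ ^ j.val)
          rw [← mul_assoc, hconj, mul_assoc, hsub]
        · rw [DihedralGroup.sr_mul_r]
          show a * ρ ^ (i + j).val = a * ρ ^ i.val * ρ ^ j.val
          rw [hz, mul_assoc]
        · rw [DihedralGroup.sr_mul_sr]
          show ρ ^ (j - i).val = a * ρ ^ i.val * (a * ρ ^ j.val)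
          rw [mul_assoc a, ← mul_assoc (ρ ^ i.val), hconj, mul_assoc, ← mul_assoc a, haa,
            one_mul, hsub] }
  have hinj : Function.Injective f := by
    have hpow : ∀ i : ZMod 4, ρ ^ i.val = 1 → i = 0 := fun i hi => by
      have h := orderOf_dvd_of_pow_eq_one hi
      rw [hord] at h
      have := ZMod.val_lt i
      exact (ZMod.val_eq_zero i).1 (Nat.eq_zero_of_dvd_of_lt h this)
    refine (injective_iff_map_eq_one f).2 ?_
    rintro (i | i) hi
    · rw [hpow i hi, DihedralGroup.one_def]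
    · exfalso
      have e : a * ρ ^ i.val = 1 := hi
      have hcom : a * ρ = ρ * a := by
        rw [eq_inv_of_mul_eq_one_left e]
        exact ((Commute.refl ρ).pow_left i.val).inv_left.eq
      rw [hcom, mul_assoc, haa, mul_one] at hρ
      refine hab ?_
      rw [← hρ2]
      exact eq_inv_iff_mul_eq_one.1 hρ
  have hsurj : Function.Surjective f := by
    rw [← MonoidHom.range_eq_top, ← top_le_iff, ← hgen, Subgroup.closure_le]
    have hρr : ρ ∈ f.range := ⟨.r 1, by show ρ ^ (1 : ZMod 4).val = ρ; exact pow_one ρ⟩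
    have har : a ∈ f.range := ⟨.sr 0, by show a * ρ ^ (0 : ZMod 4).val = a; simp⟩
    rintro x (rfl | rfl)
    · exact har
    · exact (Subgroup.closure_le f.range).2 (by rintro y (rfl | rfl); exacts [har, hρr]) hgρ
  exact ⟨(MulEquiv.ofBijective f ⟨hinj, hsurj⟩).symm⟩

end CfsgLib.Geometry
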