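import Cfsg.Agent.Lib.Geometry.SimInvariant
import Cfsg.Agent.Lib.Geometry.SmallQuot

/-! Quotients of the similarity-induced automorphism groups of `POmega` by `Inn`, odd characteristic. -/

set_option autoImplicit false

namespace CfsgLib.Geometry

open Matrix QuadraticMap

variable {ι : Type} [Fintype ι] [DecidableEq ι] {F : Type*} [Field F]

/-- An even-dimensional nondegenerate matrix form in odd characteristic. -/
structure SimHyp (M : Matrix ι ι F) (k : ℕ) : Prop where
  two_ne : (2 : F) ≠ 0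
  det_ne : (M + Mᵀ).det ≠ 0
  card_eq : Fintype.card ι = 2 * k
  three_le : 3 ≤ k

variable {M : Matrix ι ι F} {k : ℕ}

theorem SimHyp.nondeg (D : SimHyp M k) : (polarBilin (matQuad M)).Nondegenerate :=
  nondegenerate_matQuad D.det_ne

theorem SimHyp.five_le (D : SimHyp M k) : 5 ≤ Fintype.card ι := by
  have := D.card_eq; have := D.three_le; omega

theorem SimHyp.ne (D : SimHyp M k) : ∃ v, matQuad M v ≠ 0 :=
  exists_ne_zero_of_nondegenerate _ D.nondeg (by have := D.five_le; omega)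

theorem SimHyp.even (D : SimHyp M k) : Even (Fintype.card ι) := ⟨k, by rw [D.card_eq, two_mul]⟩

/-- The multiplier of a similarity. -/
noncomputable def SimHyp.mult (D : SimHyp M k) :
    Cfsg.Geo.quadSimilarityGroup ⇑(matQuad M) →* Fˣ := simMult D.ne

/-- The sign of a similarity. -/
noncomputable def SimHyp.chi (D : SimHyp M k) :
    Cfsg.Geo.quadSimilarityGroup ⇑(matQuad M) →* Fˣ := simChi M D.ne k

/-- The image in `Out`. -/
noncomputable def outHom (Q : (ι → F) → F) :
    Cfsg.Geo.quadSimilarityGroup Q →* Cfsg.Out (Cfsg.POmega F Q) :=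
  (QuotientGroup.mk' (Cfsg.Inn (Cfsg.POmega F Q))).comp (simAut Q)

theorem outHom_eq_one_iff {Q : (ι → F) → F} (g : Cfsg.Geo.quadSimilarityGroup Q) :
    outHom Q g = 1 ↔ g ∈ innPre Q :=
  (QuotientGroup.eq_one_iff _).trans Iff.rfl

variable [Finite F]

theorem sqClass_cases (h2 : (2 : F) ≠ 0) {s : SqClass F} (hs : s ≠ 1) (t : SqClass F) :
    t = 1 ∨ t = s := by
  obtain ⟨a, b, -, hab⟩ := Nat.card_eq_two_iff.1 (card_sqClass (F := F) h2)
  have h : ∀ z : SqClass F, z = a ∨ z = b := fun z => by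
    have : z ∈ ({a, b} : Set (SqClass F)) := hab.symm ▸ trivial
    exact this
  rcases h 1 with h1 | h1 <;> rcases h s with h2' | h2' <;> rcases h t with h3 | h3 <;> simp_all

theorem SimHyp.outHom_iso_eq (D : SimHyp M k) {h h' : Cfsg.isometryGroup F ⇑(matQuad M)}
    (he : isoInv D.nondeg D.two_ne h = isoInv D.nondeg D.two_ne h') :
    outHom _ (simIso _ h) = outHom _ (simIso _ h') := by
  rw [← inv_mul_eq_one, ← map_inv, ← map_mul, ← map_inv, ← map_mul, outHom_eq_one_iff,
    simIso_mem_innPre_iff D.five_le D.even D.det_ne D.two_ne]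
  exact Or.inl (by rw [map_mul, map_inv, he, inv_mul_cancel])

theorem SimHyp.outHom_scalar (D : SimHyp M k) (c : Fˣ) :
    outHom _ (simScalar (matQuad M) c) = 1 := by
  rw [outHom_eq_one_iff, mem_innPre_iff D.nondeg D.five_le]
  exact ⟨1, one_mem _, c, by rw [map_one, mul_one]⟩

theorem SimHyp.sqHom_mult_of_innPre (D : SimHyp M k) {g : Cfsg.Geo.quadSimilarityGroup ⇑(matQuad M)}
    (hg : g ∈ innPre ⇑(matQuad M)) : sqHom F (D.mult g) = 1 := by
  obtain ⟨w, -, c, rfl⟩ := (mem_innPre_iff D.nondeg D.five_le g).1 hg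
  rw [SimHyp.mult, map_mul, simMult_scalar, simMult_iso, mul_one, map_mul, sqClass_mul_self]

/-- A similarity with square multiplier is a scalar times an isometry. -/
theorem SimHyp.exists_scalar_mul_iso (D : SimHyp M k) {g : Cfsg.Geo.quadSimilarityGroup ⇑(matQuad M)}
    (hg : sqHom F (D.mult g) = 1) :
    ∃ (c : Fˣ) (h : Cfsg.isometryGroup F ⇑(matQuad M)),
      g = simScalar (matQuad M) c * simIso _ h ∧ detHom ⇑(matQuad M) h = D.chi g := by
  obtain ⟨r, hr⟩ := (sqHom_eq_one_iff _).1 hg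
  have hr0 : r ≠ 0 := fun h => (D.mult g).ne_zero (by rw [hr, h, mul_zero])
  set c := Units.mk0 r hr0
  have hc : D.mult g = c * c := Units.ext hr
  have hmem : (((simScalar (matQuad M) c)⁻¹ * g : Cfsg.Geo.quadSimilarityGroup ⇑(matQuad M)) :
      GL ι F) ∈ Cfsg.isometryGroup F ⇑(matQuad M) := by
    rw [← simMult_eq_one_iff D.ne, map_mul, map_inv, simMult_scalar, ← hc, SimHyp.mult,
      inv_mul_cancel]
  refine ⟨c, ⟨_, hmem⟩, (mul_inv_cancel_left _ _).symm, ?_⟩
  rw [← simChi_iso D.ne k, show simIso _ ⟨_, hmem⟩ = (simScalar (matQuad M) c)⁻¹ * g from rfl, map_mul,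
    map_inv, simChi_scalar D.ne D.card_eq, inv_one, one_mul]
  rfl

theorem SimHyp.exists_iso (D : SimHyp M k) (p : SqClass F × Multiplicative (ZMod 2)) :
    ∃ h : Cfsg.isometryGroup F ⇑(matQuad M), isoInv D.nondeg D.two_ne h = p := by
  obtain ⟨x, hx⟩ := orthInvariant_surjective D.nondeg
    (by rw [Module.finrank_fintype_fun_eq_card]; have := D.five_le; omega) D.two_ne
    (reflGroup_eq_orth_of_two_ne D.nondeg D.two_ne) p
  refine ⟨(isomEquiv (matQuad M)).symm x, ?_⟩
  show orthInvariant D.nondeg _ (isomEquiv (matQuad M) ((isomEquiv (matQuad M)).symm x)) = p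
  rw [MulEquiv.apply_symm_apply, hx]

/-- Isometries of determinant one in `Out`: two values. -/
theorem SimHyp.special_cover (D : SimHyp M k) {s : Cfsg.isometryGroup F ⇑(matQuad M)}
    {t : SqClass F} (ht : t ≠ 1) (hs : isoInv D.nondeg D.two_ne s = (t, 1))
    (h : Cfsg.isometryGroup F ⇑(matQuad M)) (hh : detHom ⇑(matQuad M) h = 1) :
    outHom _ (simIso _ h) = 1 ∨ outHom _ (simIso _ h) = outHom _ (simIso _ s) := by
  have h2 := (detHom_eq_one_iff D.nondeg D.two_ne h).1 hh
  rcases sqClass_cases D.two_ne ht (isoInv D.nondeg D.two_ne h).1 with h1 | h1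
  · left
    rw [← map_one (outHom ⇑(matQuad M)), ← map_one (simIso ⇑(matQuad M))]
    exact D.outHom_iso_eq (by rw [map_one]; exact Prod.ext h1 h2)
  · right
    exact D.outHom_iso_eq (by rw [hs]; exact Prod.ext h1 h2)

theorem SimHyp.outHom_iso_eq_one_iff (D : SimHyp M k) {s : Cfsg.isometryGroup F ⇑(matQuad M)}
    {t : SqClass F} (ht : t ≠ 1) (hs : isoInv D.nondeg D.two_ne s = (t, 1)) :
    outHom _ (simIso _ s) = 1 ↔ ¬ IsSquare (M + Mᵀ).det := by
  rw [outHom_eq_one_iff, simIso_mem_innPre_iff D.five_le D.even D.det_ne D.two_ne, hs,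
    ← sqMk_eq_one_iff D.det_ne]
  constructor
  · rintro (h | h)
    · exact absurd (congrArg Prod.fst h) ht
    · exact fun h' => ht ((congrArg Prod.fst h).trans h')
  · intro h
    exact Or.inr (Prod.ext ((sqClass_cases D.two_ne h t).resolve_left ht) rfl)

theorem SimHyp.exists_special (D : SimHyp M k) :
    ∃ (s : Cfsg.isometryGroup F ⇑(matQuad M)) (t : SqClass F), t ≠ 1 ∧
      isoInv D.nondeg D.two_ne s = (t, 1) ∧ detHom ⇑(matQuad M) s = 1 := by
  haveI := Fintype.ofFinite F
  haveI : Finite (SqClass F) := Nat.finite_of_card_ne_zero (by rw [card_sqClass D.two_ne]; omega)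
  haveI : Nontrivial (SqClass F) :=
    Finite.one_lt_card_iff_nontrivial.1 (by rw [card_sqClass D.two_ne]; omega)
  obtain ⟨t, ht⟩ := exists_ne (1 : SqClass F)
  obtain ⟨s, hs⟩ := D.exists_iso (t, 1)
  exact ⟨s, t, ht, hs, (detHom_eq_one_iff D.nondeg D.two_ne s).2 (by rw [hs])⟩

theorem mem_specialIso_iff (g : Cfsg.Geo.quadSimilarityGroup ⇑(matQuad M)) :
    g ∈ (Cfsg.specialIsometryGL F ⇑(matQuad M)).subgroupOf (Cfsg.Geo.quadSimilarityGroup ⇑(matQuad M))
      ↔ ∃ h : Cfsg.isometryGroup F ⇑(matQuad M), detHom ⇑(matQuad M) h = 1 ∧ simIso _ h = g := by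
  constructor
  · rintro ⟨h1, h2⟩
    exact ⟨⟨(g : GL ι F), h1⟩, h2, rfl⟩
  · rintro ⟨h, hd, rfl⟩
    exact ⟨h.2, hd⟩

/-- `Inn` inside the image of the special orthogonal group: index one or two. -/
theorem SimHyp.relIndex_psoAut (D : SimHyp M k) :
    (¬ IsSquare (M + Mᵀ).det →
      Cfsg.psoAut F ⇑(matQuad M) = Cfsg.Inn (Cfsg.POmega F ⇑(matQuad M))) ∧
    (IsSquare (M + Mᵀ).det →
      (Cfsg.Inn (Cfsg.POmega F ⇑(matQuad M))).relIndex (Cfsg.psoAut F ⇑(matQuad M)) = 2) := by
  obtain ⟨s, t, ht, hs, hsd⟩ := D.exists_special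
  constructor
  · intro hd
    rw [psoAut_eq]
    refine le_antisymm ?_ ?_
    · rintro _ ⟨g, hg, rfl⟩
      obtain ⟨h, hh, rfl⟩ := (mem_specialIso_iff g).1 hg
      have : outHom _ (simIso _ h) = 1 := (D.special_cover ht hs h hh).elim id
        fun e => e.trans ((D.outHom_iso_eq_one_iff ht hs).2 hd)
      exact (outHom_eq_one_iff _).1 this
    · rw [inn_eq_map]
      rintro _ ⟨w, rfl⟩
      refine ⟨simIso _ w, (mem_specialIso_iff _).2 ⟨w, ?_, rfl⟩, rfl⟩
      rw [detHom_eq_one_iff D.nondeg D.two_ne, (mem_Omega_iff_isoInv D.nondeg D.two_ne _).1 w.2]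
      rfl
  · intro hd
    set K := (Cfsg.specialIsometryGL F ⇑(matQuad M)).subgroupOf
      (Cfsg.Geo.quadSimilarityGroup ⇑(matQuad M))
    have hsK : outHom _ (simIso _ s) ∈ K.map (outHom ⇑(matQuad M)) :=
      ⟨_, (mem_specialIso_iff _).2 ⟨s, hsd, rfl⟩, rfl⟩
    obtain ⟨e⟩ := nonempty_two (x := (⟨_, hsK⟩ : K.map (outHom ⇑(matQuad M))))
      (fun h => ((D.outHom_iso_eq_one_iff ht hs).1 (congrArg Subtype.val h)) hd) (by
        rintro ⟨_, g, hg, rfl⟩
        obtain ⟨h, hh, rfl⟩ := (mem_specialIso_iff g).1 hg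
        exact (D.special_cover ht hs h hh).imp (fun e => Subtype.ext e) (fun e => Subtype.ext e))
    obtain ⟨φ, hφ, hk⟩ := exists_hom_map_of_equiv (simAut ⇑(matQuad M))
      (Cfsg.Inn (Cfsg.POmega F ⇑(matQuad M))) K e psoAut_eq
    rw [relIndex_eq_of_hom φ hφ hk, Nat.card_eq_fintype_card, Fintype.card_multiplicative, ZMod.card]

/-- The image of the similarity group modulo the image of the special orthogonal group. -/
theorem SimHyp.exists_hom_pso (D : SimHyp M k) {ν : Fˣ} (hν : ¬ IsSquare (ν : F))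
    (g₀ : Cfsg.Geo.quadSimilarityGroup ⇑(matQuad M)) (hg₀ : D.mult g₀ = ν) (hχ₀ : D.chi g₀ = 1) :
    ∃ φ : ↥(Cfsg.pgoAut F ⇑(matQuad M)) →* Multiplicative (ZMod 2 × ZMod 2), Function.Surjective φ ∧
      φ.ker = (Cfsg.psoAut F ⇑(matQuad M)).subgroupOf (Cfsg.pgoAut F ⇑(matQuad M)) := by
  let ψ := ((sqHom F).comp D.mult).prod D.chi
  have hν' : sqHom F ν ≠ 1 := fun h => hν ((sqHom_eq_one_iff ν).1 h)
  obtain ⟨r, hr⟩ := D.exists_iso (1, Multiplicative.ofAdd 1)
  have hrd : D.chi (simIso _ r) = -1 := by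
    refine (simChi_sq D.det_ne D.ne D.card_eq _).resolve_left fun h => ?_
    rw [simChi_iso, detHom_eq_one_iff D.nondeg D.two_ne, hr] at h
    exact absurd (show Multiplicative.ofAdd (1 : ZMod 2) = 1 from h) (by decide)
  have h1 : (-1 : Fˣ) ≠ 1 := fun h => D.two_ne (by
    have := congrArg Units.val h
    rw [Units.val_neg, Units.val_one] at this
    linear_combination -this)
  have hrψ : ψ (simIso _ r) = (1, -1) := Prod.ext (by
    show sqHom F (D.mult _) = 1
    rw [SimHyp.mult, simMult_iso, map_one]) hrd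
  have hgψ : ψ g₀ = (sqHom F ν, 1) := Prod.ext (by show sqHom F (D.mult _) = _; rw [hg₀]) hχ₀
  obtain ⟨e⟩ := nonempty_klein (x := (⟨_, ⟨g₀, rfl⟩⟩ : ψ.range)) (y := ⟨_, ⟨simIso _ r, rfl⟩⟩)
    (fun h => by
      have := congrArg Prod.fst (congrArg Subtype.val h)
      simp only [hgψ] at this
      exact hν' this)
    (fun h => by
      have := congrArg Prod.snd (congrArg Subtype.val h)
      simp only [hrψ] at this
      exact h1 this)
    (fun h => by
      have := congrArg Prod.fst (congrArg Subtype.val h)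
      simp only [hgψ, hrψ] at this
      exact hν' this)
    (Subtype.ext (by
      show ψ g₀ * ψ g₀ = 1
      rw [hgψ, Prod.mk_mul_mk, sqClass_mul_self, one_mul]; rfl))
    (Subtype.ext (by
      show ψ _ * ψ _ = 1
      rw [hrψ, Prod.mk_mul_mk, one_mul, neg_mul_neg, one_mul]; rfl))
    (by
      rintro ⟨_, g, rfl⟩
      simp only [Subtype.ext_iff, Subgroup.coe_mul, Subgroup.coe_one, hgψ, hrψ, Prod.mk_mul_mk,
        mul_one, one_mul]
      rcases sqClass_cases D.two_ne hν' (ψ g).1 with a | a <;>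
        rcases simChi_sq D.det_ne D.ne D.card_eq g with b | b
      · exact Or.inl (Prod.ext a b)
      · exact Or.inr (Or.inr (Or.inl (Prod.ext a b)))
      · exact Or.inr (Or.inl (Prod.ext a b))
      · exact Or.inr (Or.inr (Or.inr (Prod.ext a b))))
  refine exists_hom_range (simAut ⇑(matQuad M)) _ (e.toMonoidHom.comp ψ.rangeRestrict)
    (e.surjective.comp ψ.rangeRestrict_surjective) (fun g => ?_) pgoAut_eq
  rw [MonoidHom.comp_apply, MulEquiv.coe_toMonoidHom, MulEquiv.map_eq_one_iff, Subtype.ext_iff,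
    psoAut_eq]
  constructor
  · intro h
    obtain ⟨c, x, rfl, hx⟩ := D.exists_scalar_mul_iso (g := g) (congrArg Prod.fst h)
    rw [show D.chi _ = 1 from congrArg Prod.snd h] at hx
    refine ⟨simIso _ x, (mem_specialIso_iff _).2 ⟨x, hx, rfl⟩, ?_⟩
    rw [map_mul, (simAut_eq_one_iff D.nondeg D.five_le _).2 (simScalar_mem_scalars _ c), one_mul]
  · rintro ⟨y, hy, hyg⟩
    obtain ⟨h, hh, rfl⟩ := (mem_specialIso_iff y).1 hy
    obtain ⟨c, hc⟩ := (simAut_eq_one_iff D.nondeg D.five_le (g * (simIso _ h)⁻¹)).1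
      (by rw [map_mul, map_inv, hyg, mul_inv_cancel])
    have hg : g = simScalar (matQuad M) c * simIso _ h := by
      rw [show simScalar (matQuad M) c = g * (simIso _ h)⁻¹ from Subtype.ext hc, inv_mul_cancel_right]
    rw [hg]
    refine Prod.ext ?_ ?_
    · show sqHom F (D.mult _) = 1
      rw [SimHyp.mult, map_mul, simMult_scalar, simMult_iso, mul_one, map_mul, sqClass_mul_self]
    · show D.chi _ = 1
      rw [SimHyp.chi, map_mul, simChi_scalar D.ne D.card_eq, simChi_iso, hh, one_mul]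

/-- Conjugating a reflection by a similarity: the norm is multiplied by the multiplier. -/
theorem SimHyp.isoInv_conj_refl (D : SimHyp M k) (g : Cfsg.Geo.quadSimilarityGroup ⇑(matQuad M))
    {r : Cfsg.isometryGroup F ⇑(matQuad M)} {v : ι → F} (hv : matQuad M v ≠ 0)
    (hr : isomEquiv (matQuad M) r = oRefl (matQuad M) v hv) :
    ∃ r' : Cfsg.isometryGroup F ⇑(matQuad M), simIso _ r' = g * simIso _ r * g⁻¹ ∧
      isoInv D.nondeg D.two_ne r' =
        (sqHom F (D.mult g) * sqMk hv, Multiplicative.ofAdd 1) := by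
  have hmem : ((g * simIso _ r * g⁻¹ : Cfsg.Geo.quadSimilarityGroup ⇑(matQuad M)) : GL ι F) ∈
      Cfsg.isometryGroup F ⇑(matQuad M) := by
    rw [← simMult_eq_one_iff D.ne, map_mul, map_mul, simMult_iso, mul_one, map_inv, mul_inv_cancel]
  refine ⟨⟨_, hmem⟩, rfl, ?_⟩
  set A := ((g : GL ι F) : Matrix ι ι F) with hA
  have hne : matQuad M (A *ᵥ v) ≠ 0 := by
    rw [hA, simMult_spec D.ne]; exact mul_ne_zero (Units.ne_zero _) hv
  have key : isomEquiv (matQuad M) ⟨_, hmem⟩ = oRefl (matQuad M) _ hne := by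
    rw [isometry_eq_iff]
    intro w
    show (((g : GL ι F) * (r : GL ι F) * (g : GL ι F)⁻¹ : GL ι F) : Matrix ι ι F) *ᵥ w =
      refl (matQuad M) _ hne w
    obtain ⟨z, rfl⟩ : ∃ z, w = A *ᵥ z := ⟨(((g : GL ι F)⁻¹ : GL ι F) : Matrix ι ι F) *ᵥ w, by
      rw [hA, mulVec_mulVec, Units.mul_inv, one_mulVec]⟩
    rw [Units.val_mul, Units.val_mul, mulVec_mulVec, ← hA, mul_assoc, Units.inv_mul, mul_one,
      ← mulVec_mulVec, show ((r : GL ι F) : Matrix ι ι F) *ᵥ z = refl (matQuad M) v hv z from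
      (isometry_eq_iff _ r _).1 hr z, refl_apply, refl_apply, mulVec_sub, mulVec_smul]
    congr 2
    simp only [polar, ← mulVec_add, hA, simMult_spec D.ne]
    field_simp
  show orthInvariant D.nondeg _ (isomEquiv (matQuad M) ⟨_, hmem⟩) = _
  rw [key, orthInvariant_oRefl]
  refine Prod.ext ?_ rfl
  show sqMk hne = sqHom F (D.mult g) * sqMk hv
  rw [sqMk, sqMk, ← map_mul]
  exact congrArg _ (Units.ext (simMult_spec D.ne g v))

/-- The image of the similarity group modulo `Inn`: dihedral of order eight. -/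
theorem SimHyp.exists_hom_dihedral (D : SimHyp M k) (hd : IsSquare (M + Mᵀ).det) {ν : Fˣ}
    (hν : ¬ IsSquare (ν : F)) (g₀ : Cfsg.Geo.quadSimilarityGroup ⇑(matQuad M))
    (hg₀ : D.mult g₀ = ν) (hχ₀ : D.chi g₀ = 1) :
    ∃ φ : ↥(Cfsg.pgoAut F ⇑(matQuad M)) →* DihedralGroup 4, Function.Surjective φ ∧
      φ.ker = (Cfsg.Inn (Cfsg.POmega F ⇑(matQuad M))).subgroupOf (Cfsg.pgoAut F ⇑(matQuad M)) := by
  obtain ⟨v, hv⟩ := exists_represents D.nondeg
    (by rw [Module.finrank_fintype_fun_eq_card]; have := D.five_le; omega) (1 : F)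
  have hv0 : matQuad M v ≠ 0 := by rw [hv]; exact one_ne_zero
  set r := (isomEquiv (matQuad M)).symm (oRefl (matQuad M) v hv0) with hr
  have hrr : isomEquiv (matQuad M) r = oRefl (matQuad M) v hv0 := MulEquiv.apply_symm_apply _ _
  have hri : isoInv D.nondeg D.two_ne r = (1, Multiplicative.ofAdd 1) := by
    show orthInvariant D.nondeg _ (isomEquiv (matQuad M) r) = _
    rw [hrr, orthInvariant_oRefl, (sqMk_eq_one_iff hv0).2 (hv ▸ IsSquare.one)]
  obtain ⟨r', hr', hr'i⟩ := D.isoInv_conj_refl g₀ hv0 hrr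
  rw [hg₀, (sqMk_eq_one_iff hv0).2 (hv ▸ IsSquare.one), mul_one] at hr'i
  have hν' : sqHom F ν ≠ 1 := fun h => hν ((sqHom_eq_one_iff ν).1 h)
  set f := outHom ⇑(matQuad M) with hf
  have hd' : ¬ (¬ IsSquare (M + Mᵀ).det) := not_not.2 hd
  have hmul : (Multiplicative.ofAdd (1 : ZMod 2)) * Multiplicative.ofAdd 1 = 1 := by decide
  have hab : f (simIso _ r) * f (simIso _ r') = f (simIso _ (r * r')) := by rw [map_mul, map_mul]
  have habi : isoInv D.nondeg D.two_ne (r * r') = (sqHom F ν, 1) := by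
    rw [map_mul, hri, hr'i, Prod.mk_mul_mk, one_mul, hmul]
  let K := (⊤ : Subgroup (Cfsg.Geo.quadSimilarityGroup ⇑(matQuad M))).map f
  let a : K := ⟨f (simIso _ r), simIso _ r, trivial, rfl⟩
  let g : K := ⟨f g₀, g₀, trivial, rfl⟩
  have hgag : ((g * a * g⁻¹ : K) : Cfsg.Out (Cfsg.POmega F ⇑(matQuad M))) = f (simIso _ r') := by
    show f g₀ * f (simIso _ r) * (f g₀)⁻¹ = _
    rw [hr', map_mul, map_mul, map_inv]
  obtain ⟨e⟩ := nonempty_dihedral (a := a) (g := g)
    (fun h => by
      have h1 : f (simIso _ r) = 1 := congrArg Subtype.val h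
      rw [outHom_eq_one_iff, simIso_mem_innPre_iff D.five_le D.even D.det_ne D.two_ne, hri] at h1
      rcases h1 with h1 | h1 <;>
        exact absurd (show Multiplicative.ofAdd (1 : ZMod 2) = 1 from congrArg Prod.snd h1) (by decide))
    (Subtype.ext (by
      show f (simIso _ r) * f (simIso _ r) = 1
      rw [← map_mul, ← map_mul, ← map_one f, ← map_one (simIso ⇑(matQuad M))]
      exact D.outHom_iso_eq (by rw [map_mul, hri, Prod.mk_mul_mk, one_mul, hmul, map_one]; rfl)))
    (fun h => by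
      have h1 : f (simIso _ r') = f (simIso _ r) := hgag.symm.trans (congrArg Subtype.val h)
      refine hd' ((D.outHom_iso_eq_one_iff hν' habi).1 ?_)
      rw [← hab, h1, ← map_mul, ← map_mul, ← map_one f, ← map_one (simIso ⇑(matQuad M))]
      exact D.outHom_iso_eq (by rw [map_mul, hri, Prod.mk_mul_mk, one_mul, hmul, map_one]; rfl))
    (Subtype.ext (by
      show f (simIso _ r) * _ = _ * f (simIso _ r)
      rw [hgag, ← map_mul, ← map_mul, ← map_mul, ← map_mul]
      exact D.outHom_iso_eq (by rw [map_mul, map_mul, mul_comm])))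
    (by
      have hμ : sqHom F (D.mult (g₀ * g₀)) = 1 := by rw [map_mul, map_mul, sqClass_mul_self]
      obtain ⟨c, h, hch, hh⟩ := D.exists_scalar_mul_iso hμ
      rw [map_mul, hχ₀, one_mul] at hh
      have hgg : f g₀ * f g₀ = f (simIso _ h) := by
        rw [← map_mul, hch, map_mul, hf, D.outHom_scalar, one_mul]
      rcases D.special_cover hν' habi h hh with e | e
      · exact Or.inl (Subtype.ext (hgg.trans e))
      · refine Or.inr (Subtype.ext (hgg.trans (e.trans ?_)))
        rw [Subgroup.coe_mul, hgag]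
        exact hab.symm)
    (by
      rw [eq_top_iff]
      rintro ⟨_, x, -, rfl⟩ -
      set H := Subgroup.closure ({a, g} : Set K)
      have haH : a ∈ H := Subgroup.subset_closure (Or.inl rfl)
      have hgH : g ∈ H := Subgroup.subset_closure (Or.inr rfl)
      have hiso : ∀ h : Cfsg.isometryGroup F ⇑(matQuad M),
          (⟨f (simIso _ h), simIso _ h, trivial, rfl⟩ : K) ∈ H := by
        intro h
        have hdz : ∀ d : Multiplicative (ZMod 2), d = 1 ∨ d = Multiplicative.ofAdd 1 := by decide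
        rcases sqClass_cases D.two_ne hν' (isoInv D.nondeg D.two_ne h).1 with h1 | h1 <;>
          rcases hdz (isoInv D.nondeg D.two_ne h).2 with h2 | h2
        · convert H.one_mem using 1
          refine Subtype.ext ?_
          show f (simIso _ h) = 1
          rw [← map_one f, ← map_one (simIso ⇑(matQuad M))]
          exact D.outHom_iso_eq (by rw [map_one]; exact Prod.ext h1 h2)
        · convert haH using 1
          exact Subtype.ext (D.outHom_iso_eq (by rw [hri]; exact Prod.ext h1 h2))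
        · convert H.mul_mem haH (H.mul_mem (H.mul_mem hgH haH) (H.inv_mem hgH)) using 1
          refine Subtype.ext (Eq.trans ?_ (congrArg (f (simIso _ r) * ·) hgag.symm))
          exact (D.outHom_iso_eq (by rw [habi]; exact Prod.ext h1 h2)).trans hab.symm
        · convert H.mul_mem (H.mul_mem hgH haH) (H.inv_mem hgH) using 1
          exact Subtype.ext ((D.outHom_iso_eq (by rw [hr'i]; exact Prod.ext h1 h2)).trans hgag.symm)
      rcases sqClass_cases D.two_ne hν' (sqHom F (D.mult x)) with hx | hx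
      · obtain ⟨c, h, rfl, -⟩ := D.exists_scalar_mul_iso hx
        convert hiso h using 1
        exact Subtype.ext ((map_mul f _ _).trans ((congrArg (· * f (simIso _ h)) (D.outHom_scalar c)).trans
          (one_mul _)))
      · obtain ⟨c, h, hch, -⟩ := D.exists_scalar_mul_iso (g := g₀⁻¹ * x)
          (by rw [map_mul, map_mul, map_inv, map_inv, hg₀, hx, inv_mul_cancel])
        convert H.mul_mem hgH (hiso h) using 1
        refine Subtype.ext ?_
        show f x = f g₀ * f (simIso _ h)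
        rw [show x = g₀ * (simScalar (matQuad M) c * simIso _ h) by rw [← hch, mul_inv_cancel_left],
          map_mul, map_mul, hf, D.outHom_scalar, one_mul])
  refine exists_hom_map_of_equiv (simAut ⇑(matQuad M)) _ ⊤ e ?_
  rw [pgoAut_eq, MonoidHom.range_eq_map]

/-- The classes of the inner-diagonal similarities modulo `Inn`. -/
theorem SimHyp.inndiag_quot (D : SimHyp M k) {ν : Fˣ} (hν : ¬ IsSquare (ν : F))
    (g₀ : Cfsg.Geo.quadSimilarityGroup ⇑(matQuad M)) (hg₀ : D.mult g₀ = ν) (hχ₀ : D.chi g₀ = 1)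
    (h₀ : Cfsg.isometryGroup F ⇑(matQuad M))
    (hh₀ : g₀ * g₀ = simScalar (matQuad M) ν * simIso _ h₀) {H : Subgroup (MulAut _)}
    (hH : H = D.chi.ker.map (simAut ⇑(matQuad M))) :
    (¬ IsSquare (M + Mᵀ).det → ∃ φ : ↥H →* Multiplicative (ZMod 2), Function.Surjective φ ∧
      φ.ker = (Cfsg.Inn (Cfsg.POmega F ⇑(matQuad M))).subgroupOf H) ∧
    (IsSquare (M + Mᵀ).det → (isoInv D.nondeg D.two_ne h₀).1 ≠ 1 →
      ∃ φ : ↥H →* Multiplicative (ZMod 4), Function.Surjective φ ∧
        φ.ker = (Cfsg.Inn (Cfsg.POmega F ⇑(matQuad M))).subgroupOf H) ∧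
    (IsSquare (M + Mᵀ).det → (isoInv D.nondeg D.two_ne h₀).1 = 1 →
      ∃ φ : ↥H →* Multiplicative (ZMod 2 × ZMod 2), Function.Surjective φ ∧
        φ.ker = (Cfsg.Inn (Cfsg.POmega F ⇑(matQuad M))).subgroupOf H) := by
  have hh0d : detHom ⇑(matQuad M) h₀ = 1 := by
    have := congrArg D.chi hh₀
    rw [SimHyp.chi] at this hχ₀
    rw [map_mul, hχ₀, map_mul, simChi_scalar D.ne D.card_eq, simChi_iso, one_mul, one_mul] at this
    exact this.symm
  have hν' : sqHom F ν ≠ 1 := fun h => hν ((sqHom_eq_one_iff ν).1 h)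
  obtain ⟨s, t, ht, hs, hsd⟩ := D.exists_special
  set f := outHom ⇑(matQuad M) with hf
  have hsK : simIso _ s ∈ D.chi.ker := by rw [MonoidHom.mem_ker, SimHyp.chi, simChi_iso, hsd]
  let g' : D.chi.ker.map f := ⟨f g₀, g₀, hχ₀, rfl⟩
  let s' : D.chi.ker.map f := ⟨f (simIso _ s), _, hsK, rfl⟩
  have hgne : ∀ h, f g₀ ≠ f (simIso _ h) := fun h e => hν' (by
    rw [← inv_mul_eq_one, ← map_inv, ← map_mul, hf, outHom_eq_one_iff] at e
    have := D.sqHom_mult_of_innPre e
    rw [map_mul, map_mul, map_inv, map_inv, hg₀, SimHyp.mult, simMult_iso, map_one, mul_one,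
      inv_eq_one] at this
    exact this)
  have hg1 : g' ≠ 1 := fun h => hgne 1 ((congrArg Subtype.val h).trans (by simp))
  have hcov : ∀ z : D.chi.ker.map f, z = 1 ∨ z = g' ∨ z = s' ∨ z = g' * s' := by
    rintro ⟨_, x, hx, rfl⟩
    rcases sqClass_cases D.two_ne hν' (sqHom F (D.mult x)) with hx' | hx'
    · obtain ⟨c, h, rfl, hh⟩ := D.exists_scalar_mul_iso hx'
      rw [show D.chi _ = 1 from hx] at hh
      have e : f (simScalar (matQuad M) c * simIso _ h) = f (simIso _ h) := by
        rw [map_mul, hf, D.outHom_scalar, one_mul]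
      rcases D.special_cover ht hs h hh with h1 | h1
      · exact Or.inl (Subtype.ext (e.trans h1))
      · exact Or.inr (Or.inr (Or.inl (Subtype.ext (e.trans h1))))
    · obtain ⟨c, h, hch, hh⟩ := D.exists_scalar_mul_iso (g := g₀⁻¹ * x)
        (by rw [map_mul, map_mul, map_inv, map_inv, hg₀, hx', inv_mul_cancel])
      rw [map_mul, map_inv, hχ₀, show D.chi x = 1 from hx, inv_one, one_mul] at hh
      have e : f x = f g₀ * f (simIso _ h) := by
        rw [show x = g₀ * (simScalar (matQuad M) c * simIso _ h) by rw [← hch, mul_inv_cancel_left],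
          map_mul, map_mul, hf, D.outHom_scalar, one_mul]
      rcases D.special_cover ht hs h hh with h1 | h1
      · exact Or.inr (Or.inl (Subtype.ext (e.trans ((congrArg (f g₀ * ·) h1).trans (mul_one _)))))
      · exact Or.inr (Or.inr (Or.inr (Subtype.ext (e.trans (congrArg (f g₀ * ·) h1)))))
  have hgg : f g₀ * f g₀ = f (simIso _ h₀) := by
    rw [← map_mul, hh₀, map_mul, hf, D.outHom_scalar, one_mul]
  have hs1 : IsSquare (M + Mᵀ).det → s' ≠ 1 := fun hd h =>
    (D.outHom_iso_eq_one_iff ht hs).1 (congrArg Subtype.val h) hd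
  have hgs : g' ≠ s' := fun h => hgne s (congrArg Subtype.val h)
  have hss : s' * s' = 1 := Subtype.ext (by
    show f (simIso _ s) * f (simIso _ s) = 1
    rw [← map_mul, ← map_mul, ← map_one f, ← map_one (simIso ⇑(matQuad M))]
    exact D.outHom_iso_eq (by
      rw [map_mul, hs, Prod.mk_mul_mk, sqClass_mul_self, one_mul, map_one]; rfl))
  refine ⟨fun hd => ?_, fun hd h0 => ?_, fun hd h0 => ?_⟩
  · obtain ⟨e⟩ := nonempty_two (x := g') hg1 (fun z => by
      have hs0 : s' = 1 := Subtype.ext ((D.outHom_iso_eq_one_iff ht hs).2 hd)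
      rcases hcov z with h | h | h | h
      · exact Or.inl h
      · exact Or.inr h
      · exact Or.inl (h.trans hs0)
      · exact Or.inr (by rw [h, hs0, mul_one]))
    exact exists_hom_map_of_equiv (simAut ⇑(matQuad M)) _ _ e hH
  · obtain ⟨e⟩ := nonempty_cyclic_four (x := g') (y := s') hg1 (hs1 hd) hgs
      (fun h => hgne s⁻¹ (by
        rw [map_inv, map_inv]
        exact eq_inv_of_mul_eq_one_left (congrArg Subtype.val h)))
      (Subtype.ext (hgg.trans (D.outHom_iso_eq (Prod.ext (by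
        rw [hs]; exact (sqClass_cases D.two_ne ht _).resolve_left h0)
        (by rw [hs]; exact (detHom_eq_one_iff D.nondeg D.two_ne h₀).1 hh0d))))) hcov
    exact exists_hom_map_of_equiv (simAut ⇑(matQuad M)) _ _ e hH
  · obtain ⟨e⟩ := nonempty_klein (x := g') (y := s') hg1 (hs1 hd) hgs
      (Subtype.ext (hgg.trans (by
        rw [hf, OneMemClass.coe_one, ← map_one (outHom ⇑(matQuad M)), ← map_one (simIso ⇑(matQuad M))]
        exact D.outHom_iso_eq (by
          rw [map_one]
          exact Prod.ext h0 ((detHom_eq_one_iff D.nondeg D.two_ne h₀).1 hh0d))))) hss hcov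
    exact exists_hom_map_of_equiv (simAut ⇑(matQuad M)) _ _ e hH

end CfsgLib.Geometry
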