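import Cfsg.Agent.Lib.Geometry.OmegaPerfect
import Cfsg.Agent.Lib.Geometry.FormClass

/-! Square roots of scalars in `End V`, and forms with comparable zero sets. -/

set_option autoImplicit false

namespace CfsgLib.Geometry

open QuadraticMap Polynomial

variable {F V : Type*} [Field F] [AddCommGroup V] [Module F V] [FiniteDimensional F V]

/-- The fixed space of an endomorphism. -/
noncomputable def fixEigen (f : V →ₗ[F] V) : Submodule F V := LinearMap.ker (f - LinearMap.id)

/-- The negated space of an endomorphism. -/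
noncomputable def negEigen (f : V →ₗ[F] V) : Submodule F V := LinearMap.ker (f + LinearMap.id)

omit [FiniteDimensional F V] in
theorem mem_fixEigen {f : V →ₗ[F] V} {v : V} : v ∈ fixEigen f ↔ f v = v := by
  simp [fixEigen, sub_eq_zero]

omit [FiniteDimensional F V] in
theorem mem_negEigen {f : V →ₗ[F] V} {v : V} : v ∈ negEigen f ↔ f v = -v := by
  simp [negEigen, eq_neg_iff_add_eq_zero]

omit [FiniteDimensional F V] in
theorem isCompl_fix_neg (h2 : (2 : F) ≠ 0) {f : V →ₗ[F] V} (hf : ∀ v, f (f v) = v) :
    IsCompl (fixEigen f) (negEigen f) := by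
  refine ⟨disjoint_iff.2 (eq_bot_iff.2 fun v hv => ?_), codisjoint_iff.2 (eq_top_iff.2 fun v _ => ?_)⟩
  · obtain ⟨h1, h3⟩ := hv
    rw [Submodule.mem_bot]
    have : (2 : F) • v = 0 := by
      rw [two_smul, ← eq_neg_iff_add_eq_zero]
      exact (mem_fixEigen.1 h1).symm.trans (mem_negEigen.1 h3)
    exact (smul_eq_zero.1 this).resolve_left h2
  · refine Submodule.mem_sup.2 ⟨(2 : F)⁻¹ • (v + f v), mem_fixEigen.2 ?_,
      (2 : F)⁻¹ • (v - f v), mem_negEigen.2 ?_, ?_⟩
    · rw [map_smul, map_add, hf, add_comm]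
    · rw [map_smul, map_sub, hf, ← smul_neg, neg_sub]
    · rw [← smul_add, add_add_sub_cancel, ← two_smul F v, smul_smul, inv_mul_cancel₀ h2, one_smul]

/-- The determinant of an involution. -/
theorem det_involution (h2 : (2 : F) ≠ 0) {f : V →ₗ[F] V} (hf : ∀ v, f (f v) = v) :
    LinearMap.det f = (-1) ^ Module.finrank F (negEigen f) ∧
      Module.finrank F (fixEigen f) + Module.finrank F (negEigen f) = Module.finrank F V := by
  have hc := isCompl_fix_neg h2 hf
  refine ⟨?_, Submodule.finrank_add_eq_of_isCompl hc⟩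
  let e := Submodule.prodEquivOfIsCompl _ _ hc
  have he : f = (e : _ →ₗ[F] V) ∘ₗ ((LinearMap.id : fixEigen f →ₗ[F] fixEigen f).prodMap
      (-LinearMap.id : negEigen f →ₗ[F] negEigen f)) ∘ₗ (e.symm : V →ₗ[F] _) := by
    refine LinearMap.ext fun v => ?_
    obtain ⟨⟨a, b⟩, rfl⟩ := e.surjective v
    rw [LinearMap.comp_apply, LinearMap.comp_apply, LinearEquiv.coe_coe, LinearEquiv.coe_coe,
      e.symm_apply_apply]
    simp only [
      LinearMap.prodMap_apply, LinearMap.id_coe, id_eq, LinearMap.neg_apply, e,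
      Submodule.coe_prodEquivOfIsCompl', Submodule.coe_neg, map_add, mem_fixEigen.1 a.2,
      mem_negEigen.1 b.2]
  conv_lhs => rw [he]
  rw [LinearMap.det_conj, LinearMap.det_prodMap, LinearMap.det_id, one_mul,
    show (-LinearMap.id : negEigen f →ₗ[F] negEigen f) = (-1 : F) • LinearMap.id from LinearMap.ext fun v => (neg_one_smul F v).symm,
    LinearMap.det_smul, LinearMap.det_id, mul_one]

/-- An endomorphism squaring to a nonsquare scalar. -/
theorem det_of_sq_nonsquare {f : V →ₗ[F] V} {c : F} (hc : ¬ IsSquare c)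
    (hf : ∀ v, f (f v) = c • v) :
    ∃ k, Module.finrank F V = 2 * k ∧ LinearMap.det f = (-c) ^ k := by
  let p : F[X] := X ^ 2 - C c
  have hm : p.Monic := monic_X_pow_sub_C c two_ne_zero
  haveI : Fact (Irreducible p) := ⟨X_pow_sub_C_irreducible_of_prime Nat.prime_two
    fun b hb => hc ⟨b, by rw [← hb, pow_two]⟩⟩
  have hker : ∀ q ∈ Ideal.span {p}, aeval f q = 0 := fun q hq => by
    obtain ⟨r, rfl⟩ := Ideal.mem_span_singleton.1 hq
    have : aeval f p = 0 := LinearMap.ext fun v => by
      simp [p, pow_two, hf]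
    rw [map_mul, this, zero_mul]
  let φ : AdjoinRoot p →+* Module.End F V :=
    Ideal.Quotient.lift (Ideal.span {p}) (aeval f).toRingHom hker
  letI : Module (AdjoinRoot p) V := Module.compHom V φ
  haveI : IsScalarTower F (AdjoinRoot p) V := ⟨fun a z v => by
    obtain ⟨q, rfl⟩ := AdjoinRoot.mk_surjective z
    rw [AdjoinRoot.smul_mk]
    show aeval f (a • q) v = a • aeval f q v
    rw [map_smul, LinearMap.smul_apply]⟩
  haveI : FiniteDimensional F (AdjoinRoot p) := (AdjoinRoot.powerBasis hm.ne_zero).finite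
  haveI : FiniteDimensional (AdjoinRoot p) V := Module.Finite.right F (AdjoinRoot p) V
  set pb := AdjoinRoot.powerBasis hm.ne_zero
  have hdim : pb.dim = 2 := by
    rw [AdjoinRoot.powerBasis_dim]; exact natDegree_X_pow_sub_C
  refine ⟨Module.finrank (AdjoinRoot p) V, ?_, ?_⟩
  · rw [← Module.finrank_mul_finrank F (AdjoinRoot p) V, pb.finrank, hdim]
  · have hres : f = ((AdjoinRoot.root p) • (LinearMap.id : V →ₗ[AdjoinRoot p] V)).restrictScalars F :=
      LinearMap.ext fun v => by
        show f v = aeval f (X : F[X]) v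
        rw [aeval_X]
    conv_lhs => rw [hres]
    rw [LinearMap.det_restrictScalars, LinearMap.det_smul, LinearMap.det_id, mul_one, map_pow]
    congr 1
    rw [← AdjoinRoot.powerBasis_gen hm.ne_zero, Algebra.PowerBasis.norm_gen_eq_coeff_zero_minpoly,
      AdjoinRoot.minpoly_powerBasis_gen_of_monic hm, hdim]
    simp [p]

/-- Forms with an inclusion of zero sets are proportional. -/
theorem form_eq_smul_of_zeros [Finite F] {Q R : QuadraticForm F V}
    (hR : (polarBilin R).Nondegenerate) (hn : 5 ≤ Module.finrank F V)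
    (h : ∀ v, R v = 0 → Q v = 0) : ∃ l : F, ∀ v, Q v = l * R v := by
  obtain ⟨e, he0, he⟩ := exists_singular hR (by omega)
  obtain ⟨f, hf, hef⟩ := exists_pair hR he0 he
  obtain ⟨x, hx0, hx, hxW⟩ := exists_singular_pairPerp hR hn he hf hef
  have hperp : ∀ w ∈ pairPerp R e f, polar Q e w = 0 ∧ polar Q f w = 0 :=
    pairPerp_induction hR he hf hef hx0 hx hxW (fun w => polar Q e w = 0 ∧ polar Q f w = 0)
      (fun a b _ _ ha hb => by simp [polar_add_right, ha.1, ha.2, hb.1, hb.2])
      (fun z hz hz0 _ => by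
        obtain ⟨h1, h2⟩ := mem_pairPerp.1 hz
        have e1 : Q (e + z) = 0 := h _ (by rw [map_add', he, hz0, h1]; ring)
        have e2 : Q (f + z) = 0 := h _ (by rw [map_add', hf, hz0, h2]; ring)
        rw [map_add', h e he, h z hz0] at e1
        rw [map_add', h f hf, h z hz0] at e2
        exact ⟨by simpa using e1, by simpa using e2⟩)
      ⟨Q.polar_zero_right e, Q.polar_zero_right f⟩
  refine ⟨polar Q e f, fun v => ?_⟩
  set α := polar R v f with hα
  set β := polar R v e with hβ
  set w := v - α • e - β • f with hw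
  have hee : polar R e e = 0 := by rw [polar_self', he, mul_zero]
  have hff : polar R f f = 0 := by rw [polar_self', hf, mul_zero]
  have hwW : w ∈ pairPerp R e f := by
    refine mem_pairPerp.2 ⟨?_, ?_⟩ <;>
      simp [hw, hα, hβ, polar_sub_right, polar_smul_right', hee, hff, hef, polar_comm R f e,
        polar_comm R v e, polar_comm R v f]
  obtain ⟨h1, h2⟩ := mem_pairPerp.1 hwW
  obtain ⟨q1, q2⟩ := hperp w hwW
  have hz : Q (e + ((-R w) • f + w)) = 0 := h _ (by
    rw [map_add', map_add', map_smul', he, hf, polar_smul_left', polar_add_right, polar_smul_right',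
      hef, h1, h2]; ring)
  rw [map_add', map_add', map_smul', h e he, h f hf, polar_smul_left', polar_add_right,
    polar_smul_right', q1, q2] at hz
  have hv : v = α • e + (β • f + w) := by rw [hw]; module
  rw [hv, map_add', map_add', map_smul', map_smul', h e he, h f hf, polar_add_right,
    polar_smul_left', polar_smul_right', polar_smul_left', polar_smul_left', q1, q2,
    map_add', map_add', map_smul', map_smul', he, hf, polar_add_right, polar_smul_left',
    polar_smul_right', polar_smul_left', polar_smul_left', hef, h1, h2]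
  linear_combination hz

end CfsgLib.Geometry
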