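import Cfsg.Agent.Lib.Geometry.PGOQuot
import Cfsg.Agent.Lib.Geometry.SimAlgebra
import Cfsg.Agent.Lib.Geometry.OmegaTrans

/-! Similarities commuting with an outer involution. -/

set_option autoImplicit false

namespace CfsgLib.Geometry

open Matrix QuadraticMap

variable {ι : Type} [Fintype ι] [DecidableEq ι] {F : Type*} [Field F] [Finite F]
variable {M : Matrix ι ι F} {k : ℕ}

/-- The shape of a similarity of sign `-1` with scalar square. -/
theorem SimHyp.outer_involution_cases (D : SimHyp M k)
    {x : Cfsg.Geo.quadSimilarityGroup ⇑(matQuad M)} (hχ : D.chi x ≠ 1) {c : Fˣ}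
    (hx : x * x = simScalar (matQuad M) c) :
    (∃ (t : Fˣ) (h : Cfsg.isometryGroup F ⇑(matQuad M)), x = simScalar (matQuad M) t * simIso _ h ∧
        h * h = 1 ∧ detHom ⇑(matQuad M) h ≠ 1 ∧
        Odd (Module.finrank F (negEigen
          (Matrix.toLin' (((h : GL ι F)) : Matrix ι ι F))))) ∨
    (¬ IsSquare (c : F) ∧ D.mult x = c ∧ Odd k ∧
      ∀ v, ((x : GL ι F) : Matrix ι ι F) *ᵥ (((x : GL ι F) : Matrix ι ι F) *ᵥ v) = (c : F) • v) := by
  set A := ((x : GL ι F) : Matrix ι ι F) with hA
  have hAA : ∀ v, A *ᵥ (A *ᵥ v) = (c : F) • v := fun v => by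
    have := congrArg (fun z : Cfsg.Geo.quadSimilarityGroup ⇑(matQuad M) =>
      ((z : GL ι F) : Matrix ι ι F) *ᵥ v) hx
    simp only [Subgroup.coe_mul, Units.val_mul, simScalar_coe, smul_mulVec, one_mulVec] at this
    rwa [← mulVec_mulVec] at this
  have hμ : D.mult x = c ∨ D.mult x = -c := by
    have h := congrArg D.mult hx
    rw [map_mul, SimHyp.mult, simMult_scalar] at h
    rcases sq_eq_sq_iff_eq_or_eq_neg.1 (show ((simMult D.ne x : Fˣ) : F) ^ 2 = (c : F) ^ 2 by
      rw [pow_two, pow_two, ← Units.val_mul, ← Units.val_mul, h]) with e | e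
    · exact Or.inl (Units.ext e)
    · exact Or.inr (Units.ext (e.trans (Units.val_neg _).symm))
  have hn : Module.finrank F (ι → F) = 2 * k := by
    rw [Module.finrank_fintype_fun_eq_card, D.card_eq]
  by_cases hc : IsSquare (c : F)
  · left
    obtain ⟨r, hr⟩ := hc
    have hr0 : r ≠ 0 := fun h => c.ne_zero (by rw [hr, h, mul_zero])
    set t := Units.mk0 r hr0
    set x₁ := (simScalar (matQuad M) t)⁻¹ * x with hx₁
    have hcomm : Commute (simScalar (matQuad M) t) x := Subtype.ext (Units.ext (by
      simp only [Subgroup.coe_mul, Units.val_mul, simScalar_coe, Matrix.smul_mul, one_mul,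
        Matrix.mul_smul, mul_one]))
    have hsq : x₁ * x₁ = 1 := by
      rw [hx₁, hcomm.inv_left.symm.mul_mul_mul_comm, hx, ← _root_.mul_inv_rev, ← map_mul,
        show t * t = c from Units.ext hr.symm, inv_mul_cancel]
    have hχ₁ : D.chi x₁ = D.chi x := by
      rw [hx₁, map_mul, map_inv, SimHyp.chi, simChi_scalar D.ne D.card_eq, inv_one, one_mul]
    set B := ((x₁ : GL ι F) : Matrix ι ι F) with hB
    have hBB : ∀ v, Matrix.toLin' B (Matrix.toLin' B v) = v := fun v => by
      have := congrArg (fun z : Cfsg.Geo.quadSimilarityGroup ⇑(matQuad M) =>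
        ((z : GL ι F) : Matrix ι ι F) *ᵥ v) hsq
      simp only [Subgroup.coe_mul, Units.val_mul, Subgroup.coe_one, Units.val_one, one_mulVec] at this
      rw [← mulVec_mulVec] at this
      rwa [Matrix.toLin'_apply, Matrix.toLin'_apply]
    obtain ⟨hdet, hsum⟩ := det_involution D.two_ne hBB
    rw [LinearMap.det_toLin'] at hdet
    rw [hn] at hsum
    rcases unit_eq_one_or_neg_one (show D.mult x₁ ^ 2 = 1 by
        rw [pow_two, ← map_mul, hsq, map_one]) with h1 | h1
    · refine ⟨t, ⟨_, (simMult_eq_one_iff D.ne x₁).1 h1⟩, (mul_inv_cancel_left _ _).symm,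
        Subtype.ext (show (x₁ : GL ι F) * (x₁ : GL ι F) = 1 from congrArg
          (fun z : Cfsg.Geo.quadSimilarityGroup ⇑(matQuad M) => (z : GL ι F)) hsq),
        fun h => hχ ?_, ?_⟩
      · rw [← hχ₁, ← h, ← simChi_iso D.ne k]; rfl
      · rcases Nat.even_or_odd (Module.finrank F (negEigen (Matrix.toLin' B))) with he | ho
        · exfalso
          apply hχ
          rw [← hχ₁, SimHyp.chi, simChi_eq_one_iff, ← hB, hdet, he.neg_one_pow,
            show simMult D.ne x₁ = 1 from h1, Units.val_one, one_pow]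
        · exact ho
    · exfalso
      have hts : ∀ f : Submodule F (ι → F), (∀ v ∈ f, matQuad M (B *ᵥ v) = matQuad M v) →
          Module.finrank F f ≤ k := fun f hf => by
        have hz : ∀ v ∈ f, matQuad M v = 0 := fun v hv => by
          have h := simMult_spec D.ne x₁ v
          rw [← hB, hf v hv, show simMult D.ne x₁ = -1 from h1, Units.val_neg, Units.val_one] at h
          exact (mul_eq_zero.1 (show (2 : F) * matQuad M v = 0 by linear_combination h)).resolve_left
            D.two_ne
        have hle : f ≤ polarPerp (matQuad M) f := fun w hw =>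
          mem_polarPerp.2 fun u hu => polar_eq_zero_of_singular hz hu hw
        have := Submodule.finrank_mono hle
        have := finrank_polarPerp D.nondeg f
        omega
      have e1 := hts (fixEigen (Matrix.toLin' B)) fun v hv => by
        rw [← Matrix.toLin'_apply, mem_fixEigen.1 hv]
      have e2 := hts (negEigen (Matrix.toLin' B)) fun v hv => by
        rw [← Matrix.toLin'_apply, mem_negEigen.1 hv, QuadraticMap.map_neg]
      apply hχ
      rw [← hχ₁, SimHyp.chi, simChi_eq_one_iff, ← hB, hdet,
        show simMult D.ne x₁ = -1 from h1, Units.val_neg, Units.val_one]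
      congr 1
      omega
  · right
    obtain ⟨k', hk', hdet⟩ := det_of_sq_nonsquare hc (f := Matrix.toLin' A) (fun v => by
      rw [Matrix.toLin'_apply, Matrix.toLin'_apply, hAA])
    obtain rfl : k = k' := by omega
    rw [LinearMap.det_toLin'] at hdet
    have hne : ∀ y : Fˣ, D.mult x = y → A.det ≠ (y : F) ^ k := fun y hy h => hχ (by
      rw [SimHyp.chi, simChi_eq_one_iff, ← hA, h, show simMult D.ne x = y from hy])
    rcases hμ with h | h
    · refine ⟨hc, h, Nat.not_even_iff_odd.1 fun he => hne c h ?_, hAA⟩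
      rw [hdet, he.neg_pow]
    · exact absurd (by rw [hdet, Units.val_neg]) (hne (-c) h)

/-- An isometry of determinant one and nonsquare spinor norm commuting with an outer involution. -/
theorem SimHyp.exists_commuting_special (D : SimHyp M k)
    {x : Cfsg.Geo.quadSimilarityGroup ⇑(matQuad M)} (hχ : D.chi x ≠ 1) {c : Fˣ}
    (hx : x * x = simScalar (matQuad M) c) :
    ∃ (s : Cfsg.isometryGroup F ⇑(matQuad M)) (t : SqClass F), t ≠ 1 ∧
      isoInv D.nondeg D.two_ne s = (t, 1) ∧ Commute x (simIso _ s) := by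
  have hQ := D.nondeg
  have hR := reflGroup_eq_orth_of_two_ne hQ D.two_ne
  rcases D.outer_involution_cases hχ hx with ⟨t, h, rfl, hhh, -, -⟩ | ⟨hc, hμ, -, hAA⟩
  · set E := isomEquiv (matQuad M) h with hE
    have hEE : ∀ v, Matrix.toLin' ((h : GL ι F) : Matrix ι ι F)
        (Matrix.toLin' ((h : GL ι F) : Matrix ι ι F) v) = v := fun v => by
      have := congrArg (fun z : Cfsg.isometryGroup F ⇑(matQuad M) => ((z : GL ι F) : Matrix ι ι F) *ᵥ v) hhh
      simp only [Subgroup.coe_mul, Units.val_mul, Subgroup.coe_one, Units.val_one, one_mulVec] at this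
      rw [← mulVec_mulVec] at this
      rwa [Matrix.toLin'_apply, Matrix.toLin'_apply]
    set L := Matrix.toLin' ((h : GL ι F) : Matrix ι ι F) with hL
    have hLv : ∀ v, L v = (E : (ι → F) ≃ₗ[F] (ι → F)) v := fun v => rfl
    obtain ⟨-, hsum⟩ := det_involution D.two_ne hEE
    obtain ⟨X, ε, hε, hX2, hX, hcompl⟩ : ∃ (X : Submodule F (ι → F)) (ε : F), ε ≠ 0 ∧
        2 ≤ Module.finrank F X ∧ (∀ v ∈ X, L v = ε • v) ∧
        ∀ w, ∃ a ∈ X, ∀ v ∈ X, polar (matQuad M) v (w - a) = 0 := by
      have hc := isCompl_fix_neg D.two_ne hEE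
      have horth : ∀ a ∈ fixEigen L, ∀ b ∈ negEigen L, polar (matQuad M) a b = 0 := fun a ha b hb => by
        have := orth_polar E.2 a b
        rw [← hLv, ← hLv, mem_fixEigen.1 ha, mem_negEigen.1 hb, polar_neg_right] at this
        exact (mul_eq_zero.1 (show (2 : F) * polar (matQuad M) a b = 0 by linear_combination -this)).resolve_left
          D.two_ne
      have hdec : ∀ w, ∃ a ∈ fixEigen L, ∃ b ∈ negEigen L, a + b = w := fun w =>
        Submodule.mem_sup.1 (hc.sup_eq_top ▸ Submodule.mem_top)
      have h5 := D.five_le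
      rw [Module.finrank_fintype_fun_eq_card] at hsum
      rcases le_or_gt 2 (Module.finrank F (fixEigen L)) with hf | hf
      · exact ⟨_, 1, one_ne_zero, hf, fun v hv => by rw [mem_fixEigen.1 hv, one_smul], fun w => by
          obtain ⟨a, ha, b, hb, rfl⟩ := hdec w
          exact ⟨a, ha, fun v hv => by rw [add_sub_cancel_left]; exact horth v hv b hb⟩⟩
      · exact ⟨negEigen L, -1, neg_ne_zero.2 one_ne_zero, by omega,
          fun v hv => by rw [mem_negEigen.1 hv, neg_one_smul], fun w => by
            obtain ⟨a, ha, b, hb, rfl⟩ := hdec w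
            exact ⟨b, hb, fun v hv => by rw [add_sub_cancel_right, polar_comm]; exact horth a ha v hv⟩⟩
    have hXn : X ⊓ polarPerp (matQuad M) X = ⊥ := eq_bot_iff.2 fun v hv => by
      rw [Submodule.mem_bot]
      refine hQ.1 v fun w => ?_
      obtain ⟨a, ha, hwa⟩ := hcompl w
      have h1 : polar (matQuad M) v a = 0 := by rw [polar_comm]; exact mem_polarPerp.1 hv.2 a ha
      have h2 := hwa v hv.1
      rw [polar_sub_right, h1, sub_zero] at h2
      exact h2
    have hP := map_eq_top_of_refls hQ hR hXn hX2 (Subgroup.centralizer {E}) fun a ha ha0 => by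
      rw [Subgroup.mem_centralizer_singleton_iff]
      refine Subtype.ext ?_
      have e := refl_conj (matQuad M) E.2 a ha0
      have hEa : (E : (ι → F) ≃ₗ[F] (ι → F)) a = ε • a := by rw [← hLv]; exact hX a ha
      simp only [hEa] at e
      rw [refl_smul (matQuad M) a ha0 hε] at e
      show refl (matQuad M) a ha0 * (E : (ι → F) ≃ₗ[F] (ι → F)) = (E : (ι → F) ≃ₗ[F] (ι → F)) * refl (matQuad M) a ha0
      conv_lhs => rw [← e]
      rw [inv_mul_cancel_right]
    haveI := Fintype.ofFinite F
    haveI : Nontrivial (SqClass F) := by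
      haveI : Finite (SqClass F) := Nat.finite_of_card_ne_zero (by rw [card_sqClass D.two_ne]; omega)
      exact Finite.one_lt_card_iff_nontrivial.1 (by rw [card_sqClass D.two_ne]; omega)
    obtain ⟨u, hu⟩ := exists_ne (1 : SqClass F)
    obtain ⟨p, hp, hpi⟩ : (u, (1 : Multiplicative (ZMod 2))) ∈
      (Subgroup.centralizer {E}).map (orthInvariant hQ hR) := hP ▸ trivial
    refine ⟨(isomEquiv (matQuad M)).symm p, u, hu, ?_, ?_⟩
    · show orthInvariant hQ hR (isomEquiv (matQuad M) _) = _
      rw [MulEquiv.apply_symm_apply, hpi]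
    · have hc' : Commute h ((isomEquiv (matQuad M)).symm p) := by
        rw [← (isomEquiv (matQuad M)).symm_apply_apply h, ← hE]
        exact Commute.map (show Commute E p from (Subgroup.mem_centralizer_singleton_iff.1 hp).symm)
          (isomEquiv (matQuad M)).symm
      refine Commute.mul_left ?_ (hc'.map (simIso ⇑(matQuad M)))
      exact Subtype.ext (Units.ext (by
        simp only [Subgroup.coe_mul, Units.val_mul, simScalar_coe, Matrix.smul_mul, one_mul,
          Matrix.mul_smul, mul_one]))
  · set A := ((x : GL ι F) : Matrix ι ι F) with hA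
    have hAQ : ∀ v, (matQuad M) (A *ᵥ v) = (c : F) * (matQuad M) v := fun v => by
      rw [hA, simMult_spec D.ne x v]; rw [show simMult D.ne x = c from hμ]
    have hAp : ∀ u v, polar (matQuad M) (A *ᵥ u) (A *ᵥ v) = (c : F) * polar (matQuad M) u v := fun u v => by
      simp only [polar, ← mulVec_add, hAQ, mul_sub]
    have hsa : ∀ u v, polar (matQuad M) (A *ᵥ u) v = polar (matQuad M) u (A *ᵥ v) := fun u v => by
      refine mul_left_cancel₀ c.ne_zero ?_
      rw [← hAp u (A *ᵥ v), hAA, polar_smul_right']
    -- the form `v ↦ polar v (A v)`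
    let B : LinearMap.BilinMap F (ι → F) F :=
      LinearMap.compl₂ (polarBilin (matQuad M)) (Matrix.toLin' A)
    let R : QuadraticForm F (ι → F) := LinearMap.BilinMap.toQuadraticMap B
    have hRv : ∀ v, R v = polar (matQuad M) v (A *ᵥ v) := fun v => rfl
    have hRp : ∀ u v, polar R u v = 2 * polar (matQuad M) u (A *ᵥ v) := fun u v => by
      rw [show (⇑R) = ⇑(LinearMap.BilinMap.toQuadraticMap B) from rfl,
        LinearMap.BilinMap.polar_toQuadraticMap]
      show polar (matQuad M) u (A *ᵥ v) + polar (matQuad M) v (A *ᵥ u) = _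
      rw [polar_comm (matQuad M) v, hsa]; ring
    have hRn : (polarBilin R).Nondegenerate := by
      have hl : ∀ u, (∀ v, polar R u v = 0) → u = 0 := fun u hu => hQ.1 u fun v => by
        have h := hu (A *ᵥ v)
        rw [hRp, hAA, polar_smul_right'] at h
        simpa [D.two_ne] using h
      exact ⟨fun u hu => hl u hu, fun v hv => hl v fun u => by rw [polar_comm]; exact hv u⟩
    obtain ⟨a, haR, ha0⟩ : ∃ a, R a = 0 ∧ (matQuad M) a ≠ 0 := by
      by_contra hcon
      push Not at hcon
      obtain ⟨l, hl⟩ := form_eq_smul_of_zeros hRn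
        (by rw [Module.finrank_fintype_fun_eq_card]; exact D.five_le) hcon
      have key : ∀ u v, polar (matQuad M) u v = 2 * l * polar (matQuad M) u (A *ᵥ v) := fun u v => by
        rw [mul_assoc, mul_left_comm, ← hRp]
        simp only [polar, hl, mul_sub]
      obtain ⟨v₀, hv₀⟩ := exists_ne_zero_of_nondegenerate (matQuad M) hQ (by have := D.five_le; omega)
      refine hc ⟨(2 * l)⁻¹, ?_⟩
      have h2l : 2 * l ≠ 0 := fun h => D.two_ne (by
        have := key v₀ v₀
        rw [h, zero_mul, polar_self'] at this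
        exact (mul_eq_zero.1 this).resolve_right hv₀)
      have := key v₀ (A *ᵥ v₀)
      rw [hAA, polar_smul_right'] at this
      have h3 := key v₀ v₀
      rw [this, polar_self'] at h3
      have hq : 2 * (matQuad M) v₀ * (1 - (2 * l) * (2 * l) * (c : F)) = 0 := by linear_combination h3
      have := (mul_eq_zero.1 hq).resolve_left (mul_ne_zero D.two_ne hv₀)
      rw [← mul_inv]
      refine eq_inv_of_mul_eq_one_left ?_
      linear_combination -this
    have haA : polar (matQuad M) a (A *ᵥ a) = 0 := haR
    have hb0 : (matQuad M) (A *ᵥ a) ≠ 0 := by rw [hAQ]; exact mul_ne_zero c.ne_zero ha0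
    refine ⟨(isomEquiv (matQuad M)).symm (oRefl (matQuad M) a ha0 * oRefl (matQuad M) (A *ᵥ a) hb0), sqMk c.ne_zero,
      fun h => hc ((sqMk_eq_one_iff _).1 h), ?_, ?_⟩
    · show orthInvariant hQ hR (isomEquiv (matQuad M) _) = _
      rw [MulEquiv.apply_symm_apply, map_mul, orthInvariant_oRefl, orthInvariant_oRefl,
        Prod.mk_mul_mk, ← sqMk_mul]
      refine Prod.ext ?_ (show Multiplicative.ofAdd (1 : ZMod 2) * Multiplicative.ofAdd 1 = 1 by decide)
      show sqMk _ = sqMk _
      have hm : (c : F) * (matQuad M) a * (matQuad M) a ≠ 0 := mul_ne_zero (mul_ne_zero c.ne_zero ha0) ha0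
      rw [← sqMk_mul_sq c.ne_zero hm]
      simp only [hAQ, mul_comm, mul_left_comm]
    · refine Subtype.ext (Units.ext (matrix_eq_of_mulVec fun v => ?_))
      show (A * ((((isomEquiv (matQuad M)).symm _ : Cfsg.isometryGroup F ⇑(matQuad M)) : GL ι F) :
          Matrix ι ι F)) *ᵥ v =
        (((((isomEquiv (matQuad M)).symm _ : Cfsg.isometryGroup F ⇑(matQuad M)) : GL ι F) :
          Matrix ι ι F) * A) *ᵥ v
      rw [← mulVec_mulVec, ← mulVec_mulVec, isomEquiv_symm_mulVec, isomEquiv_symm_mulVec]
      show A *ᵥ (refl (matQuad M) a ha0 (refl (matQuad M) _ hb0 v)) = refl (matQuad M) a ha0 (refl (matQuad M) _ hb0 (A *ᵥ v))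
      simp only [refl_apply, mulVec_sub, mulVec_smul, hAA, polar_sub_left, polar_smul_left',
        hsa, hAQ, polar_comm (matQuad M) (A *ᵥ a) a, haA, hAp, polar_smul_right', mul_zero, sub_zero]
      match_scalars <;> field_simp <;> ring

/-- A similarity commuting projectively with an outer involution has square multiplier, for `k` even. -/
theorem SimHyp.sqHom_mult_of_commute (D : SimHyp M k) (hk : Even k)
    {x : Cfsg.Geo.quadSimilarityGroup ⇑(matQuad M)} (hχ : D.chi x ≠ 1) {c : Fˣ}
    (hx : x * x = simScalar (matQuad M) c) {w : Cfsg.Geo.quadSimilarityGroup ⇑(matQuad M)} {t : Fˣ}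
    (hw : w * x = simScalar (matQuad M) t * (x * w)) : sqHom F (D.mult w) = 1 := by
  rcases D.outer_involution_cases hχ hx with ⟨r, h, rfl, hhh, -, hodd⟩ | ⟨-, -, hko, -⟩
  swap
  · exact absurd hk (Nat.not_even_iff_odd.2 hko)
  have hQ := D.nondeg
  set H := ((h : GL ι F) : Matrix ι ι F) with hH
  set W := ((w : GL ι F) : Matrix ι ι F) with hW
  have hWH : ∀ v, W *ᵥ (H *ᵥ v) = (t : F) • (H *ᵥ (W *ᵥ v)) := fun v => by
    have := congrArg (fun z : Cfsg.Geo.quadSimilarityGroup ⇑(matQuad M) =>
      ((z : GL ι F) : Matrix ι ι F) *ᵥ v) hw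
    simp only [Subgroup.coe_mul, Units.val_mul, simScalar_coe, Matrix.smul_mul, one_mul,
      Matrix.mul_smul, simIso, Subgroup.coe_inclusion, smul_mulVec, ← mulVec_mulVec,
      mulVec_smul] at this
    rw [← hH, ← hW] at this
    exact smul_right_injective (ι → F) r.ne_zero this
  have hHH : ∀ v, H *ᵥ (H *ᵥ v) = v := fun v => by
    have := congrArg (fun z : Cfsg.isometryGroup F ⇑(matQuad M) => ((z : GL ι F) : Matrix ι ι F) *ᵥ v) hhh
    simp only [Subgroup.coe_mul, Units.val_mul, Subgroup.coe_one, Units.val_one, one_mulVec] at this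
    rwa [← mulVec_mulVec] at this
  have hWinj : Function.Injective (Matrix.toLin' W) := fun u v huv => by
    have := congrArg ((((w : GL ι F)⁻¹ : GL ι F) : Matrix ι ι F) *ᵥ ·) huv
    simpa [Matrix.toLin'_apply, mulVec_mulVec, hW] using this
  obtain ⟨-, hsum⟩ := det_involution D.two_ne (f := Matrix.toLin' H) fun v => by
    rw [Matrix.toLin'_apply, Matrix.toLin'_apply, hHH]
  rw [Module.finrank_fintype_fun_eq_card, D.card_eq] at hsum
  have htt : (t : F) = 1 ∨ (t : F) = -1 := by
    have h' : D.mult w * D.mult (simScalar (matQuad M) r * simIso _ h) =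
        D.mult (simScalar (matQuad M) t) *
          (D.mult (simScalar (matQuad M) r * simIso _ h) * D.mult w) := by
      rw [← map_mul, ← map_mul, ← map_mul, hw]
    have : (t * t : Fˣ) = 1 := by
      rw [mul_comm (D.mult w)] at h'
      refine (mul_eq_right.1 h'.symm).symm.trans ?_ |>.symm
      exact simMult_scalar _ D.ne t
    refine sq_eq_one_iff.1 ?_
    rw [pow_two, ← Units.val_mul, this, Units.val_one]
  rcases htt with ht | ht
  · -- restrict to the negated space
    have hmap : ∀ v ∈ negEigen (Matrix.toLin' H), W *ᵥ v ∈ negEigen (Matrix.toLin' H) := fun v hv => by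
      have h1 : H *ᵥ v = -v := mem_negEigen.1 hv
      have := hWH v
      rw [h1, ht, one_smul, mulVec_neg] at this
      exact mem_negEigen.2 this.symm
    let N := negEigen (Matrix.toLin' H)
    let Wr : N →ₗ[F] N := (Matrix.toLin' W).restrict hmap
    have hWr : Function.Injective Wr := fun u v huv =>
      Subtype.ext (hWinj (congrArg Subtype.val huv))
    let We : N ≃ₗ[F] N := Wr.linearEquivOfInjective hWr rfl
    have hWe : ∀ n : N, ((We n : N) : ι → F) = W *ᵥ (n : ι → F) := fun n => rfl
    let QN : QuadraticForm F N := (matQuad M).comp N.subtype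
    have hp : ∀ u v : N, polar QN u v = polar (matQuad M) (u : ι → F) (v : ι → F) := fun u v => by
      simp [QN, QuadraticMap.polar]
    have hl : ∀ u : N, (∀ v : N, polar (matQuad M) (u : ι → F) (v : ι → F) = 0) → u = 0 := fun u hu => by
      refine Subtype.ext (hQ.1 (u : ι → F) fun z => ?_)
      have hc := isCompl_fix_neg D.two_ne (f := Matrix.toLin' H) fun v => by
        rw [Matrix.toLin'_apply, Matrix.toLin'_apply, hHH]
      obtain ⟨a, ha, b, hb, rfl⟩ := Submodule.mem_sup.1 (hc.sup_eq_top ▸ Submodule.mem_top : z ∈ _)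
      show polar (matQuad M) (u : ι → F) (a + b) = 0
      have hua : polar (matQuad M) (u : ι → F) a = 0 := by
        have := orth_polar (isomEquiv (matQuad M) h).2 (u : ι → F) a
        rw [isomEquiv_apply, isomEquiv_apply, ← hH, show H *ᵥ (u : ι → F) = -(u : ι → F) from
          mem_negEigen.1 u.2, show H *ᵥ a = a from mem_fixEigen.1 ha, polar_neg_left] at this
        exact (mul_eq_zero.1 (show (2 : F) * polar (matQuad M) (u : ι → F) a = 0 by
          linear_combination -this)).resolve_left D.two_ne
      rw [polar_add_right, hua, hu ⟨b, hb⟩, add_zero]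
    let b := Module.finBasis F N
    obtain ⟨s, hs0, hs⟩ := det_polar_change QN b (b.map We)
    have hscale : (Matrix.of fun i j => polar QN ((b.map We) i) ((b.map We) j)) =
        (D.mult w : F) • Matrix.of fun i j => polar QN (b i) (b j) := by
      ext i j
      simp only [Matrix.of_apply, Matrix.smul_apply, smul_eq_mul, hp, Module.Basis.map_apply, hWe]
      simp only [polar, ← mulVec_add, hW, SimHyp.mult, simMult_spec D.ne, mul_sub]
    rw [hscale, Matrix.det_smul, Fintype.card_fin] at hs
    have hdN : (Matrix.of fun i j => polar QN (b i) (b j)).det ≠ 0 := by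
      intro h0
      obtain ⟨v, hv0, hv⟩ := Matrix.exists_mulVec_eq_zero_iff.2 h0
      refine hv0 ?_
      have hu : b.equivFun.symm v = 0 := by
        refine hl _ fun z => ?_
        rw [← hp, ← b.sum_repr z, ← polarBilin_apply_apply, map_sum]
        refine Finset.sum_eq_zero fun i _ => ?_
        rw [map_smul, polarBilin_apply_apply, Module.Basis.equivFun_symm_apply]
        have : ∑ j, polar QN (b i) (b j) * v j = 0 := by
          have := congrFun hv i
          simpa [Matrix.mulVec, dotProduct] using this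
        rw [polar_comm, ← polarBilin_apply_apply, map_sum]
        simp only [map_smul, polarBilin_apply_apply, smul_eq_mul]
        rw [show ∑ j, v j * polar QN (b i) (b j) = 0 by rw [← this]; simp [mul_comm], mul_zero]
      exact b.equivFun.symm.injective (hu.trans (map_zero _).symm)
    have hsq : (D.mult w : F) ^ Module.finrank F N = s * s :=
      mul_right_cancel₀ hdN hs
    obtain ⟨j, hj⟩ := hodd
    refine (sqHom_eq_one_iff _).2 ⟨s / (D.mult w : F) ^ j, ?_⟩
    rw [show Module.finrank F N = 2 * j + 1 from hj] at hsq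
    field_simp
    linear_combination hsq
  · exfalso
    have h12 : ∀ (U U' : Submodule F (ι → F)), (∀ v ∈ U, W *ᵥ v ∈ U') →
        Module.finrank F U ≤ Module.finrank F U' := fun U U' hU => by
      have := Submodule.finrank_mono (show U.map (Matrix.toLin' W) ≤ U' by
        rintro _ ⟨v, hv, rfl⟩; exact hU v hv)
      rwa [← (Submodule.equivMapOfInjective _ hWinj U).finrank_eq] at this
    have hcases : ∀ v, W *ᵥ (H *ᵥ v) = -(H *ᵥ (W *ᵥ v)) := fun v => by
      rw [hWH, ht, neg_one_smul]
    have e1 := h12 (negEigen (Matrix.toLin' H)) (fixEigen (Matrix.toLin' H)) fun v hv => by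
      refine mem_fixEigen.2 ?_
      have := hcases v
      rw [show H *ᵥ v = -v from mem_negEigen.1 hv, mulVec_neg, neg_inj] at this
      exact this.symm
    have e2 := h12 (fixEigen (Matrix.toLin' H)) (negEigen (Matrix.toLin' H)) fun v hv => by
      refine mem_negEigen.2 ?_
      have := hcases v
      rw [show H *ᵥ v = v from mem_fixEigen.1 hv] at this
      rw [Matrix.toLin'_apply]
      exact (neg_eq_iff_eq_neg.1 this.symm)
    obtain ⟨j, hj⟩ := hodd
    obtain ⟨i, hi⟩ := hk
    omega

end CfsgLib.Geometry
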