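import Cfsg.Prelude.Def_LieTypeDatum

/-! Counting the classes into which a class splits. -/

set_option autoImplicit false

namespace CfsgLib.Geometry

/-- One or two classes, from one extra conjugator. -/
theorem splitClassCount_one_or_two {A : Type*} [Group A] {H N : Subgroup A} {x h : A}
    (hh : h ∈ H)
    (hcov : ∀ y ∈ H, ∃ n ∈ N, ∃ z, z * x * z⁻¹ = x ∧ (y = n * z ∨ y = n * h * z)) :
    (Cfsg.splitClassCount H N x = 1 ∨ Cfsg.splitClassCount H N x = 2) ∧
      ((∀ n ∈ N, n * x * n⁻¹ ≠ h * x * h⁻¹) → Cfsg.splitClassCount H N x = 2) := by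
  let r : {y : A // Cfsg.IsConjUnder H x y} → {y : A // Cfsg.IsConjUnder H x y} → Prop :=
    fun y z => Cfsg.IsConjUnder N y.1 z.1
  have hr : Equivalence r := by
    refine ⟨fun y => ⟨1, one_mem _, by simp⟩, fun {y z} ⟨n, hn, e⟩ => ⟨n⁻¹, inv_mem hn, ?_⟩,
      fun {y z w} ⟨n, hn, e⟩ ⟨n', hn', e'⟩ => ⟨n' * n, mul_mem hn' hn, ?_⟩⟩
    · rw [e]; group
    · rw [e', e]; group
  let x₀ : {y : A // Cfsg.IsConjUnder H x y} := ⟨x, 1, one_mem _, by simp⟩
  let x₁ : {y : A // Cfsg.IsConjUnder H x y} := ⟨h * x * h⁻¹, h, hh, rfl⟩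
  have hall : ∀ q : Quot r, q = Quot.mk r x₀ ∨ q = Quot.mk r x₁ := fun q => by
    induction q using Quot.ind with
    | mk y =>
      obtain ⟨y, a, ha, rfl⟩ := y
      obtain ⟨n, hn, z, hz, rfl | rfl⟩ := hcov a ha
      · refine Or.inl (Quot.sound ⟨n⁻¹, inv_mem hn, ?_⟩)
        show x = _
        conv_lhs => rw [← hz]
        group
      · refine Or.inr (Quot.sound ⟨n⁻¹, inv_mem hn, ?_⟩)
        show h * x * h⁻¹ = _
        conv_lhs => rw [← hz]
        group
  have hne : (∀ n ∈ N, n * x * n⁻¹ ≠ h * x * h⁻¹) → Quot.mk r x₀ ≠ Quot.mk r x₁ := fun hn e => by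
    obtain ⟨n, hnN, en⟩ := hr.eqvGen_iff.1 (Quot.eqvGen_exact e)
    exact hn n hnN en.symm
  constructor
  · by_cases e : Quot.mk r x₀ = Quot.mk r x₁
    · refine Or.inl (Nat.card_eq_one_iff_unique.2 ⟨⟨fun a b => ?_⟩, ⟨Quot.mk r x₀⟩⟩)
      rcases hall a with ha | ha <;> rcases hall b with hb | hb <;>
        first
        | exact ha.trans hb.symm
        | exact ha.trans (e.trans hb.symm)
        | exact ha.trans (e.symm.trans hb.symm)
    · exact Or.inr (Nat.card_eq_two_iff.2 ⟨_, _, e, Set.eq_univ_of_forall fun q => hall q⟩)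
  · intro hn
    exact Nat.card_eq_two_iff.2 ⟨_, _, hne hn, Set.eq_univ_of_forall fun q => hall q⟩

end CfsgLib.Geometry
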