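import Cfsg.Agent.Lib.Geometry.PGOStd
import Cfsg.Agent.Lib.Geometry.SimCentral
import Cfsg.Agent.Lib.Geometry.SplitCount
import Cfsg.Agent.Lib.Geometry.SemiSimInvolution

/-! The classes into which an involutory graph automorphism's class splits. -/

set_option autoImplicit false

namespace CfsgLib.Geometry

open Matrix QuadraticMap

variable {ι : Type} [Fintype ι] [DecidableEq ι] {F : Type*} [Field F] [Finite F]
variable {M : Matrix ι ι F} {k : ℕ} {P : Matrix ι ι F → Prop} {odd : Prop}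

theorem SimHyp.mem_scalar (D : SimHyp M k) {g : Cfsg.Geo.quadSimilarityGroup ⇑(matQuad M)}
    (hg : simAut ⇑(matQuad M) g = 1) : ∃ c, g = simScalar (matQuad M) c := by
  obtain ⟨c, hc⟩ := (simAut_eq_one_iff D.nondeg D.five_le g).1 hg
  exact ⟨c, Subtype.ext hc.symm⟩

/-- The split of the class of an outer involution. -/
theorem SimData.split_outer (D : SimData M k P odd)
    (x : Cfsg.Geo.quadSimilarityGroup ⇑(matQuad M))
    (hP : ¬ P ((x : GL ι F) : Matrix ι ι F))
    (hx : simAut ⇑(matQuad M) x * simAut ⇑(matQuad M) x = 1) :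
    let H := simSub ⇑(matQuad M) P
    let N := Cfsg.Inn (Cfsg.POmega F ⇑(matQuad M))
    let γ := simAut ⇑(matQuad M) x
    (Cfsg.splitClassCount H N γ = 1 ∨ Cfsg.splitClassCount H N γ = 2) ∧
      ((IsSquare (M + Mᵀ).det ∨ Even k) → Cfsg.splitClassCount H N γ = 2) := by
  intro H N γ
  set α := simAut ⇑(matQuad M) with hα
  have hχ : D.hyp.chi x ≠ 1 := fun h => hP ((D.preserves x).2 h)
  obtain ⟨c, hc⟩ := D.hyp.mem_scalar (g := x * x) (by rw [map_mul]; exact hx)
  obtain ⟨ν, g₀, -, hν, hg₀, hχ₀, -, -⟩ := D.witness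
  have hν' : sqHom F ν ≠ 1 := fun h => hν ((sqHom_eq_one_iff ν).1 h)
  obtain ⟨s, t, ht, hs, hcomm⟩ := D.hyp.exists_commuting_special hχ hc
  set f := outHom ⇑(matQuad M) with hf
  have hN : ∀ {a b : Cfsg.Geo.quadSimilarityGroup ⇑(matQuad M)}, f a = f b → α (a * b⁻¹) ∈ N :=
    fun {a b} h => (outHom_eq_one_iff _).1 (by rw [map_mul, map_inv, ← hf, h, mul_inv_cancel])
  have hH : H = D.hyp.chi.ker.map α := D.simSub_eq
  have hg₀H : α g₀ ∈ H := hH ▸ ⟨g₀, hχ₀, rfl⟩
  have hscov : ∀ h : Cfsg.isometryGroup F ⇑(matQuad M), detHom ⇑(matQuad M) h = 1 →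
      ∃ n ∈ N, ∃ z, z * γ * z⁻¹ = γ ∧ α (simIso _ h) = n * z := by
    intro h hh
    rcases D.hyp.special_cover ht hs h hh with e | e
    · exact ⟨α (simIso _ h), (outHom_eq_one_iff _).1 e, 1, by simp, by rw [mul_one]⟩
    · refine ⟨_, hN e, α (simIso _ s), ?_, by rw [← map_mul, inv_mul_cancel_right]⟩
      show α _ * α x * (α _)⁻¹ = α x
      rw [← map_mul, ← map_inv, ← map_mul, hcomm.symm.eq, mul_inv_cancel_right]
  have hcov : ∀ y ∈ H, ∃ n ∈ N, ∃ z, z * γ * z⁻¹ = γ ∧ (y = n * z ∨ y = n * α g₀ * z) := by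
    rw [hH]
    rintro _ ⟨w, hw, rfl⟩
    rcases sqClass_cases D.hyp.two_ne hν' (sqHom F (D.hyp.mult w)) with hw' | hw'
    · obtain ⟨d, h, rfl, hh⟩ := D.hyp.exists_scalar_mul_iso hw'
      rw [show D.hyp.chi _ = 1 from hw] at hh
      obtain ⟨n, hn, z, hz, e⟩ := hscov h hh
      refine ⟨n, hn, z, hz, Or.inl ?_⟩
      rw [map_mul, hα, (simAut_eq_one_iff D.hyp.nondeg D.hyp.five_le _).2 (simScalar_mem_scalars _ d),
        one_mul]
      exact e
    · obtain ⟨d, h, hch, hh⟩ := D.hyp.exists_scalar_mul_iso (g := g₀⁻¹ * w)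
        (by rw [map_mul, map_mul, map_inv, map_inv, hg₀, hw', inv_mul_cancel])
      rw [map_mul, map_inv, hχ₀, show D.hyp.chi w = 1 from hw, inv_one, one_mul] at hh
      obtain ⟨n, hn, z, hz, e⟩ := hscov h hh
      have hnN : α g₀ * n * (α g₀)⁻¹ ∈ N := Subgroup.Normal.conj_mem inferInstance n hn (α g₀)
      refine ⟨_, hnN, z, hz, Or.inr ?_⟩
      rw [show w = g₀ * (simScalar (matQuad M) d * simIso _ h) by rw [← hch, mul_inv_cancel_left],
        map_mul, map_mul, hα, (simAut_eq_one_iff D.hyp.nondeg D.hyp.five_le _).2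
        (simScalar_mem_scalars _ d), one_mul, inv_mul_cancel_right, mul_assoc]
      exact congrArg _ e
  obtain ⟨h12, h2⟩ := splitClassCount_one_or_two hg₀H hcov
  refine ⟨h12, fun hor => h2 fun n hn hconj => ?_⟩
  rcases hor with hd | hke
  · -- the images in `Out` differ
    have e0 : f g₀ * f x * (f g₀)⁻¹ = f x := by
      have e := congrArg (QuotientGroup.mk' N) hconj
      rw [map_mul, map_mul, map_inv, show QuotientGroup.mk' N n = 1 from
        (QuotientGroup.eq_one_iff n).2 hn, one_mul, inv_one, mul_one, map_mul, map_mul, map_inv] at e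
      exact e.symm
    have hχ' : D.hyp.chi x = -1 :=
      (simChi_sq D.hyp.det_ne D.hyp.ne D.hyp.card_eq x).resolve_left hχ
    obtain ⟨a, r, hxr, hcomm', hrd⟩ : ∃ (a : Cfsg.Geo.quadSimilarityGroup ⇑(matQuad M))
        (r : Cfsg.isometryGroup F ⇑(matQuad M)),
        f x = f a * f (simIso _ r) ∧ (f g₀ * f a = f a * f g₀) ∧ detHom ⇑(matQuad M) r ≠ 1 := by
      have h1 : (-1 : Fˣ) ≠ 1 := fun h => D.hyp.two_ne (by
        have := congrArg Units.val h
        rw [Units.val_neg, Units.val_one] at this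
        linear_combination -this)
      rcases sqClass_cases D.hyp.two_ne hν' (sqHom F (D.hyp.mult x)) with hx' | hx'
      · obtain ⟨d, h, hd', hh⟩ := D.hyp.exists_scalar_mul_iso hx'
        refine ⟨1, h, ?_, by simp, by rw [hh, hχ']; exact h1⟩
        rw [hd', map_mul, map_one, hf, D.hyp.outHom_scalar]
      · obtain ⟨d, h, hd', hh⟩ := D.hyp.exists_scalar_mul_iso (g := g₀⁻¹ * x)
          (by rw [map_mul, map_mul, map_inv, map_inv, hg₀, hx', inv_mul_cancel])
        rw [map_mul, map_inv, hχ₀, inv_one, one_mul, hχ'] at hh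
        refine ⟨g₀, h, ?_, rfl, by rw [hh]; exact h1⟩
        rw [show x = g₀ * (simScalar (matQuad M) d * simIso _ h) by rw [← hd', mul_inv_cancel_left],
          map_mul, map_mul, hf, D.hyp.outHom_scalar, one_mul]
    -- replace `r` by a reflection
    have hri : (isoInv D.hyp.nondeg D.hyp.two_ne r).2 = Multiplicative.ofAdd 1 := by
      have hdz : ∀ d : Multiplicative (ZMod 2), d = 1 ∨ d = Multiplicative.ofAdd 1 := by decide
      exact (hdz _).resolve_left fun h => hrd ((detHom_eq_one_iff D.hyp.nondeg D.hyp.two_ne r).2 h)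
    obtain ⟨u, hu⟩ := sqHom_surjective (isoInv D.hyp.nondeg D.hyp.two_ne r).1
    obtain ⟨v, hv⟩ := exists_represents D.hyp.nondeg
      (by rw [Module.finrank_fintype_fun_eq_card]; have := D.hyp.five_le; omega) (u : F)
    have hv0 : matQuad M v ≠ 0 := by rw [hv]; exact u.ne_zero
    set r₁ := (isomEquiv (matQuad M)).symm (oRefl (matQuad M) v hv0) with hr₁
    have hr₁e : isomEquiv (matQuad M) r₁ = oRefl (matQuad M) v hv0 := MulEquiv.apply_symm_apply _ _
    have hr₁i : isoInv D.hyp.nondeg D.hyp.two_ne r₁ = isoInv D.hyp.nondeg D.hyp.two_ne r := by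
      show orthInvariant D.hyp.nondeg _ (isomEquiv (matQuad M) r₁) = _
      rw [hr₁e, orthInvariant_oRefl]
      refine Prod.ext ?_ hri.symm
      rw [← hu]
      exact congrArg (sqHom F) (Units.ext hv)
    obtain ⟨r₂, hr₂, hr₂i⟩ := D.hyp.isoInv_conj_refl g₀ hv0 hr₁e
    have e1 : f (simIso _ r₂) = f (simIso _ r₁) := by
      rw [hxr, ← D.hyp.outHom_iso_eq hr₁i, ← mul_assoc, hcomm', mul_assoc (f a), mul_assoc (f a)] at e0
      have e2 := mul_left_cancel e0
      rw [← map_inv, ← map_mul, ← map_mul, ← hr₂] at e2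
      exact e2
    refine (D.hyp.outHom_iso_eq_one_iff (t := sqHom F ν) hν' ?_).1
      (show f (simIso _ (r₂ * r₁⁻¹)) = 1 by rw [map_mul, map_mul, e1, ← map_mul, ← map_mul,
        mul_inv_cancel, map_one, map_one]) hd
    rw [map_mul, map_inv, hr₂i, hg₀, show isoInv D.hyp.nondeg D.hyp.two_ne r₁ =
      (sqMk hv0, Multiplicative.ofAdd 1) from by
        show orthInvariant D.hyp.nondeg _ (isomEquiv (matQuad M) r₁) = _
        rw [hr₁e, orthInvariant_oRefl]]
    refine Prod.ext ?_ ?_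
    · show sqHom F ν * sqMk hv0 * (sqMk hv0)⁻¹ = _
      rw [mul_inv_cancel_right]
    · show Multiplicative.ofAdd (1 : ZMod 2) * (Multiplicative.ofAdd (1 : ZMod 2))⁻¹ = 1
      decide
  · -- the centraliser has square multipliers
    change n ∈ Cfsg.Inn (Cfsg.POmega F ⇑(matQuad M)) at hn
    rw [inn_eq_map] at hn
    obtain ⟨ω, hω⟩ := hn
    set w := (simIso _ (ω : Cfsg.isometryGroup F ⇑(matQuad M)))⁻¹ * g₀
    have hwx : α (w * x * (x * w)⁻¹) = 1 := by
      simp only [w, map_mul, map_inv, _root_.mul_inv_rev, inv_inv]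
      change n * α x * n⁻¹ = α g₀ * α x * (α g₀)⁻¹ at hconj
      rw [show α (simIso _ (ω : Cfsg.isometryGroup F ⇑(matQuad M))) = n from hω]
      calc n⁻¹ * α g₀ * α x * ((α g₀)⁻¹ * n * (α x)⁻¹)
          = n⁻¹ * (α g₀ * α x * (α g₀)⁻¹) * n * (α x)⁻¹ := by group
        _ = 1 := by rw [← hconj]; group
    obtain ⟨d, hd⟩ := D.hyp.mem_scalar hwx
    have h1 := D.hyp.sqHom_mult_of_commute hke hχ hc (w := w) (t := d)
      (by rw [← hd, inv_mul_cancel_right])
    refine hν' ?_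
    rwa [map_mul, map_inv, show D.hyp.mult (simIso _ _) = 1 from simMult_iso D.hyp.ne _, inv_one,
      one_mul, hg₀] at h1

theorem SimData.split_outer' (D : SimData M k P odd) {Q : (ι → F) → F} (hQ : ⇑(matQuad M) = Q)
    (g : GL ι F) (hg : g ∈ Cfsg.Geo.quadSimilarityGroup Q) (hP : ¬ P (g : Matrix ι ι F))
    (γ : MulAut (Cfsg.POmega F Q))
    (hi : Cfsg.IsInducedBySemilinearPOmega Q g (RingEquiv.refl F) γ) (h2 : orderOf γ = 2) :
    (Cfsg.splitClassCount (simSub Q P) (Cfsg.Inn (Cfsg.POmega F Q)) γ = 1 ∨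
      Cfsg.splitClassCount (simSub Q P) (Cfsg.Inn (Cfsg.POmega F Q)) γ = 2) ∧
      ((IsSquare (M + Mᵀ).det ∨ Even k) →
        Cfsg.splitClassCount (simSub Q P) (Cfsg.Inn (Cfsg.POmega F Q)) γ = 2) := by
  subst hQ
  obtain rfl := (isInduced_sim_iff hg γ).1 hi
  exact D.split_outer ⟨g, hg⟩ hP (by rw [← pow_two, ← h2, pow_orderOf_eq_one])

/-- An involution in the semisimilarity image of a form of nonsquare signed discriminant is linear. -/
theorem exists_sim_of_gamma_involution (D : SimHyp M k) {Q : (ι → F) → F} (hQ : ⇑(matQuad M) = Q)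
    (hd : IsSquare (-1 : F) → ¬ IsSquare (M + Mᵀ).det) (γ : MulAut (Cfsg.POmega F Q))
    (hγ : γ ∈ Cfsg.gammaPOmega F Q) (h2 : orderOf γ = 2) :
    ∃ g : GL ι F, g ∈ Cfsg.Geo.quadSimilarityGroup Q ∧
      Cfsg.IsInducedBySemilinearPOmega Q g (RingEquiv.refl F) γ := by
  subst hQ
  rw [gammaPOmega_eq] at hγ
  obtain ⟨x, rfl⟩ := hγ
  have hx : autOmega ⇑(matQuad M) x * autOmega ⇑(matQuad M) x = 1 := by
    rw [← pow_two, ← h2, pow_orderOf_eq_one]
  have hσ : (x : GammaL ι F).right = 1 := by_contra fun h => by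
    obtain ⟨h1, h3⟩ := isSquare_of_semiSim_involution D.two_ne D.det_ne D.card_eq D.three_le hx h
    exact hd h3 h1
  have hg : (x : GammaL ι F).left ∈ Cfsg.Geo.quadSimilarityGroup ⇑(matQuad M) := by
    obtain ⟨c, hc⟩ := x.2
    refine ⟨c, fun v => ?_⟩
    have := hc v
    rw [slAct, hσ] at this
    exact this
  refine ⟨_, hg, (isInduced_sim_iff hg _).2 ?_⟩
  refine congrArg (autOmega ⇑(matQuad M)) (Subtype.ext (SemidirectProduct.ext ?_ ?_)) <;>
    simp [simIncl, hσ]

end CfsgLib.Geometry
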