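import Cfsg.Agent.Lib.Geometry.SemiSim

/-! The Frobenius map of a finite field as a generator of its automorphism group, and in semilinear maps. -/

set_option autoImplicit false

namespace CfsgLib.Geometry

variable {F : Type*} [Field F] [Fintype F] {p f : ℕ}

theorem charP_of_pow (hp : p.Prime) (hF : Fintype.card F = p ^ f) : CharP F p :=
  haveI := Fact.mk hp
  charP_of_card_eq_prime_pow hF

/-- The Frobenius map has order `f` and generates. -/
theorem exists_frob (hp : p.Prime) (hF : Fintype.card F = p ^ f) :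
    ∃ τ : F ≃+* F, (∀ x, τ x = x ^ p) ∧ orderOf τ = f ∧ ∀ φ : F ≃+* F, ∃ i : ℕ, φ = τ ^ i := by
  haveI := Fact.mk hp
  haveI := charP_of_pow hp hF
  letI := ZMod.algebra F p
  set e := FiniteField.frobeniusAlgEquivOfAlgebraic (ZMod p) F with he
  have hpw : ∀ j : ℕ, ((e.toRingEquiv : F ≃+* F) ^ j) = (e ^ j).toRingEquiv := by
    intro j
    induction j with
    | zero => rfl
    | succ j ih => rw [pow_succ, pow_succ, ih]; rfl
  refine ⟨e.toRingEquiv, fun x => ?_, ?_, fun φ => ?_⟩
  · show x ^ Fintype.card (ZMod p) = x ^ p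
    rw [ZMod.card]
  · rw [show orderOf (e.toRingEquiv : F ≃+* F) = orderOf e from orderOf_eq_orderOf_iff.2 fun j => by
      rw [hpw]
      exact ⟨fun h => AlgEquiv.ext fun x => RingEquiv.congr_fun h x, fun h => by rw [h]; rfl⟩,
      he, FiniteField.orderOf_frobeniusAlgEquivOfAlgebraic]
    have h := Module.card_eq_pow_finrank (K := ZMod p) (V := F)
    rw [hF, ZMod.card] at h
    exact (Nat.pow_right_injective hp.two_le h).symm
  · obtain ⟨j, hj⟩ := (FiniteField.bijective_frobeniusAlgEquivOfAlgebraic_pow (ZMod p) F).2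
      (AlgEquiv.ofRingEquiv (f := φ) fun x => RingHom.congr_fun
        (RingHom.ext_zmod ((φ : F →+* F).comp (algebraMap (ZMod p) F)) (algebraMap (ZMod p) F)) x)
    refine ⟨j, RingEquiv.ext fun x => ?_⟩
    rw [hpw]
    exact (AlgEquiv.congr_fun hj x).symm

theorem frob_pow_apply {τ : F ≃+* F} (hτ : ∀ x, τ x = x ^ p) (i : ℕ) (x : F) :
    (τ ^ i : F ≃+* F) x = x ^ p ^ i := by
  induction i with
  | zero => simp
  | succ i ih =>
    rw [pow_succ', pow_succ]
    show τ ((τ ^ i : F ≃+* F) x) = _
    rw [hτ, ih, pow_mul]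

section SemiLinear

variable {ι : Type} [Fintype ι] [DecidableEq ι] {F : Type*} [Field F]

theorem slAct_pow (x : GammaL ι F) (j : ℕ) (v : ι → F) : slAct (x ^ j) v = (slAct x)^[j] v := by
  induction j generalizing v with
  | zero => simp
  | succ j ih => rw [pow_succ, slAct_mul, ih, Function.iterate_succ_apply]

/-- A semilinear map is determined by its field component and its action. -/
theorem gammaL_ext {x y : GammaL ι F} (hr : x.right = y.right) (h : ∀ v, slAct x v = slAct y v) : x = y := by
  refine SemidirectProduct.ext (Units.ext (matrix_eq_of_mulVec fun v => ?_)) hr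
  have := h fun i => x.right.symm (v i)
  simp only [slAct, RingEquiv.apply_symm_apply, ← hr] at this
  exact this

end SemiLinear

end CfsgLib.Geometry
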