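import Cfsg.Agent.Lib.Geometry.EvenSpinor

/-! Field and graph-field automorphisms of the standard plus and minus groups, moved to standard position. -/

set_option autoImplicit false

namespace CfsgLib.Geometry

open Matrix QuadraticMap

section Model

variable {X X' : Type*} [Group X] [Group X']

/-- `x` with `H` and `T` is carried to `y` with `H'` and `T'`. -/
def Carried (H T : Subgroup X) (x : X) (H' T' : Subgroup X') (y : X') : Prop :=
  ∃ Φ : X ≃* X', H.map Φ.toMonoidHom = H' ∧ T.map Φ.toMonoidHom = T' ∧ Φ x = y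

variable {H T : Subgroup X} {x : X} {H' T' : Subgroup X'} {y : X'}

theorem Carried.centralizer (h : Carried H T x H' T' y) :
    Nonempty (↥(H ⊓ Subgroup.centralizer {x}) ≃* ↥(H' ⊓ Subgroup.centralizer {y})) := by
  obtain ⟨Φ, rfl, -, rfl⟩ := h
  exact centralizer_transport Φ H x

theorem Carried.count (h : Carried H T x H' T' y) :
    Cfsg.splitClassCount H T x = Cfsg.splitClassCount H' T' y := by
  obtain ⟨Φ, rfl, rfl, rfl⟩ := h
  exact splitClassCount_transport Φ H T x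

theorem Carried.coset (h : Carried H T x H' T' y) {r : ℕ}
    (hy : ∀ d ∈ H', orderOf (d * y) = r → Cfsg.IsConjUnder H' y (d * y))
    {d : X} (hd : d ∈ H) (ho : orderOf (d * x) = r) : Cfsg.IsConjUnder H x (d * x) := by
  obtain ⟨Φ, rfl, -, rfl⟩ := h
  exact coset_transport Φ hy hd ho

/-- An element of the coset of the same order is carried to the model element. -/
theorem carried_of_mem_coset [T'.Normal] (Φ : X ≃* X') (hH : H.map Φ.toMonoidHom = H')
    (hT : T.map Φ.toMonoidHom = T') {r : ℕ} (hr : orderOf x = r)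
    (hy : ∀ d ∈ H', orderOf (d * y) = r → Cfsg.IsConjUnder H' y (d * y)) {d : X'} (hd : d ∈ H')
    (hx : Φ x = d * y) : Carried H T x H' T' y := by
  obtain ⟨a, ha, he⟩ := hy d hd (by rw [← hx, MulEquiv.orderOf_eq, hr])
  refine ⟨Φ.trans (MulAut.conj a⁻¹), ?_, ?_, ?_⟩
  · rw [show (Φ.trans (MulAut.conj a⁻¹)).toMonoidHom = (MulAut.conj a⁻¹).toMonoidHom.comp Φ.toMonoidHom from rfl,
      ← Subgroup.map_map, hH]
    ext z
    simp only [Subgroup.mem_map, MulEquiv.coe_toMonoidHom, MulAut.conj_apply, inv_inv]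
    exact ⟨fun ⟨w, hw, e⟩ => e ▸ mul_mem (mul_mem (inv_mem ha) hw) ha,
      fun hz => ⟨a * z * a⁻¹, mul_mem (mul_mem ha hz) (inv_mem ha), by group⟩⟩
  · rw [show (Φ.trans (MulAut.conj a⁻¹)).toMonoidHom = (MulAut.conj a⁻¹).toMonoidHom.comp Φ.toMonoidHom from rfl,
      ← Subgroup.map_map, hT]
    exact Subgroup.Normal.map_conj_eq T' a⁻¹
  · show a⁻¹ * Φ x * a⁻¹⁻¹ = y
    rw [hx, he]; group

theorem congr_eq_conj {A B : Type*} [Group A] [Group B] (e ψ : A ≃* B) :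
    (MulAut.congr ψ).toMonoidHom =
      (MulAut.conj (e.symm.trans ψ : MulAut B)).toMonoidHom.comp (MulAut.congr e).toMonoidHom :=
  MonoidHom.ext fun β => MulEquiv.ext fun z => by simp [MulAut.congr, MulAut.conj]

theorem map_normal_eq [H.Normal] (a : X) : H.map (MulAut.conj a).toMonoidHom = H :=
  Subgroup.Normal.map_conj_eq H a

end Model

variable {F : Type*} [Field F] [Finite F]

/-- The field automorphism attached to `σ` is induced by the semisimilarity `σ`. -/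
theorem fieldAut_eq_autOmega {ι : Type} [Fintype ι] [DecidableEq ι] {Q : (ι → F) → F} {σ : F ≃+* F}
    {φ : MulAut (Cfsg.POmega F Q)} (hφ : Cfsg.IsFieldAutPOmegaOf Q σ φ) (y : semiSim Q)
    (hy : (y : GammaL ι F) = SemidirectProduct.inr σ) : φ = autOmega Q y := by
  have hs : Cfsg.IsSemisimilarityPair Q 1 σ := by
    have := (mem_semiSim_iff Q (y : GammaL ι F)).1 y.2
    rwa [hy, SemidirectProduct.left_inr, SemidirectProduct.right_inr] at this
  rw [show y = ⟨⟨1, σ⟩, (mem_semiSim_iff _ ⟨1, σ⟩).2 hs⟩ from Subtype.ext hy, ← isInduced_iff hs]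
  intro s s' h
  exact hφ s s' (by rw [h, Units.val_one, one_mul, show ((1⁻¹ : GL ι F) : Matrix ι ι F) = 1 by simp, mul_one])

variable {F₀ : Type*} [Field F₀] {emb : F₀ →+* F} {σ : F ≃+* F} {r : ℕ}

/-- From the extended model to the standard plus form. -/
noncomputable def plusSim₀ (emb : F₀ →+* F) (m : ℕ) :
    FormSim ⇑(extForm emb (plusMat m F₀)) (Cfsg.quadFormPlus m F) :=
  FormSim.ofEq (by rw [extForm, plusMat_map, coe_matQuad_plus])

/-- From the extended model to the standard minus form. -/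
noncomputable def minusSim₀ (emb : F₀ →+* F) (m : ℕ) (a₀ b₀ : F₀) :
    FormSim ⇑(extForm emb (minusMat m F₀ a₀ b₀)) (Cfsg.quadFormMinus m F (emb a₀) (emb b₀)) :=
  FormSim.ofEq (by
    haveI := Finite.of_injective emb emb.injective
    rw [extForm, minusMat_map, coe_matQuad_minus])

theorem map_symm_of_map {X X' : Type*} [Group X] [Group X'] (Φ : X ≃* X') {H : Subgroup X} {H' : Subgroup X'}
    (h : H.map Φ.toMonoidHom = H') : H'.map Φ.symm.toMonoidHom = H := by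
  subst h
  rw [Subgroup.map_map]
  conv_rhs => rw [← Subgroup.map_id H]
  congr 1
  exact MonoidHom.ext Φ.symm_apply_apply

theorem inndiag_plus_eq_of {m : ℕ} (hm : 4 ≤ m) {M : Matrix (Fin m ⊕ Fin m) (Fin m ⊕ Fin m) F}
    (hM : M = plusMat m F) (h : ⇑(matQuad M) = Cfsg.quadFormPlus m F) :
    ((clsSub M m).map (simAut _)).map (FormSim.ofEq h).autEquiv.toMonoidHom = Cfsg.inndiagPOmegaPlus m F := by
  subst hM
  exact inndiag_plus_eq hm

theorem inndiag_plus_map (emb : F₀ →+* F) {m : ℕ} (hm : 4 ≤ m) :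
    ((clsSub ((plusMat m F₀).map emb) m).map (simAut _)).map (plusSim₀ emb m).autEquiv.toMonoidHom =
      Cfsg.inndiagPOmegaPlus m F :=
  inndiag_plus_eq_of hm (plusMat_map emb m) _

theorem inndiag_minus_map {F : Type*} [Field F] [Fintype F] (emb : F₀ →+* F) {m : ℕ} (hm : 3 ≤ m) {a₀ b₀ : F₀}
    (hab : ∀ z₁ z₂ : F, z₁ ^ 2 + emb a₀ * z₁ * z₂ + emb b₀ * z₂ ^ 2 = 0 → z₁ = 0 ∧ z₂ = 0) :
    ((clsSub ((minusMat m F₀ a₀ b₀).map emb) (m + 1)).map (simAut _)).map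
        (minusSim₀ emb m a₀ b₀).autEquiv.toMonoidHom = Cfsg.inndiagPOmegaMinus m F (emb a₀) (emb b₀) := by
  have key : ∀ M (hM : M = minusMat m F (emb a₀) (emb b₀))
      (h : ⇑(matQuad M) = Cfsg.quadFormMinus m F (emb a₀) (emb b₀)),
      ((clsSub M (m + 1)).map (simAut _)).map (FormSim.ofEq h).autEquiv.toMonoidHom =
        Cfsg.inndiagPOmegaMinus m F (emb a₀) (emb b₀) := by
    rintro M rfl h
    exact inndiag_minus_eq hm hab
  haveI := Finite.of_injective emb emb.injective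
  exact key _ (minusMat_map emb m a₀ b₀) _

theorem normal_inndiag_plus {m : ℕ} (hm : 4 ≤ m) (h : 5 ≤ m ∨ (2 : F) = 0) :
    (Cfsg.inndiagPOmegaPlus m F).Normal := by
  have D := evenHyp_plus (F := F) hm
  rw [← inndiag_plus_eq hm]
  refine Subgroup.Normal.map ?_ _ (plusSim F m).autEquiv.surjective
  rcases h with h | h
  · refine D.normal ?_
    have := gammaPOmega_plus_eq_top (F := F) h
    rwa [← coe_matQuad_plus] at this
  · rw [D.map_clsSub_two h]
    exact Cfsg.innNormal _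

theorem normal_inndiag_minus {F : Type*} [Field F] [Fintype F] {m : ℕ} (hm : 3 ≤ m) {a b : F}
    (hab : ∀ z₁ z₂ : F, z₁ ^ 2 + a * z₁ * z₂ + b * z₂ ^ 2 = 0 → z₁ = 0 ∧ z₂ = 0) :
    (Cfsg.inndiagPOmegaMinus m F a b).Normal := by
  rw [← inndiag_minus_eq hm hab]
  refine Subgroup.Normal.map ((evenHyp_minus hm hab).normal ?_) _ (minusSim m a b).autEquiv.surjective
  have := gammaPOmega_minus_eq_top hm hab
  rwa [← coe_matQuad_minus] at this

theorem fieldHyp_plus {m : ℕ} (hm : 4 ≤ m) (hfix : ∀ x, σ x = x ↔ ∃ y, emb y = x) (hr : r.Prime)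
    (hσ : orderOf σ = r) : FieldHyp (plusMat m F₀) emb σ r :=
  ⟨(evenHyp_plus hm).det_ne, by simp; omega, hfix, hr, hσ⟩

theorem FormSim.ofEq_fld {ι : Type} [Fintype ι] [DecidableEq ι] {M₀ : Matrix ι ι F₀}
    (D : FieldHyp M₀ emb σ r) {Q : (ι → F) → F} (h : ⇑(extForm emb M₀) = Q)
    {φ : MulAut (Cfsg.POmega F Q)} (hφ : Cfsg.IsFieldAutPOmegaOf Q σ φ) :
    (FormSim.ofEq h).autEquiv D.fld = φ := by
  subst h
  obtain ⟨y, hy⟩ : ∃ y : semiSim ⇑(extForm emb M₀), y = D.base := ⟨_, rfl⟩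
  rw [fieldAut_eq_autOmega hφ D.base rfl]
  exact FormSim.autEquiv_autOmega _ D.base D.base fun v => rfl

/-- A field automorphism of the plus group in standard position. -/
theorem carried_plus {m : ℕ} (hm : 4 ≤ m) [(Cfsg.inndiagPOmegaPlus m F).Normal]
    (hfix : ∀ x, σ x = x ↔ ∃ y, emb y = x) (hr : r.Prime) (hσ : orderOf σ = r)
    {x α φ : MulAut (Cfsg.POmega F (Cfsg.quadFormPlus m F))}
    (hφ : Cfsg.IsFieldAutPOmegaOf (Cfsg.quadFormPlus m F) σ φ) (hx : α * x * α⁻¹ = φ) :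
    Carried (Cfsg.inndiagPOmegaPlus m F) (Cfsg.Inn _) x
      ((clsSub ((plusMat m F₀).map emb) m).map (simAut _))
      (Cfsg.Inn (Cfsg.POmega F ⇑(extForm emb (plusMat m F₀)))) (fieldHyp_plus hm hfix hr hσ).fld := by
  haveI := Cfsg.innNormal (Cfsg.POmega F (Cfsg.quadFormPlus m F))
  set S := plusSim₀ emb m
  refine ⟨(MulAut.conj α).trans S.autEquiv.symm, ?_, ?_, ?_⟩
  · rw [show ((MulAut.conj α).trans S.autEquiv.symm).toMonoidHom =
      S.autEquiv.symm.toMonoidHom.comp (MulAut.conj α).toMonoidHom from rfl, ← Subgroup.map_map, map_normal_eq]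
    exact map_symm_of_map _ (inndiag_plus_map emb hm)
  · rw [show ((MulAut.conj α).trans S.autEquiv.symm).toMonoidHom =
      S.autEquiv.symm.toMonoidHom.comp (MulAut.conj α).toMonoidHom from rfl, ← Subgroup.map_map, map_normal_eq]
    exact map_symm_of_map _ (map_inn_congr S.pomegaEquiv)
  · rw [MulEquiv.trans_apply, MulAut.conj_apply, hx, MulEquiv.symm_apply_eq]
    exact (FormSim.ofEq_fld (fieldHyp_plus hm hfix hr hσ) _ hφ).symm

/-- A field class automorphism of the plus group: the field map. -/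
theorem exists_plus_data {m : ℕ} (hm : 4 ≤ m) {x : MulAut (Cfsg.POmega F (Cfsg.quadFormPlus m F))}
    (hx : Cfsg.IsFieldAutClassPOmega (Cfsg.quadFormPlus m F) x) :
    ∃ (α φ : MulAut (Cfsg.POmega F (Cfsg.quadFormPlus m F))) (σ : F ≃+* F), orderOf σ = orderOf x ∧
      Cfsg.IsFieldAutPOmegaOf (Cfsg.quadFormPlus m F) σ φ ∧ α * x * α⁻¹ = φ := by
  revert x
  rw [← coe_matQuad_plus]
  intro x hx
  obtain ⟨α, σ, hσ, hφ⟩ := exists_conj_of_fieldClass (M := plusMat m F) (evenHyp_plus hm).det_ne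
    (by simp; omega) (fun σ => plusMat_map (σ : F →+* F) m) hx
  exact ⟨α, _, σ, hσ, hφ, rfl⟩

set_option maxHeartbeats 1000000 in
/-- A field class automorphism of the minus group in standard position. -/
theorem exists_minus_data {F : Type*} [Field F] [Fintype F] {m : ℕ} (hm : 3 ≤ m) {a b : F}
    (hab : ∀ z₁ z₂ : F, z₁ ^ 2 + a * z₁ * z₂ + b * z₂ ^ 2 = 0 → z₁ = 0 ∧ z₂ = 0)
    {x : MulAut (Cfsg.POmega F (Cfsg.quadFormMinus m F a b))} (hx : Cfsg.IsFieldAutClassPOmegaMinus m x) :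
    ∃ (a' b' : F) (σ : F ≃+* F) (φ : MulAut (Cfsg.POmega F (Cfsg.quadFormMinus m F a' b')))
      (Φ : MulAut (Cfsg.POmega F (Cfsg.quadFormMinus m F a b)) ≃*
        MulAut (Cfsg.POmega F (Cfsg.quadFormMinus m F a' b'))),
      (∀ z₁ z₂ : F, z₁ ^ 2 + a' * z₁ * z₂ + b' * z₂ ^ 2 = 0 → z₁ = 0 ∧ z₂ = 0) ∧ σ a' = a' ∧ σ b' = b' ∧
      orderOf σ = orderOf x ∧ Cfsg.IsFieldAutPOmegaOf (Cfsg.quadFormMinus m F a' b') σ φ ∧
      (Cfsg.inndiagPOmegaMinus m F a b).map Φ.toMonoidHom = Cfsg.inndiagPOmegaMinus m F a' b' ∧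
      (Cfsg.Inn (Cfsg.POmega F (Cfsg.quadFormMinus m F a b))).map Φ.toMonoidHom =
        Cfsg.Inn (Cfsg.POmega F (Cfsg.quadFormMinus m F a' b')) ∧ Φ x = φ := by
  obtain ⟨a', b', ψ, σ, hab', -, ha', hb', hφ⟩ := hx
  refine ⟨a', b', σ, _, MulAut.congr ψ, hab', ha', hb', ?_, hφ, ?_, map_inn_congr ψ, rfl⟩
  · have hM : (minusMat m F a' b').map σ = minusMat m F a' b' := by
      rw [show (⇑σ : F → F) = ⇑(σ : F →+* F) from rfl, minusMat_map]
      simp [ha', hb']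
    have key : ∀ {Q : ((Fin m ⊕ Fin m) ⊕ Fin 2 → F) → F} {β : MulAut (Cfsg.POmega F Q)},
        ⇑(matQuad (minusMat m F a' b')) = Q → Cfsg.IsFieldAutPOmegaOf Q σ β → orderOf β = orderOf σ := by
      rintro Q β rfl hβ
      exact orderOf_fieldAut (evenHyp_minus hm hab').det_ne (by simp; omega) σ hM hβ
    rw [← key (coe_matQuad_minus m a' b') hφ]
    exact (MulEquiv.orderOf_eq (MulAut.congr ψ) x).symm ▸ rfl
  · obtain ⟨T⟩ := (isSimTo_minus m hab' hab).nonempty_formSim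
    set T' : FormSim ⇑(matQuad (minusMat m F a b)) ⇑(matQuad (minusMat m F a' b')) :=
      ⟨T.equiv, T.mult, fun v => by rw [coe_matQuad_minus, coe_matQuad_minus]; exact T.map_app v⟩
    have hTmap : (Cfsg.inndiagPOmegaMinus m F a b).map T.autEquiv.toMonoidHom =
        Cfsg.inndiagPOmegaMinus m F a' b' := by
      rw [← inndiag_minus_eq hm hab', ← inndiag_minus_eq hm hab,
        ← T'.map_inndiag (evenHyp_minus hm hab) (evenHyp_minus hm hab'), Subgroup.map_map, Subgroup.map_map,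
        Subgroup.map_map, Subgroup.map_map]
      congr 1
      refine MonoidHom.ext fun g => ?_
      show T.autEquiv ((minusSim m a b).autEquiv (simAut _ g)) = (minusSim m a' b').autEquiv (T'.autEquiv (simAut _ g))
      rw [FormSim.autEquiv_simAut, FormSim.autEquiv_simAut, FormSim.autEquiv_simAut, FormSim.autEquiv_simAut]
      refine congrArg _ (Subtype.ext (Units.ext (matrix_eq_of_mulVec fun v => ?_)))
      obtain ⟨w, rfl⟩ := T.equiv.surjective v
      show ((conjGL T.equiv (conjGL (LinearEquiv.refl F ((Fin m ⊕ Fin m) ⊕ Fin 2 → F))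
          (g : GL ((Fin m ⊕ Fin m) ⊕ Fin 2) F)) : GL ((Fin m ⊕ Fin m) ⊕ Fin 2) F) :
            Matrix ((Fin m ⊕ Fin m) ⊕ Fin 2) ((Fin m ⊕ Fin m) ⊕ Fin 2) F) *ᵥ
            T.equiv ((LinearEquiv.refl F ((Fin m ⊕ Fin m) ⊕ Fin 2 → F)) w) =
        ((conjGL (LinearEquiv.refl F ((Fin m ⊕ Fin m) ⊕ Fin 2 → F))
          (conjGL T'.equiv (g : GL ((Fin m ⊕ Fin m) ⊕ Fin 2) F)) : GL ((Fin m ⊕ Fin m) ⊕ Fin 2) F) :
            Matrix ((Fin m ⊕ Fin m) ⊕ Fin 2) ((Fin m ⊕ Fin m) ⊕ Fin 2) F) *ᵥ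
            (LinearEquiv.refl F ((Fin m ⊕ Fin m) ⊕ Fin 2 → F)) (T'.equiv w)
      rw [conjGL_mulVec, conjGL_mulVec, conjGL_mulVec, conjGL_mulVec]
      rfl
    haveI := normal_inndiag_minus hm hab'
    have e := congrArg (fun f => (Cfsg.inndiagPOmegaMinus m F a b).map f) (congr_eq_conj T.pomegaEquiv ψ)
    exact e.trans ((Subgroup.map_map _ _ _).symm.trans
      ((congrArg (Subgroup.map (MulAut.conj (T.pomegaEquiv.symm.trans ψ : MulAut _)).toMonoidHom) hTmap).trans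
        (map_normal_eq (H := Cfsg.inndiagPOmegaMinus m F a' b') _)))

theorem fieldHyp_minus {m : ℕ} (hm : 3 ≤ m) {a₀ b₀ : F₀}
    (hab : ∀ z₁ z₂ : F₀, z₁ ^ 2 + a₀ * z₁ * z₂ + b₀ * z₂ ^ 2 = 0 → z₁ = 0 ∧ z₂ = 0)
    (hfix : ∀ x, σ x = x ↔ ∃ y, emb y = x) (hr : r.Prime) (hσ : orderOf σ = r) :
    FieldHyp (minusMat m F₀ a₀ b₀) emb σ r :=
  haveI := Finite.of_injective emb emb.injective
  ⟨(evenHyp_minus hm hab).det_ne, by simp; omega, hfix, hr, hσ⟩

/-- A field automorphism of the minus group: odd order, and standard position. -/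
theorem carried_minus {F : Type*} [Field F] [Fintype F] {F₀ : Type*} [Field F₀] {emb : F₀ →+* F}
    {σ : F ≃+* F} {r : ℕ} {m : ℕ} (hm : 3 ≤ m) {a b a' b' : F}
    (hab' : ∀ z₁ z₂ : F, z₁ ^ 2 + a' * z₁ * z₂ + b' * z₂ ^ 2 = 0 → z₁ = 0 ∧ z₂ = 0)
    (ha : σ a' = a') (hb : σ b' = b') (hfix : ∀ x, σ x = x ↔ ∃ y, emb y = x) (hr : r.Prime)
    (hσ : orderOf σ = r) {x : MulAut (Cfsg.POmega F (Cfsg.quadFormMinus m F a b))}
    {φ : MulAut (Cfsg.POmega F (Cfsg.quadFormMinus m F a' b'))}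
    (hφ : Cfsg.IsFieldAutPOmegaOf (Cfsg.quadFormMinus m F a' b') σ φ)
    {Φ : MulAut (Cfsg.POmega F (Cfsg.quadFormMinus m F a b)) ≃*
        MulAut (Cfsg.POmega F (Cfsg.quadFormMinus m F a' b'))}
    (hH : (Cfsg.inndiagPOmegaMinus m F a b).map Φ.toMonoidHom = Cfsg.inndiagPOmegaMinus m F a' b')
    (hT : (Cfsg.Inn (Cfsg.POmega F (Cfsg.quadFormMinus m F a b))).map Φ.toMonoidHom =
        Cfsg.Inn (Cfsg.POmega F (Cfsg.quadFormMinus m F a' b'))) (hx : Φ x = φ) :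
    Odd r ∧ ∃ (a₀ b₀ : F₀) (h₀ : ∀ z₁ z₂ : F₀, z₁ ^ 2 + a₀ * z₁ * z₂ + b₀ * z₂ ^ 2 = 0 → z₁ = 0 ∧ z₂ = 0),
      Carried (Cfsg.inndiagPOmegaMinus m F a b) (Cfsg.Inn _) x
        ((clsSub ((minusMat m F₀ a₀ b₀).map emb) (m + 1)).map (simAut _))
        (Cfsg.Inn (Cfsg.POmega F ⇑(extForm emb (minusMat m F₀ a₀ b₀)))) (fieldHyp_minus hm h₀ hfix hr hσ).fld := by
  obtain ⟨a₀, rfl⟩ := (hfix a').1 ha
  obtain ⟨b₀, rfl⟩ := (hfix b').1 hb
  have h₀ : ∀ z₁ z₂ : F₀, z₁ ^ 2 + a₀ * z₁ * z₂ + b₀ * z₂ ^ 2 = 0 → z₁ = 0 ∧ z₂ = 0 := fun z₁ z₂ h => by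
    have := hab' (emb z₁) (emb z₂) (by rw [← map_zero emb, ← h]; simp only [map_add, map_mul, map_pow])
    exact ⟨(map_eq_zero emb).1 this.1, (map_eq_zero emb).1 this.2⟩
  refine ⟨hr.eq_two_or_odd'.resolve_left fun h2 => ?_, a₀, b₀, h₀, ?_⟩
  · obtain ⟨θ, h1, h2', -⟩ := exists_roots_two hfix (h2 ▸ hσ) h₀
    exact one_ne_zero (neg_eq_zero.1 (hab' θ (-1) (by linear_combination θ * h1 - h2')).2)
  set S := minusSim₀ emb m a₀ b₀
  refine ⟨Φ.trans S.autEquiv.symm, ?_, ?_, ?_⟩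
  · rw [show (Φ.trans S.autEquiv.symm).toMonoidHom = S.autEquiv.symm.toMonoidHom.comp Φ.toMonoidHom from rfl,
      ← Subgroup.map_map, hH]
    exact map_symm_of_map _ (inndiag_minus_map emb hm hab')
  · rw [show (Φ.trans S.autEquiv.symm).toMonoidHom = S.autEquiv.symm.toMonoidHom.comp Φ.toMonoidHom from rfl,
      ← Subgroup.map_map, hT]
    exact map_symm_of_map _ (map_inn_congr S.pomegaEquiv)
  · rw [MulEquiv.trans_apply, hx, MulEquiv.symm_apply_eq]
    exact (FormSim.ofEq_fld (fieldHyp_minus hm h₀ hfix hr hσ) _ hφ).symm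

/-- The centraliser is the inner-diagonal group over the fixed field. -/
theorem centralizer_minus_std {F₀ : Type*} [Field F₀] [Fintype F₀] {emb : F₀ →+* F} {m : ℕ} (hm : 3 ≤ m)
    {a₀ b₀ : F₀} (h₀ : ∀ z₁ z₂ : F₀, z₁ ^ 2 + a₀ * z₁ * z₂ + b₀ * z₂ ^ 2 = 0 → z₁ = 0 ∧ z₂ = 0)
    (D : FieldHyp (minusMat m F₀ a₀ b₀) emb σ r) :
    Nonempty (↥((clsSub ((minusMat m F₀ a₀ b₀).map emb) (m + 1)).map (simAut _) ⊓
      Subgroup.centralizer {D.fld}) ≃* ↥(Cfsg.inndiagPOmegaMinus m F₀ a₀ b₀)) := by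
  obtain ⟨e⟩ := D.centralizer_even (evenHyp_minus hm h₀)
  exact ⟨e.trans (((minusSim m a₀ b₀).autEquiv.subgroupMap _).trans
    (MulEquiv.subgroupCongr (inndiag_minus_eq hm h₀)))⟩

theorem centralizer_plus_std [Finite F₀] {m : ℕ} (hm : 4 ≤ m) (D : FieldHyp (plusMat m F₀) emb σ r) :
    Nonempty (↥((clsSub ((plusMat m F₀).map emb) m).map (simAut _) ⊓
      Subgroup.centralizer {D.fld}) ≃* ↥(Cfsg.inndiagPOmegaPlus m F₀)) := by
  obtain ⟨e⟩ := D.centralizer_even (evenHyp_plus hm)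
  exact ⟨e.trans (((plusSim F₀ m).autEquiv.subgroupMap _).trans
    (MulEquiv.subgroupCongr (inndiag_plus_eq hm)))⟩

end CfsgLib.Geometry
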