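import Cfsg.Agent.Lib.Geometry.EvenStd
import Cfsg.Agent.Lib.Geometry.FieldOut

/-! Graph-field automorphisms of the plus groups. -/

set_option autoImplicit false

namespace CfsgLib.Geometry

open Matrix QuadraticMap

variable {F : Type*} [Field F]

theorem fieldMap_commute [Fintype F] (σ τ : F ≃+* F) : σ * τ = τ * σ := by
  obtain ⟨p, hp⟩ := CharP.exists F
  obtain ⟨k, hk, hk'⟩ := FiniteField.card F p
  haveI := Fact.mk hk
  obtain ⟨g, hg⟩ := (CfsgLib.KnownB.PSLAut.isCyclic_gal (F := F) k.pos hk').exists_generator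
  obtain ⟨i, rfl⟩ := hg σ
  obtain ⟨j, rfl⟩ := hg τ
  exact (Commute.refl g).zpow_zpow i j

variable {ι : Type} [Fintype ι] [DecidableEq ι]

theorem EvenHyp.mul_mem_iff [Finite F] {M : Matrix ι ι F} {k : ℕ} (D : EvenHyp M k)
    (a b : Cfsg.Geo.quadSimilarityGroup ⇑(matQuad M)) :
    a * b ∈ clsSub M k ↔ (a ∈ clsSub M k ↔ b ∈ clsSub M k) := by
  by_cases ha : a ∈ clsSub M k
  · simp [ha, Subgroup.mul_mem_cancel_left _ ha]
  · by_cases hb : b ∈ clsSub M k
    · simp [ha, hb, Subgroup.mul_mem_cancel_right _ hb]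
    · have h3 := D.mul_mem_of_not ha (fun h => hb (inv_inv b ▸ inv_mem h))
      rw [inv_inv] at h3
      simpa [ha, hb] using h3

theorem FormSim.ofEq_autEquiv_autOmega {Q R : (ι → F) → F} (h : R = Q) (x : semiSim R) (y : semiSim Q)
    (e : (x : GammaL ι F) = (y : GammaL ι F)) :
    (FormSim.ofEq h).autEquiv (autOmega R x) = autOmega Q y :=
  FormSim.autEquiv_autOmega _ x y fun v => by rw [e]; rfl

variable [Finite F] {F₀ : Type*} [Field F₀] {emb : F₀ →+* F} {σ : F ≃+* F}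

set_option maxHeartbeats 2000000 in
/-- The model of a graph-field automorphism: an outer similarity times the field automorphism. -/
theorem exists_graph_form {m : ℕ} (hm : 5 ≤ m) (D : FieldHyp (plusMat m F₀) emb σ 2)
    {x α γ φ : MulAut (Cfsg.POmega F (Cfsg.quadFormPlus m F))} {v : Fin m ⊕ Fin m → F}
    {rm : GL (Fin m ⊕ Fin m) F} (hv : Cfsg.quadFormPlus m F v ≠ 0)
    (hrm : (rm : Matrix (Fin m ⊕ Fin m) (Fin m ⊕ Fin m) F) = Cfsg.reflectionMatrix (Cfsg.quadFormPlus m F) v)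
    (hγ : Cfsg.IsInducedBySemilinearPOmega (Cfsg.quadFormPlus m F) rm (RingEquiv.refl F) γ)
    (hφ : Cfsg.IsFieldAutPOmegaOf (Cfsg.quadFormPlus m F) σ φ) (hx : α * x * α⁻¹ = γ * φ) :
    ∃ g : Cfsg.Geo.quadSimilarityGroup ⇑(extForm emb (plusMat m F₀)),
      g ∉ clsSub ((plusMat m F₀).map emb) m ∧
      (plusSim₀ emb m).autEquiv.symm x = simAut _ g * D.fld := by
  haveI := D.finite₀
  haveI := Fintype.ofFinite F
  set M := (plusMat m F₀).map emb with hMdef
  set Q := extForm emb (plusMat m F₀) with hQdef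
  have D₀ := evenHyp_plus (F := F₀) (show 4 ≤ m by omega)
  have D' : EvenHyp M m := D₀.base emb
  have hQ : ⇑Q = Cfsg.quadFormPlus m F := by rw [hQdef, extForm, plusMat_map, coe_matQuad_plus]
  set S := plusSim₀ (F := F) emb m
  -- the reflection
  have hv' : Q v ≠ 0 := by rw [hQ]; exact hv
  set R := simIso ⇑Q ((isomEquiv Q).symm (oRefl Q v hv')) with hRdef
  have hR : R ∉ clsSub M m := D'.refl_not_mem hv'
  have hRrm : (R : GL (Fin m ⊕ Fin m) F) = rm := Units.ext (matrix_eq_of_mulVec fun u => by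
    rw [hrm, ← hQ, reflectionMatrix_mulVec]
    show (((isomEquiv Q).symm (oRefl Q v hv') : Cfsg.isometryGroup F ⇑Q) : GL (Fin m ⊕ Fin m) F).val *ᵥ u = _
    rw [isomEquiv_symm_mulVec, show ((oRefl Q v hv' : orth Q) : _ ≃ₗ[F] _) = refl Q v hv' from rfl, refl_apply])
  have hsim : rm ∈ Cfsg.Geo.quadSimilarityGroup (Cfsg.quadFormPlus m F) := by
    rw [← hQ, ← hRrm]; exact R.2
  have e1 : S.autEquiv (simAut _ R) = γ := by
    rw [(isInduced_sim_iff hsim γ).1 hγ]
    exact FormSim.ofEq_autEquiv_autOmega _ (simIncl _ R) (simIncl _ ⟨rm, hsim⟩)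
      (congrArg SemidirectProduct.inl hRrm)
  have e2 : S.autEquiv D.fld = φ := FormSim.ofEq_fld D _ hφ
  -- the conjugating automorphism
  have hfix : ∀ τ : F ≃+* F, M.map τ = M := fun τ => by
    rw [hMdef, plusMat_map]; exact plusMat_map (τ : F →+* F) m
  have hΓ : Cfsg.gammaPOmega F ⇑Q = ⊤ := by
    rw [hQ]; exact gammaPOmega_plus_eq_top hm
  obtain ⟨ℓ, τ, hα⟩ := exists_sim_mul_field hfix hΓ (S.autEquiv.symm α⁻¹)
  set ρ : semiSim ⇑(matQuad M) := ⟨SemidirectProduct.inr τ, inr_mem_semiSim hfix τ⟩ with hρdef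
  have hρfld : autOmega _ ρ * D.fld = D.fld * autOmega _ ρ := by
    rw [FieldHyp.fld, ← map_mul, ← map_mul]
    refine congrArg _ (Subtype.ext ?_)
    show SemidirectProduct.inr τ * SemidirectProduct.inr σ = SemidirectProduct.inr σ * SemidirectProduct.inr τ
    rw [← map_mul, ← map_mul, fieldMap_commute]
  refine ⟨ℓ * conjSim ρ R * (D.twist ℓ)⁻¹, ?_, ?_⟩
  · have hR' : conjSim ρ R ∉ clsSub M m := fun h => hR (by
      have := D'.conj_mem ρ⁻¹ h
      rwa [conjSim_inv_apply] at this)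
    have ht := D.twist_mem_iff D₀ ℓ
    rw [D'.mul_mem_iff, D'.mul_mem_iff, inv_mem_iff, ht]
    tauto
  · have e3 : x = α⁻¹ * (γ * φ) * α⁻¹⁻¹ := by rw [← hx]; group
    rw [e3, ← e1, ← e2, map_mul, map_mul, map_mul, MulEquiv.symm_apply_apply, MulEquiv.symm_apply_apply,
      map_inv S.autEquiv.symm α⁻¹, hα, map_mul, map_mul, map_inv, ← D.fld_conj, simAut_conjSim,
      show fieldHom hfix τ = autOmega _ ρ from rfl]
    calc simAut _ ℓ * autOmega _ ρ * (simAut _ R * D.fld) * (simAut _ ℓ * autOmega _ ρ)⁻¹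
        = simAut _ ℓ * (autOmega _ ρ * simAut _ R) * (D.fld * (autOmega _ ρ)⁻¹) * (simAut _ ℓ)⁻¹ := by group
      _ = simAut _ ℓ * (autOmega _ ρ * simAut _ R) * ((autOmega _ ρ)⁻¹ * D.fld) * (simAut _ ℓ)⁻¹ := by
        congr 2
        rw [eq_inv_mul_iff_mul_eq, ← mul_assoc, hρfld, mul_inv_cancel_right]
      _ = _ := by group; rfl

set_option maxHeartbeats 2000000 in
/-- The minus model inside the plus group. -/
theorem exists_graph_model {n : ℕ} (hn : 4 ≤ n) (D : FieldHyp (plusMat (n + 1) F₀) emb σ 2) :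
    ∃ (a₀ b₀ : F₀) (_ : ∀ z₁ z₂ : F₀, z₁ ^ 2 + a₀ * z₁ * z₂ + b₀ * z₂ ^ 2 = 0 → z₁ = 0 ∧ z₂ = 0)
      (D' : FieldHyp (minusMat n F₀ a₀ b₀) emb σ 2)
      (T : FormSim ⇑(extForm emb (minusMat n F₀ a₀ b₀)) ⇑(extForm emb (plusMat (n + 1) F₀)))
      (g : Cfsg.Geo.quadSimilarityGroup ⇑(extForm emb (plusMat (n + 1) F₀))),
      g ∉ clsSub ((plusMat (n + 1) F₀).map emb) (n + 1) ∧ T.autEquiv D'.fld = simAut _ g * D.fld := by
  haveI := D.finite₀
  haveI := Fintype.ofFinite F₀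
  have D₀ := evenHyp_plus (F := F₀) (show 4 ≤ n + 1 by omega)
  obtain ⟨v, hv, g, a, P, M₁, β, -, hM₁, hPQ, hP, hg, hns⟩ := D.exists_other D₀ rfl
  rcases isSimTo_even (matQuad M₁) hM₁ (m := n) (by simp; omega) with p | ⟨a₀, b₀, hab, p⟩
  · rw [← coe_matQuad_plus] at p
    exact absurd p hns
  rw [← coe_matQuad_minus] at p
  obtain ⟨T₀, t, ht, hT₀⟩ := p
  obtain ⟨E, hE, hEσ⟩ := exists_map_sim emb T₀ hT₀
  have D' : FieldHyp (minusMat n F₀ a₀ b₀) emb σ 2 :=
    ⟨(evenHyp_minus (show 3 ≤ n by omega) hab).det_ne, by simp; omega, D.fix, D.prime, D.order⟩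
  set T : FormSim ⇑(extForm emb (minusMat n F₀ a₀ b₀)) ⇑(extForm emb (plusMat (n + 1) F₀)) :=
    ⟨E.trans (glEquiv P), β * Units.mk0 (emb t) ((map_ne_zero emb).2 ht), fun w => by
      rw [LinearEquiv.trans_apply, glEquiv_apply, hPQ, hE, Units.val_mul, Units.val_mk0, mul_assoc]⟩
  refine ⟨a₀, b₀, hab, D', T, g, hg, ?_⟩
  rw [FieldHyp.fld, FieldHyp.fld, simAut, MonoidHom.comp_apply, ← map_mul]
  refine T.autEquiv_autOmega _ _ fun w => ?_
  show slAct (SemidirectProduct.inl (g : GL _ F) * SemidirectProduct.inr σ) ((glEquiv P) (E w)) =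
    (glEquiv P) (E (slAct (SemidirectProduct.inr σ) w))
  rw [slAct_mul, slAct_inl, slAct_inr, slAct_inr, glEquiv_apply, glEquiv_apply, hEσ σ D.fix' w, map_mulVec',
    mulVec_mulVec, ← glAut_coe, ← Units.val_mul, hP]

set_option maxHeartbeats 2000000 in
/-- A graph-field involution in standard position. -/
theorem carried_graph {n : ℕ} (hn : 4 ≤ n) {a₀ b₀ : F₀}
    (hab : ∀ z₁ z₂ : F₀, z₁ ^ 2 + a₀ * z₁ * z₂ + b₀ * z₂ ^ 2 = 0 → z₁ = 0 ∧ z₂ = 0)
    (D : FieldHyp (plusMat (n + 1) F₀) emb σ 2) (D' : FieldHyp (minusMat n F₀ a₀ b₀) emb σ 2)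
    (T : FormSim ⇑(extForm emb (minusMat n F₀ a₀ b₀)) ⇑(extForm emb (plusMat (n + 1) F₀)))
    {g g' : Cfsg.Geo.quadSimilarityGroup ⇑(extForm emb (plusMat (n + 1) F₀))}
    (hg : g ∉ clsSub ((plusMat (n + 1) F₀).map emb) (n + 1)) (hT : T.autEquiv D'.fld = simAut _ g * D.fld)
    {x : MulAut (Cfsg.POmega F (Cfsg.quadFormPlus (n + 1) F))}
    (hg' : g' ∉ clsSub ((plusMat (n + 1) F₀).map emb) (n + 1))
    (hx : (plusSim₀ emb (n + 1)).autEquiv.symm x = simAut _ g' * D.fld) (hord : orderOf x = 2) :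
    Carried (Cfsg.inndiagPOmegaPlus (n + 1) F) (Cfsg.Inn _) x
      ((clsSub ((minusMat n F₀ a₀ b₀).map emb) (n + 1)).map (simAut _))
      (Cfsg.Inn (Cfsg.POmega F ⇑(extForm emb (minusMat n F₀ a₀ b₀)))) D'.fld := by
  haveI := D.finite₀
  haveI := Cfsg.innNormal (Cfsg.POmega F ⇑(extForm emb (minusMat n F₀ a₀ b₀)))
  set S := plusSim₀ (F := F) emb (n + 1)
  have E₁ := (evenHyp_plus (F := F₀) (show 4 ≤ n + 1 by omega)).base emb
  have E₂ := (evenHyp_minus (show 3 ≤ n by omega) hab).base emb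
  have hH := T.map_inndiag E₂ E₁
  set Φ := S.autEquiv.symm.trans T.autEquiv.symm
  have hd : T.autEquiv.symm (simAut _ (g' * g⁻¹)) ∈
      (clsSub ((minusMat n F₀ a₀ b₀).map emb) (n + 1)).map (simAut _) := by
    obtain ⟨z, hz, hze⟩ := hH.ge ⟨_, E₁.mul_mem_of_not hg' hg, rfl⟩
    rw [← hze]
    simpa using hz
  refine carried_of_mem_coset Φ ?_ ?_ hord (D'.coset_even (evenHyp_minus (by omega) hab)) hd ?_
  · rw [show Φ.toMonoidHom = T.autEquiv.symm.toMonoidHom.comp S.autEquiv.symm.toMonoidHom from rfl,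
      ← Subgroup.map_map, map_symm_of_map _ (inndiag_plus_map emb (show 4 ≤ n + 1 by omega))]
    exact map_symm_of_map _ hH
  · rw [show Φ.toMonoidHom = T.autEquiv.symm.toMonoidHom.comp S.autEquiv.symm.toMonoidHom from rfl,
      ← Subgroup.map_map]
    exact (congrArg _ (map_symm_of_map S.autEquiv (map_inn_congr S.pomegaEquiv))).trans
      (map_symm_of_map _ (map_inn_congr T.pomegaEquiv))
  · show T.autEquiv.symm (S.autEquiv.symm x) = _
    rw [hx, show simAut _ g' * D.fld = simAut _ (g' * g⁻¹) * T.autEquiv D'.fld by rw [hT, map_mul, map_inv]; group,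
      map_mul, MulEquiv.symm_apply_apply]

set_option maxHeartbeats 2000000 in
/-- The data of a graph-field automorphism of prime order: it is an involution. -/
theorem exists_graph_data {m : ℕ} (hm : 5 ≤ m) {x : MulAut (Cfsg.POmega F (Cfsg.quadFormPlus m F))}
    (hx : Cfsg.IsGraphFieldAutClassPOmegaPlus m x) {r : ℕ} (hr : r.Prime) (hord : orderOf x = r) :
    r = 2 ∧ ∃ (α γ φ : MulAut (Cfsg.POmega F (Cfsg.quadFormPlus m F))) (σ : F ≃+* F) (v : Fin m ⊕ Fin m → F)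
      (rm : GL (Fin m ⊕ Fin m) F), orderOf σ = 2 ∧ Cfsg.quadFormPlus m F v ≠ 0 ∧
      (rm : Matrix (Fin m ⊕ Fin m) (Fin m ⊕ Fin m) F) = Cfsg.reflectionMatrix (Cfsg.quadFormPlus m F) v ∧
      Cfsg.IsInducedBySemilinearPOmega (Cfsg.quadFormPlus m F) rm (RingEquiv.refl F) γ ∧
      Cfsg.IsFieldAutPOmegaOf (Cfsg.quadFormPlus m F) σ φ ∧ α * x * α⁻¹ = γ * φ := by
  obtain ⟨α, γ, φ, σ, v, rm, hσ1, hv, hσv, hrm, hγ, hφ, he⟩ := hx
  have D := evenHyp_plus (F := F) (show 4 ≤ m by omega)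
  have hvQ : matQuad (plusMat m F) v ≠ 0 := by rw [coe_matQuad_plus]; exact hv
  set R := simIso _ ((isomEquiv (matQuad (plusMat m F))).symm (oRefl (matQuad (plusMat m F)) v hvQ)) with hRdef
  have hR : R ∉ clsSub (plusMat m F) m := D.refl_not_mem hvQ
  have hRrm : (R : GL (Fin m ⊕ Fin m) F) = rm := Units.ext (matrix_eq_of_mulVec fun u => by
    rw [hrm, ← coe_matQuad_plus, reflectionMatrix_mulVec]
    show (((isomEquiv (matQuad (plusMat m F))).symm (oRefl (matQuad (plusMat m F)) v hvQ) :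
      Cfsg.isometryGroup F ⇑(matQuad (plusMat m F))) : GL (Fin m ⊕ Fin m) F).val *ᵥ u = _
    rw [isomEquiv_symm_mulVec,
      show ((oRefl (matQuad (plusMat m F)) v hvQ : orth (matQuad (plusMat m F))) : _ ≃ₗ[F] _) =
        refl (matQuad (plusMat m F)) v hvQ from rfl, refl_apply])
  have hfix : ∀ τ : F ≃+* F, (plusMat m F).map τ = plusMat m F := fun τ => plusMat_map (τ : F →+* F) m
  set ρ : semiSim ⇑(matQuad (plusMat m F)) := ⟨SemidirectProduct.inr σ, inr_mem_semiSim hfix σ⟩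
  set S := plusSim F m
  have e1 : S.autEquiv (simAut _ R) = γ := by
    have hsim : rm ∈ Cfsg.Geo.quadSimilarityGroup (Cfsg.quadFormPlus m F) := by
      rw [← coe_matQuad_plus, ← hRrm]; exact R.2
    rw [(isInduced_sim_iff hsim γ).1 hγ]
    exact FormSim.ofEq_autEquiv_autOmega _ (simIncl _ R) (simIncl _ ⟨rm, hsim⟩)
      (congrArg SemidirectProduct.inl hRrm)
  have e2 : S.autEquiv (autOmega _ ρ) = φ := by
    have hy : (SemidirectProduct.inr σ : GammaL (Fin m ⊕ Fin m) F) ∈ semiSim (Cfsg.quadFormPlus m F) := by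
      rw [← coe_matQuad_plus]; exact ρ.2
    rw [fieldAut_eq_autOmega hφ ⟨_, hy⟩ rfl]
    exact FormSim.ofEq_autEquiv_autOmega _ ρ ⟨_, hy⟩ rfl
  set z := simIncl _ R * ρ with hzdef
  have hz : S.autEquiv (autOmega _ z) = α * x * α⁻¹ := by
    rw [he, hzdef, map_mul, map_mul, ← e1, ← e2]; rfl
  have hzo : orderOf (autOmega _ z) = r := by
    rw [← MulEquiv.orderOf_eq S.autEquiv, hz, ← hord]
    exact MulEquiv.orderOf_eq (MulAut.conj α) x
  have hσrm : glAut (Fin m ⊕ Fin m) F σ rm = rm := by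
    refine Units.ext ?_
    rw [glAut_coe, hrm]
    ext i j
    have hQσ : σ (Cfsg.quadFormPlus m F v) = Cfsg.quadFormPlus m F v := by
      simp [Cfsg.quadFormPlus, map_sum, map_mul, hσv]
    have hpv : ∀ k, σ (Cfsg.polarVec (Cfsg.quadFormPlus m F) v k) = Cfsg.polarVec (Cfsg.quadFormPlus m F) v k := by
      intro k
      simp [Cfsg.polarVec, QuadraticMap.polar, Cfsg.quadFormPlus, map_sum, map_mul, map_sub, map_add, hσv, Pi.single_apply,
        apply_ite σ]
    simp [Cfsg.reflectionMatrix, Matrix.vecMulVec_apply, Matrix.one_apply, map_sub, map_mul, map_inv₀, hQσ, hpv,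
      hσv, apply_ite σ]
  have hcomm : Commute (simIncl _ R) ρ := by
    refine Subtype.ext ?_
    show SemidirectProduct.inl (R : GL (Fin m ⊕ Fin m) F) * SemidirectProduct.inr σ =
      SemidirectProduct.inr σ * SemidirectProduct.inl (R : GL (Fin m ⊕ Fin m) F)
    refine SemidirectProduct.ext ?_ (by simp)
    simp [hRrm, hσrm]
  have hzr : autOmega _ (z ^ r) = 1 := by rw [map_pow, ← hzo, pow_orderOf_eq_one]
  have hright := ((autOmega_eq_one_iff D.nondeg D.five_le _).1 hzr).1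
  rw [SubgroupClass.coe_pow, ← SemidirectProduct.rightHom_eq_right, map_pow,
    show SemidirectProduct.rightHom ((z : semiSim ⇑(matQuad (plusMat m F))) : GammaL (Fin m ⊕ Fin m) F) = σ by
      rw [hzdef, Subgroup.coe_mul, map_mul]
      show SemidirectProduct.rightHom (SemidirectProduct.inl (R : GL (Fin m ⊕ Fin m) F)) *
        SemidirectProduct.rightHom (SemidirectProduct.inr σ) = σ
      rw [SemidirectProduct.rightHom_inl, SemidirectProduct.rightHom_inr, one_mul]] at hright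
  have hρr : ρ ^ r = 1 := Subtype.ext (by
    rw [SubgroupClass.coe_pow, show (ρ : GammaL (Fin m ⊕ Fin m) F) = SemidirectProduct.inr σ from rfl, ← map_pow,
      hright, map_one]; rfl)
  have hr2 : r = 2 := by
    by_contra hne
    obtain ⟨j, hj⟩ := hr.odd_of_ne_two hne
    have hRR : R * R = 1 := by rw [hRdef, ← map_mul, ← map_mul, oRefl_mul_self, map_one, map_one]
    rw [hzdef, hcomm.mul_pow, hρr, mul_one, ← map_pow, hj, pow_succ, pow_mul, pow_two, hRR, one_pow,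
      one_mul] at hzr
    obtain ⟨c, hc⟩ := (simAut_eq_one_iff D.nondeg D.five_le R).1 hzr
    exact hR ((show R = simScalar (matQuad (plusMat m F)) c from Subtype.ext (hc.symm.trans rfl)) ▸ D.scalar_mem c)
  subst hr2
  refine ⟨rfl, α, γ, φ, σ, v, rm, ?_, hv, hrm, hγ, hφ, he⟩
  exact orderOf_eq_prime hright hσ1

end CfsgLib.Geometry
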