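import Cfsg.Agent.Lib.Geometry.AutStd

/-! The order of the automorphism group from the outer one. -/

set_option autoImplicit false

namespace CfsgLib.Geometry

open Matrix QuadraticMap

variable {ι : Type} [Fintype ι] [DecidableEq ι] {F : Type*} [Field F] [Finite F]
variable {Q : QuadraticForm F (ι → F)} {p : ℕ}

theorem RootHyp.conj_injective (D : RootHyp Q p) :
    Function.Injective (MulAut.conj : Cfsg.POmega F ⇑Q →* MulAut (Cfsg.POmega F ⇑Q)) := by
  haveI := isSimpleGroup_pOmega Q D.nondeg D.five_le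
  rw [← MonoidHom.ker_eq_bot_iff]
  refine (IsSimpleGroup.eq_bot_or_eq_top_of_normal _ (MonoidHom.normal_ker _)).resolve_right fun h => ?_
  obtain ⟨e, he0, he⟩ := exists_singular D.nondeg (by have := D.five_le'; omega)
  obtain ⟨f, hf, hef⟩ := exists_pair D.nondeg he0 he
  obtain ⟨u, hu0, -, hu⟩ := exists_singular_pairPerp D.nondeg D.five_le' he hf hef
  refine D.proot_ne_one he hef hu hu0 ?_
  have h1 : MulAut.conj (proot Q e u) = 1 := MonoidHom.mem_ker.1 (h ▸ Subgroup.mem_top _)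
  rw [show proot Q e u = QuotientGroup.mk (rootEl Q e u) from rfl, ← simAut_simIso_omega,
    simAut_eq_one_iff D.nondeg D.five_le] at h1
  rw [show proot Q e u = QuotientGroup.mk (rootEl Q e u) from rfl, QuotientGroup.eq_one_iff,
    Subgroup.mem_center_iff]
  obtain ⟨c, hc⟩ := (Cfsg.Geo.mem_scalars_iff _).1 h1
  intro g
  refine Subtype.ext (Subtype.ext (Units.ext ?_))
  have hc' : (((rootEl Q e u : Cfsg.Omega F ⇑Q) : Cfsg.isometryGroup F ⇑Q) : GL ι F).1 = (c : F) • 1 := hc
  simp only [Subgroup.coe_mul, Units.val_mul, hc', mul_smul_comm, smul_mul_assoc, one_mul, _root_.mul_one]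

theorem RootHyp.card_mulAut (D : RootHyp Q p) {k : ℕ}
    (h : Nat.card (Cfsg.Out (Cfsg.POmega F ⇑Q)) = k) :
    Nat.card (MulAut (Cfsg.POmega F ⇑Q)) = k * Nat.card (Cfsg.POmega F ⇑Q) := by
  rw [← (Cfsg.Inn (Cfsg.POmega F ⇑Q)).index_mul_card, ← h]
  congr 1
  exact (Nat.card_congr (MonoidHom.ofInjective D.conj_injective).toEquiv).symm

theorem even_half_iff {q m : ℕ} (hq : Odd q) : Even (m * (q - 1) / 2) ↔ ¬ (q % 4 = 3 ∧ Odd m) := by
  obtain ⟨j, rfl⟩ := hq
  rw [show m * (2 * j + 1 - 1) = 2 * (m * j) by rw [Nat.add_sub_cancel]; ring, Nat.mul_div_cancel_left _ two_pos,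
    Nat.even_mul, ← Nat.not_even_iff_odd, Nat.even_iff, Nat.even_iff]
  omega

theorem card_out_of_equiv {G H : Type*} [Group G] [Group H] (h : Nonempty (Cfsg.Out G ≃* H)) :
    Nat.card (Cfsg.Out G) = Nat.card H := h.elim fun e => Nat.card_congr e.toEquiv

end CfsgLib.Geometry
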