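import Cfsg.Agent.Lib.Geometry.AutRootGeom
import Cfsg.Agent.Lib.Geometry.SimAlgebra

/-! Every automorphism of `POmega` is induced by a semisimilarity (dimension at least seven). -/

set_option autoImplicit false

namespace CfsgLib.Geometry

open QuadraticMap Matrix

section Space

variable {F V : Type*} [Field F] [AddCommGroup V] [Module F V] [FiniteDimensional F V]
variable {Q : QuadraticForm F V}

/-- A nonsingular vector of the complement of a pair exchanges the two points. -/
theorem siegel_exchange {e f w : V} (he : Q e = 0) (hf : Q f = 0) (hef : polar Q e f = 1)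
    (hw : w ∈ pairPerp Q e f) (hQw : Q w ≠ 0) :
    siegel Q e (-(Q w)⁻¹ • w) he (by rw [polar_smul_right', (mem_pairPerp.1 hw).1, mul_zero]) f =
      -(Q w)⁻¹ • siegel Q f w hf (mem_pairPerp.1 hw).2 e := by
  rw [siegel_apply_partner he _ hef (by rw [polar_smul_right', (mem_pairPerp.1 hw).2, mul_zero]),
    siegel_apply_partner hf _ (by rw [polar_comm, hef]) (mem_pairPerp.1 hw).1, map_smul']
  match_scalars <;> field_simp

/-- A nonsingular vector orthogonal to two hyperbolic pairs. -/
theorem Frame.exists_nonsingular [Finite F] {e f e' f' : V} (H : Frame Q e f e' f')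
    (hQ : (polarBilin Q).Nondegenerate) (hn : 7 ≤ Module.finrank F V) :
    ∃ x ∈ pairPerp Q e f ⊓ pairPerp Q e' f', Q x ≠ 0 := by
  obtain ⟨x, hx0, hx, hxI⟩ := H.exists_singular hQ hn
  by_contra hcon
  push Not at hcon
  exact hx0 (H.eq_zero hQ hxI fun y hy => polar_eq_zero_of_singular hcon hxI hy)

/-- Two opposite radicals generate the Siegel group. -/
theorem siegelGroup_le_of_pair [Finite F] (hQ : (polarBilin Q).Nondegenerate) {e f : V}
    (he : Q e = 0) (hf : Q f = 0) (hef : polar Q e f = 1) (hn : 7 ≤ Module.finrank F V)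
    (S : Subgroup (V ≃ₗ[F] V))
    (hSe : ∀ w (hw : w ∈ pairPerp Q e f), siegel Q e w he (mem_pairPerp.1 hw).1 ∈ S)
    (hSf : ∀ w (hw : w ∈ pairPerp Q e f), siegel Q f w hf (mem_pairPerp.1 hw).2 ∈ S) :
    siegelGroup Q ≤ S := by
  let O : V → Prop := fun x => ∃ g ∈ S, g ∈ orth Q ∧ ∃ c : F, c ≠ 0 ∧ g e = c • x
  have hmove : ∀ {s : V ≃ₗ[F] V} {x : V}, s ∈ S → s ∈ orth Q → O x → O (s x) := by
    rintro s x hs hso ⟨g, hg, hgo, c, hc, h⟩
    exact ⟨s * g, mul_mem hs hg, mul_mem hso hgo, c, hc, by rw [LinearEquiv.mul_apply, h, map_smul]⟩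
  have hscale : ∀ {x : V} {d : F}, d ≠ 0 → O x → O (d • x) := by
    rintro x d hd ⟨g, hg, hgo, c, hc, h⟩
    exact ⟨g, hg, hgo, c / d, div_ne_zero hc hd, by rw [h, smul_smul, div_mul_cancel₀ c hd]⟩
  have hOe : O e := ⟨1, one_mem _, one_mem _, 1, one_ne_zero, by rw [one_smul]; rfl⟩
  have hfe : polar Q f e = 1 := by rw [polar_comm, hef]
  have hOf : O f := by
    obtain ⟨u, hu0, hQu, hu⟩ := exists_singular_pairPerp hQ (by omega) he hf hef
    obtain ⟨u', H⟩ := exists_frame hQ he hf hef hu0 hQu hu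
    obtain ⟨z, hz, hQz⟩ := H.exists_nonsingular hQ hn
    have h1 : O (-(Q z)⁻¹ • siegel Q f z hf (mem_pairPerp.1 hz.1).2 e) :=
      hscale (by simpa using hQz) (hmove (hSf z hz.1) (siegel_mem_orth Q _ _ _ _) hOe)
    rw [← siegel_exchange he hf hef hz.1 hQz] at h1
    have hm : -(Q z)⁻¹ • z ∈ pairPerp Q e f := Submodule.smul_mem _ _ hz.1
    obtain ⟨g, hg, hgo, c, hc, h⟩ := h1
    refine ⟨(siegel Q e _ he (mem_pairPerp.1 hm).1)⁻¹ * g, mul_mem (inv_mem (hSe _ hm)) hg,
      mul_mem (inv_mem (siegel_mem_orth Q _ _ _ _)) hgo, c, hc, ?_⟩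
    rw [LinearEquiv.mul_apply, h, map_smul]
    exact congrArg (c • ·) ((siegel Q e _ he (mem_pairPerp.1 hm).1).symm_apply_apply f)
  have hOb : ∀ x, Q x = 0 → polar Q x e ≠ 0 → O x := by
    intro x hx hb
    have hw := decomp_pair he hf hef x
    set w := x - polar Q x f • e - polar Q x e • f with hwdef
    obtain ⟨hw1, hw2⟩ := mem_pairPerp.1 hw
    have hxd : x = polar Q x f • e + polar Q x e • f + w := by rw [hwdef]; abel
    have hQ' : polar Q x f * polar Q x e + Q w = 0 := by
      have := hx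
      rw [hxd, map_add', map_add', map_smul', map_smul', he, hf, polar_smul_left', polar_smul_right',
        hef, polar_add_left, polar_smul_left', polar_smul_left', hw1, hw2] at this
      linear_combination this
    have hm : (polar Q x e)⁻¹ • w ∈ pairPerp Q e f := Submodule.smul_mem _ _ hw
    have h1 := hscale hb (hmove (hSe _ hm) (siegel_mem_orth Q _ _ _ _) hOf)
    rw [siegel_apply_partner he _ hef (mem_pairPerp.1 hm).2, map_smul'] at h1
    convert h1 using 1
    conv_lhs => rw [hxd, eq_div_of_mul_eq hb (show polar Q x f * polar Q x e = -Q w by linear_combination hQ')]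
    match_scalars <;> field_simp <;> ring
  have hOb' : ∀ x, Q x = 0 → polar Q x f ≠ 0 → O x := by
    intro x hx hb
    have hw := decomp_pair he hf hef x
    set w := x - polar Q x f • e - polar Q x e • f with hwdef
    obtain ⟨hw1, hw2⟩ := mem_pairPerp.1 hw
    have hxd : x = polar Q x f • e + polar Q x e • f + w := by rw [hwdef]; abel
    have hQ' : polar Q x f * polar Q x e + Q w = 0 := by
      have := hx
      rw [hxd, map_add', map_add', map_smul', map_smul', he, hf, polar_smul_left', polar_smul_right',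
        hef, polar_add_left, polar_smul_left', polar_smul_left', hw1, hw2] at this
      linear_combination this
    have hm : (polar Q x f)⁻¹ • w ∈ pairPerp Q e f := Submodule.smul_mem _ _ hw
    have h1 := hscale hb (hmove (hSf _ hm) (siegel_mem_orth Q _ _ _ _) hOe)
    rw [siegel_apply_partner hf _ hfe (mem_pairPerp.1 hm).1, map_smul'] at h1
    convert h1 using 1
    conv_lhs => rw [hxd, eq_div_of_mul_eq hb (show polar Q x e * polar Q x f = -Q w by linear_combination hQ')]
    match_scalars <;> field_simp <;> ring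
  have hall : ∀ x, x ≠ 0 → Q x = 0 → O x := by
    intro x hx0 hx
    rcases ne_or_eq (polar Q x e) 0 with h | h
    · exact hOb x hx h
    rcases ne_or_eq (polar Q x f) 0 with h' | h'
    · exact hOb' x hx h'
    have hxW : x ∈ pairPerp Q e f := mem_pairPerp.2 ⟨by rw [polar_comm, h], by rw [polar_comm, h']⟩
    obtain ⟨x', H⟩ := exists_frame hQ he hf hef hx0 hx hxW
    set s := siegel Q f x' hf (mem_pairPerp.1 H.f'W).2 with hs
    have hsx : s x = x - f := by
      rw [hs, siegel_apply, h', H.hef']; module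
    have h1 : O (s x) := hOb _ (by rw [(mem_orth.1 (siegel_mem_orth Q _ _ _ _)), hx])
      (by rw [hsx, polar_sub_left, h, hfe, zero_sub]; exact neg_ne_zero.2 one_ne_zero)
    have := hmove (inv_mem (hSf _ H.f'W)) (inv_mem (siegel_mem_orth Q _ _ _ _)) h1
    rwa [← hs, show s⁻¹ (s x) = x from s.symm_apply_apply x] at this
  rw [siegelGroup, Subgroup.closure_le]
  rintro _ ⟨x, w, hx, hw, rfl⟩
  show siegel Q x w hx hw ∈ S
  rcases eq_or_ne x 0 with rfl | hx0
  · have : siegel Q 0 w hx hw = 1 := LinearEquiv.ext fun v => by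
      rw [siegel_apply, QuadraticMap.polar_zero_right]; simp
    rw [this]; exact one_mem _
  obtain ⟨g, hg, hgo, c, hc, hge⟩ := hall x hx0 hx
  have hp : polar Q e (g⁻¹ (c⁻¹ • w)) = 0 := by
    rw [← orth_polar hgo, hge, show g (g⁻¹ (c⁻¹ • w)) = c⁻¹ • w from g.apply_symm_apply _,
      polar_smul_left', polar_smul_right', hw]; ring
  set u := g⁻¹ (c⁻¹ • w) with hu
  set u₀ := u - polar Q f u • e with hu₀
  have hu₀W : u₀ ∈ pairPerp Q e f := decomp_perp he hef hp
  have e1 : siegel Q e u₀ he (mem_pairPerp.1 hu₀W).1 = siegel Q e u he hp := by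
    rw [siegel_congr he _ he _ rfl (show u₀ = u + (-(polar Q f u)) • e by rw [hu₀]; module)]
    exact siegel_add_self _ he hp (by rw [polar_add_right, hp, polar_smul_right', polar_self', he]; ring)
  have e2 : siegel Q x w hx hw = g * siegel Q e u he hp * g⁻¹ := by
    have hgu : g u = c⁻¹ • w := g.apply_symm_apply _
    have h2 : polar Q (c • x) (c⁻¹ • w) = 0 := by rw [polar_smul_left', polar_smul_right', hw]; ring
    rw [siegel_conj hgo, siegel_congr _ _ (by rw [map_smul', hx, mul_zero]) h2 hge hgu,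
      siegel_smul_left x (c⁻¹ • w) c hx _ h2 (by rw [polar_smul_right', polar_smul_right', hw]; ring)]
    exact siegel_congr _ _ _ _ rfl (by rw [smul_smul, mul_inv_cancel₀ hc, one_smul])
  rw [e2]
  exact mul_mem (mul_mem hg (e1 ▸ hSe u₀ hu₀W)) (inv_mem hg)

end Space

section Rad

variable {ι : Type} [Fintype ι] [DecidableEq ι] {F : Type*} [Field F] [Finite F]
variable {Q : QuadraticForm F (ι → F)} {p : ℕ}

theorem RootHyp.radSet_smul (D : RootHyp Q p) {x : ι → F} (hx : Q x = 0) {c : F} (hc : c ≠ 0) :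
    radSet Q (c • x) = radSet Q x := by
  have key : ∀ u, polar Q x u = 0 → proot Q (c • x) u = proot Q x (c • u) := fun u hu =>
    (D.proot_eq_iff (by rw [map_smul', hx, mul_zero]) (by rw [polar_smul_left', hu, mul_zero]) hx
      (by rw [polar_smul_right', hu, mul_zero])).2 (siegel_smul_left x u c hx _ _ _)
  ext g
  constructor
  · rintro ⟨u, hu, rfl⟩
    rw [polar_smul_left', mul_eq_zero] at hu
    exact ⟨c • u, by rw [polar_smul_right', hu.resolve_left hc, mul_zero], key u (hu.resolve_left hc)⟩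
  · rintro ⟨u, hu, rfl⟩
    have hu' : polar Q x (c⁻¹ • u) = 0 := by rw [polar_smul_right', hu, mul_zero]
    exact ⟨c⁻¹ • u, by rw [polar_smul_left', hu', mul_zero],
      by rw [key _ hu', smul_smul, mul_inv_cancel₀ hc, one_smul]⟩

theorem RootHyp.radSet_perp_meet (D : RootHyp Q p) {x y : ι → F} (hx0 : x ≠ 0) (hx : Q x = 0)
    (hy0 : y ≠ 0) (hy : Q y = 0) (h : polar Q x y = 0) :
    ∃ g, g ∈ radSet Q x ∧ g ∈ radSet Q y ∧ g ≠ 1 := by
  obtain ⟨f, hf, hef⟩ := exists_pair D.nondeg hx0 hx
  by_cases hmem : y ∈ Submodule.span F ({x} : Set (ι → F))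
  · obtain ⟨c, rfl⟩ := Submodule.mem_span_singleton.1 hmem
    obtain ⟨u, hu0, -, hu⟩ := exists_singular_pairPerp D.nondeg D.five_le' hx hf hef
    have h1 : proot Q x u ∈ radSet Q x := ⟨u, (mem_pairPerp.1 hu).1, rfl⟩
    exact ⟨_, h1, by rwa [D.radSet_smul hx (left_ne_zero_of_smul hy0)], D.proot_ne_one hx hef hu hu0⟩
  · have hn : polar Q y (-x) = 0 := by rw [polar_neg_right, polar_comm, h, neg_zero]
    refine ⟨proot Q x y, ⟨y, h, rfl⟩, ⟨-x, hn, (D.proot_eq_iff hx h hy hn).2
      (siegel_swap hy hx (by rw [polar_comm, h]) h hn)⟩, fun he => hmem ?_⟩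
    rw [← D.proot_zero hx, D.proot_eq_iff hx h hx (QuadraticMap.polar_zero_right ..)] at he
    obtain ⟨c, hc⟩ := mem_span_of_siegel_eq hx h _ hef he
    exact Submodule.mem_span_singleton.2 ⟨-c, by rw [neg_smul]; linear_combination (norm := module) hc⟩

theorem RootHyp.radSet_opp (D : RootHyp Q p) {x y : ι → F} (hx : Q x = 0) (hy : Q y = 0)
    (h : polar Q x y ≠ 0) {g : Cfsg.POmega F ⇑Q} (h1 : g ∈ radSet Q x) (h2 : g ∈ radSet Q y) : g = 1 := by
  obtain ⟨u, hu, rfl⟩ := h1
  obtain ⟨v, hv, hg⟩ := h2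
  rw [D.proot_eq_iff hx hu hy hv] at hg
  have h' := LinearEquiv.congr_fun hg x
  rw [siegel_apply_ker hx hu (by rw [polar_self', hx, mul_zero]), polar_comm Q x u, polar_comm Q u x, hu,
    siegel_apply] at h'
  have hvy : v = (polar Q x v / polar Q x y + Q v) • y := by
    have e : polar Q x y • v = (polar Q x v + Q v * polar Q x y) • y := by
      linear_combination (norm := module) -h'
    calc v = (polar Q x y)⁻¹ • (polar Q x y • v) := (inv_smul_smul₀ h v).symm
      _ = _ := by rw [e, smul_smul]; congr 1; field_simp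
  rw [(D.proot_eq_iff hx hu hy hv).2 hg, ← D.proot_zero hy,
    D.proot_eq_iff hy hv hy (QuadraticMap.polar_zero_right ..), siegel_eq_one _ hy hv hvy,
    siegel_eq_one (0 : F) hy _ (zero_smul F y).symm]

theorem RootHyp.radSet_injective (D : RootHyp Q p) {x y : ι → F} (hx0 : x ≠ 0) (hx : Q x = 0)
    (hy0 : y ≠ 0) (hy : Q y = 0) (h : radSet Q x = radSet Q y) :
    ∃ c : F, c ≠ 0 ∧ y = c • x := by
  have hperp : polar Q x y = 0 := by
    by_contra hne
    obtain ⟨g, hg, -, hg1⟩ := D.radSet_perp_meet hx0 hx hx0 hx (by rw [polar_self', hx, mul_zero])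
    exact hg1 (D.radSet_opp hx hy hne hg (h ▸ hg))
  by_cases hmem : y ∈ Submodule.span F ({x} : Set (ι → F))
  · obtain ⟨c, rfl⟩ := Submodule.mem_span_singleton.1 hmem
    exact ⟨c, left_ne_zero_of_smul hy0, rfl⟩
  exfalso
  obtain ⟨z, hz, hzy⟩ := exists_polar D.nondeg _ hmem 1
  have hxz : polar Q x z = 0 := by
    rw [polar_comm]; exact hz x (Submodule.mem_span_singleton_self x)
  obtain ⟨v, hv, hg⟩ : proot Q x z ∈ radSet Q y := h ▸ ⟨z, hxz, rfl⟩
  rw [D.proot_eq_iff hx hxz hy hv] at hg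
  have h' := LinearEquiv.congr_fun hg y
  rw [siegel_apply_ker hx hxz hperp, siegel_apply_ker hy hv (by rw [polar_self', hy, mul_zero]),
    polar_comm Q y z, hzy, hv] at h'
  exact hx0 (by linear_combination (norm := module) -h')

theorem RootHyp.conj_radSet (D : RootHyp Q p) (g : Cfsg.Omega F ⇑Q) {x : ι → F} (hx : Q x = 0) :
    MulAut.conj (omPr Q g) '' radSet Q x = radSet Q (omAct Q g x) := by
  ext y
  constructor
  · rintro ⟨_, ⟨u, hu, rfl⟩, rfl⟩
    exact ⟨omAct Q g u, by rw [orth_polar (omAct_mem_orth g), hu], D.conj_proot g hx hu⟩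
  · rintro ⟨u, hu, rfl⟩
    have hu' : polar Q x ((omAct Q g).symm u) = 0 := by
      rw [← orth_polar (omAct_mem_orth g), LinearEquiv.apply_symm_apply, hu]
    exact ⟨_, ⟨_, hu', rfl⟩, by rw [D.conj_proot g hx hu', LinearEquiv.apply_symm_apply]⟩

theorem exists_mem_pairPerp_proot (D : RootHyp Q p) {e f : ι → F} (he : Q e = 0)
    (hef : polar Q e f = 1) {g : Cfsg.POmega F ⇑Q} (hg : g ∈ radSet Q e) :
    ∃ w, w ∈ pairPerp Q e f ∧ g = proot Q e w := by
  obtain ⟨u, hu, rfl⟩ := hg
  have hw := decomp_perp he hef hu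
  refine ⟨_, hw, (D.proot_eq_iff he hu he (mem_pairPerp.1 hw).1).2 ?_⟩
  rw [← siegel_add_self (-(polar Q f u)) he hu
    (by rw [polar_add_right, hu, polar_smul_right', polar_self', he]; ring)]
  exact siegel_congr _ _ _ _ rfl (by module)

end Rad

section Semi

variable {ι : Type} [Fintype ι] [DecidableEq ι] {F : Type*} [Field F] [Finite F]
variable {Q : QuadraticForm F (ι → F)} {p : ℕ}

theorem RootHyp.autOmega_proot (D : RootHyp Q p) (x : semiSim (⇑Q)) {c : F} (hc : c ≠ 0)
    (h : ∀ v, Q (slAct (x : GammaL ι F) v) = c * (x : GammaL ι F).right (Q v)) {e u : ι → F}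
    (he : Q e = 0) (hu : polar Q e u = 0) :
    autOmega (⇑Q) x (proot Q e u) =
      proot Q (c⁻¹ • slAct (x : GammaL ι F) e) (slAct (x : GammaL ι F) u) := by
  set X := (x : GammaL ι F) with hX
  have hpol : ∀ a b, polar Q (slAct X a) (slAct X b) = c * X.right (polar Q a b) := fun a b => by
    simp only [polar, ← slAct_add, h, map_sub]; ring
  have he' : Q (c⁻¹ • slAct X e) = 0 := by rw [map_smul', h, he, map_zero]; ring
  have hu' : polar Q (c⁻¹ • slAct X e) (slAct X u) = 0 := by
    rw [polar_smul_left', hpol, hu, map_zero]; ring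
  refine congrArg (omPr Q) (a₁ := restrictChar _ (conjIsometry (⇑Q) x) (rootEl Q e u)) (omAct_injective ?_)
  rw [D.act_root he' hu']
  refine LinearEquiv.ext fun v => ?_
  obtain ⟨w, rfl⟩ : ∃ w, slAct X w = v := ⟨_, slAct_apply_inv X v⟩
  have e1 : omAct Q (restrictChar _ (conjIsometry (⇑Q) x) (rootEl Q e u)) (slAct X w) =
      slAct X (omAct Q (rootEl Q e u) w) := by
    show (isomEquiv Q _ : (ι → F) ≃ₗ[F] (ι → F)) _ = slAct X ((isomEquiv Q _ : (ι → F) ≃ₗ[F] (ι → F)) w)
    rw [isomEquiv_apply, isomEquiv_apply]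
    exact conjIsometry_mulVec x _ w
  rw [e1, D.act_root he hu, siegel_apply, siegel_apply]
  simp only [sub_eq_add_neg, slAct_add, ← neg_smul, slAct_smul, polar_smul_right', hpol, map_neg, map_mul, h]
  match_scalars <;> field_simp

end Semi

section Main

variable {ι : Type} [Fintype ι] [DecidableEq ι] {F : Type*} [Field F] [Finite F]
variable {Q : QuadraticForm F (ι → F)} {p : ℕ}

/-- The bijection between complements of hyperbolic pairs. -/
theorem RootHyp.exists_transport (D : RootHyp Q p) {e f e' f' : ι → F} (he : Q e = 0)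
    (hf : Q f = 0) (hef : polar Q e f = 1) (he' : Q e' = 0) (hf' : Q f' = 0) (hef' : polar Q e' f' = 1)
    (α : MulAut (Cfsg.POmega F ⇑Q)) (hα : α '' radSet Q e = radSet Q e') :
    ∃ L : pairPerp Q e f ≃+ pairPerp Q e' f', (∀ w : pairPerp Q e f,
        α (proot Q e w) = proot Q e' (L w : ι → F)) ∧
      (∀ w : pairPerp Q e f, Q (L w : ι → F) = 0 ↔ Q (w : ι → F) = 0) ∧
      ∀ w : pairPerp Q e f, Q (w : ι → F) = 0 → ∀ a : F, ∃ b : F, L (a • w) = b • L w := by
  haveI : Fact p.Prime := ⟨D.prime⟩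
  have hex : ∀ w : pairPerp Q e f, ∃ w' : pairPerp Q e' f', α (proot Q e w) = proot Q e' (w' : ι → F) := fun w => by
    obtain ⟨w', hw', e1⟩ := exists_mem_pairPerp_proot D he' hef'
      (hα ▸ ⟨_, ⟨_, (mem_pairPerp.1 w.2).1, rfl⟩, rfl⟩ : α (proot Q e w) ∈ radSet Q e')
    exact ⟨⟨w', hw'⟩, e1⟩
  choose φ hφ using hex
  have inj' : ∀ {a b : pairPerp Q e' f'}, proot Q e' (a : ι → F) = proot Q e' (b : ι → F) → a = b :=
    fun {a b} h => Subtype.ext (siegel_inj_pairPerp he' hef' a.2 b.2
      ((D.proot_eq_iff he' _ he' _).1 h))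
  have inj : ∀ {a b : pairPerp Q e f}, proot Q e (a : ι → F) = proot Q e (b : ι → F) → a = b :=
    fun {a b} h => Subtype.ext (siegel_inj_pairPerp he hef a.2 b.2 ((D.proot_eq_iff he _ he _).1 h))
  have hadd : ∀ a b, φ (a + b) = φ a + φ b := fun a b => inj' (by
    rw [← hφ, Submodule.coe_add, Submodule.coe_add, ← D.proot_add he (mem_pairPerp.1 a.2).1 (mem_pairPerp.1 b.2).1,
      map_mul, hφ, hφ, D.proot_add he' (mem_pairPerp.1 (φ a).2).1 (mem_pairPerp.1 (φ b).2).1])
  have hbij : Function.Bijective (AddMonoidHom.mk' φ hadd) := by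
    refine ⟨fun a b h => inj (α.injective (by rw [hφ, hφ]; exact congrArg (fun t : pairPerp Q e' f' => proot Q e' (t : ι → F)) h)), fun b => ?_⟩
    obtain ⟨g, hg, e1⟩ : proot Q e' (b : ι → F) ∈ α '' radSet Q e :=
      hα ▸ ⟨_, (mem_pairPerp.1 b.2).1, rfl⟩
    obtain ⟨w, hw, rfl⟩ := exists_mem_pairPerp_proot D he hef hg
    exact ⟨⟨w, hw⟩, inj' ((hφ ⟨w, hw⟩).symm.trans e1)⟩
  let L := AddEquiv.ofBijective (AddMonoidHom.mk' φ hadd) hbij
  have hL : ∀ w, L w = φ w := fun _ => rfl
  have hz : ∀ w : pairPerp Q e f, w ≠ 0 → Q (w : ι → F) = 0 → Q (L w : ι → F) = 0 ∧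
      ∀ a : F, ∃ b : F, L (a • w) = b • L w := by
    intro w hw0 hw
    obtain ⟨x, y, hl, hA⟩ := (D.image_rootSets α (lineSet Q e (w : ι → F))).1
      ⟨e, w, isLine_pairPerp he hef w.2 (Subtype.coe_ne_coe.2 hw0) hw, rfl⟩
    have hmem : ∀ a : F, proot Q e' (L (a • w) : ι → F) ∈ lineSet Q x y := fun a => by
      rw [← hA, hL, ← hφ]; exact ⟨_, ⟨a, rfl⟩, rfl⟩
    have hne : (L w : ι → F) ≠ 0 :=
      Subtype.coe_ne_coe.2 (fun h => hw0 (L.map_eq_zero_iff.1 h))
    obtain ⟨hQ0, hline⟩ := D.root_in_rad hl he' hf' hef' (L w).2 hne (by simpa using hmem 1)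
    refine ⟨hQ0, fun a => ?_⟩
    obtain ⟨b, hb⟩ : proot Q e' (L (a • w) : ι → F) ∈ lineSet Q e' (L w : ι → F) := hline ▸ hmem a
    exact ⟨b, inj' hb.symm⟩
  refine ⟨L, fun w => hφ w, fun w => ⟨fun h => ?_, fun h => ?_⟩, fun w h a => ?_⟩
  · rcases eq_or_ne w 0 with rfl | hw0
    · simp
    have hne : (L w : ι → F) ≠ 0 := Subtype.coe_ne_coe.2 (fun h => hw0 (L.map_eq_zero_iff.1 h))
    obtain ⟨x, y, hl, hA⟩ := (D.image_rootSets α⁻¹ (lineSet Q e' (L w : ι → F))).1
      ⟨e', _, isLine_pairPerp he' hef' (L w).2 hne h, rfl⟩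
    refine (D.root_in_rad hl he hf hef w.2 (Subtype.coe_ne_coe.2 hw0) ?_).1
    rw [← hA]
    refine ⟨_, ⟨1, rfl⟩, ?_⟩
    simp only [one_smul, hL, ← hφ]
    exact α.symm_apply_apply _
  · rcases eq_or_ne w 0 with rfl | hw0
    · rw [map_zero]; simp
    exact (hz w hw0 h).1
  · rcases eq_or_ne w 0 with rfl | hw0
    · exact ⟨0, by simp⟩
    exact (hz w hw0 h).2 a

/-- The transport is semilinear. -/
theorem RootHyp.exists_semilinear (D : RootHyp Q p) {e f e' f' : ι → F} (he : Q e = 0)
    (hf : Q f = 0) (hef : polar Q e f = 1) (L : pairPerp Q e f ≃+ pairPerp Q e' f')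
    (hz : ∀ w : pairPerp Q e f, Q (L w : ι → F) = 0 ↔ Q (w : ι → F) = 0)
    (hline : ∀ w : pairPerp Q e f, Q (w : ι → F) = 0 → ∀ a : F, ∃ b : F, L (a • w) = b • L w) :
    ∃ σ : F ≃+* F, ∀ (a : F) w, L (a • w) = σ a • L w := by
  choose s hs using hline
  have hn : 7 ≤ Module.finrank F (ι → F) := by rw [RootHyp.finrank_eq]; exact D.seven_le
  have hL0 : ∀ {w}, w ≠ 0 → L w ≠ 0 := fun h h' => h (L.map_eq_zero_iff.1 h')
  -- orthogonal independent singular vectors share their scalar map
  have hstep : ∀ (u v : pairPerp Q e f) (hu : Q (u : ι → F) = 0) (hv : Q (v : ι → F) = 0), u ≠ 0 →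
      polar Q (u : ι → F) v = 0 → (∀ c : F, v ≠ c • u) → ∀ a, s u hu a = s v hv a := by
    intro u v hu hv hu0 hp hind a
    have huv : Q ((u + v : pairPerp Q e f) : ι → F) = 0 := by
      rw [Submodule.coe_add, map_add', hu, hv, hp]; ring
    have h := hs _ huv a
    rw [smul_add, map_add, map_add, hs u hu, hs v hv, smul_add] at h
    have hcoef : (s u hu a - s _ huv a) • L u + (s v hv a - s _ huv a) • L v = 0 := by
      linear_combination (norm := module) h
    have hv' : s v hv a - s _ huv a = 0 := by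
      by_contra hne
      set d := -((s v hv a - s _ huv a)⁻¹ * (s u hu a - s _ huv a)) with hd'
      have hLv : L v = d • L u := by
        rw [← inv_smul_smul₀ hne (L v), eq_neg_of_add_eq_zero_right hcoef, hd', smul_neg, smul_smul]
        exact (neg_smul _ _).symm
      -- pull the scalar back
      have hQd : Q ((d • L u : pairPerp Q e' f') : ι → F) = 0 := by
        rw [Submodule.coe_smul, map_smul', (hz u).2 hu, mul_zero]
      have hex : ∀ k : F, ∃ c : F, L (c • u) = k • L u := by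
        have hinj : Function.Injective (s u hu) := fun a b hab => by
          have := hs u hu a
          rw [hab, ← hs u hu b] at this
          exact smul_left_injective F hu0 (L.injective this)
        intro k
        obtain ⟨c, rfl⟩ := (Finite.injective_iff_surjective.1 hinj) k
        exact ⟨c, hs u hu c⟩
      obtain ⟨c, hc⟩ := hex d
      exact hind c (L.injective (hLv.trans hc.symm))
    rw [hv', zero_smul, add_zero, smul_eq_zero] at hcoef
    linear_combination hcoef.resolve_right (hL0 hu0) - hv'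
  have hframe : ∀ (u : pairPerp Q e f), u ≠ 0 → Q (u : ι → F) = 0 → ∀ (v : pairPerp Q e f)
      (hv : polar Q (u : ι → F) v = 1) (hQv : Q (v : ι → F) = 0), ∃ (z : pairPerp Q e f), z ≠ 0 ∧
        Q (z : ι → F) = 0 ∧ polar Q (u : ι → F) z = 0 ∧ polar Q (v : ι → F) z = 0 := by
    intro u hu0 hu v hv hQv
    obtain ⟨z, hz0, hQz, hzI⟩ := (Frame.mk he hf hef hu hQv hv u.2 v.2 : Frame Q e f u v).exists_singular D.nondeg hn
    exact ⟨⟨z, hzI.1⟩, fun h => hz0 (congrArg Subtype.val h), hQz, (mem_pairPerp.1 hzI.2).1,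
      (mem_pairPerp.1 hzI.2).2⟩
  -- any two singular vectors share their scalar map
  have hsame : ∀ (u v : pairPerp Q e f) (hu : Q (u : ι → F) = 0) (hv : Q (v : ι → F) = 0), u ≠ 0 → v ≠ 0 →
      ∀ a, s u hu a = s v hv a := by
    intro u v hu hv hu0 hv0 a
    rcases eq_or_ne (polar Q (u : ι → F) v) 0 with hp | hp
    · by_cases hd : ∀ c : F, v ≠ c • u
      · exact hstep u v hu hv hu0 hp hd a
      push Not at hd
      obtain ⟨c, hc⟩ := hd
      obtain ⟨u', H⟩ := exists_frame D.nondeg he hf hef (Subtype.coe_ne_coe.2 hu0) hu u.2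
      obtain ⟨z, hz0, hQz, huz, hu'z⟩ := hframe u hu0 hu ⟨u', H.f'W⟩ H.hef' H.hf'
      have hind : ∀ k : F, z ≠ k • u := fun k h => by
        subst h
        rw [Submodule.coe_smul, polar_smul_right', polar_comm, H.hef', mul_one] at hu'z
        exact hz0 (by rw [hu'z, zero_smul])
      rw [hstep u z hu hQz hu0 huz hind a]
      refine (hstep v z hv hQz hv0 ?_ ?_ a).symm
      · rw [hc, Submodule.coe_smul, polar_smul_left', huz, mul_zero]
      · intro k h; rw [hc, smul_smul] at h; exact hind _ h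
    · set v' : pairPerp Q e f := (polar Q (u : ι → F) v)⁻¹ • v with hv'
      have h1 : polar Q (u : ι → F) v' = 1 := by
        rw [hv', Submodule.coe_smul, polar_smul_right', inv_mul_cancel₀ hp]
      obtain ⟨z, hz0, hQz, huz, hvz⟩ := hframe u hu0 hu v' h1
        (by rw [hv', Submodule.coe_smul, map_smul', hv, mul_zero])
      have hvz' : polar Q (v : ι → F) z = 0 := by
        rw [hv', Submodule.coe_smul, polar_smul_left', mul_eq_zero] at hvz
        exact hvz.resolve_left (inv_ne_zero hp)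
      rw [hstep u z hu hQz hu0 huz (fun k h => by
          subst h
          rw [Submodule.coe_smul, polar_smul_right', polar_comm, mul_eq_zero] at hvz'
          exact hz0 (by rw [hvz'.resolve_right hp, zero_smul])) a]
      refine (hstep v z hv hQz hv0 hvz' (fun k h => ?_) a).symm
      subst h
      rw [Submodule.coe_smul, polar_smul_right', mul_eq_zero] at huz
      exact hz0 (by rw [huz.resolve_right hp, zero_smul])
  obtain ⟨u, hu0, hQu, hu⟩ := exists_singular_pairPerp D.nondeg D.five_le' he hf hef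
  let u₀ : pairPerp Q e f := ⟨u, hu⟩
  have hu₀ : u₀ ≠ 0 := fun h => hu0 (congrArg Subtype.val h)
  let τ := s u₀ hQu
  have hτ : ∀ (w : pairPerp Q e f), Q (w : ι → F) = 0 → ∀ a, L (a • w) = τ a • L w := fun w hw a => by
    rcases eq_or_ne w 0 with rfl | hw0
    · simp
    rw [hs w hw a, hsame w u₀ hw hQu hw0 hu₀ a]
  have hcan : Function.Injective fun a : F => a • L u₀ := smul_left_injective F (hL0 hu₀)
  have hinj : Function.Injective τ := fun a b hab => by
    have := hτ u₀ hQu a
    rw [hab, ← hτ u₀ hQu b] at this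
    exact smul_left_injective F hu₀ (L.injective this)
  have hadd : ∀ a b, τ (a + b) = τ a + τ b := fun a b => hcan <| by
    show τ (a + b) • L u₀ = (τ a + τ b) • L u₀
    rw [← hτ _ hQu, add_smul, map_add, hτ _ hQu, hτ _ hQu, add_smul]
  have hmul : ∀ a b, τ (a * b) = τ a * τ b := fun a b => hcan <| by
    show τ (a * b) • L u₀ = (τ a * τ b) • L u₀
    rw [← hτ _ hQu, mul_smul, hτ (b • u₀) (by rw [Submodule.coe_smul, map_smul']; simp [u₀, hQu]),
      hτ _ hQu, mul_smul]
  have hone : τ 1 = 1 := hcan <| by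
    show τ 1 • L u₀ = (1 : F) • L u₀
    rw [← hτ _ hQu, one_smul, one_smul]
  have hzero : τ 0 = 0 := by simpa using hadd 0 0
  let τh : F →+* F :=
    { toFun := τ, map_one' := hone, map_mul' := hmul, map_zero' := hzero, map_add' := hadd }
  refine ⟨RingEquiv.ofBijective τh (Finite.injective_iff_bijective.1 hinj), fun a w => ?_⟩
  show L (a • w) = τ a • L w
  have key : ∀ (x : ι → F), x ∈ pairPerp Q e f → ∀ hx : x ∈ pairPerp Q e f,
      L (a • ⟨x, hx⟩) = τ a • L ⟨x, hx⟩ := by
    refine pairPerp_induction D.nondeg he hf hef hu0 hQu hu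
      (fun x => ∀ hx : x ∈ pairPerp Q e f, L (a • ⟨x, hx⟩) = τ a • L ⟨x, hx⟩) ?_ ?_ ?_
    · intro x y hx hy h1 h2 hxy
      rw [show (⟨x + y, hxy⟩ : pairPerp Q e f) = ⟨x, hx⟩ + ⟨y, hy⟩ from rfl, smul_add, map_add, map_add,
        smul_add, h1 hx, h2 hy]
    · exact fun x _ hQx _ hx => hτ ⟨x, hx⟩ hQx a
    · intro hx
      rw [show (⟨0, hx⟩ : pairPerp Q e f) = 0 from rfl, smul_zero, map_zero, smul_zero]
  exact key _ w.2 w.2

/-- The semisimilarity attached to a transport. -/
theorem RootHyp.exists_semisim (D : RootHyp Q p) {e f e' f' : ι → F} (he : Q e = 0)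
    (hf : Q f = 0) (hef : polar Q e f = 1) (he' : Q e' = 0) (hf' : Q f' = 0) (hef' : polar Q e' f' = 1)
    (L : pairPerp Q e f ≃+ pairPerp Q e' f') (σ : F ≃+* F) (hL : ∀ (a : F) w, L (a • w) = σ a • L w)
    (hz : ∀ w : pairPerp Q e f, Q (L w : ι → F) = 0 ↔ Q (w : ι → F) = 0) :
    ∃ (x : semiSim (⇑Q)) (c : F), c ≠ 0 ∧
      (∀ v, Q (slAct (x : GammaL ι F) v) = c * (x : GammaL ι F).right (Q v)) ∧
      slAct (x : GammaL ι F) e = c • e' ∧ slAct (x : GammaL ι F) f = f' ∧
      ∀ w : pairPerp Q e f, slAct (x : GammaL ι F) (w : ι → F) = (L w : ι → F) := by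
  have hn : 5 ≤ Module.finrank F (pairPerp Q e f) := by
    have := finrank_pairPerp (Q := Q) e f
    have := D.seven_le
    rw [RootHyp.finrank_eq] at *
    omega
  let R : QuadraticForm F (pairPerp Q e f) := Q.comp (pairPerp Q e f).subtype
  let τ := σ.symm
  have hτσ : ∀ a, τ (σ a) = a := σ.symm_apply_apply
  let B : LinearMap.BilinMap F (pairPerp Q e f) F := LinearMap.mk₂ F
    (fun a b => τ (polar Q (L a : ι → F) (L b : ι → F)))
    (fun a b c => by rw [map_add, Submodule.coe_add, polar_add_left, map_add])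
    (fun k a b => by rw [hL, Submodule.coe_smul, polar_smul_left', map_mul, hτσ]; rfl)
    (fun a b c => by rw [map_add, Submodule.coe_add, polar_add_right, map_add])
    (fun k a b => by rw [hL, Submodule.coe_smul, polar_smul_right', map_mul, hτσ]; rfl)
  let R' : QuadraticForm F (pairPerp Q e f) :=
    { toFun := fun w => τ (Q (L w : ι → F))
      toFun_smul := fun k w => by
        rw [hL, Submodule.coe_smul, map_smul', map_mul, map_mul, hτσ]; rfl
      exists_companion' := ⟨B, fun a b => by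
        show τ (Q (L (a + b) : ι → F)) = _ + _ + τ (polar Q (L a : ι → F) (L b : ι → F))
        rw [map_add L, Submodule.coe_add, map_add', map_add, map_add]⟩ }
  obtain ⟨l, hl⟩ := form_eq_smul_of_zeros (Q := R') (R := R) (nondeg_pairPerp D.nondeg he hf hef) hn
    (fun w hw => by show τ (Q (L w : ι → F)) = 0; rw [(hz w).2 hw, map_zero])
  have hQL : ∀ w : pairPerp Q e f, Q (L w : ι → F) = σ l * σ (Q (w : ι → F)) := fun w => by
    rw [← map_mul, ← show τ (Q (L w : ι → F)) = l * Q (w : ι → F) from hl w]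
    exact (σ.apply_symm_apply _).symm
  set c := σ l with hcdef
  have hc : c ≠ 0 := fun h0 => by
    obtain ⟨u, hu0, hQu, hu⟩ := exists_singular_pairPerp D.nondeg D.five_le' he hf hef
    obtain ⟨u', H⟩ := exists_frame D.nondeg he hf hef hu0 hQu hu
    obtain ⟨z, hzI, hQz⟩ := H.exists_nonsingular D.nondeg (by rw [RootHyp.finrank_eq]; exact D.seven_le)
    exact hQz ((hz ⟨z, hzI.1⟩).1 (by rw [hQL, h0, zero_mul]))
  let pr : (ι → F) →ₗ[F] pairPerp Q e f :=
    { toFun := fun v => ⟨_, decomp_pair he hf hef v⟩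
      map_add' := fun a b => Subtype.ext <| by
        simp only [Submodule.coe_add, polar_add_left]; module
      map_smul' := fun k a => Subtype.ext <| by
        simp only [RingHom.id_apply, Submodule.coe_smul, polar_smul_left']; module }
  let X : (ι → F) → (ι → F) := fun v =>
    (σ (polar Q v f) * c) • e' + σ (polar Q v e) • f' + (L (pr v) : ι → F)
  have hXadd : ∀ a b, X (a + b) = X a + X b := fun a b => by
    simp only [X, map_add, polar_add_left, Submodule.coe_add]; module
  have hXsmul : ∀ (k : F) a, X (k • a) = σ k • X a := fun k a => by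
    simp only [X, map_smul, hL, polar_smul_left', map_mul, Submodule.coe_smul]; module
  have hQX : ∀ v, Q (X v) = c * σ (Q v) := fun v => by
    obtain ⟨h1, h2⟩ := mem_pairPerp.1 (L (pr v)).2
    obtain ⟨k1, k2⟩ := mem_pairPerp.1 (pr v).2
    have hv : v = polar Q v f • e + polar Q v e • f + (pr v : ι → F) := by
      show v = _ + _ + (v - _ - _); abel
    have e1 : Q v = polar Q v f * polar Q v e + Q (pr v : ι → F) := by
      conv_lhs => rw [hv]
      simp only [map_add', map_smul', he, hf, polar_smul_left', polar_smul_right', polar_add_left, hef, k1, k2]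
      ring
    simp only [X, map_add', map_smul', he', hf', polar_smul_left', polar_smul_right', polar_add_left, hef', h1, h2, hQL]
    rw [e1, map_add, map_mul]; ring
  let σv : (ι → F) → (ι → F) := fun v i => σ.symm (v i)
  let M : (ι → F) →ₗ[F] (ι → F) :=
    { toFun := fun v => X (σv v)
      map_add' := fun a b => by rw [← hXadd]; exact congrArg X (funext fun i => map_add _ _ _)
      map_smul' := fun k a => by
        have : σv (k • a) = σ.symm k • σv a := funext fun i => map_mul _ _ _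
        rw [this, hXsmul, σ.apply_symm_apply]; rfl }
  have hMinj : Function.Injective M := by
    rw [← LinearMap.ker_eq_bot, LinearMap.ker_eq_bot']
    intro v hv
    have hv' : X (σv v) = 0 := hv
    set u := σv v
    obtain ⟨h1, h2⟩ := mem_pairPerp.1 (L (pr u)).2
    have a1 := congrArg (polar Q e') hv'
    have a2 := congrArg (polar Q f') hv'
    simp only [X, polar_add_right, polar_smul_right', QuadraticMap.polar_zero_right, polar_self', he', hf',
      hef', polar_comm Q f' e', h1, h2, mul_zero, mul_one, zero_add, add_zero, map_eq_zero, mul_eq_zero,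
      or_iff_left hc] at a1 a2
    have a3 : pr u = 0 := by
      simp only [X, a1, a2, map_zero, zero_mul, zero_smul, zero_add] at hv'
      exact L.map_eq_zero_iff.1 (Subtype.ext hv')
    have hu : u = 0 := by
      have := congrArg Subtype.val a3
      simpa [pr, a1, a2] using this
    funext i
    have := congrFun hu i
    simpa [u, σv] using this
  let g : GL ι F := glEquiv.symm (LinearEquiv.ofBijective M
    ⟨hMinj, (LinearMap.injective_iff_surjective (f := M)).1 hMinj⟩)
  let x₀ : GammaL ι F := ⟨g, σ⟩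
  have hact : ∀ v, slAct x₀ v = X v := fun v => by
    show (g : Matrix ι ι F) *ᵥ (fun i => σ (v i)) = _
    rw [glEquiv_symm_mulVec]
    show X (σv fun i => σ (v i)) = _
    congr 1
    funext i
    exact σ.symm_apply_apply _
  have hmem : ∀ v, Q (slAct x₀ v) = c * x₀.right (Q v) := fun v => by rw [hact]; exact hQX v
  refine ⟨⟨x₀, ⟨Units.mk0 c hc, hmem⟩⟩, c, hc, hmem, ?_, ?_, fun w => ?_⟩
  · show slAct x₀ e = _
    have : pr e = 0 := Subtype.ext (by simp [pr, hef, polar_self', he])
    rw [hact]; simp [X, this, hef, polar_self', he]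
  · show slAct x₀ f = _
    have : pr f = 0 := Subtype.ext (by simp [pr, polar_comm Q f e, hef, polar_self', hf])
    rw [hact]; simp [X, this, polar_comm Q f e, hef, polar_self', hf]
  · show slAct x₀ (w : ι → F) = _
    obtain ⟨k1, k2⟩ := mem_pairPerp.1 w.2
    rw [polar_comm] at k1 k2
    have : pr (w : ι → F) = w := Subtype.ext (by simp [pr, k1, k2])
    rw [hact]; simp [X, this, k1, k2]

/-- An automorphism fixing one radical pointwise and stabilising an opposite one is trivial. -/
theorem RootHyp.eq_one_of_fix (D : RootHyp Q p) {e f : ι → F} (he : Q e = 0) (hf : Q f = 0)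
    (hef : polar Q e f = 1) (β : MulAut (Cfsg.POmega F ⇑Q)) (h1 : ∀ g ∈ radSet Q e, β g = g)
    (h2 : β '' radSet Q f = radSet Q f) : β = 1 := by
  have hn : 7 ≤ Module.finrank F (ι → F) := by rw [RootHyp.finrank_eq]; exact D.seven_le
  have hfe : polar Q f e = 1 := by rw [polar_comm, hef]
  have he1 : β '' radSet Q e = radSet Q e := (Set.image_congr h1).trans (Set.image_id' _)
  have hsymm : ∀ {w}, w ∈ pairPerp Q e f → w ∈ pairPerp Q f e := fun h => mem_pairPerp.2 (mem_pairPerp.1 h).symm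
  -- nonsingular vectors are fixed on the second radical
  have hns : ∀ w, w ∈ pairPerp Q e f → Q w ≠ 0 → β (proot Q f w) = proot Q f w := by
    intro w hw hQw
    obtain ⟨hw1, hw2⟩ := mem_pairPerp.1 hw
    obtain ⟨K, hK, e1⟩ := exists_mem_pairPerp_proot D hf hfe (e := f) (f := e)
      (h2 ▸ ⟨_, ⟨w, hw2, rfl⟩, rfl⟩ : β (proot Q f w) ∈ radSet Q f)
    obtain ⟨hK2, hK1⟩ := mem_pairPerp.1 hK
    have hw' : polar Q e (-(Q w)⁻¹ • w) = 0 := by rw [polar_smul_right', hw1, mul_zero]
    have hcb : ∀ (x : Cfsg.POmega F ⇑Q) (A : Set (Cfsg.POmega F ⇑Q)),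
        β '' (MulAut.conj x '' A) = MulAut.conj (β x) '' (β '' A) := fun x A => by
      simp only [← Set.image_comp]
      refine Set.image_congr fun a _ => ?_
      simp
    have hX : radSet Q (siegel Q f w hf hw2 e) = radSet Q (siegel Q e (-(Q w)⁻¹ • w) he hw' f) := by
      rw [siegel_exchange he hf hef hw hQw]
      exact (D.radSet_smul (by rw [mem_orth.1 (siegel_mem_orth Q _ _ _ _), he]) (by simpa using hQw)).symm
    have hl : β '' radSet Q (siegel Q f w hf hw2 e) = radSet Q (siegel Q f K hf hK2 e) := by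
      rw [← D.act_root hf hw2, ← D.conj_radSet _ he, hcb, he1, show omPr Q (rootEl Q f w) = proot Q f w from rfl,
        e1, show proot Q f K = omPr Q (rootEl Q f K) from rfl, D.conj_radSet _ he, D.act_root hf hK2]
    have hr : β '' radSet Q (siegel Q e (-(Q w)⁻¹ • w) he hw' f) =
        radSet Q (siegel Q e (-(Q w)⁻¹ • w) he hw' f) := by
      rw [← D.act_root he hw', ← D.conj_radSet _ hf, hcb, h2,
        show omPr Q (rootEl Q e (-(Q w)⁻¹ • w)) = proot Q e (-(Q w)⁻¹ • w) from rfl, h1 _ ⟨_, hw', rfl⟩]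
    rw [hX, hr, ← hX] at hl
    obtain ⟨c, -, hc⟩ := D.radSet_injective (fun h => ne_zero_of_pair hef ((map_eq_zero_iff _ (LinearEquiv.injective _)).1 h))
      (by rw [mem_orth.1 (siegel_mem_orth Q _ _ _ _), he])
      (fun h => ne_zero_of_pair hef ((map_eq_zero_iff _ (LinearEquiv.injective _)).1 h))
      (by rw [mem_orth.1 (siegel_mem_orth Q _ _ _ _), he]) hl
    rw [siegel_apply_partner hf hw2 hfe hw1, siegel_apply_partner hf hK2 hfe hK1] at hc
    have hc1 : c = 1 := by
      have := congrArg (polar Q f) hc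
      simp [polar_add_right, polar_sub_right, polar_smul_right', hfe, hK2, hw2, polar_self', hf] at this
      exact this.symm
    rw [hc1, one_smul] at hc
    have hKw : K = w := by
      have h4 : K - w = (Q K - Q w) • f := by linear_combination (norm := module) hc
      have h5 := congrArg (polar Q e) h4
      rw [polar_sub_right, polar_smul_right', hK1, hw1, hef, mul_one, sub_zero] at h5
      rw [← h5, zero_smul, sub_eq_zero] at h4
      exact h4
    rw [e1, hKw]
  have hall : ∀ w, w ∈ pairPerp Q e f → β (proot Q f w) = proot Q f w := by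
    intro w hw
    by_cases hQw : Q w = 0
    · rcases eq_or_ne w 0 with rfl | hw0
      · rw [D.proot_zero hf, map_one]
      obtain ⟨w', H⟩ := exists_frame D.nondeg he hf hef hw0 hQw hw
      obtain ⟨z, hzI, hQz⟩ := H.exists_nonsingular D.nondeg hn
      have hd : w - z ∈ pairPerp Q e f := sub_mem hw hzI.1
      have hQd : Q (w - z) ≠ 0 := by
        rw [sub_eq_add_neg, map_add', QuadraticMap.map_neg, polar_neg_right, hQw,
          (mem_pairPerp.1 hzI.2).1]
        simpa using hQz
      have := D.proot_add hf (mem_pairPerp.1 hd).2 (mem_pairPerp.1 hzI.1).2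
      rw [sub_add_cancel] at this
      rw [← this, map_mul, hns _ hd hQd, hns _ hzI.1 hQz]
    · exact hns w hw hQw
  let P : Subgroup (Cfsg.POmega F ⇑Q) :=
    { carrier := {g | β g = g}
      one_mem' := map_one β
      mul_mem' := fun {a b} ha hb => show β (a * b) = a * b by rw [map_mul, ha, hb]
      inv_mem' := fun {a} ha => show β a⁻¹ = a⁻¹ by rw [map_inv, ha] }
  have hle : siegelGroup Q ≤ (P.comap (omPr Q)).map (omAct Q) := by
    refine siegelGroup_le_of_pair D.nondeg he hf hef hn _ (fun w hw => ?_) (fun w hw => ?_)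
    · exact ⟨rootEl Q e w, h1 _ ⟨w, (mem_pairPerp.1 hw).1, rfl⟩, D.act_root he _⟩
    · exact ⟨rootEl Q f w, hall w hw, D.act_root hf _⟩
  refine MulEquiv.ext fun g => ?_
  induction g using QuotientGroup.induction_on with
  | H s =>
    obtain ⟨t, ht, hts⟩ := hle ((range_omAct D.nondeg D.five_le).le ⟨s, rfl⟩)
    exact omAct_injective hts ▸ ht

/-- An automorphism mapping radicals at points to radicals at points is induced by a semisimilarity. -/
theorem RootHyp.mem_range_of_rad (D : RootHyp Q p) (α : MulAut (Cfsg.POmega F ⇑Q))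
    (hrad : ∀ e : ι → F, e ≠ 0 → Q e = 0 → ∃ e', e' ≠ 0 ∧ Q e' = 0 ∧ α '' radSet Q e = radSet Q e') :
    α ∈ (autOmega ⇑Q).range := by
  obtain ⟨e, he0, he⟩ := exists_singular D.nondeg (by have := D.five_le'; omega)
  obtain ⟨f, hf, hef⟩ := exists_pair D.nondeg he0 he
  have hf0 : f ≠ 0 := ne_zero_of_pair (by rw [polar_comm, hef] : polar Q f e = 1)
  obtain ⟨e', he'0, he', hαe⟩ := hrad e he0 he
  obtain ⟨f₁, hf₁0, hf₁, hαf⟩ := hrad f hf0 hf
  have hp : polar Q e' f₁ ≠ 0 := fun h => by
    obtain ⟨g, hg, hg', hg1⟩ := D.radSet_perp_meet he'0 he' hf₁0 hf₁ h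
    rw [← hαe] at hg
    rw [← hαf] at hg'
    obtain ⟨a, ha, rfl⟩ := hg
    obtain ⟨b, hb, hab⟩ := hg'
    rw [α.injective hab] at hb
    exact hg1 (by rw [D.radSet_opp he hf (by rw [hef]; exact one_ne_zero) ha hb, map_one])
  set f' := (polar Q e' f₁)⁻¹ • f₁ with hf'def
  have hf' : Q f' = 0 := by rw [hf'def, map_smul', hf₁, mul_zero]
  have hef' : polar Q e' f' = 1 := by rw [hf'def, polar_smul_right', inv_mul_cancel₀ hp]
  have hαf' : α '' radSet Q f = radSet Q f' := by rw [hf'def, D.radSet_smul hf₁ (inv_ne_zero hp), hαf]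
  obtain ⟨L, hL, hz, hline⟩ := D.exists_transport he hf hef he' hf' hef' α hαe
  obtain ⟨σ, hσ⟩ := D.exists_semilinear he hf hef L hz hline
  obtain ⟨x, c, hc, hsim, hxe, hxf, hxw⟩ := D.exists_semisim he hf hef he' hf' hef' L σ hσ hz
  refine ⟨x, ?_⟩
  have hkey : ∀ g ∈ radSet Q e, autOmega (⇑Q) x g = α g := by
    intro g hg
    obtain ⟨w, hw, rfl⟩ := exists_mem_pairPerp_proot D he hef hg
    rw [D.autOmega_proot x hc hsim he (mem_pairPerp.1 hw).1, hxe, smul_smul, inv_mul_cancel₀ hc,
      one_smul, hxw ⟨w, hw⟩, ← hL ⟨w, hw⟩]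
  have hkf : autOmega (⇑Q) x '' radSet Q f = radSet Q f' := by
    have hr : radSet Q (c⁻¹ • f') = radSet Q f' := D.radSet_smul hf' (inv_ne_zero hc)
    have hpol : ∀ a b, polar Q (slAct (x : GammaL ι F) a) (slAct (x : GammaL ι F) b) =
        c * (x : GammaL ι F).right (polar Q a b) := fun a b => by
      simp only [polar, ← slAct_add, hsim, map_sub]; ring
    rw [← hr]
    ext g
    constructor
    · rintro ⟨_, ⟨u, hu, rfl⟩, rfl⟩
      refine ⟨slAct (x : GammaL ι F) u, ?_, by rw [D.autOmega_proot x hc hsim hf hu, hxf]⟩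
      rw [← hxf, polar_smul_left', hpol, hu, map_zero, mul_zero, mul_zero]
    · rintro ⟨u, hu, rfl⟩
      obtain ⟨v, rfl⟩ : ∃ v, slAct (x : GammaL ι F) v = u := ⟨_, slAct_apply_inv _ u⟩
      have hv : polar Q f v = 0 := by
        rw [← hxf, polar_smul_left', hpol] at hu
        simpa [hc] using hu
      exact ⟨_, ⟨v, hv, rfl⟩, by rw [D.autOmega_proot x hc hsim hf hv, hxf]⟩
  have := D.eq_one_of_fix he hf hef ((autOmega (⇑Q) x)⁻¹ * α)
    (fun g hg => by rw [MulAut.mul_apply, ← hkey g hg]; exact (autOmega (⇑Q) x).symm_apply_apply g) (by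
      rw [show (⇑((autOmega (⇑Q) x)⁻¹ * α) : Cfsg.POmega F ⇑Q → _) = (autOmega (⇑Q) x).symm ∘ α from rfl,
        Set.image_comp, hαf', ← hkf, ← Set.image_comp,
        show ((autOmega (⇑Q) x).symm : Cfsg.POmega F ⇑Q → _) ∘ autOmega (⇑Q) x = id from
          funext (MulEquiv.symm_apply_apply _), Set.image_id])
  exact inv_mul_eq_one.1 this

/-- Every automorphism is induced by a semisimilarity. -/
theorem RootHyp.gammaPOmega_eq_top (D : RootHyp Q p) (h4 : D4Free Q) :
    Cfsg.gammaPOmega F ⇑Q = ⊤ := by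
  rw [gammaPOmega_eq, eq_top_iff]
  exact fun α _ => D.mem_range_of_rad α fun _ he0 he => D.exists_rad_image h4 α he0 he

end Main

end CfsgLib.Geometry
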