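import Cfsg.Agent.Lib.Geometry.AutSylow
import Cfsg.Agent.Lib.Geometry.MaxSingular

/-! Automorphisms of `POmega` permute the unipotent radicals of point stabilisers. -/

set_option autoImplicit false

namespace CfsgLib.Geometry

open QuadraticMap

section Generic

variable {G : Type*} [Group G]

/-- Commuting sets. -/
def SetCom (A B : Set G) : Prop := ∀ a ∈ A, ∀ b ∈ B, Commute a b

/-- Two members of a family span a pencil. -/
def SetCop (R : Set (Set G)) (A B : Set G) : Prop :=
  A ≠ B ∧ SetCom A B ∧ ∃ C ∈ R, C ≠ A ∧ C ≠ B ∧ ∀ c ∈ C, ∃ a ∈ A, ∃ b ∈ B, c = a * b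

/-- The group generated by the members coplanar to two given ones. -/
def commonSub (R : Set (Set G)) (A B : Set G) : Subgroup G :=
  Subgroup.closure (⋃₀ {C | C ∈ R ∧ SetCop R C A ∧ SetCop R C B})

/-- Two members meeting in a point without spanning a pencil. -/
def SetMeet (R : Set (Set G)) (n N : ℕ) (A B : Set G) : Prop :=
  A ≠ B ∧ SetCom A B ∧ ¬ SetCop R A B ∧ (9 ≤ n → N < Nat.card (commonSub R A B))

/-- Two members meeting in a point. -/
def SetIsect (R : Set (Set G)) (n N : ℕ) (A B : Set G) : Prop := SetCop R A B ∨ SetMeet R n N A B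

/-- The group generated by a star. -/
def starSub (R : Set (Set G)) (n N : ℕ) (A B : Set G) : Subgroup G :=
  Subgroup.closure (A ∪ B ∪ ⋃₀ {C | C ∈ R ∧ SetIsect R n N C A ∧ SetIsect R n N C B})

variable {R : Set (Set G)} (α : MulAut G) (hR : ∀ A, A ∈ R ↔ α '' A ∈ R)

theorem setCom_image (A B : Set G) : SetCom (α '' A) (α '' B) ↔ SetCom A B := by
  refine ⟨fun h a ha b hb => ?_, ?_⟩
  · exact Commute.of_map α.injective (h _ ⟨a, ha, rfl⟩ _ ⟨b, hb, rfl⟩)
  · rintro h _ ⟨a, ha, rfl⟩ _ ⟨b, hb, rfl⟩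
    exact (h a ha b hb).map α

include hR in
theorem setCop_image (A B : Set G) : SetCop R (α '' A) (α '' B) ↔ SetCop R A B := by
  have hi : Function.Injective (Set.image α) := α.injective.image_injective
  refine and_congr hi.ne_iff (and_congr (setCom_image α A B) ⟨?_, ?_⟩)
  · rintro ⟨C, hC, h1, h2, h3⟩
    obtain ⟨C, rfl⟩ : ∃ C', α '' C' = C := ⟨α ⁻¹' C, Set.image_preimage_eq _ α.surjective⟩
    refine ⟨C, (hR C).2 hC, fun e => h1 (e ▸ rfl), fun e => h2 (e ▸ rfl), fun c hc => ?_⟩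
    obtain ⟨_, ⟨a, ha, rfl⟩, _, ⟨b, hb, rfl⟩, e⟩ := h3 _ ⟨c, hc, rfl⟩
    exact ⟨a, ha, b, hb, α.injective (by rw [e, map_mul])⟩
  · rintro ⟨C, hC, h1, h2, h3⟩
    refine ⟨α '' C, (hR C).1 hC, hi.ne h1, hi.ne h2, ?_⟩
    rintro _ ⟨c, hc, rfl⟩
    obtain ⟨a, ha, b, hb, rfl⟩ := h3 c hc
    exact ⟨_, ⟨a, ha, rfl⟩, _, ⟨b, hb, rfl⟩, map_mul α a b⟩

include hR in
theorem sUnion_image {P : Set G → Prop} {P' : Set G → Prop} (h : ∀ C, P' (α '' C) ↔ P C) :
    ⋃₀ {C | C ∈ R ∧ P' C} = α '' ⋃₀ {C | C ∈ R ∧ P C} := by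
  ext x
  constructor
  · rintro ⟨C, ⟨hC, hP⟩, hx⟩
    obtain ⟨C, rfl⟩ : ∃ C', α '' C' = C := ⟨α ⁻¹' C, Set.image_preimage_eq _ α.surjective⟩
    obtain ⟨y, hy, rfl⟩ := hx
    exact ⟨y, ⟨C, ⟨(hR C).2 hC, (h C).1 hP⟩, hy⟩, rfl⟩
  · rintro ⟨y, ⟨C, ⟨hC, hP⟩, hy⟩, rfl⟩
    exact ⟨α '' C, ⟨(hR C).1 hC, (h C).2 hP⟩, y, hy, rfl⟩

include hR in
theorem setIsect_image (n N : ℕ) (A B : Set G) :
    SetIsect R n N (α '' A) (α '' B) ↔ SetIsect R n N A B := by
  have hc : commonSub R (α '' A) (α '' B) = (commonSub R A B).map α.toMonoidHom := by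
    rw [commonSub, commonSub, MonoidHom.map_closure,
      sUnion_image α hR (P := fun C => SetCop R C A ∧ SetCop R C B)
        (fun C => and_congr (setCop_image α hR C A) (setCop_image α hR C B))]
    rfl
  refine or_congr (setCop_image α hR A B) (and_congr (α.injective.image_injective).ne_iff
    (and_congr (setCom_image α A B) (and_congr (not_congr (setCop_image α hR A B)) ?_)))
  rw [hc, ← Nat.card_congr ((commonSub R A B).equivMapOfInjective α.toMonoidHom α.injective).toEquiv]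

include hR in
theorem starSub_image (n N : ℕ) (A B : Set G) :
    starSub R n N (α '' A) (α '' B) = (starSub R n N A B).map α.toMonoidHom := by
  rw [starSub, starSub, MonoidHom.map_closure, Set.image_union, Set.image_union,
    sUnion_image α hR (P := fun C => SetIsect R n N C A ∧ SetIsect R n N C B)
      (fun C => and_congr (setIsect_image α hR n N C A) (setIsect_image α hR n N C B))]
  rfl

end Generic

variable {ι : Type} [Fintype ι] [DecidableEq ι] {F : Type*} [Field F] [Finite F]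
variable {Q : QuadraticForm F (ι → F)} {p : ℕ}

/-- The family of root groups. -/
def rootSets (Q : QuadraticForm F (ι → F)) : Set (Set (Cfsg.POmega F ⇑Q)) :=
  {A | ∃ e w, IsLine Q e w ∧ A = lineSet Q e w}

/-- The radical at a point. -/
def radSet (Q : QuadraticForm F (ι → F)) (e : ι → F) : Set (Cfsg.POmega F ⇑Q) :=
  {g | ∃ u, polar Q e u = 0 ∧ g = proot Q e u}

/-- Totally singular subspaces of eight-dimensional spaces have dimension at most three. -/
def D4Free (Q : QuadraticForm F (ι → F)) : Prop :=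
  Fintype.card ι = 8 → ∀ W : Submodule F (ι → F), (∀ w ∈ W, Q w = 0) → Module.finrank F W ≤ 3

theorem RootHyp.lineSet_smul (D : RootHyp Q p) {e w : ι → F} (hl : IsLine Q e w) {d : F} (hd : d ≠ 0)
    {x y : ι → F} (hx : Q x = 0) (hxy : polar Q x y = 0)
    (h : ∀ a : F, ∃ ha : polar Q e ((a * d) • w) = 0,
      siegel Q x (a • y) hx (by rw [polar_smul_right', hxy, mul_zero]) = siegel Q e ((a * d) • w) hl.he ha) :
    lineSet Q x y = lineSet Q e w := by
  have hh : ∀ a : F, proot Q x (a • y) = proot Q e ((a * d) • w) := fun a => by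
    obtain ⟨ha, e1⟩ := h a
    exact (D.proot_eq_iff hx _ hl.he ha).2 e1
  ext g
  constructor
  · rintro ⟨a, rfl⟩; exact ⟨a * d, (hh a).symm⟩
  · rintro ⟨a, rfl⟩; exact ⟨a / d, by simp only [hh, div_mul_cancel₀ a hd]⟩

/-- Change of basis of a line. -/
theorem RootHyp.rebase (D : RootHyp Q p) {e w : ι → F} (hl : IsLine Q e w) {a b c d : F}
    (hdet : a * d - b * c ≠ 0) :
    IsLine Q (a • e + b • w) (c • e + d • w) ∧
      lineSet Q (a • e + b • w) (c • e + d • w) = lineSet Q e w := by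
  have hq : ∀ s t : F, Q (s • e + t • w) = 0 := fun s t => by
    rw [map_add', map_smul', map_smul', hl.he, hl.hw, polar_smul_left', polar_smul_right', hl.hew]; ring
  have hp : ∀ s t s' t' : F, polar Q (s • e + t • w) (s' • e + t' • w) = 0 := fun s t s' t' => by
    simp only [polar_add_left, polar_add_right, polar_smul_left', polar_smul_right', polar_self', hl.he,
      hl.hw, hl.hew, polar_comm Q w e]
    ring
  have hind : ∀ s t : F, s • e + t • w = 0 → s = 0 ∧ t = 0 := fun s t h => by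
    have ht : t = 0 := by
      by_contra ht
      refine hl.notMem (Submodule.mem_span_singleton.2 ⟨-(t⁻¹ * s), ?_⟩)
      rw [neg_smul, mul_smul, eq_neg_of_add_eq_zero_left h, smul_neg, neg_neg, inv_smul_smul₀ ht]
    rw [ht, zero_smul, add_zero, smul_eq_zero] at h
    exact ⟨h.resolve_right hl.ne, ht⟩
  refine ⟨⟨hq _ _, hq _ _, hp _ _ _ _, fun h => hdet ?_, fun h => hdet ?_⟩, ?_⟩
  · obtain ⟨rfl, rfl⟩ := hind _ _ h; ring
  · obtain ⟨k, hk⟩ := Submodule.mem_span_singleton.1 h
    obtain ⟨h1, h2⟩ := hind (k * a - c) (k * b - d) (by linear_combination (norm := module) hk)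
    linear_combination (-a) * h2 + b * h1
  · refine D.lineSet_smul hl hdet (hq _ _) (hp _ _ _ _) fun s => ⟨hl.perp _, ?_⟩
    have h3 : polar Q e ((a * (s * d) - b * (s * c)) • w) = 0 := hl.perp _
    refine (siegel_congr _ _ (hq a b) (hp a b (s * c) (s * d)) rfl (by rw [smul_add, smul_smul, smul_smul])).trans
      ((siegel_line a b (s * c) (s * d) hl.he hl.hw hl.hew (hq _ _) (hp _ _ _ _) h3).trans ?_)
    exact siegel_congr _ _ _ _ rfl (by congr 1; ring)

theorem IsLine.sub_mem_span {e w : ι → F} (h : IsLine Q e w) (a : F) (v : ι → F) :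
    siegel Q e (a • w) h.he (h.perp a) v - v ∈ Submodule.span F ({e, w} : Set (ι → F)) := by
  rw [Submodule.mem_span_pair]
  refine ⟨-(polar Q v (a • w) + Q (a • w) * polar Q v e), polar Q v e * a, ?_⟩
  rw [siegel_apply]
  module

theorem IsLine.of_mem {e w : ι → F} (h : IsLine Q e w) {z : ι → F}
    (hz : z ∈ Submodule.span F ({e, w} : Set (ι → F))) : Q z = 0 := by
  obtain ⟨a, b, rfl⟩ := Submodule.mem_span_pair.1 hz
  rw [map_add', map_smul', map_smul', h.he, h.hw, polar_smul_left', polar_smul_right', h.hew]; ring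

theorem IsLine.polar_mem {e w : ι → F} (h : IsLine Q e w) {y z : ι → F}
    (hy : y ∈ Submodule.span F ({e, w} : Set (ι → F)))
    (hz : z ∈ Submodule.span F ({e, w} : Set (ι → F))) : polar Q y z = 0 :=
  polar_eq_zero_of_singular (fun _ hu => h.of_mem hu) hy hz

/-- A line through a given point of it. -/
theorem RootHyp.rebase_at (D : RootHyp Q p) {x y z : ι → F} (hl : IsLine Q x y) (hz0 : z ≠ 0)
    (hz : z ∈ Submodule.span F ({x, y} : Set (ι → F))) :
    ∃ u, IsLine Q z u ∧ lineSet Q z u = lineSet Q x y := by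
  obtain ⟨a, b, rfl⟩ := Submodule.mem_span_pair.1 hz
  by_cases ha : a = 0
  · have hb : b ≠ 0 := fun hb => hz0 (by rw [ha, hb, zero_smul, zero_smul, add_zero])
    exact ⟨_, D.rebase hl (a := a) (b := b) (c := 1) (d := 0) (by simpa using hb)⟩
  · exact ⟨_, D.rebase hl (a := a) (b := b) (c := 0) (d := 1) (by simpa using ha)⟩

/-- A line through `e` is given by a singular vector of the complement. -/
theorem RootHyp.line_normal (D : RootHyp Q p) {x y e f : ι → F} (hl : IsLine Q x y)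
    (hef : polar Q e f = 1) (he : e ∈ Submodule.span F ({x, y} : Set (ι → F))) :
    ∃ u, u ∈ pairPerp Q e f ∧ u ≠ 0 ∧ Q u = 0 ∧ lineSet Q x y = lineSet Q e u := by
  obtain ⟨u, hu, hue⟩ := D.rebase_at hl (ne_zero_of_pair hef) he
  obtain ⟨h1, h2⟩ := D.rebase hu (a := 1) (b := 0) (c := -polar Q f u) (d := 1) (by norm_num)
  have e1 : (1 : F) • e + (0 : F) • u = e := by simp
  rw [e1] at h1 h2
  refine ⟨(-polar Q f u) • e + (1 : F) • u, mem_pairPerp.2 ⟨h1.hew, ?_⟩, fun h0 => ?_, h1.hw,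
    (h2.trans hue).symm⟩
  · rw [polar_add_right, polar_smul_right', polar_smul_right', polar_comm Q f e, hef]; ring
  · exact h1.notMem (by rw [h0]; exact Submodule.zero_mem _)

/-- A radical element in a root group. -/
theorem RootHyp.root_in_rad (D : RootHyp Q p) {x y e f u : ι → F} (hl : IsLine Q x y) (he : Q e = 0)
    (hf : Q f = 0) (hef : polar Q e f = 1) (hu : u ∈ pairPerp Q e f) (hu0 : u ≠ 0)
    (hmem : proot Q e u ∈ lineSet Q x y) : Q u = 0 ∧ lineSet Q x y = lineSet Q e u := by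
  obtain ⟨a, ha⟩ := hmem
  have hT := (D.proot_eq_iff hl.he (hl.perp a) he (mem_pairPerp.1 hu).1).1 ha
  have hmov : ∀ v, siegel Q e u he (mem_pairPerp.1 hu).1 v - v ∈ Submodule.span F ({x, y} : Set (ι → F)) :=
    fun v => hT ▸ hl.sub_mem_span a v
  obtain ⟨v, hv, hvu⟩ : ∃ v ∈ pairPerp Q e f, polar Q v u ≠ 0 := by
    by_contra hcon
    push Not at hcon
    exact hu0 (congrArg Subtype.val ((nondeg_pairPerp D.nondeg he hf hef).1 (⟨u, hu⟩ : pairPerp Q e f)
      fun w => by
        have := hcon _ w.2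
        rw [polar_comm] at this
        simpa [polar] using this))
  have he_mem : e ∈ Submodule.span F ({x, y} : Set (ι → F)) := by
    have h := hmov v
    rw [siegel_apply_ker he _ (mem_pairPerp.1 hv).1, sub_right_comm, sub_self, zero_sub] at h
    have h' := Submodule.smul_mem _ (polar Q v u)⁻¹ (Submodule.neg_mem _ h)
    rwa [neg_neg, inv_smul_smul₀ hvu] at h'
  have hu_mem : u ∈ Submodule.span F ({x, y} : Set (ι → F)) := by
    have h := hmov f
    rw [siegel_apply_partner he _ hef (mem_pairPerp.1 hu).2] at h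
    have h' := add_mem h (Submodule.smul_mem _ (Q u) he_mem)
    rwa [show f + u - Q u • e - f + Q u • e = u by abel] at h'
  refine ⟨hl.of_mem hu_mem, ?_⟩
  obtain ⟨a₁, b₁, h1⟩ := Submodule.mem_span_pair.1 he_mem
  obtain ⟨c₁, d₁, h2⟩ := Submodule.mem_span_pair.1 hu_mem
  have hdet : a₁ * d₁ - b₁ * c₁ ≠ 0 := fun hd => by
    have h3 : d₁ • e - b₁ • u = (0 : ι → F) := by
      rw [← h1, ← h2]
      linear_combination (norm := module) (congrArg (fun t : F => t • x) hd)
    have hd1 : d₁ = 0 := by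
      have := congrArg (polar Q f) h3
      simpa [polar_sub_right, polar_smul_right', polar_comm Q f e, hef, (mem_pairPerp.1 hu).2,
        QuadraticMap.polar_zero_right] using this
    have hb1 : b₁ = 0 := by
      rw [hd1, zero_smul, zero_sub, neg_eq_zero, smul_eq_zero] at h3
      exact h3.resolve_right hu0
    rw [hb1, zero_smul, add_zero] at h1
    rw [hd1, zero_smul, add_zero] at h2
    have := congrArg (polar Q f) h1
    rw [polar_smul_right', polar_comm Q f e, hef] at this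
    have hx : polar Q f x ≠ 0 := fun h0 => by rw [h0, mul_zero] at this; exact zero_ne_one this
    have h4 := congrArg (polar Q f) h2
    rw [polar_smul_right', (mem_pairPerp.1 hu).2] at h4
    exact hu0 (by rw [← h2, (mul_eq_zero.1 h4).resolve_right hx, zero_smul])
  obtain ⟨-, h3⟩ := D.rebase hl hdet
  rw [h1, h2] at h3
  exact h3.symm

/-- Two root groups sharing a nontrivial element coincide. -/
theorem RootHyp.lineSet_eq_of_common (D : RootHyp Q p) {x y x' y' : ι → F} (hl : IsLine Q x y)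
    (hl' : IsLine Q x' y') {g : Cfsg.POmega F ⇑Q} (hg : g ≠ 1) (h : g ∈ lineSet Q x y)
    (h' : g ∈ lineSet Q x' y') : lineSet Q x y = lineSet Q x' y' := by
  obtain ⟨f, hf, hxf⟩ := exists_pair D.nondeg hl.ne hl.he
  obtain ⟨u, hu, hu0, -, e1⟩ := D.line_normal hl hxf (Submodule.subset_span (by simp))
  rw [e1] at h
  obtain ⟨a, rfl⟩ := h
  have ha : a ≠ 0 := by rintro rfl; exact hg (by simp only [zero_smul]; exact D.proot_zero hl.he)
  have hau : a • u ∈ pairPerp Q x f := Submodule.smul_mem _ _ hu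
  have hau0 : a • u ≠ 0 := smul_ne_zero ha hu0
  have hmem : proot Q x (a • u) ∈ lineSet Q x y := e1 ▸ ⟨a, rfl⟩
  exact ((D.root_in_rad hl hl.he hf hxf hau hau0 hmem).2).trans
    (D.root_in_rad hl' hl.he hf hxf hau hau0 h').2.symm

theorem RootHyp.proot_ne_one (D : RootHyp Q p) {e f u : ι → F} (he : Q e = 0) (hef : polar Q e f = 1)
    (hu : u ∈ pairPerp Q e f) (hu0 : u ≠ 0) : proot Q e u ≠ 1 := fun h => by
  rw [← D.proot_zero he, D.proot_eq_iff he (mem_pairPerp.1 hu).1 he (QuadraticMap.polar_zero_right ..)] at h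
  exact hu0 (siegel_inj_pairPerp he hef hu (zero_mem _) h)

theorem isLine_pairPerp {e f u : ι → F} (he : Q e = 0) (hef : polar Q e f = 1)
    (hu : u ∈ pairPerp Q e f) (hu0 : u ≠ 0) (hQu : Q u = 0) : IsLine Q e u :=
  ⟨he, hQu, (mem_pairPerp.1 hu).1, ne_zero_of_pair hef, not_mem_span_of_pairPerp hef hu hu0⟩

theorem RootHyp.lineSet_eq_iff (D : RootHyp Q p) {e f u u' : ι → F} (he : Q e = 0)
    (hef : polar Q e f = 1) (hu : u ∈ pairPerp Q e f) (hu0 : u ≠ 0) (hQu : Q u = 0)
    (hu' : u' ∈ pairPerp Q e f) :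
    lineSet Q e u' = lineSet Q e u ↔ ∃ c : F, c ≠ 0 ∧ u' = c • u := by
  constructor
  · intro h
    obtain ⟨c, hc⟩ : proot Q e u' ∈ lineSet Q e u := h ▸ ⟨1, by simp⟩
    have := siegel_inj_pairPerp he hef (Submodule.smul_mem _ c hu) hu'
      ((D.proot_eq_iff he _ he _).1 hc)
    refine ⟨c, fun h0 => ?_, this.symm⟩
    have hu'0 : u' = 0 := by rw [← this, h0, zero_smul]
    obtain ⟨d, hd⟩ : proot Q e u ∈ lineSet Q e u' := h ▸ ⟨1, by simp⟩
    simp only [hu'0, smul_zero] at hd
    exact D.proot_ne_one he hef hu hu0 (hd.symm.trans (D.proot_zero he))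
  · rintro ⟨c, hc, rfl⟩
    ext g
    constructor
    · rintro ⟨a, rfl⟩; exact ⟨a * c, by simp only [mul_smul]⟩
    · rintro ⟨a, rfl⟩; exact ⟨a / c, by simp only [smul_smul, div_mul_cancel₀ a hc]⟩

theorem RootHyp.com_rad (D : RootHyp Q p) {e u u' : ι → F} (he : Q e = 0) (hu : polar Q e u = 0)
    (hu' : polar Q e u' = 0) : Commute (proot Q e u) (proot Q e u') := by
  show _ * _ = _ * _
  rw [D.proot_add he hu hu', D.proot_add he hu' hu, add_comm]

theorem RootHyp.setCom_rad (D : RootHyp Q p) {e f u u' : ι → F} (he : Q e = 0)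
    (hu : u ∈ pairPerp Q e f) (hu' : u' ∈ pairPerp Q e f) : SetCom (lineSet Q e u) (lineSet Q e u') := by
  rintro _ ⟨a, rfl⟩ _ ⟨b, rfl⟩
  exact D.com_rad he (mem_pairPerp.1 (Submodule.smul_mem _ a hu)).1
    (mem_pairPerp.1 (Submodule.smul_mem _ b hu')).1

/-- Root groups at lines through a point: pencils are the orthogonal pairs. -/
theorem RootHyp.cop_iff (D : RootHyp Q p) {e f u u' : ι → F} (he : Q e = 0) (hf : Q f = 0)
    (hef : polar Q e f = 1) (hu : u ∈ pairPerp Q e f) (hu0 : u ≠ 0) (hQu : Q u = 0)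
    (hu' : u' ∈ pairPerp Q e f) (hu'0 : u' ≠ 0) (hQu' : Q u' = 0)
    (hne : lineSet Q e u ≠ lineSet Q e u') :
    SetCop (rootSets Q) (lineSet Q e u) (lineSet Q e u') ↔ polar Q u u' = 0 := by
  have hind : ∀ a b : F, a • u + b • u' = 0 → a = 0 ∧ b = 0 := fun a b h => by
    have hb : b = 0 := by
      by_contra hb
      have h' : u' = (-(b⁻¹ * a)) • u := by
        rw [neg_smul, mul_smul, eq_neg_of_add_eq_zero_left h, smul_neg, neg_neg, inv_smul_smul₀ hb]
      refine hne ((D.lineSet_eq_iff he hef hu hu0 hQu hu').2 ⟨_, fun h0 => ?_, h'⟩).symm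
      rw [h0, zero_smul] at h'
      exact hu'0 h'
    rw [hb, zero_smul, add_zero, smul_eq_zero] at h
    exact ⟨h.resolve_right hu0, hb⟩
  constructor
  · rintro ⟨-, -, C, ⟨x, y, hl, rfl⟩, hCA, hCB, hC⟩
    obtain ⟨s, hs, hs1⟩ : ∃ s ∈ lineSet Q x y, s ≠ 1 := by
      obtain ⟨f₀, hf₀, hxf⟩ := exists_pair D.nondeg hl.ne hl.he
      obtain ⟨z, hz, hz0, -, e1⟩ := D.line_normal hl hxf (Submodule.subset_span (by simp))
      exact ⟨proot Q x z, e1 ▸ ⟨1, by simp⟩, D.proot_ne_one hl.he hxf hz hz0⟩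
    obtain ⟨_, ⟨a, rfl⟩, _, ⟨b, rfl⟩, hab⟩ := hC s hs
    have hau := Submodule.smul_mem _ a hu
    have hbu := Submodule.smul_mem _ b hu'
    rw [D.proot_add he (mem_pairPerp.1 hau).1 (mem_pairPerp.1 hbu).1] at hab
    have hsum0 : a • u + b • u' ≠ 0 := fun h => hs1 (by rw [hab, h, D.proot_zero he])
    obtain ⟨h1, h2⟩ := D.root_in_rad hl he hf hef (add_mem hau hbu) hsum0 (hab ▸ hs)
    have ha : a ≠ 0 := by
      rintro rfl
      refine hCB (h2.trans ?_)
      rw [zero_smul, zero_add] at hsum0 ⊢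
      exact (D.lineSet_eq_iff he hef hu' hu'0 hQu' hbu).2 ⟨b, fun h => hsum0 (by rw [h, zero_smul]), rfl⟩
    have hb : b ≠ 0 := by
      rintro rfl
      refine hCA (h2.trans ?_)
      rw [zero_smul, add_zero]
      exact (D.lineSet_eq_iff he hef hu hu0 hQu hau).2 ⟨a, ha, rfl⟩
    rw [map_add', map_smul', map_smul', hQu, hQu', polar_smul_left', polar_smul_right'] at h1
    exact (mul_eq_zero.1 (show (a * b) * polar Q u u' = 0 by linear_combination h1)).resolve_left
      (mul_ne_zero ha hb)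
  · intro hp
    have hmem := add_mem hu hu'
    have hs0 : u + u' ≠ 0 := fun h => one_ne_zero (hind 1 1 (by rw [one_smul, one_smul, h])).1
    have hQs : Q (u + u') = 0 := by rw [map_add', hQu, hQu', hp]; ring
    refine ⟨hne, D.setCom_rad he hu hu', _, ⟨e, u + u', isLine_pairPerp he hef hmem hs0 hQs, rfl⟩,
      fun h => ?_, fun h => ?_, ?_⟩
    · obtain ⟨c, -, hc⟩ := (D.lineSet_eq_iff he hef hu hu0 hQu hmem).1 h
      exact one_ne_zero (hind (1 - c) 1 (by linear_combination (norm := module) hc)).2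
    · obtain ⟨c, -, hc⟩ := (D.lineSet_eq_iff he hef hu' hu'0 hQu' hmem).1 h
      exact one_ne_zero (hind 1 (1 - c) (by linear_combination (norm := module) hc)).1
    · rintro _ ⟨a, rfl⟩
      refine ⟨_, ⟨a, rfl⟩, _, ⟨a, rfl⟩, ?_⟩
      rw [D.proot_add he (mem_pairPerp.1 (Submodule.smul_mem _ a hu)).1
        (mem_pairPerp.1 (Submodule.smul_mem _ a hu')).1, ← smul_add]

/-- Disjoint lines with commuting root groups span a totally singular space. -/
theorem RootHyp.disjoint_com (D : RootHyp Q p) {e w x y : ι → F} (hl : IsLine Q e w) (hl' : IsLine Q x y)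
    (hdis : Submodule.span F ({e, w} : Set (ι → F)) ⊓ Submodule.span F ({x, y} : Set (ι → F)) = ⊥)
    (h : SetCom (lineSet Q e w) (lineSet Q x y)) :
    polar Q e x = 0 ∧ polar Q e y = 0 ∧ polar Q w x = 0 ∧ polar Q w y = 0 := by
  set S := siegel Q x ((1 : F) • y) hl'.he (hl'.perp 1) with hS
  set T := siegel Q e ((1 : F) • w) hl.he (hl.perp 1) with hT
  have hc : Commute T S := (D.proot_commute_iff hl.he (hl.perp 1) hl'.he (hl'.perp 1)).1
    (h _ ⟨1, rfl⟩ _ ⟨1, rfl⟩)
  have hSo : S ∈ orth Q := siegel_mem_orth Q _ _ _ _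
  obtain ⟨f, hf, hef⟩ := exists_pair D.nondeg hl.ne hl.he
  have hfix : ∀ z ∈ Submodule.span F ({e, w} : Set (ι → F)), S z = z := by
    have hTv : ∀ v, T v - v ∈ Submodule.span F ({e, w} : Set (ι → F)) := hl.sub_mem_span 1
    have hSz : ∀ v, S (T v - v) - (T v - v) = 0 := fun v => by
      have h1 : S (T v - v) ∈ Submodule.span F ({e, w} : Set (ι → F)) := by
        rw [map_sub, show S (T v) = T (S v) from LinearEquiv.congr_fun hc.eq.symm v]
        exact hTv _
      have h2 := Submodule.mem_inf.2 ⟨sub_mem h1 (hTv v), hl'.sub_mem_span 1 (T v - v)⟩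
      rw [hdis, Submodule.mem_bot] at h2
      exact h2
    obtain ⟨v₁, hv₁w, hv₁e⟩ := exists_polar D.nondeg (Submodule.span F {w})
      (x := e) (fun hm => by
        obtain ⟨c, hc'⟩ := Submodule.mem_span_singleton.1 hm
        rcases eq_or_ne c 0 with rfl | hc0
        · exact hl.ne (by rw [← hc', zero_smul])
        · exact hl.notMem (Submodule.mem_span_singleton.2 ⟨c⁻¹, by rw [← hc', inv_smul_smul₀ hc0]⟩)) 1
    obtain ⟨v₂, hv₂e, hv₂w⟩ := exists_polar D.nondeg (Submodule.span F {e}) (x := w) hl.notMem (-1)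
    have e1 : T v₁ - v₁ = w := by
      rw [hT, siegel_apply, hv₁e, one_smul, one_smul, hv₁w w (Submodule.mem_span_singleton_self w), hl.hw]
      module
    have e2 : T v₂ - v₂ = e := by
      rw [hT, siegel_apply, hv₂e e (Submodule.mem_span_singleton_self e), one_smul, hv₂w]
      module
    intro z hz
    obtain ⟨a, b, rfl⟩ := Submodule.mem_span_pair.1 hz
    have k1 := sub_eq_zero.1 (e1 ▸ hSz v₁)
    have k2 := sub_eq_zero.1 (e2 ▸ hSz v₂)
    rw [map_add, map_smul, map_smul, k1, k2]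
  have key : ∀ z, S z = z → polar Q z x = 0 ∧ polar Q z y = 0 := fun z hz => by
    rw [hS, siegel_apply, one_smul, hl'.hw, zero_mul, zero_smul, sub_zero] at hz
    have h1 : polar Q z x • y - polar Q z y • x = 0 := by linear_combination (norm := module) hz
    have hzx : polar Q z x = 0 := by
      by_contra hne
      exact hl'.notMem (Submodule.mem_span_singleton.2 ⟨(polar Q z x)⁻¹ * polar Q z y, by
        rw [mul_smul, ← sub_eq_zero.1 h1, inv_smul_smul₀ hne]⟩)
    rw [hzx, zero_smul, zero_sub, neg_eq_zero, smul_eq_zero] at h1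
    exact ⟨hzx, h1.resolve_right hl'.ne⟩
  obtain ⟨a1, a2⟩ := key e (hfix e (Submodule.subset_span (by simp)))
  obtain ⟨b1, b2⟩ := key w (hfix w (Submodule.subset_span (by simp)))
  exact ⟨a1, a2, b1, b2⟩

/-- Disjoint lines do not span a pencil. -/
theorem RootHyp.disjoint_not_cop (D : RootHyp Q p) {e w x y : ι → F} (hl : IsLine Q e w)
    (hl' : IsLine Q x y)
    (hdis : Submodule.span F ({e, w} : Set (ι → F)) ⊓ Submodule.span F ({x, y} : Set (ι → F)) = ⊥) :
    ¬ SetCop (rootSets Q) (lineSet Q e w) (lineSet Q x y) := by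
  rintro ⟨-, hcom, C, ⟨z₁, z₂, hl'', rfl⟩, hCA, hCB, hC⟩
  obtain ⟨p1, p2, p3, p4⟩ := D.disjoint_com hl hl' hdis hcom
  obtain ⟨s, hs, hs1⟩ : ∃ s ∈ lineSet Q z₁ z₂, s ≠ 1 := by
    obtain ⟨f₀, hf₀, hxf⟩ := exists_pair D.nondeg hl''.ne hl''.he
    obtain ⟨z, hz, hz0, -, e1⟩ := D.line_normal hl'' hxf (Submodule.subset_span (by simp))
    exact ⟨proot Q z₁ z, e1 ▸ ⟨1, by simp⟩, D.proot_ne_one hl''.he hxf hz hz0⟩
  obtain ⟨_, ⟨a, rfl⟩, _, ⟨b, rfl⟩, hab⟩ := hC s hs
  simp only at hab
  have ha : a ≠ 0 := fun h0 => hCB (D.lineSet_eq_of_common hl'' hl' hs1 hs ⟨b, by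
    simp only; rw [hab, h0, zero_smul, D.proot_zero hl.he, one_mul]⟩)
  have hb : b ≠ 0 := fun h0 => hCA (D.lineSet_eq_of_common hl'' hl hs1 hs ⟨a, by
    simp only; rw [hab, h0, zero_smul, D.proot_zero hl'.he, mul_one]⟩)
  obtain ⟨c, hc⟩ := hs
  simp only at hc
  set T := siegel Q e (a • w) hl.he (hl.perp a) with hT
  set S := siegel Q x (b • y) hl'.he (hl'.perp b) with hS
  have hTS : siegel Q z₁ (c • z₂) hl''.he (hl''.perp c) = T * S := by
    have h1 : omPr Q (rootEl Q z₁ (c • z₂)) = omPr Q (rootEl Q e (a • w) * rootEl Q x (b • y)) := by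
      rw [map_mul]; exact hc.trans hab
    have hcomm : Commute (rootEl Q e (a • w)) (rootEl Q x (b • y)) :=
      D.commute_of_pr (D.root_pow_p hl'.he (hl'.perp b)) (hcom _ ⟨a, rfl⟩ _ ⟨b, rfl⟩)
    have h2 := D.pr_inj (D.root_pow_p hl''.he (hl''.perp c))
      (l := 1) (by rw [hcomm.mul_pow, D.root_pow_p hl.he (hl.perp a), D.root_pow_p hl'.he (hl'.perp b), one_mul]) h1
    rw [hT, hS, ← D.act_root hl''.he (hl''.perp c), h2, map_mul, D.act_root hl.he (hl.perp a),
      D.act_root hl'.he (hl'.perp b)]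
  set Z := Submodule.span F ({z₁, z₂} : Set (ι → F)) with hZ
  have hmov : ∀ v, T (S v) - v ∈ Z := fun v => by
    have := hl''.sub_mem_span c v
    rwa [hTS] at this
  have hnotin : ∀ {u₁ u₂ v₁ v₂ : ι → F}, IsLine Q u₁ u₂ →
      Submodule.span F ({u₁, u₂} : Set (ι → F)) ⊓ Submodule.span F ({v₁, v₂} : Set (ι → F)) = ⊥ →
      u₁ ∉ Submodule.span F ({v₁, v₂, u₂} : Set (ι → F)) := by
    intro u₁ u₂ v₁ v₂ hu hd hm
    obtain ⟨r, s, t, hrst⟩ := Submodule.mem_span_triple.1 hm
    have h0 : u₁ - t • u₂ ∈ Submodule.span F ({u₁, u₂} : Set (ι → F)) ⊓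
        Submodule.span F ({v₁, v₂} : Set (ι → F)) :=
      ⟨sub_mem (Submodule.subset_span (by simp)) (Submodule.smul_mem _ _ (Submodule.subset_span (by simp))),
        Submodule.mem_span_pair.2 ⟨r, s, by rw [← hrst]; abel⟩⟩
    rw [hd, Submodule.mem_bot, sub_eq_zero] at h0
    rcases eq_or_ne t 0 with rfl | ht
    · exact hu.ne (by rw [h0, zero_smul])
    · exact hu.notMem (Submodule.mem_span_singleton.2 ⟨t⁻¹, by rw [h0, inv_smul_smul₀ ht]⟩)
  have hwZ : w ∈ Z := by
    obtain ⟨v, hv, hve⟩ := exists_polar D.nondeg _ (hnotin hl hdis) 1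
    have h0 : S v = v := siegel_eq_self Q _ _ _ _ (hv x (Submodule.subset_span (by simp)))
      (by rw [polar_smul_right', hv y (Submodule.subset_span (by simp)), mul_zero])
    have := hmov v
    rw [h0, hT, siegel_apply, hve, polar_smul_right', hv w (Submodule.subset_span (by simp)),
      map_smul', hl.hw] at this
    have h' := Submodule.smul_mem Z a⁻¹ this
    convert h' using 1
    match_scalars <;> field_simp <;> ring
  have heZ : e ∈ Z := by
    have hl₂ : IsLine Q w e := ⟨hl.hw, hl.he, by rw [polar_comm, hl.hew], fun h0 =>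
      hl.notMem (by rw [h0]; exact Submodule.zero_mem _), fun hm => by
        obtain ⟨k, hk⟩ := Submodule.mem_span_singleton.1 hm
        rcases eq_or_ne k 0 with rfl | hk0
        · exact hl.ne (by rw [← hk, zero_smul])
        · exact hl.notMem (Submodule.mem_span_singleton.2 ⟨k⁻¹, by rw [← hk, inv_smul_smul₀ hk0]⟩)⟩
    obtain ⟨v, hv, hvw⟩ := exists_polar D.nondeg _ (hnotin hl₂ (v₁ := x) (v₂ := y) (by rwa [Set.pair_comm w e])) (-1)
    have h0 : S v = v := siegel_eq_self Q _ _ _ _ (hv x (Submodule.subset_span (by simp)))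
      (by rw [polar_smul_right', hv y (Submodule.subset_span (by simp)), mul_zero])
    have := hmov v
    rw [h0, hT, siegel_apply, hv e (Submodule.subset_span (by simp)), polar_smul_right', hvw] at this
    have h' := Submodule.smul_mem Z a⁻¹ this
    convert h' using 1
    match_scalars <;> field_simp <;> ring
  have hxy : y ∈ Z := by
    obtain ⟨v, hv, hvx⟩ := exists_polar D.nondeg _ (hnotin hl' (by rwa [inf_comm])) 1
    have h0 : S v - v = b • y := by
      rw [hS, siegel_apply, hvx, polar_smul_right', hv y (Submodule.subset_span (by simp)),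
        map_smul', hl'.hw]
      module
    have h1 : T (S v) = S v := siegel_eq_self Q _ _ _ _
      (by rw [show S v = v + b • y by rw [← h0]; abel, polar_add_left, polar_smul_left',
        polar_comm Q y e, p2, hv e (Submodule.subset_span (by simp))]; ring)
      (by rw [show S v = v + b • y by rw [← h0]; abel, polar_add_left, polar_smul_left', polar_smul_right',
        polar_smul_right', polar_comm Q y w, p4, hv w (Submodule.subset_span (by simp))]; ring)
    have := hmov v
    rw [h1, h0] at this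
    have h' := Submodule.smul_mem Z b⁻¹ this
    rwa [inv_smul_smul₀ hb] at h'
  have hEW : Submodule.span F ({e, w} : Set (ι → F)) = Z := by
    refine Submodule.eq_of_le_of_finrank_le (Submodule.span_le.2 (Set.insert_subset heZ
      (Set.singleton_subset_iff.2 hwZ))) ?_
    have h2 : Module.finrank F (Submodule.span F ({e, w} : Set (ι → F))) = 2 := by
      have hli : LinearIndependent F ![e, w] := (LinearIndependent.pair_iff' hl.ne).2 fun k hk =>
        hl.notMem (Submodule.mem_span_singleton.2 ⟨k, hk⟩)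
      have := finrank_span_eq_card hli
      rwa [Matrix.range_cons, Matrix.range_cons, Matrix.range_empty, Set.union_empty,
        Set.singleton_union, Fintype.card_fin] at this
    rw [h2]
    exact finrank_pair_le _ _
  have hy0 : y ∈ Submodule.span F ({e, w} : Set (ι → F)) ⊓ Submodule.span F ({x, y} : Set (ι → F)) :=
    ⟨hEW ▸ hxy, Submodule.subset_span (by simp)⟩
  rw [hdis, Submodule.mem_bot] at hy0
  exact hl'.notMem (by rw [hy0]; exact Submodule.zero_mem _)

/-- Root groups at disjoint lines do not meet. -/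
theorem RootHyp.disjoint_not_isect (D : RootHyp Q p) (h4 : D4Free Q) {e w x y : ι → F}
    (hl : IsLine Q e w) (hl' : IsLine Q x y)
    (hdis : Submodule.span F ({e, w} : Set (ι → F)) ⊓ Submodule.span F ({x, y} : Set (ι → F)) = ⊥) :
    ¬ SetIsect (rootSets Q) (Fintype.card ι) (Nat.card F ^ 4) (lineSet Q e w) (lineSet Q x y) := by
  rintro (h | ⟨-, hcom, -, hcard⟩)
  · exact D.disjoint_not_cop hl hl' hdis h
  obtain ⟨p1, p2, p3, p4⟩ := D.disjoint_com hl hl' hdis hcom
  set X := Submodule.span F ({e, w} : Set (ι → F))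
  set Y := Submodule.span F ({x, y} : Set (ι → F))
  have hXY : ∀ u ∈ X, ∀ v ∈ Y, polar Q u v = 0 := by
    intro u hu v hv
    obtain ⟨a, b, rfl⟩ := Submodule.mem_span_pair.1 hu
    obtain ⟨c, d, rfl⟩ := Submodule.mem_span_pair.1 hv
    simp only [polar_add_left, polar_add_right, polar_smul_left', polar_smul_right', p1, p2, p3, p4]
    ring
  have hn9 : 9 ≤ Fintype.card ι := by
    by_contra hn
    have hsing : ∀ z ∈ X ⊔ Y, Q z = 0 := by
      intro z hz
      obtain ⟨u, hu, v, hv, rfl⟩ := Submodule.mem_sup.1 hz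
      rw [map_add', hl.of_mem hu, hl'.of_mem hv, hXY u hu v hv]; ring
    have h2 : ∀ {u v : ι → F}, IsLine Q u v → Module.finrank F (Submodule.span F ({u, v} : Set (ι → F))) = 2 := by
      intro u v h
      have hli : LinearIndependent F ![u, v] := (LinearIndependent.pair_iff' h.ne).2 fun k hk =>
        h.notMem (Submodule.mem_span_singleton.2 ⟨k, hk⟩)
      have := finrank_span_eq_card hli
      rwa [Matrix.range_cons, Matrix.range_cons, Matrix.range_empty, Set.union_empty,
        Set.singleton_union, Fintype.card_fin] at this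
    have hd := Submodule.finrank_sup_add_finrank_inf_eq X Y
    rw [hdis, finrank_bot, h2 hl, h2 hl'] at hd
    have := D.seven_le
    rcases eq_or_ne (Fintype.card ι) 8 with h8 | h8
    · have := h4 h8 _ hsing; omega
    · have h7 := Submodule.finrank_mono (show X ⊔ Y ≤ polarPerp Q (X ⊔ Y) from fun z hz =>
        mem_polarPerp.2 fun u hu => polar_eq_zero_of_singular hsing hu hz)
      have := finrank_polarPerp D.nondeg (X ⊔ Y)
      rw [RootHyp.finrank_eq] at this
      omega
  refine (hcard hn9).not_ge ?_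
  have hyY : y ∈ Y := Submodule.subset_span (by simp)
  have hwX : w ∈ X := Submodule.subset_span (by simp)
  have heX : e ∈ X := Submodule.subset_span (by simp)
  have hmid : ∀ z z' : Y, Commute (proot Q w (z : ι → F)) (proot Q e (z' : ι → F)) := fun z z' => by
    rw [D.proot_commute_iff hl.hw (hXY _ hwX _ z.2) hl.he (hXY _ heX _ z'.2)]
    show _ * _ = _ * _
    refine mul_inv_eq_iff_eq_mul.1 ?_
    rw [siegel_conj (siegel_mem_orth Q _ _ _ _)]
    exact siegel_congr _ _ _ _
      (siegel_eq_self Q _ _ _ _ hl.hew (hXY _ heX _ z.2))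
      (siegel_eq_self Q _ _ _ _ (by rw [polar_comm]; exact hXY _ hwX _ z'.2) (hl'.polar_mem z'.2 z.2))
  let φ : Multiplicative (Y × Y) →* Cfsg.POmega F ⇑Q :=
    { toFun := fun z => proot Q e (z.toAdd.1 : ι → F) * proot Q w (z.toAdd.2 : ι → F)
      map_one' := by simp [D.proot_zero hl.he, D.proot_zero hl.hw]
      map_mul' := fun z z' => by
        simp only [toAdd_mul, Prod.fst_add, Prod.snd_add, Submodule.coe_add]
        rw [← D.proot_add hl.he (hXY _ heX _ z.toAdd.1.2) (hXY _ heX _ z'.toAdd.1.2),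
          ← D.proot_add hl.hw (hXY _ hwX _ z.toAdd.2.2) (hXY _ hwX _ z'.toAdd.2.2)]
        exact (hmid _ _).symm.mul_mul_mul_comm _ _ }
  have hle : commonSub (rootSets Q) (lineSet Q e w) (lineSet Q x y) ≤ φ.range := by
    rw [commonSub, Subgroup.closure_le]
    rintro g ⟨C, ⟨⟨z₁, z₂, hz, rfl⟩, hc1, hc2⟩, hg⟩
    obtain ⟨u, hu0, huC, huX⟩ : ∃ u, u ≠ 0 ∧ u ∈ Submodule.span F ({z₁, z₂} : Set (ι → F)) ∧ u ∈ X := by
      by_contra hcon
      push Not at hcon
      exact D.disjoint_not_cop hz hl (eq_bot_iff.2 fun u hu => by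
        by_contra h0; exact hcon u h0 hu.1 hu.2) hc1
    obtain ⟨v, hv0, hvC, hvY⟩ : ∃ v, v ≠ 0 ∧ v ∈ Submodule.span F ({z₁, z₂} : Set (ι → F)) ∧ v ∈ Y := by
      by_contra hcon
      push Not at hcon
      exact D.disjoint_not_cop hz hl' (eq_bot_iff.2 fun u hu => by
        by_contra h0; exact hcon u h0 hu.1 hu.2) hc2
    obtain ⟨v', hv', hv'e⟩ := D.rebase_at hz hu0 huC
    have hvspan : ∀ c : F, v ≠ c • u := fun c hc => hv0 (by
      have h : v ∈ X ⊓ Y := ⟨hc ▸ Submodule.smul_mem _ _ huX, hvY⟩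
      rwa [hdis, Submodule.mem_bot] at h)
    obtain ⟨f, hf, huf⟩ := exists_pair D.nondeg hu0 (hz.of_mem huC)
    have hv1 : v - polar Q f v • u ∈ pairPerp Q u f :=
      decomp_perp (hl.of_mem huX) huf (hXY u huX v hvY)
    have hline : lineSet Q z₁ z₂ = lineSet Q u v := by
      obtain ⟨a₁, b₁, h1⟩ := Submodule.mem_span_pair.1 huC
      obtain ⟨c₁, d₁, h2⟩ := Submodule.mem_span_pair.1 hvC
      have hdet : a₁ * d₁ - b₁ * c₁ ≠ 0 := fun hd => by
        have hne : a₁ ≠ 0 ∨ b₁ ≠ 0 := by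
          by_contra h0; push Not at h0
          exact hu0 (by rw [← h1, h0.1, h0.2]; simp)
        rcases hne with ha | hb'
        · refine hvspan (c₁ / a₁) ?_
          rw [← h1, ← h2]
          match_scalars
          · field_simp
          · field_simp; linear_combination hd
        · refine hvspan (d₁ / b₁) ?_
          rw [← h1, ← h2]
          match_scalars
          · field_simp; linear_combination -hd
          · field_simp
      obtain ⟨-, h3⟩ := D.rebase hz hdet
      rw [h1, h2] at h3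
      exact h3.symm
    rw [hline] at hg
    obtain ⟨c, rfl⟩ := hg
    obtain ⟨a, b', hu⟩ := Submodule.mem_span_pair.1 huX
    refine ⟨Multiplicative.ofAdd (⟨(a * c) • v, Submodule.smul_mem _ _ hvY⟩,
      ⟨(b' * c) • v, Submodule.smul_mem _ _ hvY⟩), ?_⟩
    have huv : polar Q u v = 0 := hXY u huX v hvY
    have hev : polar Q e v = 0 := hXY _ heX v hvY
    have hwv : polar Q w v = 0 := hXY _ hwX v hvY
    have hQv : Q v = 0 := hl'.of_mem hvY
    show proot Q e ((a * c) • v) * proot Q w ((b' * c) • v) = proot Q u (c • v)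
    have k1 : polar Q e ((a * c) • v) = 0 := by rw [polar_smul_right', hev, mul_zero]
    have k2 : polar Q w ((b' * c) • v) = 0 := by rw [polar_smul_right', hwv, mul_zero]
    have k3 : polar Q u (c • v) = 0 := by rw [polar_smul_right', huv, mul_zero]
    refine congrArg (omPr Q) (omAct_injective ?_)
    rw [map_mul, D.act_root hl.he k1, D.act_root hl.hw k2, D.act_root (hl.of_mem huX) k3]
    have q1 : Q (a • e) = 0 := by rw [map_smul', hl.he, mul_zero]
    have q2 : Q (b' • w) = 0 := by rw [map_smul', hl.hw, mul_zero]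
    have q3 : Q (c • v) = 0 := by rw [map_smul', hQv, mul_zero]
    have r1 : polar Q (a • e) (c • v) = 0 := by rw [polar_smul_left', polar_smul_right', hev]; ring
    have r2 : polar Q (b' • w) (c • v) = 0 := by rw [polar_smul_left', polar_smul_right', hwv]; ring
    have r3 : polar Q (a • e) (b' • w) = 0 := by rw [polar_smul_left', polar_smul_right', hl.hew]; ring
    rw [siegel_congr (hl.of_mem huX) k3
        (e' := a • e + b' • w) (by rw [hu]; exact hl.of_mem huX) (by rw [hu]; exact k3) hu.symm rfl,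
      ← siegel_mul_left q1 q2 q3 r1 r2 r3]
    rw [siegel_smul_left e (c • v) a hl.he q1 r1 (by rw [smul_smul]; exact k1),
      siegel_smul_left w (c • v) b' hl.hw q2 r2 (by rw [smul_smul]; exact k2)]
    congr 1 <;> exact siegel_congr _ _ _ _ rfl (smul_smul _ _ _).symm
  have hY2 : Module.finrank F Y ≤ 2 := finrank_pair_le _ _
  haveI := Fintype.ofFinite F
  haveI : Finite (Multiplicative (Y × Y)) := inferInstanceAs (Finite (Y × Y))
  calc Nat.card (commonSub (rootSets Q) (lineSet Q e w) (lineSet Q x y))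
      ≤ Nat.card φ.range := Nat.card_mono (Set.toFinite _) hle
    _ ≤ Nat.card (Multiplicative (Y × Y)) :=
        Nat.card_le_card_of_surjective φ.rangeRestrict φ.rangeRestrict_surjective
    _ ≤ Nat.card F ^ 4 := by
        rw [Nat.card_congr Multiplicative.toAdd, Nat.card_prod, Module.natCard_eq_pow_finrank (K := F), ← pow_add]
        exact Nat.pow_le_pow_right Nat.card_pos (by omega)

/-- Root groups through a point with non-orthogonal vectors meet. -/
theorem RootHyp.meet_rad (D : RootHyp Q p) {e f u u' : ι → F} (he : Q e = 0) (hf : Q f = 0)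
    (hef : polar Q e f = 1) (hu : u ∈ pairPerp Q e f) (hQu : Q u = 0) (hu' : u' ∈ pairPerp Q e f)
    (hQu' : Q u' = 0) (hp : polar Q u u' ≠ 0) :
    SetMeet (rootSets Q) (Fintype.card ι) (Nat.card F ^ 4) (lineSet Q e u) (lineSet Q e u') := by
  have hu0 : u ≠ 0 := fun h => hp (by rw [h, QuadraticMap.polar_zero_left])
  have hu'0 : u' ≠ 0 := fun h => hp (by rw [h, QuadraticMap.polar_zero_right])
  have hne : lineSet Q e u ≠ lineSet Q e u' := fun h => by
    obtain ⟨c, -, hc⟩ := (D.lineSet_eq_iff he hef hu hu0 hQu hu').1 h.symm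
    exact hp (by rw [hc, polar_smul_right', polar_self', hQu]; ring)
  refine ⟨hne, D.setCom_rad he hu hu', fun h => hp ((D.cop_iff he hf hef hu hu0 hQu hu' hu'0 hQu' hne).1 h),
    fun h9 => ?_⟩
  set f' := (polar Q u u')⁻¹ • u' with hf'
  have H : Frame Q e f u f' := ⟨he, hf, hef, hQu, by rw [hf', map_smul', hQu', mul_zero],
    by rw [hf', polar_smul_right', inv_mul_cancel₀ hp], hu, Submodule.smul_mem _ _ hu'⟩
  have hn7 : 7 ≤ Module.finrank F (ι → F) := by rw [RootHyp.finrank_eq]; exact D.seven_le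
  set W4 := pairPerp Q e f ⊓ pairPerp Q u f' with hW4
  set K := commonSub (rootSets Q) (lineSet Q e u) (lineSet Q e u') with hK
  have hmemK : ∀ z ∈ W4, Q z = 0 → proot Q e z ∈ K := by
    intro z hz hQz
    rcases eq_or_ne z 0 with rfl | hz0
    · rw [D.proot_zero he]; exact one_mem _
    obtain ⟨h1, h2⟩ := mem_pairPerp.1 hz.2
    have h3 : polar Q u' z = 0 := by
      rw [hf', polar_smul_left'] at h2
      exact (mul_eq_zero.1 h2).resolve_left (inv_ne_zero hp)
    refine Subgroup.subset_closure ⟨lineSet Q e z, ⟨⟨e, z, isLine_pairPerp he hef hz.1 hz0 hQz, rfl⟩, ?_, ?_⟩,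
      ⟨1, by simp⟩⟩
    · refine (D.cop_iff he hf hef hz.1 hz0 hQz hu hu0 hQu fun h => ?_).2 (by rw [polar_comm]; exact h1)
      obtain ⟨c, hc0, hc⟩ := (D.lineSet_eq_iff he hef hu hu0 hQu hz.1).1 h
      rw [hc, polar_smul_right', polar_comm, mul_eq_zero] at h3
      exact hp (h3.resolve_left hc0)
    · refine (D.cop_iff he hf hef hz.1 hz0 hQz hu' hu'0 hQu' fun h => ?_).2 (by rw [polar_comm]; exact h3)
      obtain ⟨c, hc0, hc⟩ := (D.lineSet_eq_iff he hef hu' hu'0 hQu' hz.1).1 h
      rw [hc, polar_smul_right', mul_eq_zero] at h1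
      exact hp (h1.resolve_left hc0)
  have hall : ∀ z ∈ W4, proot Q e z ∈ K := by
    intro z hz
    let QW := Q.comp (pairPerp Q e f).subtype
    have hQW : (polarBilin QW).Nondegenerate := nondeg_pairPerp D.nondeg he hf hef
    have hp' : ∀ a b : pairPerp Q e f, polar QW a b = polar Q (a : ι → F) (b : ι → F) :=
      fun a b => by simp [QW, polar]
    let a : pairPerp Q e f := ⟨u, hu⟩
    let b : pairPerp Q e f := ⟨f', Submodule.smul_mem _ _ hu'⟩
    have hsub : ∀ w : pairPerp Q e f, w ∈ pairPerp QW a b ↔ (w : ι → F) ∈ W4 := fun w => by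
      rw [mem_pairPerp, hp', hp']
      exact ⟨fun h => ⟨w.2, mem_pairPerp.2 h⟩, fun h => mem_pairPerp.1 h.2⟩
    obtain ⟨x₀, hx₀0, hx₀, hx₀W⟩ := H.exists_singular D.nondeg hn7
    refine pairPerp_induction hQW (e := a) (f := b) H.he' H.hf' (by rw [hp']; exact H.hef')
      (x := ⟨x₀, hx₀W.1⟩) (fun h => hx₀0 (congrArg Subtype.val h)) hx₀ ((hsub _).2 hx₀W)
      (fun w => proot Q e (w : ι → F) ∈ K)
      (fun w w' _ _ h h' => ?_) (fun w hw hw0 _ => hmemK _ ((hsub w).1 hw) hw0) ?_ ⟨z, hz.1⟩ ((hsub _).2 hz)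
    · rw [Submodule.coe_add, ← D.proot_add he (mem_pairPerp.1 w.2).1 (mem_pairPerp.1 w'.2).1]
      exact mul_mem h h'
    · rw [Submodule.coe_zero, D.proot_zero he]; exact one_mem _
  have hd : Fintype.card ι - 4 ≤ Module.finrank F W4 := by
    have h1 := finrank_pairPerp (Q := Q) e f
    have h2 := finrank_pairPerp (Q := Q) u f'
    have h3 := Submodule.finrank_sup_add_finrank_inf_eq (pairPerp Q e f) (pairPerp Q u f')
    have h5 := Submodule.finrank_le (pairPerp Q e f ⊔ pairPerp Q u f')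
    rw [← hW4] at h3
    rw [RootHyp.finrank_eq] at h1 h2 h5
    omega
  haveI := Fintype.ofFinite F
  have hinj : Function.Injective (fun z : W4 => (⟨proot Q e (z : ι → F), hall _ z.2⟩ : K)) := fun z z' h => by
    have h' := (D.proot_eq_iff he (mem_pairPerp.1 z.2.1).1 he (mem_pairPerp.1 z'.2.1).1).1 (congrArg Subtype.val h)
    exact Subtype.ext (siegel_inj_pairPerp he hef z.2.1 z'.2.1 h')
  calc Nat.card F ^ 4 < Nat.card F ^ Module.finrank F W4 :=
        Nat.pow_lt_pow_right Finite.one_lt_card (by omega)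
    _ = Nat.card W4 := (Module.natCard_eq_pow_finrank).symm
    _ ≤ Nat.card K := Nat.card_le_card_of_injective _ hinj

/-- The star of two meeting root groups is the radical. -/
theorem RootHyp.starSub_eq (D : RootHyp Q p) (h4 : D4Free Q) {e f u u' : ι → F} (he : Q e = 0)
    (hf : Q f = 0) (hef : polar Q e f = 1) (hu : u ∈ pairPerp Q e f) (hQu : Q u = 0)
    (hu' : u' ∈ pairPerp Q e f) (hQu' : Q u' = 0) (hp : polar Q u u' ≠ 0) :
    (starSub (rootSets Q) (Fintype.card ι) (Nat.card F ^ 4) (lineSet Q e u) (lineSet Q e u') :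
      Set (Cfsg.POmega F ⇑Q)) = radSet Q e := by
  have hu0 : u ≠ 0 := fun h => hp (by rw [h, QuadraticMap.polar_zero_left])
  have hu'0 : u' ≠ 0 := fun h => hp (by rw [h, QuadraticMap.polar_zero_right])
  set St := starSub (rootSets Q) (Fintype.card ι) (Nat.card F ^ 4) (lineSet Q e u) (lineSet Q e u') with hSt
  let Rd : Subgroup (Cfsg.POmega F ⇑Q) :=
    { carrier := radSet Q e
      one_mem' := ⟨0, QuadraticMap.polar_zero_right .., (D.proot_zero he).symm⟩
      mul_mem' := by
        rintro _ _ ⟨a, ha, rfl⟩ ⟨b, hb, rfl⟩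
        exact ⟨a + b, by rw [polar_add_right, ha, hb, add_zero], D.proot_add he ha hb⟩
      inv_mem' := by
        rintro _ ⟨a, ha, rfl⟩
        have ha' : polar Q e (-a) = 0 := by rw [polar_neg_right, ha, neg_zero]
        exact ⟨-a, ha', inv_eq_of_mul_eq_one_right (by rw [D.proot_add he ha ha', add_neg_cancel, D.proot_zero he])⟩ }
  have hlineRd : ∀ v, polar Q e v = 0 → lineSet Q e v ⊆ radSet Q e := by
    rintro v hv _ ⟨a, rfl⟩; exact ⟨_, by rw [polar_smul_right', hv, mul_zero], rfl⟩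
  apply subset_antisymm
  · show St ≤ Rd
    rw [hSt, starSub, Subgroup.closure_le]
    rintro g ((hg | hg) | hg)
    · exact hlineRd u (mem_pairPerp.1 hu).1 hg
    · exact hlineRd u' (mem_pairPerp.1 hu').1 hg
    obtain ⟨C, ⟨⟨x, y, hl, rfl⟩, hi1, hi2⟩, hg⟩ := hg
    have hLu := isLine_pairPerp he hef hu hu0 hQu
    have hLu' := isLine_pairPerp he hef hu' hu'0 hQu'
    obtain ⟨z, hz0, hzC, hzL⟩ : ∃ z, z ≠ 0 ∧ z ∈ Submodule.span F ({x, y} : Set (ι → F)) ∧
        z ∈ Submodule.span F ({e, u} : Set (ι → F)) := by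
      by_contra hcon
      push Not at hcon
      exact D.disjoint_not_isect h4 hl hLu (eq_bot_iff.2 fun z hz => by
        by_contra h0; exact hcon z h0 hz.1 hz.2) hi1
    obtain ⟨z', hz'0, hz'C, hz'L⟩ : ∃ z, z ≠ 0 ∧ z ∈ Submodule.span F ({x, y} : Set (ι → F)) ∧
        z ∈ Submodule.span F ({e, u'} : Set (ι → F)) := by
      by_contra hcon
      push Not at hcon
      exact D.disjoint_not_isect h4 hl hLu' (eq_bot_iff.2 fun z hz => by
        by_contra h0; exact hcon z h0 hz.1 hz.2) hi2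
    have hzz := hl.polar_mem hzC hz'C
    obtain ⟨a, b, rfl⟩ := Submodule.mem_span_pair.1 hzL
    obtain ⟨c, d, rfl⟩ := Submodule.mem_span_pair.1 hz'L
    simp only [polar_add_left, polar_add_right, polar_smul_left', polar_smul_right', polar_self', he,
      polar_comm Q u e, (mem_pairPerp.1 hu).1, (mem_pairPerp.1 hu').1] at hzz
    have hbd : b * d * polar Q u u' = 0 := by linear_combination hzz
    have heC : e ∈ Submodule.span F ({x, y} : Set (ι → F)) := by
      rcases mul_eq_zero.1 ((mul_eq_zero.1 hbd).resolve_right hp) with h0 | h0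
      · rw [h0, zero_smul, add_zero] at hzC hz0
        have ha : a ≠ 0 := fun ha => hz0 (by rw [ha, zero_smul])
        have h' := Submodule.smul_mem _ a⁻¹ hzC
        rwa [inv_smul_smul₀ ha] at h'
      · rw [h0, zero_smul, add_zero] at hz'C hz'0
        have hc : c ≠ 0 := fun hc => hz'0 (by rw [hc, zero_smul])
        have h' := Submodule.smul_mem _ c⁻¹ hz'C
        rwa [inv_smul_smul₀ hc] at h'
    obtain ⟨v, hv, -, -, hve⟩ := D.line_normal hl hef heC
    exact hlineRd v (mem_pairPerp.1 hv).1 (hve ▸ hg)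
  · rintro _ ⟨a, ha, rfl⟩
    have hmem : ∀ v ∈ pairPerp Q e f, Q v = 0 → proot Q e v ∈ St := by
      intro v hv hQv
      rcases eq_or_ne v 0 with rfl | hv0
      · rw [D.proot_zero he]; exact one_mem _
      have hin : proot Q e v ∈ lineSet Q e v := ⟨1, by simp⟩
      by_cases h1 : lineSet Q e v = lineSet Q e u
      · exact Subgroup.subset_closure (Or.inl (Or.inl (h1 ▸ hin)))
      by_cases h2 : lineSet Q e v = lineSet Q e u'
      · exact Subgroup.subset_closure (Or.inl (Or.inr (h2 ▸ hin)))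
      refine Subgroup.subset_closure (Or.inr ⟨_, ⟨⟨e, v, isLine_pairPerp he hef hv hv0 hQv, rfl⟩, ?_, ?_⟩, hin⟩)
      · by_cases hvu : polar Q v u = 0
        · exact Or.inl ((D.cop_iff he hf hef hv hv0 hQv hu hu0 hQu h1).2 hvu)
        · exact Or.inr (D.meet_rad he hf hef hv hQv hu hQu hvu)
      · by_cases hvu : polar Q v u' = 0
        · exact Or.inl ((D.cop_iff he hf hef hv hv0 hQv hu' hu'0 hQu' h2).2 hvu)
        · exact Or.inr (D.meet_rad he hf hef hv hQv hu' hQu' hvu)
    obtain ⟨a', ha', haW, heq⟩ := siegel_of_pairPerp he hf hef ha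
    rw [(D.proot_eq_iff he ha he ha').2 heq]
    exact pairPerp_induction D.nondeg he hf hef hu0 hQu hu (fun v => proot Q e v ∈ St)
      (fun v v' hv hv' h h' => D.proot_add he (mem_pairPerp.1 hv).1 (mem_pairPerp.1 hv').1 ▸ mul_mem h h')
      (fun v hv hQv _ => hmem v hv hQv)
      (show proot Q e 0 ∈ St by rw [D.proot_zero he]; exact one_mem _) a' haW

theorem centreSet_map {G : Type*} [Group G] (φ : MulAut G) (U : Subgroup G) :
    centreSet (U.map φ.toMonoidHom) = φ '' centreSet U := by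
  ext z
  constructor
  · rintro ⟨⟨y, hy, rfl⟩, hc⟩
    exact ⟨y, ⟨hy, fun v hv => Commute.of_map φ.injective (hc _ ⟨v, hv, rfl⟩)⟩, rfl⟩
  · rintro ⟨y, ⟨hy, hc⟩, rfl⟩
    refine ⟨⟨y, hy, rfl⟩, ?_⟩
    rintro _ ⟨v, hv, rfl⟩
    exact (hc v hv).map φ

theorem RootHyp.conj_proot (D : RootHyp Q p) (g : Cfsg.Omega F ⇑Q) {e w : ι → F} (he : Q e = 0)
    (hw : polar Q e w = 0) :
    MulAut.conj (omPr Q g) (proot Q e w) = proot Q (omAct Q g e) (omAct Q g w) := by
  rw [MulAut.conj_apply, proot, proot, ← D.conj_root g he hw, map_mul, map_mul, map_inv]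

/-- Every root group is the centre of a Sylow subgroup. -/
theorem RootHyp.exists_sylow_of_line (D : RootHyp Q p) [Fact p.Prime] {e w : ι → F} (hl : IsLine Q e w) :
    ∃ U : Sylow p (Cfsg.POmega F ⇑Q), centreSet (U : Subgroup (Cfsg.POmega F ⇑Q)) = lineSet Q e w := by
  obtain ⟨U⟩ : Nonempty (Sylow p (Cfsg.POmega F ⇑Q)) := Sylow.nonempty
  obtain ⟨e₀, w₀, hl₀, hU⟩ := D.proot_mem_center_iff U
  obtain ⟨s, hs, hse, t, ht, hsw⟩ := siegel_trans_orth D.nondeg D.five_le' hl₀.ne hl.ne hl₀.he hl₀.hw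
    hl.he hl.hw hl₀.hew hl.hew hl₀.notMem hl.notMem
  obtain ⟨g, hg⟩ := D.exists_act hs
  have hh : ∀ a : F, MulAut.conj (omPr Q g) (proot Q e₀ (a • w₀)) = proot Q e ((a * t) • w) := fun a => by
    rw [D.conj_proot g hl₀.he (hl₀.perp a), hg, hse, map_smul, hsw, smul_smul]
  refine ⟨U.mapSurjective (f := (MulAut.conj (omPr Q g)).toMonoidHom) (MulEquiv.surjective _), ?_⟩
  show centreSet ((U : Subgroup (Cfsg.POmega F ⇑Q)).map (MulAut.conj (omPr Q g)).toMonoidHom) = _
  rw [centreSet_map, hU]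
  ext x
  constructor
  · rintro ⟨_, ⟨a, rfl⟩, rfl⟩
    exact ⟨a * t, (hh a).symm⟩
  · rintro ⟨a, rfl⟩
    exact ⟨_, ⟨a / t, rfl⟩, by rw [hh, div_mul_cancel₀ a ht]⟩

theorem RootHyp.image_rootSets (D : RootHyp Q p) [Fact p.Prime] (α : MulAut (Cfsg.POmega F ⇑Q))
    (A : Set (Cfsg.POmega F ⇑Q)) : A ∈ rootSets Q ↔ α '' A ∈ rootSets Q := by
  have key : ∀ (β : MulAut (Cfsg.POmega F ⇑Q)) (A : Set (Cfsg.POmega F ⇑Q)),
      A ∈ rootSets Q → β '' A ∈ rootSets Q := by
    rintro β _ ⟨e, w, hl, rfl⟩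
    obtain ⟨U, hU⟩ := D.exists_sylow_of_line hl
    obtain ⟨e', w', hl', h'⟩ := D.proot_mem_center_iff
      (U.mapSurjective (f := β.toMonoidHom) (MulEquiv.surjective β))
    refine ⟨e', w', hl', ?_⟩
    rw [← h']
    show _ = centreSet ((U : Subgroup (Cfsg.POmega F ⇑Q)).map β.toMonoidHom)
    rw [centreSet_map, hU]
  refine ⟨key α A, fun h => ?_⟩
  have := key α.symm _ h
  rwa [← Set.image_comp, show (α.symm : _ → _) ∘ (α : _ → _) = id from funext α.symm_apply_apply,
    Set.image_id] at this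

/-- An automorphism maps the radical at a point onto the radical at a point. -/
theorem RootHyp.exists_rad_image (D : RootHyp Q p) (h4 : D4Free Q) (α : MulAut (Cfsg.POmega F ⇑Q))
    {e : ι → F} (he0 : e ≠ 0) (he : Q e = 0) :
    ∃ e', e' ≠ 0 ∧ Q e' = 0 ∧ α '' radSet Q e = radSet Q e' := by
  haveI : Fact p.Prime := ⟨D.prime⟩
  obtain ⟨f, hf, hef⟩ := exists_pair D.nondeg he0 he
  obtain ⟨u, hu0, hQu, hu⟩ := exists_singular_pairPerp D.nondeg D.five_le' he hf hef
  obtain ⟨u', H⟩ := exists_frame D.nondeg he hf hef hu0 hQu hu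
  have hp : polar Q u u' ≠ 0 := by rw [H.hef']; exact one_ne_zero
  have hR : ∀ A, A ∈ rootSets Q ↔ α '' A ∈ rootSets Q := D.image_rootSets α
  have hu'0 : u' ≠ 0 := fun h => hp (by rw [h, QuadraticMap.polar_zero_right])
  have hA : lineSet Q e u ∈ rootSets Q := ⟨e, u, isLine_pairPerp he hef hu hu0 hQu, rfl⟩
  have hB : lineSet Q e u' ∈ rootSets Q := ⟨e, u', isLine_pairPerp he hef H.f'W hu'0 H.hf', rfl⟩
  obtain ⟨x, y, hl, hAe⟩ := (hR _).1 hA
  obtain ⟨x', y', hl', hBe⟩ := (hR _).1 hB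
  have hm := D.meet_rad he hf hef hu hQu H.f'W H.hf' hp
  have hi : SetIsect (rootSets Q) (Fintype.card ι) (Nat.card F ^ 4) (lineSet Q x y) (lineSet Q x' y') := by
    rw [← hAe, ← hBe, setIsect_image α hR]; exact Or.inr hm
  obtain ⟨z, hz0, hz1, hz2⟩ : ∃ z, z ≠ 0 ∧ z ∈ Submodule.span F ({x, y} : Set (ι → F)) ∧
      z ∈ Submodule.span F ({x', y'} : Set (ι → F)) := by
    by_contra hcon
    push Not at hcon
    exact D.disjoint_not_isect h4 hl hl' (eq_bot_iff.2 fun z hz => by
      by_contra h0; exact hcon z h0 hz.1 hz.2) hi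
  obtain ⟨g, hg, hzg⟩ := exists_pair D.nondeg hz0 (hl.of_mem hz1)
  obtain ⟨v, hv, hv0, hQv, hve⟩ := D.line_normal hl hzg hz1
  obtain ⟨v', hv', hv'0, hQv', hve'⟩ := D.line_normal hl' hzg hz2
  have hne : lineSet Q z v ≠ lineSet Q z v' := by
    rw [← hve, ← hve', ← hAe, ← hBe]
    exact α.injective.image_injective.ne hm.1
  have hpv : polar Q v v' ≠ 0 := fun h => hm.2.2.1 <| (setCop_image α hR _ _).1 <| by
    rw [hAe, hBe, hve, hve']
    exact (D.cop_iff (hl.of_mem hz1) hg hzg hv hv0 hQv hv' hv'0 hQv' hne).2 h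
  refine ⟨z, hz0, hl.of_mem hz1, ?_⟩
  rw [← D.starSub_eq h4 he hf hef hu hQu H.f'W H.hf' hp,
    ← D.starSub_eq h4 (hl.of_mem hz1) hg hzg hv hQv hv' hQv' hpv, ← hve, ← hve', ← hAe, ← hBe,
    starSub_image α hR]
  rfl

end CfsgLib.Geometry
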