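import Mathlib

/-! General facts on non-degenerate sesquilinear forms, used by the Geometry library. -/

set_option autoImplicit false

namespace CfsgLib.Geometry

variable {F V : Type*} [Field F] [AddCommGroup V] [Module F V] {σ : F →+* F}

/-- A left-separating sesquilinear form represents every linear functional (σ surjective). -/
theorem exists_rep [FiniteDimensional F V] (hσ : Function.Surjective σ)
    (B : V →ₛₗ[σ] V →ₗ[F] F) (hB : B.SeparatingLeft) (f : V →ₗ[F] F) :
    ∃ w : V, B w = f := by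
  classical
  let b := Module.finBasis F V
  have li : LinearIndependent F fun i => B (b i) := by
    rw [Fintype.linearIndependent_iff]
    intro c hc i
    choose d hd using fun j => hσ (c j)
    have h0 : B (∑ j, d j • b j) = 0 := by
      rw [map_sum]; simp only [LinearMap.map_smulₛₗ, hd]; exact hc
    have h1 : ∑ j, d j • b j = 0 := hB _ fun y => by rw [h0]; rfl
    rw [← hd i, Fintype.linearIndependent_iff.1 b.linearIndependent d h1 i, map_zero]
  have hs : Submodule.span F (Set.range fun i => B (b i)) = ⊤ :=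
    li.span_eq_top_of_card_eq_finrank' (by simp)
  have hf : f ∈ Submodule.span F (Set.range fun i => B (b i)) := by rw [hs]; trivial
  obtain ⟨c, hc⟩ := (Submodule.mem_span_range_iff_exists_fun F).1 hf
  choose d hd using fun j => hσ (c j)
  exact ⟨∑ j, d j • b j, by rw [map_sum]; simp only [LinearMap.map_smulₛₗ, hd]; exact hc⟩

/-- If `x ∉ H` there is `w` orthogonal to `H` with `B w x = a`. -/
theorem exists_perp [FiniteDimensional F V] (hσ : Function.Surjective σ)
    (B : V →ₛₗ[σ] V →ₗ[F] F) (hB : B.SeparatingLeft) (H : Submodule F V) {x : V} (hx : x ∉ H)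
    (a : F) : ∃ w : V, (∀ h ∈ H, B w h = 0) ∧ B w x = a := by
  obtain ⟨f, hf1, hf2⟩ := Submodule.exists_dual_map_eq_bot_of_notMem hx inferInstance
  have hf0 : ∀ h ∈ H, f h = 0 := fun h hh => by
    have : f h ∈ H.map f := ⟨h, hh, rfl⟩
    rw [hf2] at this; simpa using this
  obtain ⟨w, hw⟩ := exists_rep hσ B hB ((a / f x) • f)
  exact ⟨w, fun h hh => by simp [hw, hf0 h hh], by simp [hw, hf1]⟩

/-- Two vectors outside `H` have a common vector orthogonal to `H` and to neither. -/
theorem exists_perp₂ [FiniteDimensional F V] (hσ : Function.Surjective σ)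
    (B : V →ₛₗ[σ] V →ₗ[F] F) (hB : B.SeparatingLeft) (H : Submodule F V) {x y : V}
    (hx : x ∉ H) (hy : y ∉ H) :
    ∃ w : V, (∀ h ∈ H, B w h = 0) ∧ B w x ≠ 0 ∧ B w y ≠ 0 := by
  obtain ⟨u, hu, hux⟩ := exists_perp hσ B hB H hx 1
  by_cases huy : B u y ≠ 0
  · exact ⟨u, hu, by rw [hux]; exact one_ne_zero, huy⟩
  push Not at huy
  obtain ⟨v, hv, hvy⟩ := exists_perp hσ B hB H hy 1
  by_cases hvx : B v x ≠ 0
  · exact ⟨v, hv, hvx, by rw [hvy]; exact one_ne_zero⟩
  push Not at hvx
  refine ⟨u + v, fun h hh => ?_, ?_, ?_⟩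
  · simp [hu h hh, hv h hh]
  · simp [hux, hvx]
  · simp [huy, hvy]

/-- A linear map preserving a left-separating form, as an equivalence. -/
noncomputable def isoOfPreserves [FiniteDimensional F V] (B : V →ₛₗ[σ] V →ₗ[F] F)
    (hB : B.SeparatingLeft) (f : V →ₗ[F] V) (hf : ∀ u v, B (f u) (f v) = B u v) : V ≃ₗ[F] V :=
  LinearEquiv.ofInjectiveEndo f (by
    rw [injective_iff_map_eq_zero]
    intro a ha
    exact hB a fun y => by rw [← hf, ha]; simp)

@[simp]
theorem isoOfPreserves_apply [FiniteDimensional F V] (B : V →ₛₗ[σ] V →ₗ[F] F)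
    (hB : B.SeparatingLeft) (f : V →ₗ[F] V) (hf : ∀ u v, B (f u) (f v) = B u v) (v : V) :
    isoOfPreserves B hB f hf v = f v := rfl

/-- The induction behind Witt's theorem: `step` extends along one more vector. -/
theorem extend_induction (G : Subgroup (V ≃ₗ[F] V))
    (R : ∀ {k : ℕ}, (Fin k → V) → (Fin k → V) → Prop)
    (hG : ∀ g ∈ G, ∀ {k : ℕ} (v w : Fin k → V), R v w → R v (fun i => g (w i)))
    (hR : ∀ {k : ℕ} (v w : Fin (k+1) → V), R v w → R (Fin.tail v) (Fin.tail w))
    (step : ∀ {k : ℕ} (v : Fin k → V) (x y : V), LinearIndependent F v →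
      x ∉ Submodule.span F (Set.range v) → y ∉ Submodule.span F (Set.range v) →
      R (Fin.cons x v : Fin (k+1) → V) (Fin.cons y v) →
      ∃ g ∈ G, g x = y ∧ ∀ i, g (v i) = v i) :
    ∀ {k : ℕ} (v w : Fin k → V), LinearIndependent F v → LinearIndependent F w → R v w →
      ∃ g ∈ G, ∀ i, g (v i) = w i := by
  intro k
  induction k with
  | zero => exact fun v w _ _ _ => ⟨1, G.one_mem, fun i => i.elim0⟩
  | succ k ih =>
    intro v w hv hw hvw
    obtain ⟨g, hg, hgv⟩ := ih (Fin.tail v) (Fin.tail w)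
      (hv.comp _ (Fin.succ_injective _)) (hw.comp _ (Fin.succ_injective _)) (hR v w hvw)
    let w' : Fin (k+1) → V := fun i => g⁻¹ (w i)
    have e : ∀ z, g⁻¹ (g z) = z := fun z => g.symm_apply_apply z
    have hw' : Fin.tail w' = Fin.tail v := by
      funext i; simp only [w', Fin.tail]; rw [← e (v i.succ)]; congr 1; exact (hgv i).symm
    have hlw' : LinearIndependent F w' := hw.map' _ (LinearEquiv.ker g⁻¹)
    have hr : R v w' := hG _ (G.inv_mem hg) v w hvw
    have h1 := (linearIndependent_finCons.1 ((Fin.cons_self_tail v).symm ▸ hv))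
    have h2 := (linearIndependent_finCons.1 ((Fin.cons_self_tail w').symm ▸ hlw'))
    rw [hw'] at h2
    obtain ⟨g', hg', hx, hfix⟩ := step (Fin.tail v) (v 0) (w' 0) h1.1 h1.2 h2.2
      (by rw [Fin.cons_self_tail, ← hw', Fin.cons_self_tail]; exact hr)
    refine ⟨g * g', G.mul_mem hg hg', fun i => ?_⟩
    show g (g' (v i)) = w i
    induction i using Fin.cases with
    | zero => rw [hx]; exact g.apply_symm_apply _
    | succ i =>
      rw [show g' (v i.succ) = v i.succ from hfix i]
      exact hgv i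

/-- Witt extension from a statement on independent families to one on subspaces. -/
theorem extend_subspace [FiniteDimensional F V] (G : Subgroup (V ≃ₗ[F] V))
    (X : Submodule F V) (φ : X →ₗ[F] V) (hφ : Function.Injective φ)
    (h : ∀ {k : ℕ} (v : Fin k → X), LinearIndependent F (fun i => (v i : V)) →
      LinearIndependent F (fun i => φ (v i)) → ∃ g ∈ G, ∀ i, g (v i : V) = φ (v i)) :
    ∃ g ∈ G, ∀ x : X, g (x : V) = φ x := by
  let b := Module.finBasis F X
  obtain ⟨g, hg, hgb⟩ := h b (b.linearIndependent.map' X.subtype (Submodule.ker_subtype X))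
    (b.linearIndependent.map' φ (LinearMap.ker_eq_bot.2 hφ))
  refine ⟨g, hg, fun x => ?_⟩
  have : g.toLinearMap.comp X.subtype = φ := b.ext hgb
  exact LinearMap.congr_fun this x

end CfsgLib.Geometry
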