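import Cfsg.Agent.Lib.Geometry.D4Group

/-! The symmetric groups of degree three and four inside the triality data. -/

set_option autoImplicit false

namespace CfsgLib.Geometry

variable {O : Type*} [Group O] [Finite O] {V : Subgroup O} {S T Φ : O} {f : ℕ}

/-- The symmetric group of degree three is dihedral. -/
theorem perm_three_equiv : Nonempty (Equiv.Perm (Fin 3) ≃* DihedralGroup 3) := by
  let u : Equiv.Perm (Fin 3) := finRotate 3
  let s : Equiv.Perm (Fin 3) := Equiv.swap 0 1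
  have hu : u ^ 3 = 1 := by decide
  have hs : s * s = 1 := by decide
  have hsu : s * u * s = u⁻¹ := by decide
  have hu1 : orderOf u = 3 := by
    haveI : Fact (Nat.Prime 3) := ⟨Nat.prime_three⟩
    exact orderOf_eq_prime hu (by decide)
  refine nonempty_equiv_of_surjective (dihedralGen 3 u s hu hs hsu) (MonoidHom.range_eq_top.1 ?_) ?_
    (by rw [DihedralGroup.nat_card]; norm_num)
  · have h1 : u ∈ (dihedralGen 3 u s hu hs hsu).range :=
      ⟨DihedralGroup.r ((1 : ℕ) : ZMod 3), (zmodGen_natCast 3 u hu 1).trans (pow_one u)⟩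
    have h2 : s ∈ (dihedralGen 3 u s hu hs hsu).range :=
      ⟨DihedralGroup.sr ((0 : ℕ) : ZMod 3), show s * _ = s by rw [zmodGen_natCast, pow_zero, mul_one]⟩
    refine Subgroup.eq_top_of_le_card _ ?_
    have h3 : 3 ∣ Nat.card (dihedralGen 3 u s hu hs hsu).range := (dvd_of_eq hu1.symm).trans (Subgroup.orderOf_dvd_natCard _ h1)
    have hs1 : orderOf s = 2 := orderOf_eq_prime (by rw [pow_two, hs]) (by decide)
    have h4 : 2 ∣ Nat.card (dihedralGen 3 u s hu hs hsu).range := (dvd_of_eq hs1.symm).trans (Subgroup.orderOf_dvd_natCard _ h2)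
    have h6 : 6 ∣ Nat.card (dihedralGen 3 u s hu hs hsu).range := Nat.Coprime.mul_dvd_of_dvd_of_dvd (by norm_num) h4 h3
    rw [Nat.card_perm, Nat.card_fin]
    exact Nat.le_of_dvd Nat.card_pos h6
  · rw [Nat.card_perm, Nat.card_fin, DihedralGroup.nat_card]
    rfl

theorem TriData.c_twelve (D : TriData V S T Φ f) {i : ℕ} (h : D.c ^ 3 = Φ ^ i) : (D.c ^ 4) ^ 3 = 1 := by
  have h1 : S * D.c ^ 3 * S = (D.c ^ 3)⁻¹ := by
    have e := conj_pow (a := S) (b := D.c) (i := 3)
    rw [D.S_inv, D.S_c_S, inv_pow] at e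
    exact e.symm
  rw [h, (D.SΦ.pow_right i).eq, mul_assoc, D.S_sq, mul_one, eq_inv_iff_mul_eq_one, ← h, ← pow_add] at h1
  rw [← pow_mul, show 4 * 3 = (3 + 3) * 2 from rfl, pow_mul, h1, one_pow]

theorem TriData.S_c4_S (D : TriData V S T Φ f) : S * D.c ^ 4 * S = (D.c ^ 4)⁻¹ := by
  have e := conj_pow (a := S) (b := D.c) (i := 4)
  rw [D.S_inv, D.S_c_S, inv_pow] at e
  exact e.symm

theorem TriData.c_eq (D : TriData V S T Φ f) {i : ℕ} (h : D.c ^ 3 = Φ ^ i) : D.c = D.c ^ 4 * (Φ ^ i)⁻¹ := by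
  rw [← h, show (4 : ℕ) = 1 + 3 from rfl, pow_add, pow_one, mul_inv_cancel_right]

theorem TriData.eq_top (D : TriData V S T Φ f) {i : ℕ} (h : D.c ^ 3 = Φ ^ i) (H : Subgroup O)
    (hV : V ≤ H) (hS : S ∈ H) (hc : D.c ^ 4 ∈ H) (hΦ : Φ ∈ H) : H = ⊤ := by
  have hcH : D.c ∈ H := D.c_eq h ▸ mul_mem hc (inv_mem (pow_mem hΦ i))
  rw [eq_top_iff]
  intro z _
  obtain ⟨v, hv, j, k, rfl | rfl⟩ := D.structure'.2.2.1 z
  · exact mul_mem (mul_mem (hV hv) (pow_mem hcH j)) (pow_mem hΦ k)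
  · exact mul_mem (mul_mem (hV hv) (pow_mem hcH j)) (mul_mem hS (pow_mem hΦ k))

theorem gens_mem_range {G : Type*} [Group G] {n : ℕ} {u s : G} (hu : u ^ n = 1) (hs : s * s = 1)
    (hsu : s * u * s = u⁻¹) :
    u ∈ (dihedralGen n u s hu hs hsu).range ∧ s ∈ (dihedralGen n u s hu hs hsu).range :=
  ⟨⟨DihedralGroup.r ((1 : ℕ) : ZMod n), (zmodGen_natCast n u hu 1).trans (pow_one u)⟩,
    ⟨DihedralGroup.sr ((0 : ℕ) : ZMod n), show s * _ = s by rw [zmodGen_natCast, pow_zero, mul_one]⟩⟩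

theorem TriData.shape_two (D : TriData V S T Φ f) (hV : V = ⊥) :
    Nonempty (O ≃* Equiv.Perm (Fin 3) × Multiplicative (ZMod f)) := by
  have hf : f ≠ 0 := by have := D.pos; omega
  haveI : NeZero f := ⟨hf⟩
  obtain ⟨v, hv, i, hi⟩ := D.mem_K.1 D.structure'.1
  rw [hV, Subgroup.mem_bot] at hv
  rw [hv, one_mul] at hi
  obtain ⟨e⟩ := perm_three_equiv
  let g : DihedralGroup 3 × Multiplicative (ZMod f) →* O :=
    (dihedralGen 3 (D.c ^ 4) S (D.c_twelve hi) D.S_sq D.S_c4_S).noncommCoprod (zmodGen f Φ D.Φ_pow)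
      fun a b => (zmodGen_commute D.Φ_pow (D.Φ_central _).symm b).symm
  obtain ⟨h1, h2⟩ := gens_mem_range (D.c_twelve hi) D.S_sq D.S_c4_S
  have hg : g.range = ⊤ := D.eq_top hi _ (hV.le.trans bot_le) ?_ ?_ ?_
  · refine (nonempty_equiv_of_surjective g (MonoidHom.range_eq_top.1 hg) ?_ ?_).map
      fun E => E.trans (e.symm.prodCongr (MulEquiv.refl _))
    · rw [D.card_eq, hV, Subgroup.card_bot, one_mul, Nat.card_prod, DihedralGroup.nat_card,
        Nat.card_congr Multiplicative.toAdd, Nat.card_zmod]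
    · rw [Nat.card_prod, DihedralGroup.nat_card, Nat.card_congr Multiplicative.toAdd, Nat.card_zmod]
      positivity
  · obtain ⟨y, hy⟩ := h2
    exact ⟨(y, 1), (MonoidHom.noncommCoprod_apply _ _ _ _).trans (by rw [hy, map_one, mul_one])⟩
  · obtain ⟨y, hy⟩ := h1
    exact ⟨(y, 1), (MonoidHom.noncommCoprod_apply _ _ _ _).trans (by rw [hy, map_one, mul_one])⟩
  · exact ⟨(1, Multiplicative.ofAdd ((1 : ℕ) : ZMod f)),
      (MonoidHom.noncommCoprod_apply _ _ _ _).trans (by rw [map_one, one_mul, zmodGen_natCast, pow_one])⟩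

set_option maxHeartbeats 1000000 in
theorem TriData.shape_odd (D : TriData V S T Φ f) {a b : O} (hV : ∀ v ∈ V, v = 1 ∨ v = a ∨ v = b ∨ v = a * b)
    (ha : a ∈ V) (hb : b ∈ V) (ha1 : a ≠ 1) (hb1 : b ≠ 1) (hab : a ≠ b) (haa : a * a = 1) (hc : Commute a b)
    (hTa : T * a * T⁻¹ = b) (hTb : T * b * T⁻¹ = a) (hSa : S * a * S = a) (hSb : S * b * S = a * b) :
    Nonempty (O ≃* Equiv.Perm (Fin 4) × Multiplicative (ZMod f)) := by
  haveI := D.normal
  have hf : f ≠ 0 := by have := D.pos; omega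
  haveI : NeZero f := ⟨hf⟩
  have hbb : b * b = 1 := by
    rw [← hTa, show T * a * T⁻¹ * (T * a * T⁻¹) = T * (a * a) * T⁻¹ by group, haa, mul_one, mul_inv_cancel]
  have hab1 : a * b ≠ 1 := fun h => hab (by rw [eq_inv_of_mul_eq_one_left h, inv_eq_of_mul_eq_one_left hbb])
  have hna : a * b ≠ a := fun h => hb1 (mul_eq_left.1 h)
  have hnb : a * b ≠ b := fun h => ha1 (mul_eq_right.1 h)
  -- the action of the commutator
  have hT' : ∀ x y, T * x * T⁻¹ = y → T⁻¹ * y * T = x := fun x y h => by rw [← h]; group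
  set C := MulAut.conj D.c with hC
  have hCe : ∀ x, C x = T * (S * (T⁻¹ * (S * x * S) * T) * S) * T⁻¹ := fun x => by
    simp only [hC, MulAut.conj_apply, TriData.c, _root_.mul_inv_rev, inv_inv, D.S_inv, mul_assoc]
  have hCa : C a = a * b := by
    rw [hCe, hSa, hT' b a hTb, hSb, show T * (a * b) * T⁻¹ = (T * a * T⁻¹) * (T * b * T⁻¹) by group,
      hTa, hTb, hc.eq]
  have hCb : C b = a := by
    rw [hCe, hSb, show T⁻¹ * (a * b) * T = (T⁻¹ * a * T) * (T⁻¹ * b * T) by group, hT' b a hTb, hT' a b hTa,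
      ← hc.eq, show S * (a * b) * S = (S * a * S) * (S * b * S) by
        simp only [mul_assoc]; rw [← mul_assoc S S, D.S_sq, one_mul], hSa, hSb, show a * (a * b) = b by rw [← mul_assoc, haa, one_mul], hTb]
  have hCab : C (a * b) = b := by rw [map_mul, hCa, hCb, hc.eq, mul_assoc, haa, mul_one]
  -- the cube is central
  obtain ⟨v, hv, i, hi⟩ := D.mem_K.1 D.structure'.1
  have hvc : C v = v := by
    have h1 : Commute D.c v := by
      have h2 : v = D.c ^ 3 * (Φ ^ i)⁻¹ := by rw [hi, mul_inv_cancel_right]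
      rw [h2]
      exact ((Commute.refl D.c).pow_right 3).mul_right ((D.Φ_central D.c).pow_right i).inv_right
    rw [hC, MulAut.conj_apply, h1.eq, mul_inv_cancel_right]
  have hi : D.c ^ 3 = Φ ^ i := by
    rcases hV v hv with rfl | rfl | rfl | rfl
    · rw [hi, one_mul]
    · exact absurd (hCa.symm.trans hvc) hna
    · exact absurd (hCb.symm.trans hvc) hab
    · exact absurd (hCab.symm.trans hvc) hnb.symm
  set c₄ := D.c ^ 4 with hc₄
  have hC₄ : ∀ x, MulAut.conj c₄ x = C x := fun x => by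
    have hx : Commute (Φ ^ i) x := ((D.Φ_central x).pow_right i).symm
    rw [hc₄, show (4 : ℕ) = 1 + 3 from rfl, pow_add, pow_one, hi, map_mul, MulAut.mul_apply,
      MulAut.conj_apply (Φ ^ i), hx.eq, mul_inv_cancel_right]
  set L := (dihedralGen 3 c₄ S (D.c_twelve hi) D.S_sq D.S_c4_S).range with hL
  obtain ⟨hcL, hSL⟩ := gens_mem_range (D.c_twelve hi) D.S_sq D.S_c4_S
  have hLcard : Nat.card L ≤ 6 :=
    (Nat.card_le_card_of_surjective _ (MonoidHom.rangeRestrict_surjective _)).trans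
      (by rw [DihedralGroup.nat_card])
  have hLelt : ∀ l ∈ L, ∃ j : Fin 3, l = c₄ ^ (j : ℕ) ∨ l = S * c₄ ^ (j : ℕ) := by
    rintro _ ⟨y, rfl⟩
    rcases y with k | k <;> obtain ⟨j, rfl⟩ := ZMod.natCast_zmod_surjective k <;>
      refine ⟨⟨j % 3, Nat.mod_lt _ (by norm_num)⟩, ?_⟩
    · left
      show zmodGen 3 c₄ (D.c_twelve hi) _ = _
      rw [zmodGen_natCast]; exact pow_eq_pow_mod j (D.c_twelve hi)
    · right
      show S * zmodGen 3 c₄ (D.c_twelve hi) _ = _
      rw [zmodGen_natCast]; exact congrArg (S * ·) (pow_eq_pow_mod j (D.c_twelve hi))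
  set Z := Subgroup.zpowers Φ with hZ
  haveI : Z.Normal := ⟨fun x hx g => by
    obtain ⟨k, rfl⟩ := Subgroup.mem_zpowers_iff.1 hx
    rw [((D.Φ_central g).zpow_right k).eq, mul_inv_cancel_right]
    exact Subgroup.zpow_mem_zpowers Φ k⟩
  have hZcard : Nat.card Z ≤ f := by
    rw [hZ, Nat.card_zpowers]; exact orderOf_le_of_pow_eq_one (Nat.pos_of_ne_zero hf) D.Φ_pow
  set M := L ⊔ Z with hM
  have hMcard : Nat.card M ≤ 6 * f := by
    let m : L × Z → M := fun x => ⟨x.1 * x.2, mul_mem (Subgroup.mem_sup_left x.1.2) (Subgroup.mem_sup_right x.2.2)⟩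
    have hm : Function.Surjective m := fun z => by
      have hz : (z : O) ∈ ((L ⊔ Z : Subgroup O) : Set O) := z.2
      rw [Subgroup.mul_normal, Set.mem_mul] at hz
      obtain ⟨l, hl, w, hw, e⟩ := hz
      exact ⟨(⟨l, hl⟩, ⟨w, hw⟩), Subtype.ext e⟩
    calc Nat.card M ≤ Nat.card (L × Z) := Nat.card_le_card_of_surjective m hm
      _ ≤ 6 * f := by rw [Nat.card_prod]; exact Nat.mul_le_mul hLcard hZcard
  have hcM : D.c ∈ M := by
    rw [D.c_eq hi]
    exact mul_mem (Subgroup.mem_sup_left hcL) (inv_mem (Subgroup.mem_sup_right (Subgroup.npow_mem_zpowers Φ i)))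
  have hVM : Function.Surjective (fun w : V => ((w : O) : O ⧸ M)) := by
    intro x
    induction x using QuotientGroup.induction_on with
    | H z =>
      obtain ⟨w, hw, j, k, e⟩ := D.structure'.2.2.1 z
      refine ⟨⟨w, hw⟩, QuotientGroup.eq.2 ?_⟩
      rcases e with rfl | rfl
      · rw [show w⁻¹ * (w * D.c ^ j * Φ ^ k) = D.c ^ j * Φ ^ k by group]
        exact mul_mem (pow_mem hcM j) (Subgroup.mem_sup_right (Subgroup.npow_mem_zpowers Φ k))
      · rw [show w⁻¹ * (w * D.c ^ j * (S * Φ ^ k)) = D.c ^ j * (S * Φ ^ k) by group]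
        exact mul_mem (pow_mem hcM j)
          (mul_mem (Subgroup.mem_sup_left hSL) (Subgroup.mem_sup_right (Subgroup.npow_mem_zpowers Φ k)))
  have hVcard : Nat.card V = 4 := by
    let mv : Fin 4 → V := ![1, ⟨a, ha⟩, ⟨b, hb⟩, ⟨a, ha⟩ * ⟨b, hb⟩]
    have hmv : Function.Bijective mv := by
      constructor
      · intro x y h
        have h' := congrArg Subtype.val h
        fin_cases x <;> fin_cases y <;>
          simp [mv, ha1, hb1, hab, hab.symm, ha1.symm, hb1.symm, hab1, hab1.symm, hna, hna.symm, hnb,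
            hnb.symm] at h' ⊢
      · rintro ⟨w, hw⟩
        rcases hV w hw with rfl | rfl | rfl | rfl
        · exact ⟨0, rfl⟩
        · exact ⟨1, rfl⟩
        · exact ⟨2, rfl⟩
        · exact ⟨3, rfl⟩
    rw [← Nat.card_eq_of_bijective mv hmv, Nat.card_fin]
  have hO : Nat.card O = 24 * f := by rw [D.card_eq, hVcard]; ring
  have hindex : M.index = 4 := by
    refine le_antisymm (hVcard ▸ Nat.card_le_card_of_surjective _ hVM) ?_
    have h := M.index_mul_card
    rw [hO] at h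
    by_contra hlt
    have : M.index * Nat.card M ≤ 3 * (6 * f) := Nat.mul_le_mul (by omega) hMcard
    omega
  have hVMb : Function.Bijective (fun w : V => ((w : O) : O ⧸ M)) :=
    (Nat.bijective_iff_surjective_and_card _).2 ⟨hVM, hVcard.trans hindex.symm⟩
  have hmeet : ∀ w ∈ V, w ∈ M → w = 1 := fun w hw hwM =>
    congrArg Subtype.val (hVMb.1 (a₁ := ⟨w, hw⟩) (a₂ := 1) ((QuotientGroup.eq).2 (by simpa using inv_mem hwM)))
  let ψ : O →* Equiv.Perm (O ⧸ M) := MulAction.toPermHom O (O ⧸ M)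
  have hker : ψ.ker ≤ Z := by
    intro z hz
    have hfix : ∀ x : O ⧸ M, z • x = x := fun x => Equiv.Perm.ext_iff.1 (MonoidHom.mem_ker.1 hz) x
    have hconj : ∀ w ∈ V, z * w * z⁻¹ = w := fun w hw => by
      have h1 : w⁻¹ * (z * w) ∈ M := QuotientGroup.eq.1 ((hfix (w : O ⧸ M)).symm)
      have hzM : z ∈ M := by
        have := QuotientGroup.eq.1 ((hfix ((1 : O) : O ⧸ M)).symm)
        simpa using this
      have h2 : w⁻¹ * (z * w * z⁻¹) = 1 := hmeet _ (mul_mem (inv_mem hw) (D.normal.conj_mem w hw z)) (by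
        rw [show w⁻¹ * (z * w * z⁻¹) = w⁻¹ * (z * w) * z⁻¹ by group]
        exact mul_mem h1 (inv_mem hzM))
      exact (inv_mul_eq_one.1 h2).symm
    have hzM : z ∈ M := by
      have := QuotientGroup.eq.1 ((hfix ((1 : O) : O ⧸ M)).symm)
      simpa using this
    have hz' : z ∈ ((L ⊔ Z : Subgroup O) : Set O) := hzM
    rw [Subgroup.mul_normal, Set.mem_mul] at hz'
    obtain ⟨l, hl, w, hw, rfl⟩ := hz'
    have hlc : ∀ x ∈ V, MulAut.conj l x = x := fun x hx => by
      have h := hconj x hx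
      obtain ⟨k, rfl⟩ := exists_npow_eq hw
      rw [MulAut.conj_apply]
      calc l * x * l⁻¹ = l * (Φ ^ k * x * (Φ ^ k)⁻¹) * l⁻¹ := by
            rw [← ((D.Φ_central x).pow_right k).eq, mul_inv_cancel_right]
        _ = l * Φ ^ k * x * (l * Φ ^ k)⁻¹ := by group
        _ = x := h
    have e2 : C (C a) = b := by rw [hCa, hCab]
    have hS' : ∀ x, MulAut.conj S x = S * x * S := fun x => by rw [MulAut.conj_apply, D.S_inv]
    suffices hl1 : l = 1 by rw [hl1, one_mul]; exact hw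
    obtain ⟨j, hj⟩ := hLelt l hl
    have hka := hlc a ha
    have hkb := hlc b hb
    rcases hj with rfl | rfl <;> fin_cases j
    · exact pow_zero c₄
    · simp only [pow_one] at hka
      rw [hC₄, hCa] at hka
      exact absurd hka hna
    · simp only [pow_two, map_mul, MulAut.mul_apply] at hka
      rw [hC₄, hC₄, e2] at hka
      exact absurd hka.symm hab
    · simp only [pow_zero, mul_one] at hkb
      rw [hS', hSb] at hkb
      exact absurd hkb hnb
    · simp only [pow_one, map_mul, MulAut.mul_apply] at hka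
      rw [hC₄, hCa, hS', show S * (a * b) * S = (S * a * S) * (S * b * S) by
        simp only [mul_assoc]; rw [← mul_assoc S S, D.S_sq, one_mul], hSa, hSb, ← mul_assoc, haa, one_mul] at hka
      exact absurd hka.symm hab
    · simp only [pow_two, map_mul, MulAut.mul_apply] at hka
      rw [hC₄, hC₄, e2, hS', hSb] at hka
      exact absurd hka hna
  set G₀ := V ⊔ L with hG₀
  have hG₀card : Nat.card G₀ ≤ 24 := by
    let m : V × L → G₀ := fun x => ⟨x.1 * x.2, mul_mem (Subgroup.mem_sup_left x.1.2) (Subgroup.mem_sup_right x.2.2)⟩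
    have hm : Function.Surjective m := fun z => by
      have hz : (z : O) ∈ ((V ⊔ L : Subgroup O) : Set O) := z.2
      rw [Subgroup.normal_mul, Set.mem_mul] at hz
      obtain ⟨l, hl, w, hw, e⟩ := hz
      exact ⟨(⟨l, hl⟩, ⟨w, hw⟩), Subtype.ext e⟩
    calc Nat.card G₀ ≤ Nat.card (V × L) := Nat.card_le_card_of_surjective m hm
      _ ≤ 24 := by rw [Nat.card_prod, hVcard]; exact (Nat.mul_le_mul_left 4 hLcard)
  have hperm : Nat.card (Equiv.Perm (O ⧸ M)) = 24 := by
    rw [Nat.card_perm, show Nat.card (O ⧸ M) = 4 from hindex]; rfl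
  let r : G₀ →* Equiv.Perm (O ⧸ M) := ψ.comp G₀.subtype
  have hsub : ψ.range ≤ r.range := by
    rintro _ ⟨z, rfl⟩
    suffices h : (r.range.comap ψ : Subgroup O) = ⊤ from h.ge (Subgroup.mem_top z)
    have hmem : ∀ x ∈ G₀, x ∈ r.range.comap ψ := fun x hx => ⟨⟨x, hx⟩, rfl⟩
    refine D.eq_top hi _ (fun x hx => hmem x (Subgroup.mem_sup_left hx)) (hmem _ (Subgroup.mem_sup_right hSL))
      (hmem _ (Subgroup.mem_sup_right hcL)) ⟨1, ?_⟩
    rw [map_one]
    refine (Equiv.Perm.ext fun x => ?_).symm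
    induction x using QuotientGroup.induction_on with
    | H y =>
      show ((Φ * y : O) : O ⧸ M) = (y : O ⧸ M)
      refine QuotientGroup.eq.2 ?_
      rw [← (D.Φ_central y).eq, _root_.mul_inv_rev, mul_assoc, inv_mul_cancel, mul_one]
      exact inv_mem (Subgroup.mem_sup_right (Subgroup.mem_zpowers Φ))
  have hrange : 24 ≤ Nat.card r.range := by
    refine le_trans ?_ (Subgroup.card_le_of_le hsub)
    have h1 : Nat.card ψ.range * Nat.card ψ.ker = 24 * f := by
      rw [← hO, ← Subgroup.index_ker, Subgroup.index_mul_card]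
    have h2 : Nat.card ψ.ker ≤ f := (Subgroup.card_le_of_le hker).trans hZcard
    by_contra hlt
    have := D.pos
    have : Nat.card ψ.range * Nat.card ψ.ker ≤ 23 * f := Nat.mul_le_mul (by omega) h2
    omega
  have hrsurj : Function.Surjective r :=
    MonoidHom.range_eq_top.1 (Subgroup.eq_top_of_le_card _ (hperm.le.trans hrange))
  have hrbij : Function.Bijective r := (Nat.bijective_iff_surjective_and_card _).2 ⟨hrsurj,
    le_antisymm (hG₀card.trans hperm.ge) (Nat.card_le_card_of_surjective _ hrsurj)⟩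
  let e : G₀ ≃* Equiv.Perm (Fin 4) := (MulEquiv.ofBijective r hrbij).trans
    (Finite.equivFinOfCardEq (show Nat.card (O ⧸ M) = 4 from hindex)).permCongrHom
  let g : Equiv.Perm (Fin 4) × Multiplicative (ZMod f) →* O :=
    (G₀.subtype.comp e.symm.toMonoidHom).noncommCoprod (zmodGen f Φ D.Φ_pow)
      fun x y => (zmodGen_commute D.Φ_pow (D.Φ_central _).symm y).symm
  have hG₀g : ∀ x ∈ G₀, x ∈ g.range := fun x hx =>
    ⟨(e ⟨x, hx⟩, 1), (MonoidHom.noncommCoprod_apply _ _ _ _).trans (by simp)⟩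
  have hg : g.range = ⊤ := D.eq_top hi _ (fun x hx => hG₀g x (Subgroup.mem_sup_left hx))
    (hG₀g _ (Subgroup.mem_sup_right hSL)) (hG₀g _ (Subgroup.mem_sup_right hcL))
    ⟨(1, Multiplicative.ofAdd ((1 : ℕ) : ZMod f)),
      (MonoidHom.noncommCoprod_apply _ _ _ _).trans (by rw [map_one, one_mul, zmodGen_natCast, pow_one])⟩
  refine nonempty_equiv_of_surjective g (MonoidHom.range_eq_top.1 hg) ?_ ?_
  · rw [hO, Nat.card_prod, Nat.card_perm, Nat.card_fin, Nat.card_congr Multiplicative.toAdd, Nat.card_zmod]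
    rfl
  · rw [Nat.card_prod, Nat.card_perm, Nat.card_fin, Nat.card_congr Multiplicative.toAdd, Nat.card_zmod]
    positivity

end CfsgLib.Geometry
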