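import Cfsg.Agent.Lib.Geometry.OutShapes

/-! A group generated by a four-group, a triality pair and a central cyclic group. -/

set_option autoImplicit false

namespace CfsgLib.Geometry

open scoped commutatorElement

variable {O : Type*} [Group O] [Finite O]

theorem exists_npow_eq {G : Type*} [Group G] [Finite G] {x y : G} (h : y ∈ Subgroup.zpowers x) :
    ∃ n : ℕ, x ^ n = y := mem_powers_iff_mem_zpowers.2 h

/-- The data. -/
structure TriData (V : Subgroup O) (S T Φ : O) (f : ℕ) : Prop where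
  normal : V.Normal
  pos : 1 ≤ f
  S_sq : S * S = 1
  SΦ : Commute S Φ
  TΦ : Commute T Φ
  VΦ : ∀ v ∈ V, Commute v Φ
  cover : ∀ z, (∃ v ∈ V, ∃ i : ℕ, z = v * Φ ^ i ∨ z = v * (S * Φ ^ i)) ∨
    ∃ g g' : O, (∃ v ∈ V, ∃ i : ℕ, g = v * Φ ^ i ∨ g = v * (S * Φ ^ i)) ∧
      (∃ v ∈ V, ∃ i : ℕ, g' = v * Φ ^ i ∨ g' = v * (S * Φ ^ i)) ∧ z = g * T * g'
  T_not : ∀ v ∈ V, ∀ i : ℕ, T ≠ v * Φ ^ i ∧ T ≠ v * (S * Φ ^ i)
  comm_not : ∀ v ∈ V, ∀ i : ℕ, S * T * S * T⁻¹ ≠ v * Φ ^ i ∧ S * T * S * T⁻¹ ≠ v * (S * Φ ^ i)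
  S_not : ∀ v ∈ V, ∀ i : ℕ, S ≠ v * Φ ^ i
  Φ_pow : Φ ^ f = 1
  Φ_dvd : ∀ v ∈ V, ∀ i : ℕ, v * Φ ^ i = 1 → f ∣ i

variable {V : Subgroup O} {S T Φ : O} {f : ℕ}

theorem TriData.Φ_central (D : TriData V S T Φ f) (z : O) : Commute z Φ := by
  have hg : ∀ g, (∃ v ∈ V, ∃ i : ℕ, g = v * Φ ^ i ∨ g = v * (S * Φ ^ i)) → Commute g Φ := by
    rintro g ⟨v, hv, i, rfl | rfl⟩
    · exact (D.VΦ v hv).mul_left ((Commute.refl Φ).pow_left i)
    · exact (D.VΦ v hv).mul_left (D.SΦ.mul_left ((Commute.refl Φ).pow_left i))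
  rcases D.cover z with h | ⟨g, g', h, h', rfl⟩
  · exact hg z h
  · exact ((hg g h).mul_left D.TΦ).mul_left (hg g' h')

/-- The kernel part. -/
def TriData.K (_ : TriData V S T Φ f) : Subgroup O := V ⊔ Subgroup.zpowers Φ

theorem TriData.mem_K (D : TriData V S T Φ f) {z : O} : z ∈ D.K ↔ ∃ v ∈ V, ∃ i : ℕ, z = v * Φ ^ i := by
  haveI := D.normal
  rw [TriData.K, ← SetLike.mem_coe, Subgroup.normal_mul, Set.mem_mul]
  refine ⟨?_, fun ⟨v, hv, i, h⟩ => ⟨v, hv, Φ ^ i, Subgroup.npow_mem_zpowers Φ i, h.symm⟩⟩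
  rintro ⟨v, hv, w, hw, rfl⟩
  obtain ⟨i, rfl⟩ := exists_npow_eq hw
  exact ⟨v, hv, i, rfl⟩

theorem TriData.normal_K (D : TriData V S T Φ f) : D.K.Normal := by
  haveI := D.normal
  haveI : (Subgroup.zpowers Φ).Normal := ⟨fun x hx g => by
    obtain ⟨i, rfl⟩ := Subgroup.mem_zpowers_iff.1 hx
    rw [((D.Φ_central g).zpow_right i).eq, mul_inv_cancel_right]
    exact Subgroup.zpow_mem_zpowers Φ i⟩
  rw [TriData.K]
  infer_instance

/-- The commutator of the two generators. -/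
def TriData.c (_ : TriData V S T Φ f) : O := T * S * T⁻¹ * S

theorem TriData.S_inv (D : TriData V S T Φ f) : S⁻¹ = S := inv_eq_of_mul_eq_one_left D.S_sq

theorem TriData.S_c_S (D : TriData V S T Φ f) : S * D.c * S = D.c⁻¹ := by
  simp only [TriData.c, _root_.mul_inv_rev, inv_inv, D.S_inv, mul_assoc, D.S_sq, mul_one]

theorem TriData.structure' (D : TriData V S T Φ f) :
    D.c ^ 3 ∈ D.K ∧ D.c ∉ D.K ∧
    (∀ z, ∃ v ∈ V, ∃ j i : ℕ, z = v * D.c ^ j * Φ ^ i ∨ z = v * D.c ^ j * (S * Φ ^ i)) ∧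
    D.K.index = 6 := by
  haveI := D.normal_K
  set q := QuotientGroup.mk' D.K with hq
  have hK : ∀ z, q z = 1 ↔ z ∈ D.K := fun z => QuotientGroup.eq_one_iff z
  have hqV : ∀ v ∈ V, q v = 1 := fun v hv => (hK v).2 (Subgroup.mem_sup_left hv)
  have hqΦ : ∀ i : ℕ, q (Φ ^ i) = 1 := fun i =>
    (hK _).2 (Subgroup.mem_sup_right (Subgroup.npow_mem_zpowers Φ i))
  set s := q S with hs
  set t := q T with ht
  have hss : s * s = 1 := by rw [hs, ← map_mul, D.S_sq, map_one]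
  have hs1 : s ≠ 1 := fun h => by
    obtain ⟨v, hv, i, e⟩ := D.mem_K.1 ((hK S).1 h)
    exact D.S_not v hv i e
  have hg : ∀ g, (∃ v ∈ V, ∃ i : ℕ, g = v * Φ ^ i ∨ g = v * (S * Φ ^ i)) → q g = 1 ∨ q g = s := by
    rintro g ⟨v, hv, i, rfl | rfl⟩
    · exact Or.inl (by rw [map_mul, hqV v hv, hqΦ, one_mul])
    · exact Or.inr (by rw [map_mul, map_mul, hqV v hv, hqΦ, one_mul, mul_one])
  have hcard6 : Nat.card (O ⧸ D.K) ≤ 6 := by
    let F6 : Fin 6 → O ⧸ D.K := ![1, s, t, s * t, t * s, s * t * s]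
    have hsur : Function.Surjective F6 := by
      intro x
      induction x using QuotientGroup.induction_on with
      | H z =>
        show ∃ a, F6 a = q z
        rcases D.cover z with h | ⟨g, g', h, h', rfl⟩
        · rcases hg z h with e | e
          · exact ⟨0, e.symm⟩
          · exact ⟨1, e.symm⟩
        · rw [map_mul, map_mul, ← ht]
          rcases hg g h with e | e <;> rcases hg g' h' with e' | e' <;> rw [e, e']
          · exact ⟨2, by simp [F6]⟩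
          · exact ⟨4, by simp [F6]⟩
          · exact ⟨3, by simp [F6]⟩
          · exact ⟨5, by simp [F6]⟩
    simpa using Nat.card_le_card_of_surjective F6 hsur
  have hcK : D.c ∉ D.K := fun h => by
    obtain ⟨v, hv, i, e⟩ := D.mem_K.1 (inv_mem h)
    refine (D.comm_not v hv i).1 ?_
    rw [← e, TriData.c]
    simp only [_root_.mul_inv_rev, inv_inv, D.S_inv, mul_assoc]
  have hne : t * s ≠ s * t := fun h => hcK ((hK _).1 (by
    show q (T * S * T⁻¹ * S) = 1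
    rw [map_mul, map_mul, map_mul, map_inv, ← hs, ← ht, h, mul_inv_cancel_right, hss]))
  have hord : orderOf s = 2 := orderOf_eq_prime (by rw [pow_two, hss]) hs1
  have h2 : 2 ∣ Nat.card (O ⧸ D.K) := hord ▸ orderOf_dvd_natCard s
  haveI : Fact (Nat.Prime 2) := ⟨Nat.prime_two⟩
  haveI : Fact (Nat.Prime 3) := ⟨Nat.prime_three⟩
  have hpos : 0 < Nat.card (O ⧸ D.K) := Nat.card_pos
  have hcard : Nat.card (O ⧸ D.K) = 6 := by
    by_contra hne6
    have hcases : Nat.card (O ⧸ D.K) = 2 ∨ Nat.card (O ⧸ D.K) = 2 ^ 2 := by omega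
    rcases hcases with h | h
    · haveI := isCyclic_of_prime_card h
      exact hne (IsMulCommutative.is_comm.comm t s)
    · exact hne (IsPGroup.commutative_of_card_eq_prime_sq h t s)
  obtain ⟨x, hx⟩ := exists_prime_orderOf_dvd_card' (G := O ⧸ D.K) 3 (by rw [hcard]; norm_num)
  set A := Subgroup.zpowers x with hA
  have hAcard : Nat.card A = 3 := by rw [hA, Nat.card_zpowers, hx]
  have hidx : A.index = 2 := by
    have := A.card_mul_index
    rw [hAcard, hcard] at this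
    omega
  have hcA : q D.c ∈ A := by
    rw [TriData.c, map_mul, map_mul, map_mul, map_inv]
    rw [Subgroup.mul_mem_iff_of_index_two hidx, Subgroup.mul_mem_iff_of_index_two hidx,
      Subgroup.mul_mem_iff_of_index_two hidx, inv_mem_iff]
    tauto
  have hc3 : orderOf (q D.c) = 3 := by
    have h : orderOf (q D.c) ∣ 3 := by
      rw [← hAcard]
      exact Subgroup.orderOf_dvd_natCard A hcA
    rcases (Nat.dvd_prime Nat.prime_three).1 h with e | e
    · exact absurd ((hK _).1 (orderOf_eq_one_iff.1 e)) hcK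
    · exact e
  have hAc : Subgroup.zpowers (q D.c) = A :=
    Subgroup.eq_of_le_of_card_ge (Subgroup.zpowers_le.2 hcA) (by rw [hAcard, Nat.card_zpowers, hc3])
  have hsA : s ∉ A := fun h => by
    have := Subgroup.orderOf_dvd_natCard A h
    rw [hord, hAcard] at this
    norm_num at this
  refine ⟨(hK _).1 (by rw [map_pow, ← hc3]; exact pow_orderOf_eq_one _), hcK, fun z => ?_, ?_⟩
  · have hmem : ∀ y, q y ∈ A → ∃ v ∈ V, ∃ j i : ℕ, y = v * D.c ^ j * Φ ^ i := fun y hy => by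
      rw [← hAc] at hy
      obtain ⟨j, hj⟩ := exists_npow_eq hy
      obtain ⟨v, hv, i, e⟩ := D.mem_K.1 ((hK (y * (D.c ^ j)⁻¹)).1 (by
        rw [map_mul, map_inv, map_pow, hj, mul_inv_cancel]))
      refine ⟨v, hv, j, i, ?_⟩
      rw [mul_inv_eq_iff_eq_mul] at e
      rw [e, mul_assoc, mul_assoc, (((D.Φ_central (D.c ^ j))).pow_right i).eq]
    by_cases hz : q z ∈ A
    · obtain ⟨v, hv, j, i, e⟩ := hmem z hz
      exact ⟨v, hv, j, i, Or.inl e⟩
    · have hzs : q (z * S) ∈ A := by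
        rw [map_mul, Subgroup.mul_mem_iff_of_index_two hidx]
        exact iff_of_false hz hsA
      obtain ⟨v, hv, j, i, e⟩ := hmem _ hzs
      refine ⟨v, hv, j, i, Or.inr ?_⟩
      rw [(D.SΦ.pow_right i).eq, ← mul_assoc, ← e, mul_assoc, D.S_sq, mul_one]
  · exact hcard

theorem TriData.card_K (D : TriData V S T Φ f) : Nat.card D.K = Nat.card V * f := by
  have hΦ : orderOf Φ = f := Nat.dvd_antisymm (orderOf_dvd_of_pow_eq_one D.Φ_pow)
    (D.Φ_dvd 1 (one_mem V) _ (by rw [one_mul]; exact pow_orderOf_eq_one Φ))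
  let m : V × Subgroup.zpowers Φ → D.K := fun x =>
    ⟨x.1 * x.2, mul_mem (Subgroup.mem_sup_left x.1.2) (Subgroup.mem_sup_right x.2.2)⟩
  have hb : Function.Bijective m := by
    constructor
    · rintro ⟨v, w⟩ ⟨v', w'⟩ h
      have h' : (v : O) * w = v' * w' := congrArg Subtype.val h
      obtain ⟨i, hi⟩ : ∃ i : ℕ, Φ ^ i = (w : O) * (w' : O)⁻¹ := by
        exact exists_npow_eq (mul_mem w.2 (inv_mem w'.2))
      have h1 : ((v' : O)⁻¹ * v) * Φ ^ i = 1 := by rw [hi, mul_assoc, ← mul_assoc (v : O), h']; group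
      have h2 : Φ ^ i = 1 := by
        rw [← hΦ] at D
        exact orderOf_dvd_iff_pow_eq_one.1 (D.Φ_dvd _ (mul_mem (inv_mem v'.2) v.2) i h1)
      rw [h2] at hi
      have hw : w = w' := Subtype.ext (mul_inv_eq_one.1 hi.symm)
      subst hw
      exact Prod.ext (Subtype.ext (mul_right_cancel h')) rfl
    · rintro ⟨z, hz⟩
      obtain ⟨v, hv, i, rfl⟩ := D.mem_K.1 hz
      exact ⟨(⟨v, hv⟩, ⟨_, Subgroup.npow_mem_zpowers Φ i⟩), rfl⟩
  rw [← Nat.card_congr (Equiv.ofBijective m hb), Nat.card_prod, Nat.card_zpowers, hΦ]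

theorem TriData.card_eq (D : TriData V S T Φ f) : Nat.card O = 6 * (Nat.card V * f) := by
  rw [← D.K.index_mul_card, D.card_K, D.structure'.2.2.2]

end CfsgLib.Geometry
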