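import Cfsg.Agent.Lib.Geometry.Quadratic
import Cfsg.Prelude.Def_Classical

/-! A basis of a maximal singular subspace extends to a hyperbolic basis. -/

set_option autoImplicit false

namespace CfsgLib.Geometry

open QuadraticMap

variable {F V : Type*} [Field F] [AddCommGroup V] [Module F V] [FiniteDimensional F V]

omit [FiniteDimensional F V] in
/-- A combination of pairwise orthogonal singular vectors is singular. -/
theorem singular_sum (Q : QuadraticForm F V) {m : ℕ} (c : Fin m → F) (u : Fin m → V)
    (h1 : ∀ i, Q (u i) = 0) (h2 : ∀ i j, polar Q (u i) (u j) = 0) : Q (∑ i, c i • u i) = 0 := by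
  induction (Finset.univ : Finset (Fin m)) using Finset.induction_on with
  | empty => simp
  | insert a s ha ih =>
    rw [Finset.sum_insert ha, map_add', map_smul', h1, ih, ← polarBilin_apply_apply]
    simp [map_sum, h2]

theorem exists_hyperbolic_basis (Q : QuadraticForm F V) (hQ : (polarBilin Q).Nondegenerate) {m : ℕ}
    (hn : Module.finrank F V = 2 * m) (b : Fin m → V) (hli : LinearIndependent F b) (hb : ∀ i, Q (b i) = 0)
    (hbb : ∀ i j, polar Q (b i) (b j) = 0) :
    ∃ E : (Fin m ⊕ Fin m → F) ≃ₗ[F] V, (∀ z, Q (E z) = Cfsg.quadFormPlus m F z) ∧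
      ∀ i, E (Pi.single (Sum.inl i) 1) = b i := by
  classical
  have hex : ∀ i, ∃ w, (∀ h ∈ Submodule.span F (b '' {i}ᶜ), polar Q w h = 0) ∧ polar Q w (b i) = 1 := fun i =>
    exists_polar hQ _ (hli.notMem_span_image (by simp)) 1
  choose g hg hgb using hex
  have hgd : ∀ i j, polar Q (g i) (b j) = if i = j then 1 else 0 := fun i j => by
    by_cases h : i = j
    · subst h; rw [if_pos rfl, hgb]
    · rw [if_neg h, hg i _ (Submodule.subset_span ⟨j, fun e => h (Set.mem_singleton_iff.1 e).symm, rfl⟩)]
  let c : Fin m → Fin m → F := fun i j =>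
    if i = j then -Q (g i) else if i < j then -polar Q (g i) (g j) else 0
  let f : Fin m → V := fun i => g i + ∑ j, c i j • b j
  have hgs : ∀ i k, polar Q (g i) (∑ j, c k j • b j) = c k i := fun i k => by
    rw [← polarBilin_apply_apply]
    simp [map_sum, hgd]
  have hss : ∀ i k, polar Q (∑ j, c i j • b j) (∑ j, c k j • b j) = 0 := fun i k => by
    rw [← polarBilin_apply_apply]
    simp [map_sum, LinearMap.sum_apply, hbb]
  have hbf : ∀ i k, polar Q (b i) (f k) = if k = i then 1 else 0 := fun i k => by
    rw [QuadraticMap.polar_add_right, polar_comm, hgd, ← polarBilin_apply_apply]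
    simp [map_sum, hbb]
  have hf : ∀ i, Q (f i) = 0 := fun i => by
    show Q (g i + ∑ j, c i j • b j) = 0
    rw [map_add', singular_sum Q _ b hb hbb, hgs]
    simp [c]
  have hff : ∀ i k, polar Q (f i) (f k) = 0 := fun i k => by
    rcases eq_or_ne i k with rfl | hik
    · rw [QuadraticMap.polar_self, hf, smul_zero]
    show polar Q (g i + ∑ j, c i j • b j) (g k + ∑ j, c k j • b j) = 0
    rw [QuadraticMap.polar_add_left, QuadraticMap.polar_add_right, QuadraticMap.polar_add_right, hgs, hss,
      polar_comm Q (∑ j, c i j • b j) (g k), hgs]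
    rcases lt_or_gt_of_ne hik with h | h
    · simp [c, hik, hik.symm, h, not_lt.2 h.le]
    · simp [c, hik, hik.symm, h, not_lt.2 h.le, polar_comm Q (g k) (g i)]
  let L : (Fin m ⊕ Fin m → F) →ₗ[F] V :=
    { toFun := fun z => (∑ i, z (.inl i) • b i) + ∑ i, z (.inr i) • f i
      map_add' := fun z z' => by simp [add_smul, Finset.sum_add_distrib]; abel
      map_smul' := fun r z => by simp [Finset.smul_sum, smul_smul] }
  have hLb : ∀ z i, polar Q (L z) (b i) = z (.inr i) := fun z i => by
    show polar Q (_ + _) _ = _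
    rw [← polarBilin_apply_apply]
    simp [map_sum, LinearMap.sum_apply, hbb, polar_comm Q (f _) (b i), hbf]
  have hLf : ∀ z i, polar Q (L z) (f i) = z (.inl i) := fun z i => by
    show polar Q (_ + _) _ = _
    rw [← polarBilin_apply_apply]
    simp [map_sum, LinearMap.sum_apply, hff, hbf]
  have hinj : Function.Injective L := by
    refine (injective_iff_map_eq_zero L).2 fun z hz => ?_
    funext s
    rcases s with i | i
    · rw [← hLf z i, hz, QuadraticMap.polar_zero_left]; rfl
    · rw [← hLb z i, hz, QuadraticMap.polar_zero_left]; rfl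
  refine ⟨L.linearEquivOfInjective hinj (by rw [Module.finrank_fintype_fun_eq_card]; simp [hn]; omega),
    fun z => ?_, fun i => ?_⟩
  · rw [LinearMap.linearEquivOfInjective_apply]
    show Q (_ + _) = _
    rw [map_add', singular_sum Q _ b hb hbb, singular_sum Q _ f hf hff, ← polarBilin_apply_apply]
    simp [map_sum, LinearMap.sum_apply, hbf, Cfsg.quadFormPlus, mul_comm]
  · rw [LinearMap.linearEquivOfInjective_apply]
    show (∑ j, Pi.single (M := fun _ => F) (Sum.inl i) 1 (.inl j) • b j) + _ = _
    simp [Pi.single_apply]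

end CfsgLib.Geometry
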