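import Cfsg.Agent.Lib.Geometry.EvenTypes

/-! Similarities with a prescribed multiplier in even dimension. -/

set_option autoImplicit false

namespace CfsgLib.Geometry

open Matrix QuadraticMap

variable {F : Type*} [Field F]

/-- `diag(ν, …, ν, 1, …, 1)`. -/
def plusMultMat (m : ℕ) (ν : F) : Matrix (Fin m ⊕ Fin m) (Fin m ⊕ Fin m) F :=
  fromBlocks (ν • 1) 0 0 1

theorem plusMultMat_det (m : ℕ) (ν : F) : (plusMultMat m ν).det = ν ^ m := by
  rw [plusMultMat, det_fromBlocks_zero₂₁, det_smul, det_one, Fintype.card_fin]; ring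

theorem plusMultMat_mulVec (m : ℕ) (ν : F) (v : Fin m ⊕ Fin m → F) :
    plusMultMat m ν *ᵥ v = Sum.elim (fun i => ν * v (.inl i)) (fun i => v (.inr i)) := by
  rw [plusMultMat, fromBlocks_mulVec]
  funext z
  rcases z with i | i <;> simp [smul_mulVec]

/-- Multiplication by `c + d θ` on the binary block. -/
def binMultMat (a b c d : F) : Matrix (Fin 2) (Fin 2) F := !![c, -(b * d); d, c + a * d]

/-- The similarity `diag(ν, …, 1, …) ⊕ (c + d θ)` of the minus form. -/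
def minusMultMat (m : ℕ) (a b c d ν : F) :
    Matrix ((Fin m ⊕ Fin m) ⊕ Fin 2) ((Fin m ⊕ Fin m) ⊕ Fin 2) F :=
  fromBlocks (plusMultMat m ν) 0 0 (binMultMat a b c d)

theorem minusMultMat_det {m : ℕ} {a b c d ν : F} (h : c * c + a * c * d + b * d * d = ν) :
    (minusMultMat m a b c d ν).det = ν ^ (m + 1) := by
  rw [minusMultMat, det_fromBlocks_zero₂₁, plusMultMat_det, pow_succ, binMultMat, det_fin_two_of, ← h]; ring

theorem minusMultMat_mulVec (m : ℕ) (a b c d ν : F) (v : (Fin m ⊕ Fin m) ⊕ Fin 2 → F) :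
    minusMultMat m a b c d ν *ᵥ v = Sum.elim
      (Sum.elim (fun i => ν * v (.inl (.inl i))) (fun i => v (.inl (.inr i))))
      ![c * v (.inr 0) - b * d * v (.inr 1), d * v (.inr 0) + (c + a * d) * v (.inr 1)] := by
  rw [minusMultMat, fromBlocks_mulVec, plusMultMat_mulVec]
  funext z
  rcases z with (i | i) | i
  · simp
  · simp
  · fin_cases i <;> simp [binMultMat, Matrix.mulVec, dotProduct, Fin.sum_univ_two] <;> ring

theorem exists_plus_mult (m : ℕ) (ν : Fˣ) :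
    ∃ g : Cfsg.Geo.quadSimilarityGroup ⇑(matQuad (plusMat m F)),
      ((g : GL (Fin m ⊕ Fin m) F) : Matrix (Fin m ⊕ Fin m) (Fin m ⊕ Fin m) F) = plusMultMat m (ν : F) ∧
      ∀ v, matQuad (plusMat m F)
        (((g : GL (Fin m ⊕ Fin m) F) : Matrix (Fin m ⊕ Fin m) (Fin m ⊕ Fin m) F) *ᵥ v) =
          (ν : F) * matQuad (plusMat m F) v := by
  let g : GL (Fin m ⊕ Fin m) F := GeneralLinearGroup.mkOfDetNeZero (plusMultMat m (ν : F))
    (by rw [plusMultMat_det]; exact pow_ne_zero _ ν.ne_zero)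
  have h : ∀ v, matQuad (plusMat m F) ((g : Matrix (Fin m ⊕ Fin m) (Fin m ⊕ Fin m) F) *ᵥ v) =
      (ν : F) * matQuad (plusMat m F) v := fun v => by
    show matQuad (plusMat m F) (plusMultMat m (ν : F) *ᵥ v) = _
    rw [plusMultMat_mulVec, coe_matQuad_plus]
    simp [Cfsg.quadFormPlus, Finset.mul_sum, mul_assoc]
  exact ⟨⟨g, ν, h⟩, rfl, h⟩

theorem exists_minus_mult (m : ℕ) {a b c d : F} (ν : Fˣ) (h : c * c + a * c * d + b * d * d = (ν : F)) :
    ∃ g : Cfsg.Geo.quadSimilarityGroup ⇑(matQuad (minusMat m F a b)),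
      ((g : GL ((Fin m ⊕ Fin m) ⊕ Fin 2) F) : Matrix ((Fin m ⊕ Fin m) ⊕ Fin 2) ((Fin m ⊕ Fin m) ⊕ Fin 2) F) =
        minusMultMat m a b c d (ν : F) ∧
      ∀ v, matQuad (minusMat m F a b) (((g : GL ((Fin m ⊕ Fin m) ⊕ Fin 2) F) :
        Matrix ((Fin m ⊕ Fin m) ⊕ Fin 2) ((Fin m ⊕ Fin m) ⊕ Fin 2) F) *ᵥ v) =
          (ν : F) * matQuad (minusMat m F a b) v := by
  let g : GL ((Fin m ⊕ Fin m) ⊕ Fin 2) F := GeneralLinearGroup.mkOfDetNeZero (minusMultMat m a b c d (ν : F))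
    (by rw [minusMultMat_det h]; exact pow_ne_zero _ ν.ne_zero)
  have h' : ∀ v, matQuad (minusMat m F a b)
      ((g : Matrix ((Fin m ⊕ Fin m) ⊕ Fin 2) ((Fin m ⊕ Fin m) ⊕ Fin 2) F) *ᵥ v) =
      (ν : F) * matQuad (minusMat m F a b) v := fun v => by
    show matQuad (minusMat m F a b) (minusMultMat m a b c d (ν : F) *ᵥ v) = _
    rw [minusMultMat_mulVec, coe_matQuad_minus]
    simp [Cfsg.quadFormMinus, Finset.mul_sum, mul_add, mul_assoc]
    rw [← h]
    ring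
  exact ⟨⟨g, ν, h'⟩, rfl, h'⟩

/-- The norm of the quadratic extension is onto. -/
theorem exists_binary_value [Fintype F] {a b : F}
    (hab : ∀ z₁ z₂ : F, z₁ ^ 2 + a * z₁ * z₂ + b * z₂ ^ 2 = 0 → z₁ = 0 ∧ z₂ = 0) {ν : F} (h2 : (2 : F) ≠ 0) :
    ∃ c d : F, c * c + a * c * d + b * d * d = ν := by
  have hD : a * a - 4 * b ≠ 0 := fun h => (binAniso_discr hab).2 h2 (h ▸ IsSquare.zero)
  obtain ⟨x, y, hxy⟩ : ∃ x y : F, (Polynomial.X ^ 2 : Polynomial F).eval x +
      (Polynomial.C (-(a * a - 4 * b)) * Polynomial.X ^ 2 + Polynomial.C (-(4 * ν))).eval y = 0 :=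
    FiniteField.exists_root_sum_quadratic (by simp) (by
      rw [Polynomial.degree_add_eq_left_of_degree_lt]
      · exact Polynomial.degree_C_mul_X_pow 2 (neg_ne_zero.2 hD)
      · rw [Polynomial.degree_C_mul_X_pow 2 (neg_ne_zero.2 hD)]
        exact lt_of_le_of_lt Polynomial.degree_C_le (by norm_num))
      (FiniteField.odd_card_of_char_ne_two fun h => h2 (by
        haveI := ringChar.of_eq h; exact CharTwo.two_eq_zero))
  simp only [Polynomial.eval_add, Polynomial.eval_mul, Polynomial.eval_pow, Polynomial.eval_X,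
    Polynomial.eval_C] at hxy
  refine ⟨(x - a * y) / 2, y, ?_⟩
  field_simp
  linear_combination hxy

variable {ι : Type} [Fintype ι] [DecidableEq ι]

theorem EvenHyp.simMult_of_spec [Finite F] {M : Matrix ι ι F} {k : ℕ} (D : EvenHyp M k)
    {g : Cfsg.Geo.quadSimilarityGroup ⇑(matQuad M)} {ν : F}
    (h : ∀ v, matQuad M (((g : GL ι F) : Matrix ι ι F) *ᵥ v) = ν * matQuad M v) :
    (simMult D.ne g : F) = ν := simMult_eq D.ne g h

/-- A class-preserving similarity with prescribed multiplier. -/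
theorem EvenHyp.exists_mult [Fintype F] {M : Matrix ι ι F} {k : ℕ} (D : EvenHyp M k) (h2 : (2 : F) ≠ 0)
    (ν : Fˣ) : ∃ g ∈ clsSub M k, (simMult D.ne g : F) = ν := by
  obtain ⟨m, rfl⟩ : ∃ m, k = m + 1 := ⟨k - 1, by have := D.four_le; omega⟩
  have hm : 3 ≤ m := by have := D.four_le; omega
  suffices h : ∃ g : Cfsg.Geo.quadSimilarityGroup ⇑(matQuad M),
      ∀ v, matQuad M (((g : GL ι F) : Matrix ι ι F) *ᵥ v) = (ν : F) * matQuad M v by
    obtain ⟨g, hg⟩ := h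
    obtain ⟨v, hv⟩ := D.ne
    rcases D.mem_or_mul_refl g hv with hc | hc
    · exact ⟨g, hc, D.simMult_of_spec hg⟩
    · refine ⟨_, hc, ?_⟩
      rw [map_mul, simMult_iso, mul_one, D.simMult_of_spec hg]
  have key : ∀ {κ : Type} [Fintype κ] [DecidableEq κ] (N : Matrix κ κ F),
      (∃ g : Cfsg.Geo.quadSimilarityGroup ⇑(matQuad N),
        ∀ v, matQuad N (((g : GL κ F) : Matrix κ κ F) *ᵥ v) = (ν : F) * matQuad N v) →
      IsSimTo ⇑(matQuad M) ⇑(matQuad N) →
      ∃ g : Cfsg.Geo.quadSimilarityGroup ⇑(matQuad M),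
        ∀ v, matQuad M (((g : GL ι F) : Matrix ι ι F) *ᵥ v) = (ν : F) * matQuad M v := by
    rintro κ _ _ N ⟨g, hg⟩ hs
    obtain ⟨T⟩ := hs.nonempty_formSim
    refine ⟨T.simEquiv g, fun v => ?_⟩
    obtain ⟨w, rfl⟩ := T.equiv.surjective v
    show matQuad M (((conjGL T.equiv (g : GL κ F) : GL ι F) : Matrix ι ι F) *ᵥ _) = _
    rw [conjGL_mulVec, T.map_app, T.map_app, hg]; ring
  rcases isSimTo_even (matQuad M) D.nondeg D.card_eq with p | ⟨a, b, hab, p⟩
  · obtain ⟨g, -, hg⟩ := exists_plus_mult (m + 1) ν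
    exact key _ ⟨g, hg⟩ (by rwa [coe_matQuad_plus])
  · obtain ⟨c, d, hcd⟩ := exists_binary_value hab (ν := (ν : F)) h2
    obtain ⟨g, -, hg⟩ := exists_minus_mult m ν hcd
    exact key _ ⟨g, hg⟩ (by rwa [coe_matQuad_minus])

end CfsgLib.Geometry
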