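import Cfsg.Agent.Lib.Geometry.Triality
import Cfsg.Agent.Lib.Geometry.EvenSims
import Cfsg.Agent.Lib.Geometry.PGOStd

/-! The two generators of the inner-diagonal classes of the eight-dimensional plus group. -/

set_option autoImplicit false
set_option maxHeartbeats 2000000

namespace CfsgLib.Geometry.Oct

open Matrix QuadraticMap

variable {F : Type*} [Field F]

/-- The diagonal octonion. -/
def dvec (ν : F) : V F := Sum.elim ![ν, 0, 0, 0] ![1, 0, 0, 0]

theorem Q8_dvec (ν : F) : Q F (dvec ν) = ν := by simp [Q8_apply, dvec]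

theorem dvec_ne (ν : Fˣ) : Q F (dvec (ν : F)) ≠ 0 := by rw [Q8_dvec]; exact ν.ne_zero

theorem mul_dvec (ν : F) (x : V F) :
    mul (dvec ν) x = Sum.elim (fun i => ν * x (.inl i)) (fun i => x (.inr i)) := by
  apply ext8 <;> simp [mul, dvec]

variable [Finite F]

/-- Left multiplication by the diagonal octonion. -/
noncomputable def clsB (ν : Fˣ) : Sim F := lmul (dvec (ν : F)) (dvec_ne ν)

/-- The sandwich of the diagonal octonion. -/
noncomputable def clsA (ν : Fˣ) : Sim F := simIso _ (twoRefl (dvec (ν : F)) (dvec_ne ν))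

/-- The inverse. -/
noncomputable def clsC (ν : Fˣ) : Sim F := lmul (dvec ((ν⁻¹ : Fˣ) : F)) (dvec_ne ν⁻¹)

theorem clsB_coe (ν : Fˣ) :
    ((clsB ν : GL (Fin 4 ⊕ Fin 4) F) : Matrix (Fin 4 ⊕ Fin 4) (Fin 4 ⊕ Fin 4) F) = plusMultMat 4 (ν : F) :=
  matrix_eq_of_mulVec fun v => by
    rw [plusMultMat_mulVec, ← mul_dvec]
    exact ap_lmul _ _ v

theorem clsB_mult (ν : Fˣ) : simMult (evenHyp8 (F := F)).ne (clsB ν) = ν :=
  Units.ext ((evenHyp8 (F := F)).simMult_of_spec fun v => by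
    rw [clsB_coe, plusMultMat_mulVec, ← mul_dvec]; exact (Q8_mul _ _).trans (by rw [Q8_dvec]))

theorem clsA_apply (ν : Fˣ) (v : V F) :
    ap (clsA ν) v = (ν : F)⁻¹ • mul (mul (dvec (ν : F)) v) (dvec (ν : F)) := by
  rw [clsA, ap_twoRefl, Q8_dvec]

/-- The second related triple. -/
theorem trip_mem' (ν : Fˣ) :
    ((clsB ν, rmul (dvec (ν : F)) (dvec_ne ν) * lmul (dvec (ν : F)) (dvec_ne ν), clsC ν) :
      Sim F × Sim F × Sim F) ∈ Trip F := fun x y => by
  simp only [clsB, clsC, ap_mul, ap_lmul, ap_rmul]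
  apply ext8 <;> simp [mul, dvec] <;> field_simp

theorem clsA_comm (ν : Fˣ) : Commute (clsA ν) (clsB ν) := by
  refine ext_ap fun v => ?_
  rw [ap_mul, ap_mul, clsA_apply, clsA_apply, clsB, ap_lmul, ap_lmul, mul_smul']
  apply ext8 <;> simp [mul, dvec] <;> field_simp

variable {h2 : (2 : F) ≠ 0}

theorem clsA_inv (h2 : (2 : F) ≠ 0) (ν : Fˣ) :
    isoInv (evenHyp8.simHyp h2).nondeg (evenHyp8.simHyp h2).two_ne (twoRefl (dvec (ν : F)) (dvec_ne ν)) =
      (sqHom F ν, 1) := by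
  show orthInvariant _ _ (isomEquiv (Q F) (twoRefl (dvec (ν : F)) (dvec_ne ν))) = _
  rw [twoRefl, MulEquiv.apply_symm_apply, map_mul, orthInvariant_oRefl, orthInvariant_oRefl, Prod.mk_mul_mk,
    show Multiplicative.ofAdd (1 : ZMod 2) * Multiplicative.ofAdd 1 = 1 by decide]
  simp only [Q8_dvec, Q8_one]
  rw [show sqMk (one_ne_zero : (1 : F) ≠ 0) = 1 from (sqMk_eq_one_iff _).2 IsSquare.one, _root_.mul_one]
  exact Prod.ext (congrArg (sqHom F) (Units.ext rfl)) rfl

theorem index_clsSub : (clsSub (plusMat 4 F) 4).index = 2 := by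
  have D := evenHyp8 (F := F)
  obtain ⟨v, hv⟩ := D.ne
  rw [Subgroup.index_eq_two_iff]
  refine ⟨simRefl (plusMat 4 F) v hv, fun g => ?_⟩
  have hR : simRefl (plusMat 4 F) v hv ∉ clsSub (plusMat 4 F) 4 := D.refl_not_mem hv
  rcases D.mem_or_mul_refl g hv with h | h
  · exact Or.inr ⟨h, fun h' => hR ((Subgroup.mul_mem_cancel_left _ h).1 h')⟩
  · exact Or.inl ⟨h, fun h' => hR ((Subgroup.mul_mem_cancel_left _ h').1 h)⟩

theorem clsA_mem (ν : Fˣ) : clsA ν ∈ clsSub (plusMat 4 F) 4 := by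
  by_cases h2 : (2 : F) = 0
  · rw [clsA, evenHyp8.iso_mem_two h2, twoRefl, MulEquiv.apply_symm_apply, map_mul, show dicksonHom _ _ (oRefl (Q F) _ _) = Multiplicative.ofAdd 1 from dicksonHom_refl _ _ _,
      show dicksonHom _ _ (oRefl (Q F) one _) = Multiplicative.ofAdd 1 from dicksonHom_refl _ _ _]
    decide
  · rw [evenHyp8.mem_clsSub_odd h2, clsA, simChi_iso]
    exact (detHom_eq_one_iff (evenHyp8.simHyp h2).nondeg h2 _).2 (congrArg Prod.snd (clsA_inv h2 ν))

theorem clsB_mem (ν : Fˣ) : clsB ν ∈ clsSub (plusMat 4 F) 4 := by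
  by_cases h2 : (2 : F) = 0
  · obtain ⟨t, ht⟩ := exists_sqrt_unit h2 ν
    have e : clsB ν = clsB t * clsB t := ext_ap fun v => by
      rw [ap_mul, clsB, clsB, ap_lmul, ap_lmul, ap_lmul, mul_dvec, mul_dvec, mul_dvec, ← ht]
      funext i
      rcases i with i | i <;> simp [mul_assoc]
    rw [e, Subgroup.mul_mem_iff_of_index_two index_clsSub]
  · rw [evenHyp8.mem_clsSub_odd h2, simChi_eq_one_iff evenHyp8.ne 4, clsB_coe, plusMultMat_det, clsB_mult]

/-- Odd characteristic: the four classes. -/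
theorem exists_classes8 (h2 : (2 : F) ≠ 0) : ∃ ν : Fˣ,
    let a := outHom ⇑(Q F) (clsA ν)
    let b := outHom ⇑(Q F) (clsB ν)
    a ≠ 1 ∧ b ≠ 1 ∧ a ≠ b ∧ a * a = 1 ∧ Commute a b ∧
    ∀ g, g ∈ clsSub (plusMat 4 F) 4 →
      outHom ⇑(Q F) g = 1 ∨ outHom ⇑(Q F) g = a ∨ outHom ⇑(Q F) g = b ∨ outHom ⇑(Q F) g = a * b := by
  haveI := Fintype.ofFinite F
  have E := evenHyp8.simHyp h2
  obtain ⟨ν, hν⟩ := exists_nonsquare_unit (F := F) h2
  have hν' : sqHom F ν ≠ 1 := fun h => hν ((sqHom_eq_one_iff ν).1 h)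
  have hs := clsA_inv h2 ν
  have hchi : ∀ g, g ∈ clsSub (plusMat 4 F) 4 → E.chi g = 1 := fun g hg => (evenHyp8.mem_clsSub_odd h2 g).1 hg
  have hmB : E.mult (clsB ν) = ν := clsB_mult ν
  set a := outHom ⇑(Q F) (clsA ν) with ha
  set b := outHom ⇑(Q F) (clsB ν) with hb
  have hcover : ∀ g, g ∈ clsSub (plusMat 4 F) 4 → sqHom F (E.mult g) = 1 → outHom _ g = 1 ∨ outHom _ g = a := by
    intro g hg hsq
    obtain ⟨c, h, rfl, hh⟩ := E.exists_scalar_mul_iso hsq
    rw [map_mul (outHom _), E.outHom_scalar, one_mul]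
    exact E.special_cover hν' hs h (hh.trans (hchi _ hg))
  have ha1 : a ≠ 1 := fun h => by
    refine (E.outHom_iso_eq_one_iff hν' hs).1 h ?_
    rw [det_plus_gram, (show Even 4 from ⟨2, rfl⟩).neg_one_pow]
    exact IsSquare.one
  have hmult : ∀ g, outHom ⇑(Q F) g = 1 ∨ outHom ⇑(Q F) g = a → sqHom F (E.mult g) = 1 := by
    intro g hg
    have key : ∀ g, outHom ⇑(Q F) g = 1 → sqHom F (E.mult g) = 1 := fun g hg => by
      obtain ⟨h, c, rfl⟩ : ∃ (h : Cfsg.isometryGroup F ⇑(Q F)) (c : Fˣ), g = simScalar (Q F) c * simIso _ h := by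
        obtain ⟨h, -, c, e⟩ := (mem_innPre_iff E.nondeg E.five_le _).1 ((outHom_eq_one_iff _).1 hg)
        exact ⟨h, c, e⟩
      rw [map_mul, show E.mult (simIso _ h) = 1 from simMult_iso _ _,
        show E.mult (simScalar (Q F) c) = c * c from simMult_scalar _ _ c, _root_.mul_one, map_mul, sqClass_mul_self]
    rcases hg with hg | hg
    · exact key g hg
    · have := key (g * (clsA ν)⁻¹) (by rw [map_mul, map_inv, hg, mul_inv_cancel])
      rwa [map_mul, map_inv, show E.mult (clsA ν) = 1 from simMult_iso _ _, inv_one, _root_.mul_one] at this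
  have hb1 : sqHom F (E.mult (clsB ν)) ≠ 1 := by rw [hmB]; exact hν'
  have haa : a * a = 1 := by
    rcases hcover (clsA ν * clsA ν) (mul_mem (clsA_mem ν) (clsA_mem ν))
      (by rw [map_mul, map_mul, sqClass_mul_self]) with h | h <;> rw [map_mul] at h
    · exact h
    · exact absurd (mul_eq_left.1 h) ha1
  refine ⟨ν, ha1, fun h => hb1 (hmult _ (Or.inl h)), fun h => hb1 (hmult _ (Or.inr h.symm)), haa,
    (clsA_comm ν).map (outHom ⇑(Q F)), ?_⟩
  intro g hg
  rcases sqClass_cases E.two_ne hν' (sqHom F (E.mult g)) with h | h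
  · rcases hcover g hg h with e | e
    · exact Or.inl e
    · exact Or.inr (Or.inl e)
  · have h' := hcover (g * (clsB ν)⁻¹) (mul_mem hg (inv_mem (clsB_mem ν)))
      (by rw [map_mul, map_mul, map_inv, map_inv, h, hmB, mul_inv_cancel])
    rw [map_mul, map_inv, mul_inv_eq_iff_eq_mul, mul_inv_eq_iff_eq_mul, one_mul, ← hb] at h'
    rcases h' with e | e
    · exact Or.inr (Or.inr (Or.inl e))
    · exact Or.inr (Or.inr (Or.inr e))

theorem commutator_sim_le : commutator (Sim F) ≤ clsSub (plusMat 4 F) 4 := by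
  have hidx := index_clsSub (F := F)
  rw [commutator_def, Subgroup.commutator_le]
  intro x _ y _
  rw [commutatorElement_def, Subgroup.mul_mem_iff_of_index_two hidx, Subgroup.mul_mem_iff_of_index_two hidx,
    Subgroup.mul_mem_iff_of_index_two hidx, inv_mem_iff, inv_mem_iff]
  tauto

theorem outHom_cls_comm {g h : Sim F} (hg : g ∈ clsSub (plusMat 4 F) 4) (hh : h ∈ clsSub (plusMat 4 F) 4) :
    Commute (outHom ⇑(Q F) g) (outHom ⇑(Q F) h) := by
  by_cases h2 : (2 : F) = 0
  · rw [show outHom ⇑(Q F) g = 1 from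
      (QuotientGroup.eq_one_iff _).2 ((evenHyp8.map_clsSub_two h2).le ⟨g, hg, rfl⟩)]
    exact Commute.one_left _
  · obtain ⟨ν, -, -, -, -, hab, hc⟩ := exists_classes8 h2
    rcases hc g hg with e | e | e | e <;> rcases hc h hh with e' | e' | e' | e' <;> rw [e, e'] <;>
      first
        | exact Commute.one_left _
        | exact Commute.one_right _
        | exact Commute.refl _
        | exact hab
        | exact hab.symm
        | exact (Commute.refl _).mul_right hab
        | exact ((Commute.refl _).mul_right hab).symm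
        | exact hab.symm.mul_right (Commute.refl _)
        | exact (hab.symm.mul_right (Commute.refl _)).symm

end CfsgLib.Geometry.Oct
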