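import Cfsg.Agent.Lib.Geometry.OutEven

/-! The shape of the outer automorphism group in even dimension. -/

set_option autoImplicit false

namespace CfsgLib.Geometry

section Group

variable {G : Type*} [Group G] {a b s c : G} {f : ℕ}

theorem commute_even_pow (hac : Commute a c) (haa : a * a = 1)
    (hcb : c * b * c⁻¹ = a * b) (j : ℕ) : Commute (c ^ (2 * j)) b := by
  rw [pow_mul]
  refine Commute.pow_left ?_ j
  show c ^ 2 * b = b * c ^ 2
  rw [mul_inv_eq_iff_eq_mul] at hcb
  calc c ^ 2 * b = c * (c * b) := by rw [pow_two, mul_assoc]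
    _ = c * a * (b * c) := by rw [hcb]; simp [mul_assoc]
    _ = a * (c * b) * c := by rw [← hac.eq]; simp [mul_assoc]
    _ = b * c ^ 2 := by rw [hcb, ← mul_assoc a, ← mul_assoc a, haa, one_mul, pow_two, mul_assoc]

theorem eq_one_of_fix {a b : G} (h : b = a * b) : a = 1 := by
  calc a = a * b * b⁻¹ := by group
    _ = 1 := by rw [← h, mul_inv_cancel]

/-- The generators of the dihedral part. -/
theorem exists_dihedral_gens (haa : a * a = 1) (hss : s * s = 1) (hbb : b * b = 1 ∨ b * b = a)
    (hab : Commute a b) (has : Commute a s) (hsbs : s * b * s = a * b) :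
    ∃ u : G, u ^ 4 = 1 ∧ s * u * s = u⁻¹ ∧ (∀ d : G, Commute d b → Commute d s → Commute u d) ∧
      ∀ S : Subgroup G, u ∈ S → s ∈ S → a ∈ S ∧ b ∈ S := by
  have hs' : s⁻¹ = s := inv_eq_of_mul_eq_one_left hss
  rcases hbb with hb | hb
  · have hb' : b⁻¹ = b := inv_eq_of_mul_eq_one_left hb
    have hu2 : (b * s) * (b * s) = a := by
      calc b * s * (b * s) = b * (s * b * s) := by simp only [mul_assoc]
        _ = b * (a * b) := by rw [hsbs]
        _ = a * (b * b) := by rw [← mul_assoc, ← hab.eq, mul_assoc]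
        _ = a := by rw [hb, mul_one]
    refine ⟨b * s, ?_, ?_, fun d h1 h2 => (h1.symm.mul_left h2.symm), fun S hu hs => ?_⟩
    · rw [show (4 : ℕ) = 2 * 2 from rfl, pow_mul, pow_two, pow_two, hu2, haa]
    · rw [_root_.mul_inv_rev, hs', hb', mul_assoc, mul_assoc b, hss, mul_one]
    · refine ⟨hu2 ▸ mul_mem hu hu, ?_⟩
      have := mul_mem hu hs
      rwa [mul_assoc, hss, mul_one] at this
  · refine ⟨b, ?_, ?_, fun d h1 _ => h1.symm, fun S hu _ => ⟨hb ▸ mul_mem hu hu, hu⟩⟩
    · rw [show (4 : ℕ) = 2 * 2 from rfl, pow_mul, pow_two, pow_two, hb, haa]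
    · rw [hsbs, eq_inv_iff_mul_eq_one, mul_assoc, hb, haa]

theorem shape_dihedral {c' : G} (hf : f ≠ 0) (haa : a * a = 1) (hss : s * s = 1)
    (hbb : b * b = 1 ∨ b * b = a) (hab : Commute a b) (has : Commute a s) (hsbs : s * b * s = a * b)
    (hc : c' ^ f = 1) (hcb : Commute c' b) (hcs : Commute c' s) (hmem : c ∈ Subgroup.closure {c', s})
    (hgen : ∀ S : Subgroup G, a ∈ S → b ∈ S → s ∈ S → c ∈ S → S = ⊤) (hcard : Nat.card G = 8 * f) :
    Nonempty (G ≃* DihedralGroup 4 × Multiplicative (ZMod f)) := by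
  obtain ⟨u, hu, hsu, hcomm, hmem'⟩ := exists_dihedral_gens haa hss hbb hab has hsbs
  refine nonempty_dihedral_cyclic f hf u s c' hu hss hsu hc (hcomm c' hcb hcs) hcs.symm
    (fun S h1 h2 h3 => ?_) hcard
  exact hgen S (hmem' S h1 h2).1 (hmem' S h1 h2).2 h2
    ((Subgroup.closure_le S).2 (Set.insert_subset h3 (Set.singleton_subset_iff.2 h2)) hmem)

end Group

open Matrix QuadraticMap

variable {ι : Type} [Fintype ι] [DecidableEq ι] {F : Type*} [Field F] [Finite F]
variable {M : Matrix ι ι F} {k f : ℕ} {v : ι → F} {hv : matQuad M v ≠ 0} {w : semiSim ⇑(matQuad M)}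

/-- Field element of order `f`. -/
theorem OutData.shape_plus_two (D : OutData M k f v hv w) (h2 : (2 : F) = 0) (hw : w ^ f = 1) :
    Nonempty (Cfsg.Out (Cfsg.POmega F ⇑(matQuad M)) ≃* Multiplicative (ZMod 2 × ZMod f)) :=
  nonempty_two_cyclic f (by have := D.pos; omega) _ (outOf M w)
    (by rw [pow_two]; exact outHom_refl_sq M v hv) (by rw [← map_pow, hw, map_one]) D.comm_out
    (fun S h1 h2' => D.gen_two h2 S h1 h2') (D.card_two h2)

/-- Field element whose `f`-th power is the reflection. -/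
theorem OutData.shape_minus_two (D : OutData M k f v hv w) (h2 : (2 : F) = 0)
    (hw : w ^ f = simIncl _ (simRefl M v hv)) :
    IsCyclic (Cfsg.Out (Cfsg.POmega F ⇑(matQuad M))) ∧
      Nat.card (Cfsg.Out (Cfsg.POmega F ⇑(matQuad M))) = 2 * f :=
  ⟨isCyclic_of_gen (outOf M w) fun S h => D.gen_two h2 S (by
    rw [← outOf_simIncl, ← hw, map_pow]; exact pow_mem h f) h, D.card_two h2⟩

theorem OutData.shape_plus_odd (D : OutData M k f v hv w) (h2 : (2 : F) ≠ 0) (hw : w ^ f = 1) :
    (¬ IsSquare (M + Mᵀ).det → Nonempty (Cfsg.Out (Cfsg.POmega F ⇑(matQuad M)) ≃*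
      Multiplicative (ZMod 2 × ZMod 2 × ZMod f))) ∧
    (IsSquare (M + Mᵀ).det → Nonempty (Cfsg.Out (Cfsg.POmega F ⇑(matQuad M)) ≃*
      DihedralGroup 4 × Multiplicative (ZMod f))) := by
  have hf : f ≠ 0 := by have := D.pos; omega
  obtain ⟨a, b, haa, hbb, hab, has, hsbs, hac, hcb, hgen, hns, hsq⟩ := D.exists_classes h2
  set s := outHom ⇑(matQuad M) (simRefl M v hv)
  set c := outOf M w
  have hss : s * s = 1 := outHom_refl_sq M v hv
  have hcs : Commute c s := D.comm_out.symm
  have hcf : c ^ f = 1 := by rw [← map_pow, hw, map_one]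
  constructor
  · intro hd
    obtain ⟨ha, hcard⟩ := hns hd
    subst ha
    rw [one_mul] at hsbs
    have hcb' : Commute b c := by
      exact (mul_inv_eq_iff_eq_mul.1 (hcb.elim id fun h => h.trans (one_mul b))).symm
    refine nonempty_two_two_cyclic f hf b s c ?_ (by rw [pow_two, hss]) hcf ?_ hcb' hcs.symm
      (fun S h1 h2' h3 => hgen S (one_mem _) h1 h2' h3) hcard
    · rw [pow_two]; rcases hbb with h | h <;> exact h
    · show b * s = s * b
      conv_lhs => rw [← hsbs, mul_assoc, hss, mul_one]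
  · intro hd
    obtain ⟨ha, hcard⟩ := hsq hd
    rcases hcb with h | h
    · exact shape_dihedral (c' := c) hf haa hss hbb hab has hsbs hcf (mul_inv_eq_iff_eq_mul.1 h) hcs
        (Subgroup.subset_closure (by simp)) hgen hcard
    · have hev : Even f := by
        by_contra ho
        obtain ⟨j, hj⟩ := Nat.not_even_iff_odd.1 ho
        have h1 := commute_even_pow hac haa h j
        have h2' : c ^ (2 * j) * c = 1 := by rw [← pow_succ, ← hj, hcf]
        have hc2 : c⁻¹ = c ^ (2 * j) := (eq_inv_of_mul_eq_one_left h2').symm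
        have h3 : Commute c b := by rw [← hc2] at h1; exact inv_inv c ▸ h1.inv_left
        rw [h3.eq, mul_inv_cancel_right] at h
        exact ha (eq_one_of_fix h)
      refine shape_dihedral (c' := c * s) hf haa hss hbb hab has hsbs ?_ ?_ ?_ ?_ hgen hcard
      · obtain ⟨j, hj⟩ := hev
        rw [hcs.mul_pow, hcf, one_mul, hj, ← two_mul, pow_mul, pow_two, hss, one_pow]
      · show c * s * b = b * (c * s)
        calc c * s * b = c * (s * b * s) * s := by simp only [mul_assoc, hss, mul_one]
          _ = c * a * (b * s) := by rw [hsbs]; simp only [mul_assoc]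
          _ = a * (c * b * c⁻¹) * (c * s) := by rw [← hac.eq]; simp only [mul_assoc, inv_mul_cancel_left]
          _ = b * (c * s) := by rw [h, ← mul_assoc a a b, haa, one_mul]
      · exact hcs.mul_left (Commute.refl s)
      · have h1 : c * s ∈ Subgroup.closure ({c * s, s} : Set _) := Subgroup.subset_closure (by simp)
        have h2' : s ∈ Subgroup.closure ({c * s, s} : Set _) := Subgroup.subset_closure (by simp)
        simpa using mul_mem h1 (inv_mem h2')

theorem OutData.shape_minus_odd (D : OutData M k f v hv w) (h2 : (2 : F) ≠ 0)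
    (hw : w ^ f = simIncl _ (simRefl M v hv)) :
    (¬ IsSquare (M + Mᵀ).det → Nonempty (Cfsg.Out (Cfsg.POmega F ⇑(matQuad M)) ≃*
      Multiplicative (ZMod 2 × ZMod (2 * f)))) ∧
    (IsSquare (M + Mᵀ).det → Nonempty (Cfsg.Out (Cfsg.POmega F ⇑(matQuad M)) ≃*
      DihedralGroup 4 × Multiplicative (ZMod f))) := by
  have hf : f ≠ 0 := by have := D.pos; omega
  obtain ⟨a, b, haa, hbb, hab, has, hsbs, hac, hcb, hgen, hns, hsq⟩ := D.exists_classes h2
  set s := outHom ⇑(matQuad M) (simRefl M v hv) with hsdef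
  set c := outOf M w with hcdef
  have hss : s * s = 1 := outHom_refl_sq M v hv
  have hcs : Commute c s := D.comm_out.symm
  have hcf : c ^ f = s := by rw [hcdef, ← map_pow, hw, outOf_simIncl]
  constructor
  · intro hd
    obtain ⟨ha, hcard⟩ := hns hd
    subst ha
    have hcb' : Commute b c := by
      exact (mul_inv_eq_iff_eq_mul.1 (hcb.elim id fun h => h.trans (one_mul b))).symm
    refine nonempty_two_cyclic (2 * f) (by omega) b c ?_ (by rw [mul_comm, pow_mul, hcf, pow_two, hss]) hcb'
      (fun S h1 h2' => hgen S (one_mem _) h1 (hcf ▸ pow_mem h2' f) h2') (by rw [hcard]; ring)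
    rw [pow_two]; rcases hbb with h | h <;> exact h
  · intro hd
    obtain ⟨ha, hcard⟩ := hsq hd
    have hnc : ¬ Commute s b := fun h => by
      rw [h.eq, mul_assoc, hss, mul_one] at hsbs
      exact ha (eq_one_of_fix hsbs)
    rcases hcb with h | h
    · exact absurd (hcf ▸ (show Commute c b from mul_inv_eq_iff_eq_mul.1 h).pow_left f) hnc
    have hodd : Odd f := by
      rw [← Nat.not_even_iff_odd]
      rintro ⟨j, hj⟩
      exact hnc (hcf ▸ (hj ▸ two_mul j ▸ commute_even_pow hac haa h j))
    refine shape_dihedral (c' := c * s) hf haa hss hbb hab has hsbs ?_ ?_ ?_ ?_ hgen hcard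
    · obtain ⟨j, hj⟩ := hodd
      rw [hcs.mul_pow, hcf, hj, pow_succ, pow_mul, pow_two, hss, one_pow, one_mul, hss]
    · show c * s * b = b * (c * s)
      calc c * s * b = c * (s * b * s) * s := by simp only [mul_assoc, hss, mul_one]
        _ = c * a * (b * s) := by rw [hsbs]; simp only [mul_assoc]
        _ = a * (c * b * c⁻¹) * (c * s) := by rw [← hac.eq]; simp only [mul_assoc, inv_mul_cancel_left]
        _ = b * (c * s) := by rw [h, ← mul_assoc a a b, haa, one_mul]
    · exact hcs.mul_left (Commute.refl s)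
    · have h1 : c * s ∈ Subgroup.closure ({c * s, s} : Set _) := Subgroup.subset_closure (by simp)
      have h2' : s ∈ Subgroup.closure ({c * s, s} : Set _) := Subgroup.subset_closure (by simp)
      simpa using mul_mem h1 (inv_mem h2')

end CfsgLib.Geometry
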