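import Cfsg.Agent.Lib.Geometry.OutFrob
import Cfsg.Agent.Lib.Geometry.OutEvenShape
import Cfsg.Agent.Lib.Geometry.EvenTypes
import Cfsg.Agent.Lib.Geometry.AutStd

/-! The reflection and the field element of the plus form. -/

set_option autoImplicit false

namespace CfsgLib.Geometry

open Matrix QuadraticMap

variable {F : Type*} [Field F] {m : ℕ}

/-- The sum of the first hyperbolic pair. -/
def plusVec (m : ℕ) [NeZero m] (F : Type*) [Field F] : Fin m ⊕ Fin m → F :=
  Pi.single (Sum.inl 0) 1 + Pi.single (Sum.inr 0) 1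

theorem plusVec_val [NeZero m] : matQuad (plusMat m F) (plusVec m F) = 1 := by
  rw [coe_matQuad_plus]
  simp [Cfsg.quadFormPlus, plusVec, Pi.single_apply]

theorem plusVec_ne [NeZero m] : matQuad (plusMat m F) (plusVec m F) ≠ 0 := by
  rw [plusVec_val]; exact one_ne_zero

/-- The field element of the plus form. -/
def plusFld (m : ℕ) (τ : F ≃+* F) : semiSim ⇑(matQuad (plusMat m F)) :=
  ⟨SemidirectProduct.inr τ, 1, fun v => by
    rw [coe_matQuad_plus, Units.val_one, one_mul]
    simp [Cfsg.quadFormPlus, slAct]⟩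

theorem plusFld_right (τ : F ≃+* F) :
    (plusFld m τ : GammaL (Fin m ⊕ Fin m) F).right = τ := SemidirectProduct.right_inr _

theorem plusFld_act (τ : F ≃+* F) (v : Fin m ⊕ Fin m → F) :
    slAct (plusFld m τ : GammaL (Fin m ⊕ Fin m) F) v = fun i => τ (v i) := by
  funext i
  simp [plusFld, slAct]

theorem plusFld_pow (τ : F ≃+* F) {k : ℕ} (h : τ ^ k = 1) : plusFld m τ ^ k = 1 :=
  Subtype.ext (by
    show (SemidirectProduct.inr τ : GammaL (Fin m ⊕ Fin m) F) ^ k = 1
    rw [← map_pow, h, map_one])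

theorem simRefl_plusVec [NeZero m] (v : Fin m ⊕ Fin m → F) :
    slAct (simIncl _ (simRefl (plusMat m F) (plusVec m F) plusVec_ne) : GammaL (Fin m ⊕ Fin m) F) v =
      v - (polar (matQuad (plusMat m F)) v (plusVec m F)) • plusVec m F := by
  show slAct (SemidirectProduct.inl _) v = _
  rw [slAct_inl]
  show (((isomEquiv (matQuad (plusMat m F))).symm (oRefl _ (plusVec m F) plusVec_ne) :
    Cfsg.isometryGroup F ⇑(matQuad (plusMat m F))) : GL (Fin m ⊕ Fin m) F).1 *ᵥ v = _
  rw [isomEquiv_symm_mulVec]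
  show refl (matQuad (plusMat m F)) (plusVec m F) plusVec_ne v = _
  rw [refl_apply, plusVec_val, inv_one, one_mul]

theorem plusFld_comm [NeZero m] (τ : F ≃+* F) :
    Commute (simIncl _ (simRefl (plusMat m F) (plusVec m F) plusVec_ne)) (plusFld m τ) := by
  refine Subtype.ext (gammaL_ext ?_ fun v => ?_)
  · show ((SemidirectProduct.inl _ : GammaL (Fin m ⊕ Fin m) F) * SemidirectProduct.inr τ).right =
      (SemidirectProduct.inr τ * (SemidirectProduct.inl _ : GammaL (Fin m ⊕ Fin m) F)).right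
    simp
  · rw [Subgroup.coe_mul, Subgroup.coe_mul, slAct_mul, slAct_mul, simRefl_plusVec, simRefl_plusVec, plusFld_act,
      plusFld_act]
    have hv : ∀ i, τ (plusVec m F i) = plusVec m F i := fun i => by
      simp [plusVec, Pi.single_apply, apply_ite τ]
    have hp : polar (matQuad (plusMat m F)) (fun i => τ (v i)) (plusVec m F) =
        τ (polar (matQuad (plusMat m F)) v (plusVec m F)) := by
      simp only [polar, coe_matQuad_plus, Cfsg.quadFormPlus, Pi.add_apply, map_sub, map_sum, map_mul, map_add, hv]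
    funext i
    simp [hp, hv]

theorem exists_outData_plus [Fintype F] {p f : ℕ} (hp : p.Prime) (hf : 1 ≤ f) (hF : Fintype.card F = p ^ f)
    (hm : 5 ≤ m) :
    ∃ (v : Fin m ⊕ Fin m → F) (hv : matQuad (plusMat m F) v ≠ 0) (w : semiSim ⇑(matQuad (plusMat m F))),
      OutData (plusMat m F) m f v hv w ∧ w ^ f = 1 := by
  haveI : NeZero m := ⟨by omega⟩
  obtain ⟨τ, -, hord, hgen⟩ := exists_frob hp hF
  refine ⟨plusVec m F, plusVec_ne, plusFld m τ, ⟨evenHyp_plus (by omega), ?_, hf, ?_, ?_, plusFld_comm τ⟩,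
    plusFld_pow τ (hord ▸ pow_orderOf_eq_one τ)⟩
  · have h := gammaPOmega_plus_eq_top (F := F) hm
    rwa [← coe_matQuad_plus] at h
  · rw [plusFld_right, hord]
  · simpa only [plusFld_right] using hgen

end CfsgLib.Geometry
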