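import Cfsg.Agent.Lib.Geometry.D4Sims
import Cfsg.Agent.Lib.Geometry.OutPlus
import Cfsg.Agent.Lib.Geometry.AutRootGeom

/-! Triality as an automorphism of the eight-dimensional plus group. -/

set_option autoImplicit false
set_option maxHeartbeats 1000000

namespace CfsgLib.Geometry.Oct

open Matrix QuadraticMap
open scoped commutatorElement

variable {F : Type*} [Field F] [Finite F]

theorem rootHyp8 : ∃ p, RootHyp (Q F) p := rootHyp_exists (evenHyp8 (F := F)).nondeg (by simp)

instance simple_G8 : IsSimpleGroup (G8 F) :=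
  isSimpleGroup_pOmega (Q F) (evenHyp8 (F := F)).nondeg (evenHyp8 (F := F)).five_le

theorem exists_nonid_conj : ∃ x : G8 F, MulAut.conj x ≠ 1 := by
  obtain ⟨p, D⟩ := rootHyp8 (F := F)
  obtain ⟨e, he0, he⟩ := exists_singular D.nondeg (by have := D.five_le'; omega)
  obtain ⟨f, hf, hef⟩ := exists_pair D.nondeg he0 he
  obtain ⟨u, hu0, -, hu⟩ := exists_singular_pairPerp D.nondeg D.five_le' he hf hef
  refine ⟨proot (Q F) e u, fun h => D.proot_ne_one he hef hu hu0 ?_⟩
  rw [show proot (Q F) e u = QuotientGroup.mk (rootEl (Q F) e u) from rfl, ← simAut_simIso_omega,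
    simAut_eq_one_iff D.nondeg D.five_le] at h
  rw [show proot (Q F) e u = QuotientGroup.mk (rootEl (Q F) e u) from rfl, QuotientGroup.eq_one_iff,
    Subgroup.mem_center_iff]
  obtain ⟨c, hc⟩ := (Cfsg.Geo.mem_scalars_iff _).1 h
  intro g
  refine Subtype.ext (Subtype.ext (Units.ext ?_))
  have hc' : (((rootEl (Q F) e u : Cfsg.Omega F ⇑(Q F)) : Cfsg.isometryGroup F ⇑(Q F)) :
      GL (Fin 4 ⊕ Fin 4) F).1 = (c : F) • 1 := hc
  simp only [Subgroup.coe_mul, Units.val_mul, hc', mul_smul_comm, smul_mul_assoc, one_mul, _root_.mul_one]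

theorem conj_injective : Function.Injective (MulAut.conj : G8 F →* MulAut (G8 F)) := by
  rw [← MonoidHom.ker_eq_bot_iff]
  refine ((IsSimpleGroup.eq_bot_or_eq_top_of_normal _ (MonoidHom.normal_ker _))).resolve_right fun h => ?_
  obtain ⟨x, hx⟩ := exists_nonid_conj (F := F)
  exact hx (MonoidHom.mem_ker.1 (h ▸ Subgroup.mem_top x))

theorem commutator_G8 : commutator (G8 F) = ⊤ := by
  refine ((IsSimpleGroup.eq_bot_or_eq_top_of_normal _ inferInstance)).resolve_left fun h => ?_
  obtain ⟨x, hx⟩ := exists_nonid_conj (F := F)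
  refine hx (MulEquiv.ext fun y => ?_)
  have : ⁅x, y⁆ ∈ commutator (G8 F) := Subgroup.commutator_mem_commutator (Subgroup.mem_top _) (Subgroup.mem_top _)
  rw [h, Subgroup.mem_bot, commutatorElement_eq_one_iff_mul_comm] at this
  rw [MulAut.conj_apply, this, mul_inv_cancel_right, MulAut.one_apply]

/-- The homomorphism from the first to the second projection. -/
noncomputable def Theta (F : Type*) [Field F] [Finite F] : (pi0 F).range →* MulAut (G8 F) :=
  (QuotientGroup.lift (pi0 F).ker (pi1 F) fun t ht => MonoidHom.mem_ker.2 (pi1_eq_one (MonoidHom.mem_ker.1 ht))).comp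
    (QuotientGroup.quotientKerEquivRange (pi0 F)).symm.toMonoidHom

theorem Theta_pi (t : Trip F) : Theta F ⟨pi0 F t, t, rfl⟩ = pi1 F t := by
  rw [Theta, MonoidHom.comp_apply, MulEquiv.coe_toMonoidHom]
  rw [show (QuotientGroup.quotientKerEquivRange (pi0 F)).symm ⟨pi0 F t, t, rfl⟩ = (t : Trip F ⧸ (pi0 F).ker) from
    (MulEquiv.symm_apply_eq _).2 rfl]
  rfl

theorem Theta_injective : Function.Injective (Theta F) := by
  rw [← MonoidHom.ker_eq_bot_iff, eq_bot_iff]
  rintro ⟨_, t, rfl⟩ h
  rw [MonoidHom.mem_ker, Theta_pi] at h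
  exact Subgroup.mem_bot.2 (Subtype.ext (pi0_eq_one h))

/-- Inner automorphisms inside the first projection. -/
noncomputable def innIn (F : Type*) [Field F] [Finite F] : G8 F →* (pi0 F).range :=
  (MulAut.conj : G8 F →* MulAut (G8 F)).codRestrict _ fun x => inn_le_range ⟨x, rfl⟩

theorem range_Theta_le : ((Theta F).comp (innIn F)).range ≤ Cfsg.Inn (G8 F) := by
  have h0 : ((Theta F).comp (innIn F)).range ≤ (simAut ⇑(Q F)).range := by
    rintro _ ⟨x, rfl⟩
    obtain ⟨t, ht⟩ := (innIn F x).2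
    rw [MonoidHom.comp_apply, show innIn F x = ⟨pi0 F t, t, rfl⟩ from Subtype.ext ht.symm, Theta_pi]
    exact ⟨_, rfl⟩
  have hperf : ⁅((Theta F).comp (innIn F)).range, ((Theta F).comp (innIn F)).range⁆ =
      ((Theta F).comp (innIn F)).range := by
    rw [MonoidHom.range_eq_map, ← Subgroup.map_commutator, ← commutator_def, commutator_G8]
  have h1 : ((Theta F).comp (innIn F)).range ≤ (clsSub (plusMat 4 F) 4).map (simAut ⇑(Q F)) := by
    rw [← hperf]
    refine (Subgroup.commutator_mono h0 h0).trans ?_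
    rw [MonoidHom.range_eq_map, ← Subgroup.map_commutator]
    exact Subgroup.map_mono commutator_sim_le
  rw [← hperf]
  refine (Subgroup.commutator_mono h1 h1).trans ((Subgroup.commutator_le).2 ?_)
  rintro _ ⟨g, hg, rfl⟩ _ ⟨h, hh, rfl⟩
  refine (QuotientGroup.eq_one_iff _).1 ?_
  show QuotientGroup.mk' (Cfsg.Inn (G8 F)) ⁅simAut _ g, simAut _ h⁆ = 1
  rw [map_commutatorElement, commutatorElement_eq_one_iff_commute]
  exact outHom_cls_comm hg hh

/-- Triality. -/
noncomputable def theta (F : Type*) [Field F] [Finite F] : MulAut (G8 F) :=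
  let e : G8 F ≃* Cfsg.Inn (G8 F) := MonoidHom.ofInjective conj_injective
  let f : G8 F →* G8 F := e.symm.toMonoidHom.comp
    (((Theta F).comp (innIn F)).codRestrict _ fun x => range_Theta_le ⟨x, rfl⟩)
  MulEquiv.ofBijective f (Finite.injective_iff_bijective.1 (e.symm.injective.comp fun x y h =>
    conj_injective (congrArg Subtype.val (Theta_injective (congrArg Subtype.val h)))))

theorem conj_theta (x : G8 F) : MulAut.conj (theta F x) = Theta F (innIn F x) := by
  show ((MonoidHom.ofInjective conj_injective) (theta F x) : MulAut (G8 F)) = _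
  rw [theta, MulEquiv.ofBijective_apply, MonoidHom.comp_apply]
  show (((MonoidHom.ofInjective conj_injective) ((MonoidHom.ofInjective conj_injective).symm _) :
    Cfsg.Inn (G8 F)) : MulAut (G8 F)) = _
  rw [MulEquiv.apply_symm_apply]
  rfl

attribute [irreducible] theta

theorem conj_apply_eq {G : Type*} [Group G] (f : MulAut G) (x : G) :
    MulAut.conj (f x) = f * MulAut.conj x * f⁻¹ := by
  refine MulEquiv.ext fun y => ?_
  show f x * y * (f x)⁻¹ = f (x * f.symm y * x⁻¹)
  simp

/-- Triality conjugates the first component to the second. -/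
theorem theta_conj (t : Trip F) : theta F * pi0 F t = pi1 F t * theta F := by
  refine MulEquiv.ext fun x => conj_injective ?_
  show MulAut.conj (theta F (pi0 F t x)) = MulAut.conj (pi1 F t (theta F x))
  have hsub : innIn F (pi0 F t x) =
      (⟨pi0 F t, t, rfl⟩ : (pi0 F).range) * innIn F x * (⟨pi0 F t, t, rfl⟩ : (pi0 F).range)⁻¹ :=
    Subtype.ext (conj_apply_eq (pi0 F t) x)
  rw [conj_theta, hsub, map_mul, map_mul, map_inv, Theta_pi, conj_apply_eq (pi1 F t), conj_theta]

/-- Field automorphisms act on triples. -/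
theorem trip_conjSim (τ : F ≃+* F) (t : Trip F) :
    ((conjSim (plusFld 4 τ) t.1.1, conjSim (plusFld 4 τ) t.1.2.1, conjSim (plusFld 4 τ) t.1.2.2) :
      Sim F × Sim F × Sim F) ∈ Trip F := by
  have hap : ∀ (g : Sim F) (v : V F), ap (conjSim (plusFld 4 τ) g) (fun i => τ (v i)) = fun i => τ (ap g v i) :=
    fun g v => by
      rw [← plusFld_act, ← plusFld_act τ (ap g v)]
      exact slAct_conj_inl (plusFld 4 τ : GammaL (Fin 4 ⊕ Fin 4) F) _ v
  have hmul : ∀ x y : V F, mul (fun i => τ (x i)) (fun i => τ (y i)) = fun i => τ (mul x y i) := fun x y => by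
    apply ext8 <;> simp [mul]
  intro x y
  obtain ⟨x, rfl⟩ : ∃ x', (fun i => τ (x' i)) = x := ⟨fun i => τ.symm (x i), funext fun i => τ.apply_symm_apply _⟩
  obtain ⟨y, rfl⟩ : ∃ y', (fun i => τ (y' i)) = y := ⟨fun i => τ.symm (y i), funext fun i => τ.apply_symm_apply _⟩
  rw [hmul, hap, hap, hap, hmul]
  exact congrArg (fun z => fun i => τ (z i)) (t.2 x y)

theorem theta_comm_fld (τ : F ≃+* F) : Commute (theta F) (autOmega ⇑(Q F) (plusFld 4 τ)) := by
  set φ := autOmega ⇑(Q F) (plusFld 4 τ) with hφ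
  refine MulEquiv.ext fun x => conj_injective ?_
  show MulAut.conj (theta F (φ x)) = MulAut.conj (φ (theta F x))
  obtain ⟨t, ht⟩ := (innIn F x).2
  rw [conj_theta, conj_apply_eq φ, conj_theta, show innIn F x = ⟨pi0 F t, t, rfl⟩ from Subtype.ext ht.symm,
    Theta_pi, hφ, show pi1 F t = simAut _ t.1.2.1 from rfl, ← simAut_conjSim]
  have h := Theta_pi ⟨_, trip_conjSim τ t⟩
  rw [show pi1 F ⟨_, trip_conjSim τ t⟩ = simAut _ (conjSim (plusFld 4 τ) t.1.2.1) from rfl] at h
  rw [← h]
  refine congrArg _ (Subtype.ext ?_)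
  show MulAut.conj (φ x) = simAut _ (conjSim (plusFld 4 τ) t.1.1)
  rw [conj_apply_eq φ, simAut_conjSim, ← hφ]
  exact congrArg (fun z => φ * z * φ⁻¹) ht.symm

/-- A nilpotent octonion. -/
def nvec (F : Type*) [Field F] : V F := Pi.single (Sum.inl 1) 1

theorem Q8_one_add (r : F) : Q F ((one : V F) + r • nvec F) = 1 := by simp [Q8_apply, nvec, one]

theorem one_add_ne (r : F) : Q F ((one : V F) + r • nvec F) ≠ 0 := by rw [Q8_one_add]; exact one_ne_zero

/-- A sandwich is not conjugate to a left multiplication by a semisimilarity. -/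
theorem not_conj_sandwich (x : semiSim ⇑(Q F)) (r : F) {b : V F} (hbdef : b = one + nvec F) (hb : Q F b ≠ 0) :
    autOmega _ x * simAut ⇑(Q F) (rmul _ (one_add_ne r) * lmul _ (one_add_ne r)) * (autOmega _ x)⁻¹ ≠
      simAut ⇑(Q F) (lmul b hb) := by
  intro h1
  set n := nvec F with hn
  set a := (one : V F) + r • n with hadef
  have hQa : Q F a = 1 := Q8_one_add r
  set ha : Q F a ≠ 0 := one_add_ne r
  rw [← simAut_conjSim] at h1
  have h2 : simAut ⇑(Q F) ((lmul b hb)⁻¹ * conjSim x (rmul a ha * lmul a ha)) = 1 := by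
    rw [map_mul, map_inv, h1, inv_mul_cancel]
  obtain ⟨s, hs⟩ := (simAut_one_iff _).1 h2
  have hL : ∀ v, slAct (x : GammaL (Fin 4 ⊕ Fin 4) F) (mul (mul a v) a) =
      s • mul b (slAct (x : GammaL (Fin 4 ⊕ Fin 4) F) v) := fun v => by
    have h := congrArg (ap (lmul b hb)) (hs (slAct (x : GammaL (Fin 4 ⊕ Fin 4) F) v))
    rw [ap_mul, ap_ap_inv, ap_smul, ap_lmul] at h
    rw [← h]
    refine Eq.trans ?_ (slAct_conj_inl _ _ v).symm
    rw [← ap_lmul a ha, ← ap_rmul a ha, ← ap_mul]
    rfl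
  have hnn : mul n n = 0 := by apply ext8 <;> simp [mul, hn, nvec]
  set z := slAct (x : GammaL (Fin 4 ⊕ Fin 4) F) n with hz
  have hz0 : z ≠ 0 := fun h => by
    have := congrArg (slAct ((x : GammaL (Fin 4 ⊕ Fin 4) F))⁻¹) h
    rw [hz, slAct_inv_apply] at this
    have h' := congrFun this (Sum.inl 1)
    simp [slAct, hn, nvec, ← Pi.zero_def] at h'
  have han : mul (mul a n) a = n := by
    apply ext8 <;> simp [mul, hadef, hn, nvec, one]
  have hLn : ∀ w, mul n (mul n w) = 0 := fun w => by apply ext8 <;> simp [mul, hn, nvec]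
  have hza : z = s • (z + mul n z) := by
    have := hL n
    rwa [han, ← hz, hbdef, add_mul', one_mul'] at this
  have hs1 : s = 1 := by
    have e := congrArg (mul n) hza
    rw [mul_smul', mul_add', hLn, add_zero] at e
    by_contra hs1
    have hnz : mul n z = 0 := by
      have : (1 - s) • mul n z = 0 := by rw [sub_smul, one_smul, ← e, sub_self]
      exact (smul_eq_zero.1 this).resolve_left (sub_ne_zero.2 (Ne.symm hs1))
    rw [hnz, add_zero] at hza
    have : (1 - s) • z = 0 := by rw [sub_smul, one_smul, ← hza, sub_self]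
    exact hz0 ((smul_eq_zero.1 this).resolve_left (sub_ne_zero.2 (Ne.symm hs1)))
  have hspan : ∀ v, ∃ A B : F, mul n (slAct (x : GammaL (Fin 4 ⊕ Fin 4) F) v) =
      A • slAct (x : GammaL (Fin 4 ⊕ Fin 4) F) one + B • z := fun v => by
    have h := hL v
    rw [hs1, one_smul, hbdef, add_mul' _ _ (slAct (x : GammaL (Fin 4 ⊕ Fin 4) F) v), one_mul'] at h
    have hv : mul (mul a v) a = v + ((polar (Q F) a (conj v) - polar (Q F) v one) • one +
        (polar (Q F) a (conj v) * r) • n) := by
      have hs' := sandwich a (conj v)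
      rw [show conj (conj v) = v by apply ext8 <;> simp [conj], hQa, one_smul] at hs'
      have := polar_one_conj v
      rw [hs', hadef, ← smul_smul]
      linear_combination (norm := module) (-1 : F) • this
    rw [hv, slAct_add, slAct_add, slAct_smul, slAct_smul] at h
    exact ⟨_, _, (add_left_cancel h).symm⟩
  let G : F × F → F × F × F := fun p =>
    let u := p.1 • slAct (x : GammaL (Fin 4 ⊕ Fin 4) F) one + p.2 • z
    (u (Sum.inl 0), u (Sum.inl 1), u (Sum.inr 2))
  have hG : Function.Surjective G := by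
    rintro ⟨c₀, c₁, c₂⟩
    obtain ⟨v, hv⟩ : ∃ v, slAct (x : GammaL (Fin 4 ⊕ Fin 4) F) v =
        Sum.elim ![0, 0, 0, c₂] ![c₁, -c₀, 0, 0] := ⟨_, slAct_apply_inv _ _⟩
    obtain ⟨A, B, hAB⟩ := hspan v
    refine ⟨(A, B), ?_⟩
    simp only [G, ← hAB, hv]
    simp [mul, hn, nvec]
  have hc := Nat.card_le_card_of_surjective G hG
  simp only [Nat.card_prod] at hc
  have h2 : 2 ≤ Nat.card F := Finite.one_lt_card
  nlinarith

theorem not_mem_range_autOmega : theta F ∉ (autOmega ⇑(Q F)).range := by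
  rintro ⟨x, hx⟩
  have hb : Q F ((one : V F) + (1 : F) • nvec F) ≠ 0 := one_add_ne 1
  refine not_conj_sandwich x 1 (b := one + (1 : F) • nvec F) (by rw [one_smul]) hb ?_
  have h1 := theta_conj ⟨_, trip_mem _ hb⟩
  rw [← hx] at h1
  exact mul_inv_eq_iff_eq_mul.2 h1

end CfsgLib.Geometry.Oct
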