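import Cfsg.Agent.Lib.Geometry.FieldSplit
import Cfsg.Agent.Lib.Geometry.AutStd

/-! The group of class-preserving similarities in even dimension, in any characteristic. -/

set_option autoImplicit false

namespace CfsgLib.Geometry

open Matrix QuadraticMap

variable {ι : Type} [Fintype ι] [DecidableEq ι] {F : Type*} [Field F]

/-- An even-dimensional nondegenerate matrix form in any characteristic. -/
structure EvenHyp (M : Matrix ι ι F) (k : ℕ) : Prop where
  det_ne : (M + Mᵀ).det ≠ 0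
  card_eq : Fintype.card ι = 2 * k
  four_le : 4 ≤ k

open _root_.Classical in
/-- The similarities fixing both classes of maximal totally singular subspaces. -/
noncomputable def clsSub (M : Matrix ι ι F) (k : ℕ) : Subgroup (Cfsg.Geo.quadSimilarityGroup ⇑(matQuad M)) :=
  if h : (2 : F) ≠ 0 ∧ ∃ v, matQuad M v ≠ 0 then (simChi M h.2 k).ker else innPre ⇑(matQuad M)

variable {M : Matrix ι ι F} {k : ℕ}

theorem EvenHyp.nondeg (D : EvenHyp M k) : (polarBilin (matQuad M)).Nondegenerate :=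
  nondegenerate_matQuad D.det_ne

theorem EvenHyp.five_le (D : EvenHyp M k) : 5 ≤ Fintype.card ι := by
  have := D.card_eq; have := D.four_le; omega

theorem EvenHyp.ne (D : EvenHyp M k) : ∃ v, matQuad M v ≠ 0 :=
  exists_ne_zero_of_nondegenerate _ D.nondeg (by have := D.five_le; omega)

theorem EvenHyp.simHyp (D : EvenHyp M k) (h2 : (2 : F) ≠ 0) : SimHyp M k :=
  ⟨h2, D.det_ne, D.card_eq, by have := D.four_le; omega⟩

theorem EvenHyp.mem_clsSub_odd (D : EvenHyp M k) (h2 : (2 : F) ≠ 0)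
    (g : Cfsg.Geo.quadSimilarityGroup ⇑(matQuad M)) :
    g ∈ clsSub M k ↔ simChi M D.ne k g = 1 := by
  rw [clsSub, dif_pos ⟨h2, D.ne⟩, MonoidHom.mem_ker]

theorem clsSub_two (h2 : (2 : F) = 0) : clsSub M k = innPre ⇑(matQuad M) := by
  rw [clsSub, dif_neg fun h => h.1 h2]

variable [Finite F]

theorem EvenHyp.reflGroup (D : EvenHyp M k) : reflGroup (matQuad M) = orth (matQuad M) :=
  reflGroup_eq_orth D.nondeg (Or.inl (by
    rw [Module.finrank_fintype_fun_eq_card, D.card_eq]; have := D.four_le; omega))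

theorem exists_sqrt_unit (h2 : (2 : F) = 0) (u : Fˣ) : ∃ t : Fˣ, t * t = u := by
  haveI := CharTwo.of_one_ne_zero_of_two_eq_zero (one_ne_zero (α := F)) h2
  haveI := Fintype.ofFinite F
  obtain ⟨t, ht⟩ := FiniteField.isSquare_of_char_two (ringChar.eq F 2) (u : F)
  exact ⟨Units.mk0 t fun h => u.ne_zero (by rw [ht, h, mul_zero]), Units.ext ht.symm⟩

/-- In characteristic two a similarity is a scalar times an isometry. -/
theorem exists_scalar_iso_two (h2 : (2 : F) = 0) {Q : QuadraticForm F (ι → F)} (hne : ∃ v, Q v ≠ 0)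
    (g : Cfsg.Geo.quadSimilarityGroup ⇑Q) :
    ∃ (c : Fˣ) (h : Cfsg.isometryGroup F ⇑Q), g = simScalar Q c * simIso _ h := by
  obtain ⟨t, ht⟩ := exists_sqrt_unit h2 (simMult hne g)
  have hmem : (((simScalar Q t)⁻¹ * g : Cfsg.Geo.quadSimilarityGroup ⇑Q) : GL ι F) ∈
      Cfsg.isometryGroup F ⇑Q := by
    rw [← simMult_eq_one_iff hne, map_mul, map_inv, simMult_scalar, ht, inv_mul_cancel]
  exact ⟨t, ⟨_, hmem⟩, (mul_inv_cancel_left _ _).symm⟩

theorem EvenHyp.scalar_mem (D : EvenHyp M k) (c : Fˣ) : simScalar (matQuad M) c ∈ clsSub M k := by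
  by_cases h2 : (2 : F) = 0
  · rw [clsSub_two h2, mem_innPre_iff D.nondeg D.five_le]
    exact ⟨1, one_mem _, c, by rw [map_one, mul_one]⟩
  · rw [D.mem_clsSub_odd h2, simChi_scalar D.ne D.card_eq]

theorem EvenHyp.omega_mem (D : EvenHyp M k) {w : Cfsg.isometryGroup F ⇑(matQuad M)}
    (hw : w ∈ Cfsg.Omega F ⇑(matQuad M)) : simIso _ w ∈ clsSub M k := by
  by_cases h2 : (2 : F) = 0
  · rw [clsSub_two h2, mem_innPre_iff D.nondeg D.five_le]
    exact ⟨w, hw, 1, by rw [map_one, one_mul]⟩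
  · rw [D.mem_clsSub_odd h2, simChi_iso, detHom_eq_one_iff D.nondeg h2,
      (mem_Omega_iff_isoInv D.nondeg h2 w).1 hw]
    rfl

theorem EvenHyp.inn_le (D : EvenHyp M k) :
    Cfsg.Inn (Cfsg.POmega F ⇑(matQuad M)) ≤ (clsSub M k).map (simAut _) := by
  rw [inn_eq_map]
  rintro _ ⟨w, rfl⟩
  exact ⟨_, D.omega_mem w.2, rfl⟩

theorem EvenHyp.map_clsSub_two (D : EvenHyp M k) (h2 : (2 : F) = 0) :
    (clsSub M k).map (simAut _) = Cfsg.Inn (Cfsg.POmega F ⇑(matQuad M)) := by
  refine le_antisymm ?_ D.inn_le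
  rintro _ ⟨g, hg, rfl⟩
  rw [clsSub_two h2] at hg
  exact hg

/-- In characteristic two, an isometry is class preserving iff its Dickson invariant vanishes. -/
theorem EvenHyp.iso_mem_two (D : EvenHyp M k) (h2 : (2 : F) = 0) (h : Cfsg.isometryGroup F ⇑(matQuad M)) :
    simIso _ h ∈ clsSub M k ↔ dicksonHom D.nondeg D.reflGroup (isomEquiv _ h) = 1 := by
  have hO : ∀ w : Cfsg.isometryGroup F ⇑(matQuad M), w ∈ Cfsg.Omega F ⇑(matQuad M) ↔
      dicksonHom D.nondeg D.reflGroup (isomEquiv _ w) = 1 := fun w => by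
    rw [mem_Omega_iff_invariant D.nondeg D.reflGroup]
    exact ⟨fun e => congrArg Prod.snd e, fun e => Prod.ext (sqClass_eq_one_of_two h2 _) e⟩
  rw [clsSub_two h2, mem_innPre_iff D.nondeg D.five_le, ← hO]
  refine ⟨?_, fun hh => ⟨h, hh, 1, by rw [map_one, one_mul]⟩⟩
  rintro ⟨w, hw, c, e⟩
  have hm := congrArg (simMult D.ne) e
  rw [map_mul, simMult_scalar, simMult_iso, simMult_iso, mul_one] at hm
  have hc : c = 1 := Units.ext (by
    have h1 : (c : F) * c = 1 := by
      rw [← Units.val_mul, ← hm, Units.val_one]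
    haveI := CharTwo.of_one_ne_zero_of_two_eq_zero (one_ne_zero (α := F)) h2
    rcases mul_self_eq_one_iff.1 h1 with e | e
    · exact e
    · rw [e, CharTwo.neg_eq, Units.val_one])
  rw [hc, map_one, one_mul] at e
  rw [show h = w from Subtype.ext (congrArg (Subtype.val : Cfsg.Geo.quadSimilarityGroup ⇑(matQuad M) → GL ι F) e :)]
  exact hw

theorem EvenHyp.refl_not_mem (D : EvenHyp M k) {v : ι → F} (hv : matQuad M v ≠ 0) :
    simIso _ ((isomEquiv (matQuad M)).symm (oRefl (matQuad M) v hv)) ∉ clsSub M k := by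
  set R := (isomEquiv (matQuad M)).symm (oRefl (matQuad M) v hv)
  have hR : isomEquiv _ R = oRefl (matQuad M) v hv := MulEquiv.apply_symm_apply _ _
  intro hmem
  by_cases h2 : (2 : F) = 0
  · rw [D.iso_mem_two h2, hR, oRefl, dicksonHom_refl] at hmem
    exact absurd hmem (by decide)
  · rw [D.mem_clsSub_odd h2, simChi_iso, detHom_eq_one_iff D.nondeg h2] at hmem
    have : (orthInvariant D.nondeg (reflGroup_eq_orth_of_two_ne D.nondeg h2) (isomEquiv _ R)).2 = 1 := hmem
    rw [hR, orthInvariant_oRefl] at this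
    exact absurd this (show Multiplicative.ofAdd (1 : ZMod 2) ≠ 1 by decide)

theorem EvenHyp.mem_or_mul_refl (D : EvenHyp M k) (g : Cfsg.Geo.quadSimilarityGroup ⇑(matQuad M))
    {v : ι → F} (hv : matQuad M v ≠ 0) :
    g ∈ clsSub M k ∨ g * simIso _ ((isomEquiv (matQuad M)).symm (oRefl (matQuad M) v hv)) ∈ clsSub M k := by
  set R := (isomEquiv (matQuad M)).symm (oRefl (matQuad M) v hv)
  have hn := D.refl_not_mem hv
  by_cases h2 : (2 : F) = 0
  · obtain ⟨c, h, rfl⟩ := exists_scalar_iso_two h2 D.ne g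
    by_cases hh : simIso _ h ∈ clsSub M k
    · exact Or.inl (mul_mem (D.scalar_mem c) hh)
    · refine Or.inr ?_
      rw [mul_assoc, ← map_mul]
      refine mul_mem (D.scalar_mem c) ((D.iso_mem_two h2 _).2 ?_)
      rw [D.iso_mem_two h2] at hh hn
      rw [map_mul, map_mul]
      have key : ∀ a b : Multiplicative (ZMod 2), a ≠ 1 → b ≠ 1 → a * b = 1 := by decide
      exact key _ _ hh hn
  · rw [D.mem_clsSub_odd h2, D.mem_clsSub_odd h2]
    rw [D.mem_clsSub_odd h2] at hn
    rcases simChi_sq D.det_ne D.ne D.card_eq g with h | h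
    · exact Or.inl h
    · exact Or.inr (by
        rw [map_mul, h, (simChi_sq D.det_ne D.ne D.card_eq _).resolve_left hn]
        simp)

theorem EvenHyp.mul_mem_of_not (D : EvenHyp M k) {g h : Cfsg.Geo.quadSimilarityGroup ⇑(matQuad M)}
    (hg : g ∉ clsSub M k) (hh : h ∉ clsSub M k) : g * h⁻¹ ∈ clsSub M k := by
  obtain ⟨v, hv⟩ := D.ne
  have := mul_mem ((D.mem_or_mul_refl g hv).resolve_left hg)
    (inv_mem ((D.mem_or_mul_refl h hv).resolve_left hh))
  rwa [_root_.mul_inv_rev, mul_assoc, mul_inv_cancel_left] at this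

theorem EvenHyp.conj_mem (D : EvenHyp M k) (x : semiSim ⇑(matQuad M))
    {g : Cfsg.Geo.quadSimilarityGroup ⇑(matQuad M)} (hg : g ∈ clsSub M k) :
    conjSim x g ∈ clsSub M k := by
  by_cases h2 : (2 : F) = 0
  · rw [clsSub_two h2] at hg ⊢
    show simAut ⇑(matQuad M) (conjSim x g) ∈ Cfsg.Inn (Cfsg.POmega F ⇑(matQuad M))
    rw [simAut_conjSim]
    exact (Cfsg.innNormal _).conj_mem _ hg _
  · rw [D.mem_clsSub_odd h2, simChi_eq_one_iff] at hg ⊢
    set L := (x : GammaL ι F).left
    set τ := (x : GammaL ι F).right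
    obtain ⟨c, hc⟩ := x.2
    have hm : (simMult D.ne (conjSim x g) : F) = τ (simMult D.ne g) := by
      refine simMult_eq D.ne _ fun v => ?_
      obtain ⟨w, rfl⟩ : ∃ w, slAct (x : GammaL ι F) w = v := ⟨_, slAct_apply_inv _ v⟩
      show matQuad M (((L * glAut ι F τ (g : GL ι F) * L⁻¹ : GL ι F) : Matrix ι ι F) *ᵥ slAct _ w) = _
      rw [slAct_conj_inl, hc, simMult_spec D.ne, map_mul, hc]
      ring
    rw [hm, ← map_pow, ← hg]
    show ((L * glAut ι F τ (g : GL ι F) * L⁻¹ : GL ι F) : Matrix ι ι F).det = _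
    rw [Units.val_mul, Units.val_mul, det_mul, det_mul, mul_right_comm, ← det_mul, Units.mul_inv, det_one,
      one_mul, glAut_coe]
    exact (RingHom.map_det (τ : F →+* F) _).symm

theorem EvenHyp.normal (D : EvenHyp M k) (hΓ : Cfsg.gammaPOmega F ⇑(matQuad M) = ⊤) :
    ((clsSub M k).map (simAut ⇑(matQuad M))).Normal :=
  normal_map_simAut hΓ _ fun x _ hg => D.conj_mem x hg

section Extend

variable {F₀ : Type*} [Field F₀] {M₀ : Matrix ι ι F₀} (emb : F₀ →+* F)

theorem EvenHyp.base (D₀ : EvenHyp M₀ k) : EvenHyp (M₀.map emb) k :=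
  ⟨by rw [det_gram_map, map_ne_zero]; exact D₀.det_ne, D₀.card_eq, D₀.four_le⟩

theorem EvenHyp.extend_mem_iff [Finite F₀] (D₀ : EvenHyp M₀ k)
    (g : Cfsg.Geo.quadSimilarityGroup ⇑(matQuad M₀)) :
    extend emb M₀ g ∈ clsSub (M₀.map emb) k ↔ g ∈ clsSub M₀ k := by
  have D := D₀.base emb
  by_cases h2 : (2 : F₀) = 0
  · have h2' : (2 : F) = 0 := by rw [← map_ofNat emb 2, h2, map_zero]
    obtain ⟨v, hv⟩ := D₀.ne
    set R := (isomEquiv (matQuad M₀)).symm (oRefl (matQuad M₀) v hv)
    have hv' : extForm emb M₀ (emb ∘ v) ≠ 0 := by rw [matQuad_map, map_ne_zero]; exact hv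
    have hRe : extend emb M₀ (simIso _ R) ∉ clsSub (M₀.map emb) k := by
      rw [extend_simIso, show extendIso emb M₀ R = (isomEquiv (extForm emb M₀)).symm
        (oRefl (extForm emb M₀) (emb ∘ v) hv') from
          (MulEquiv.eq_symm_apply _).2 (extendIso_refl hv hv')]
      exact D.refl_not_mem hv'
    have hfwd : ∀ g₁, g₁ ∈ clsSub M₀ k → extend emb M₀ g₁ ∈ clsSub (M₀.map emb) k := by
      intro g₁ hg
      rw [clsSub_two h2, mem_innPre_iff D₀.nondeg D₀.five_le] at hg
      obtain ⟨w, hw, c, rfl⟩ := hg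
      rw [map_mul, extend_simIso, show extend emb M₀ (simScalar (matQuad M₀) c) =
        simScalar (extForm emb M₀) (Units.map (emb : F₀ →* F) c) from Subtype.ext (Units.ext (by
          rw [extend_coe, simScalar_coe, simScalar_coe]
          ext i j
          rcases eq_or_ne i j with rfl | hij <;> simp [*]))]
      refine mul_mem (D.scalar_mem _) (D.omega_mem ?_)
      have hle : (Cfsg.Omega F₀ ⇑(matQuad M₀)).map (extendIso emb M₀) ≤ Cfsg.Omega F ⇑(extForm emb M₀) := by
        rw [Cfsg.Omega, Cfsg.Omega, commutator_def, commutator_def, Subgroup.map_commutator]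
        exact Subgroup.commutator_mono le_top le_top
      exact hle ⟨w, hw, rfl⟩
    refine ⟨fun h => ?_, hfwd g⟩
    rcases D₀.mem_or_mul_refl g hv with hg | hg
    · exact hg
    · exact absurd (by simpa [map_mul] using mul_mem (inv_mem h) (hfwd _ hg)) hRe
  · have h2' : (2 : F) ≠ 0 := by rw [← map_ofNat emb 2, map_ne_zero]; exact h2
    rw [D.mem_clsSub_odd h2', D₀.mem_clsSub_odd h2, simChi_eq_one_iff, simChi_eq_one_iff]
    have hm : (simMult D.ne (extend emb M₀ g) : F) = emb (simMult D₀.ne g) := by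
      obtain ⟨v, hv⟩ := D₀.ne
      have h := simMult_spec D.ne (extend emb M₀ g) (emb ∘ v)
      rw [extend_coe, ← map_mulVec_comp, matQuad_map, matQuad_map, simMult_spec D₀.ne, map_mul] at h
      exact (mul_right_cancel₀ ((map_ne_zero emb).2 hv) h).symm
    rw [hm, ← map_pow, extend_coe, ← RingHom.mapMatrix_apply, ← RingHom.map_det]
    exact emb.injective.eq_iff

theorem EvenHyp.comap_extend [Finite F₀] (D₀ : EvenHyp M₀ k) :
    (clsSub (M₀.map emb) k).comap (extend emb M₀) = clsSub M₀ k :=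
  Subgroup.ext fun g => D₀.extend_mem_iff emb g

end Extend

/-- An isometry of a hyperbolic form preserves the classes iff its Dickson invariant vanishes. -/
theorem preservesSingularClasses_isometry_iff {Q : QuadraticForm F (ι → F)}
    (hQ : (polarBilin Q).Nondegenerate) (hR : CfsgLib.Geometry.reflGroup Q = orth Q) {k : ℕ}
    (E : (ι → F) ≃ₗ[F] (Fin k ⊕ Fin k → F)) (hE : ∀ v, Cfsg.quadFormPlus k F (E v) = Q v)
    (h : Cfsg.isometryGroup F ⇑Q) :
    Cfsg.PreservesSingularClasses ⇑Q ((h : GL ι F) : Matrix ι ι F) ↔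
      dicksonHom hQ hR (isomEquiv Q h) = 1 := by
  have hV : Module.finrank F (ι → F) = 2 * k := by
    rw [E.finrank_eq, Module.finrank_fintype_fun_eq_card, Fintype.card_sum, Fintype.card_fin, two_mul]
  set U₀ : Submodule F (ι → F) := (LinearMap.ker (LinearMap.funLeft F F (Sum.inr : Fin k → Fin k ⊕ Fin k))).map
    (E.symm : _ →ₗ[F] (ι → F)) with hU₀
  have hU₀max : IsMaxSing Q k U₀ := by
    refine ⟨?_, fun v hv => ?_⟩
    · rw [hU₀, LinearEquiv.finrank_map_eq]; exact (isMaxSing_ker_inr k).1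
    · obtain ⟨w, hw, rfl⟩ := hv
      rw [← hE, LinearEquiv.coe_coe, E.apply_symm_apply]
      exact Finset.sum_eq_zero fun i _ => by rw [show w (Sum.inr i) = 0 from congrFun hw i, mul_zero]
  have hdim : ∀ U : Submodule F (ι → F), Cfsg.IsMaxTotallySingular ⇑Q U → IsMaxSing Q k U := by
    rintro U ⟨hts, hmax⟩
    refine ⟨?_, hts⟩
    have hle : Module.finrank F U ≤ k := by
      have hle : U ≤ polarPerp Q U := fun w hw =>
        mem_polarPerp.2 fun u hu => polar_eq_zero_of_singular hts hu hw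
      have := Submodule.finrank_mono hle
      have := finrank_polarPerp hQ U
      omega
    set W := U₀ ⊓ polarPerp Q U
    have hUW : Cfsg.Geo.IsTotallySingularQuad ⇑Q (U ⊔ W) := by
      intro z hz
      obtain ⟨u, hu, w, hw, rfl⟩ := Submodule.mem_sup.1 hz
      rw [map_add', hts u hu, hU₀max.2 w hw.1, mem_polarPerp.1 hw.2 u hu]
      ring
    have heq := hmax _ hUW le_sup_left
    have hperp : W = polarPerp Q (U₀ ⊔ U) := by
      ext v
      simp only [W, Submodule.mem_inf, mem_polarPerp]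
      constructor
      · rintro ⟨h1, h2⟩ z hz
        obtain ⟨a, ha, b, hb, rfl⟩ := Submodule.mem_sup.1 hz
        rw [polar_add_left, polar_eq_zero_of_singular hU₀max.2 ha h1, h2 b hb, add_zero]
      · intro h
        refine ⟨?_, fun u hu => h u (Submodule.mem_sup_right hu)⟩
        rw [← polarPerp_eq_self hQ hV hU₀max]
        exact mem_polarPerp.2 fun a ha => h a (Submodule.mem_sup_left ha)
    have h1 := finrank_polarPerp hQ (U₀ ⊔ U)
    have h2 := Submodule.finrank_sup_add_finrank_inf_eq U₀ U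
    rw [← hperp] at h1
    have hW : W ≤ U := le_sup_right.trans heq.le
    have h3 : Module.finrank F W ≤ Module.finrank F ↥(U₀ ⊓ U) := Submodule.finrank_mono (le_inf inf_le_left hW)
    have := hU₀max.1
    omega
  have key : ∀ U, IsMaxSing Q k U →
      (Cfsg.SameParityClass U (Cfsg.imageSubmodule ((h : GL ι F) : Matrix ι ι F) U) ↔
        dicksonHom hQ hR (isomEquiv Q h) = 1) := fun U hU => by
    rw [← maxSing_class_iff hQ hR hV hU (isomEquiv Q h), Cfsg.SameParityClass, hU.1]
    rfl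
  constructor
  · intro hP
    refine (key U₀ hU₀max).1 (hP U₀ ⟨hU₀max.2, fun W hW hle => ?_⟩)
    refine (Submodule.eq_of_le_of_finrank_le hle ?_).symm
    have hle' : W ≤ polarPerp Q W := fun w hw =>
      mem_polarPerp.2 fun u hu => polar_eq_zero_of_singular hW hu hw
    have := Submodule.finrank_mono hle'
    have := finrank_polarPerp hQ W
    have := hU₀max.1
    omega
  · exact fun hd U hU => (key U (hdim U hU)).2 hd

omit [Finite F] in
/-- Scalars do not matter for preserving classes. -/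
theorem preservesSingularClasses_smul {Q : (ι → F) → F} {c : F} (hc : c ≠ 0) (A : Matrix ι ι F) :
    Cfsg.PreservesSingularClasses Q (c • A) ↔ Cfsg.PreservesSingularClasses Q A := by
  have e : ∀ U : Submodule F (ι → F), Cfsg.imageSubmodule (c • A) U = Cfsg.imageSubmodule A U := fun U => by
    rw [Cfsg.imageSubmodule, Cfsg.imageSubmodule, map_smul, Submodule.map_smul _ _ _ hc]
  simp only [Cfsg.PreservesSingularClasses, e]

theorem evenHyp_plus {F : Type*} [Field F] {m : ℕ} (hm : 4 ≤ m) : EvenHyp (plusMat m F) m :=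
  ⟨by rw [det_plus_gram]; exact pow_ne_zero _ (neg_ne_zero.2 one_ne_zero),
    by rw [Fintype.card_sum, Fintype.card_fin, two_mul], hm⟩

/-- The class-preserving similarities of the plus form. -/
theorem mem_clsSub_plus {m : ℕ} (hm : 4 ≤ m)
    (g : Cfsg.Geo.quadSimilarityGroup ⇑(matQuad (plusMat m F))) :
    g ∈ clsSub (plusMat m F) m ↔ Cfsg.PreservesSingularClasses (Cfsg.quadFormPlus m F)
      ((g : GL (Fin m ⊕ Fin m) F) : Matrix (Fin m ⊕ Fin m) (Fin m ⊕ Fin m) F) := by
  have D := evenHyp_plus (F := F) hm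
  rw [← coe_matQuad_plus]
  by_cases h2 : (2 : F) = 0
  · obtain ⟨c, h, rfl⟩ := exists_scalar_iso_two h2 D.ne g
    rw [Subgroup.coe_mul, Units.val_mul, simScalar_coe, smul_mul_assoc, one_mul,
      preservesSingularClasses_smul c.ne_zero,
      show ((simIso ⇑(matQuad (plusMat m F)) h : Cfsg.Geo.quadSimilarityGroup ⇑(matQuad (plusMat m F))) :
        GL (Fin m ⊕ Fin m) F) = (h : GL (Fin m ⊕ Fin m) F) from rfl,
      preservesSingularClasses_isometry_iff D.nondeg D.reflGroup (LinearEquiv.refl F _)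
        (fun v => (congrFun (coe_matQuad_plus m) v).symm) h, ← D.iso_mem_two h2]
    exact Subgroup.mul_mem_cancel_left _ (D.scalar_mem c)
  · rw [D.mem_clsSub_odd h2, preserves_plus_iff h2 D.ne]

theorem evenHyp_minus {m : ℕ} (hm : 3 ≤ m) {a b : F}
    (hab : ∀ z₁ z₂ : F, z₁ ^ 2 + a * z₁ * z₂ + b * z₂ ^ 2 = 0 → z₁ = 0 ∧ z₂ = 0) :
    EvenHyp (minusMat m F a b) (m + 1) :=
  ⟨by rw [det_minus_gram]; exact mul_ne_zero (by simp) (binAniso_discr hab).1,
    by simp only [Fintype.card_sum, Fintype.card_fin]; omega, by omega⟩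

theorem minusMat_map {K : Type*} [Field K] (f : F →+* K) (m : ℕ) (a b : F) :
    (minusMat m F a b).map f = minusMat m K (f a) (f b) := by
  rw [minusMat, minusMat, plusMat, plusMat, fromBlocks_map, fromBlocks_map]
  simp only [Matrix.map_zero f (map_zero f), Matrix.map_one f (map_zero f) (map_one f)]
  congr 1
  ext i j
  fin_cases i <;> fin_cases j <;> simp

end CfsgLib.Geometry
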