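import Cfsg.Agent.Lib.Geometry.EvenField
import Cfsg.Agent.Lib.Geometry.EvenSims

/-! Splitting of the class of a field automorphism in even dimension. -/

set_option autoImplicit false

namespace CfsgLib.Geometry

open Matrix QuadraticMap

variable {ι : Type} [Fintype ι] [DecidableEq ι] {F : Type*} [Field F] [Finite F]

section Gen

variable {M : Matrix ι ι F} {k : ℕ}

theorem simAut_scalar_mul' (hQ : (polarBilin (matQuad M)).Nondegenerate) (hn : 5 ≤ Fintype.card ι)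
    (a : Fˣ) (g : Cfsg.Geo.quadSimilarityGroup ⇑(matQuad M)) :
    simAut _ (simScalar (matQuad M) a * g) = simAut _ g := by
  rw [map_mul, (simAut_eq_one_iff hQ hn _).2 (simScalar_mem_scalars _ a), one_mul]

/-- A class-preserving similarity of square multiplier is a scalar times an isometry of determinant one. -/
theorem EvenHyp.sq_decomp (D : EvenHyp M k) (h2 : (2 : F) ≠ 0)
    {g : Cfsg.Geo.quadSimilarityGroup ⇑(matQuad M)} (hg : g ∈ clsSub M k)
    (hs : IsSquare (simMult D.ne g : F)) :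
    ∃ (c : Fˣ) (h : Cfsg.isometryGroup F ⇑(matQuad M)),
      g = simScalar (matQuad M) c * simIso _ h ∧ detHom ⇑(matQuad M) h = 1 := by
  obtain ⟨t, ht⟩ := hs
  have ht0 : t ≠ 0 := fun h => (simMult D.ne g).ne_zero (by rw [ht, h, zero_mul])
  set c := Units.mk0 t ht0
  have hmem : (((simScalar (matQuad M) c)⁻¹ * g : Cfsg.Geo.quadSimilarityGroup ⇑(matQuad M)) :
      GL ι F) ∈ Cfsg.isometryGroup F ⇑(matQuad M) := by
    rw [← simMult_eq_one_iff D.ne, map_mul, map_inv, simMult_scalar,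
      show c * c = simMult D.ne g from Units.ext ht.symm, inv_mul_cancel]
  refine ⟨c, ⟨_, hmem⟩, (mul_inv_cancel_left _ _).symm, ?_⟩
  rw [← simChi_iso D.ne k, ← D.mem_clsSub_odd h2]
  exact mul_mem (inv_mem (D.scalar_mem c)) hg

theorem EvenHyp.simAut_mem_inn (D : EvenHyp M k) (h2 : (2 : F) ≠ 0) {h : Cfsg.isometryGroup F ⇑(matQuad M)}
    (hd : detHom ⇑(matQuad M) h = 1) (hs : (isoInv D.nondeg h2 h).1 = 1) :
    simAut _ (simIso _ h) ∈ Cfsg.Inn (Cfsg.POmega F ⇑(matQuad M)) :=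
  (simIso_mem_innPre_iff D.five_le ⟨k, by rw [D.card_eq, two_mul]⟩ D.det_ne h2 h).2
    (Or.inl (Prod.ext hs ((detHom_eq_one_iff D.nondeg h2 h).1 hd)))

theorem EvenHyp.spinor_of_mem_inn (D : EvenHyp M k) (h2 : (2 : F) ≠ 0) (hsq : IsSquare (M + Mᵀ).det)
    {h : Cfsg.isometryGroup F ⇑(matQuad M)}
    (hm : simAut _ (simIso _ h) ∈ Cfsg.Inn (Cfsg.POmega F ⇑(matQuad M))) :
    (isoInv D.nondeg h2 h).1 = 1 := by
  rcases (simIso_mem_innPre_iff D.five_le ⟨k, by rw [D.card_eq, two_mul]⟩ D.det_ne h2 h).1 hm with h1 | h1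
  · rw [h1]; rfl
  · rw [h1]; exact (sqMk_eq_one_iff _).2 hsq

theorem EvenHyp.exists_spinor (D : EvenHyp M k) (h2 : (2 : F) ≠ 0) :
    ∃ h : Cfsg.isometryGroup F ⇑(matQuad M), detHom ⇑(matQuad M) h = 1 ∧ (isoInv D.nondeg h2 h).1 ≠ 1 := by
  haveI : Nontrivial (SqClass F) := (Nat.card_eq_two_iff.1 (card_sqClass (F := F) h2)).elim
    fun a ha => ha.elim fun b hb => ⟨⟨a, b, hb.1⟩⟩
  obtain ⟨t, ht⟩ := exists_ne (1 : SqClass F)
  obtain ⟨x, hx⟩ := orthInvariant_surjective D.nondeg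
    (by rw [Module.finrank_fintype_fun_eq_card]; have := D.five_le; omega) h2
    (reflGroup_eq_orth_of_two_ne D.nondeg h2) (t, 1)
  have hs : isoInv D.nondeg h2 ((isomEquiv (matQuad M)).symm x) = (t, 1) := by
    show orthInvariant D.nondeg (reflGroup_eq_orth_of_two_ne D.nondeg h2)
      (isomEquiv (matQuad M) ((isomEquiv (matQuad M)).symm x)) = _
    rw [MulEquiv.apply_symm_apply]
    exact hx
  exact ⟨_, (detHom_eq_one_iff D.nondeg h2 _).2 (by rw [hs]), by rw [hs]; exact ht⟩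

/-- The class-preserving similarities of square multiplier. -/
noncomputable def EvenHyp.sqPart (D : EvenHyp M k) : Subgroup (Cfsg.Geo.quadSimilarityGroup ⇑(matQuad M)) :=
  clsSub M k ⊓ ((powMonoidHom 2 : Fˣ →* Fˣ).range.comap (simMult D.ne))

theorem EvenHyp.mem_sqPart (D : EvenHyp M k) (g : Cfsg.Geo.quadSimilarityGroup ⇑(matQuad M)) :
    g ∈ D.sqPart ↔ g ∈ clsSub M k ∧ IsSquare (simMult D.ne g : F) := by
  rw [EvenHyp.sqPart, Subgroup.mem_inf, Subgroup.mem_comap, MonoidHom.mem_range]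
  refine and_congr_right fun _ => ⟨fun ⟨u, hu⟩ => ⟨u, ?_⟩, fun ⟨t, ht⟩ => ?_⟩
  · rw [← hu, powMonoidHom_apply, pow_two, Units.val_mul]
  · exact ⟨Units.mk0 t fun h => (simMult D.ne g).ne_zero (by rw [ht, h, zero_mul]), Units.ext (by
      rw [powMonoidHom_apply, Units.val_pow_eq_pow_val, Units.val_mk0, pow_two, ht])⟩

theorem EvenHyp.inn_le_sqPart (D : EvenHyp M k) :
    Cfsg.Inn (Cfsg.POmega F ⇑(matQuad M)) ≤ D.sqPart.map (simAut _) := by
  rw [inn_eq_map]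
  rintro _ ⟨w, rfl⟩
  refine ⟨simIso _ w, (D.mem_sqPart _).2 ⟨D.omega_mem w.2, ?_⟩, rfl⟩
  rw [simMult_iso, Units.val_one]
  exact IsSquare.one

theorem EvenHyp.simAut_mem_sqPart (D : EvenHyp M k) {g : Cfsg.Geo.quadSimilarityGroup ⇑(matQuad M)}
    (hg : g ∈ clsSub M k) : simAut _ g ∈ D.sqPart.map (simAut _) ↔ IsSquare (simMult D.ne g : F) := by
  refine ⟨?_, fun h => ⟨g, (D.mem_sqPart g).2 ⟨hg, h⟩, rfl⟩⟩
  rintro ⟨g', hg', e⟩
  have h1 : simAut _ (g'⁻¹ * g) = 1 := by rw [map_mul, map_inv, e, inv_mul_cancel]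
  obtain ⟨c, hc⟩ := (simAut_eq_one_iff D.nondeg D.five_le _).1 h1
  have e2 : g = g' * simScalar (matQuad M) c := by
    rw [← mul_inv_cancel_left g' g]
    exact congrArg _ (Subtype.ext (hc.symm.trans rfl))
  rw [e2, map_mul, simMult_scalar, Units.val_mul, Units.val_mul]
  exact ((D.mem_sqPart g').1 hg').2.mul ⟨c, rfl⟩

theorem EvenHyp.relIndex_sqPart (D : EvenHyp M k) (h2 : (2 : F) ≠ 0) :
    (D.sqPart.map (simAut _)).relIndex ((clsSub M k).map (simAut _)) = 2 := by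
  haveI := Fintype.ofFinite F
  obtain ⟨ν, hν⟩ := exists_nonsquare_unit (F := F) h2
  obtain ⟨g, hg, hgm⟩ := D.exists_mult h2 ν
  show ((D.sqPart.map (simAut _)).subgroupOf _).index = 2
  rw [Subgroup.index_eq_two_iff']
  refine ⟨⟨_, g, hg, rfl⟩, ?_⟩
  rintro ⟨_, b, hb, rfl⟩
  rw [Subgroup.mem_subgroupOf, Subgroup.mem_subgroupOf, Subgroup.coe_mul]
  show Xor (simAut _ g * simAut _ b ∈ _) (simAut _ b ∈ _)
  rw [← map_mul, D.simAut_mem_sqPart (mul_mem hg hb), D.simAut_mem_sqPart hb, map_mul, Units.val_mul, hgm]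
  by_cases h : IsSquare (simMult D.ne b : F)
  · refine Or.inr ⟨h, fun h' => hν ?_⟩
    obtain ⟨s, hs⟩ := h
    obtain ⟨s', hs'⟩ := h'
    have : s ≠ 0 := fun h0 => (simMult D.ne b).ne_zero (by rw [hs, h0, mul_zero])
    exact ⟨s' / s, by rw [hs] at hs'; field_simp; linear_combination hs'⟩
  · exact Or.inl ⟨isSquare_mul_of_not hν h, h⟩

theorem EvenHyp.relIndex_inn_sqPart (D : EvenHyp M k) (h2 : (2 : F) ≠ 0) (hsq : IsSquare (M + Mᵀ).det) :
    (Cfsg.Inn (Cfsg.POmega F ⇑(matQuad M))).relIndex (D.sqPart.map (simAut _)) = 2 := by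
  obtain ⟨a, had, has⟩ := D.exists_spinor h2
  have ha : simIso _ a ∈ D.sqPart := by
    rw [D.mem_sqPart, D.mem_clsSub_odd h2, simChi_iso, simMult_iso, Units.val_one]
    exact ⟨had, IsSquare.one⟩
  show ((Cfsg.Inn (Cfsg.POmega F ⇑(matQuad M))).subgroupOf _).index = 2
  rw [Subgroup.index_eq_two_iff']
  refine ⟨⟨_, _, ha, rfl⟩, ?_⟩
  rintro ⟨_, b, hb, rfl⟩
  obtain ⟨c, h, rfl, hd⟩ := D.sq_decomp h2 ((D.mem_sqPart b).1 hb).1 ((D.mem_sqPart b).1 hb).2
  rw [Subgroup.mem_subgroupOf, Subgroup.mem_subgroupOf, Subgroup.coe_mul]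
  show Xor (simAut _ (simIso _ a) * simAut _ (simScalar _ c * simIso _ h) ∈ _) (simAut _ _ ∈ _)
  rw [simAut_scalar_mul' D.nondeg D.five_le, ← map_mul, ← map_mul]
  have hd' : detHom ⇑(matQuad M) (a * h) = 1 := by rw [map_mul, had, hd, one_mul]
  have i1 : simAut _ (simIso _ h) ∈ Cfsg.Inn (Cfsg.POmega F ⇑(matQuad M)) ↔ (isoInv D.nondeg h2 h).1 = 1 :=
    ⟨D.spinor_of_mem_inn h2 hsq, D.simAut_mem_inn h2 hd⟩
  have i2 : simAut _ (simIso _ (a * h)) ∈ Cfsg.Inn (Cfsg.POmega F ⇑(matQuad M)) ↔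
      (isoInv D.nondeg h2 (a * h)).1 = 1 := ⟨D.spinor_of_mem_inn h2 hsq, D.simAut_mem_inn h2 hd'⟩
  rw [i1, i2, map_mul, Prod.fst_mul]
  rcases sqClass_cases h2 has (isoInv D.nondeg h2 h).1 with h1 | h1
  · rw [h1, mul_one]; exact Or.inr ⟨rfl, has⟩
  · rw [h1]; exact Or.inl ⟨sqClass_mul_self _, has⟩

end Gen

variable {F₀ : Type*} [Field F₀] {M₀ : Matrix ι ι F₀} {emb : F₀ →+* F} {σ : F ≃+* F} {r k : ℕ}

theorem FieldHyp.mem_centralizer (D : FieldHyp M₀ emb σ r)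
    (g₀ : Cfsg.Geo.quadSimilarityGroup ⇑(matQuad M₀)) :
    simAut _ (extend emb M₀ g₀) ∈ Subgroup.centralizer {D.fld} := by
  refine Subgroup.mem_centralizer_singleton_iff.2 ?_
  conv_rhs => rw [← inv_mul_cancel_right (D.fld * simAut _ (extend emb M₀ g₀)) D.fld, D.fld_conj,
    D.twist_extend]

theorem FieldHyp.simMult_extend (D : FieldHyp M₀ emb σ r) (D₀ : EvenHyp M₀ k)
    (g : Cfsg.Geo.quadSimilarityGroup ⇑(matQuad M₀)) :
    (simMult (D₀.base emb).ne (extend emb M₀ g) : F) = emb (simMult D₀.ne g) := by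
  obtain ⟨v, hv⟩ := D₀.ne
  have h := simMult_spec (D₀.base emb).ne (extend emb M₀ g) (emb ∘ v)
  rw [extend_coe, ← map_mulVec_comp, matQuad_map, matQuad_map, simMult_spec D₀.ne, map_mul] at h
  exact (mul_right_cancel₀ ((map_ne_zero emb).2 hv) h).symm

theorem FieldHyp.split_even_two (D : FieldHyp M₀ emb σ r) (D₀ : EvenHyp M₀ k) (h2 : (2 : F) = 0) :
    Cfsg.splitClassCount ((clsSub (M₀.map emb) k).map (simAut _))
      (Cfsg.Inn (Cfsg.POmega F ⇑(extForm emb M₀))) D.fld = 1 := by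
  haveI := Cfsg.innNormal (Cfsg.POmega F ⇑(extForm emb M₀))
  rw [splitClassCount_eq_relIndex _ _ (D₀.base emb).inn_le, Subgroup.relIndex_eq_one,
    (D₀.base emb).map_clsSub_two h2]
  exact le_sup_left

theorem FieldHyp.split_even_odd (D : FieldHyp M₀ emb σ r) (D₀ : EvenHyp M₀ k) (h2 : (2 : F) ≠ 0)
    (hr : Odd r) :
    Cfsg.splitClassCount ((clsSub (M₀.map emb) k).map (simAut _))
      (Cfsg.Inn (Cfsg.POmega F ⇑(extForm emb M₀))) D.fld = 1 := by
  haveI := D.finite₀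
  haveI := Fintype.ofFinite F₀
  haveI := Cfsg.innNormal (Cfsg.POmega F ⇑(extForm emb M₀))
  have D' := D₀.base emb
  set T := Cfsg.Inn (Cfsg.POmega F ⇑(extForm emb M₀))
  set H := (clsSub (M₀.map emb) k).map (simAut ⇑(extForm emb M₀)) with hH
  set C := H ⊓ Subgroup.centralizer {D.fld}
  rw [splitClassCount_eq_relIndex _ _ D'.inn_le, Subgroup.relIndex_eq_one]
  obtain ⟨s, hs1, hs2⟩ := D.exists_special h2 hr
  have hsC : simAut _ (simIso _ (extendIso emb M₀ s)) ∈ C := by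
    refine ⟨⟨_, ?_, rfl⟩, by rw [← extend_simIso]; exact D.mem_centralizer _⟩
    rw [SetLike.mem_coe, D'.mem_clsSub_odd h2, simChi_iso]
    exact (detHom_eq_one_iff D.nondeg h2 _).2 hs2
  have hsq : ∀ g, g ∈ clsSub (M₀.map emb) k → IsSquare (simMult D'.ne g : F) → simAut _ g ∈ T ⊔ C := by
    intro g hg hs
    obtain ⟨c, h, rfl, hd⟩ := D'.sq_decomp h2 hg hs
    rw [simAut_scalar_mul' D'.nondeg D'.five_le]
    by_cases h1 : (isoInv D'.nondeg h2 h).1 = 1
    · exact Subgroup.mem_sup_left (D'.simAut_mem_inn h2 hd h1)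
    · have hd' : detHom ⇑(extForm emb M₀) (h * (extendIso emb M₀ s)⁻¹) = 1 := by
        rw [map_mul, map_inv, hd, (detHom_eq_one_iff D.nondeg h2 _).2 hs2, inv_one, mul_one]
      have h3 := D'.simAut_mem_inn h2 hd' (by
        rw [map_mul, map_inv, Prod.fst_mul, Prod.fst_inv, mul_inv_eq_one]
        exact (sqClass_cases h2 hs1 _).resolve_left h1)
      rw [show simAut _ (simIso _ h) = simAut _ (simIso _ (h * (extendIso emb M₀ s)⁻¹)) *
        simAut _ (simIso _ (extendIso emb M₀ s)) by rw [← map_mul, ← map_mul, inv_mul_cancel_right]]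
      exact mul_mem (Subgroup.mem_sup_left h3) (Subgroup.mem_sup_right hsC)
  rintro _ ⟨g, hg, rfl⟩
  by_cases hs : IsSquare (simMult D'.ne g : F)
  · exact hsq g hg hs
  obtain ⟨ν, hν⟩ := exists_nonsquare_unit (F := F₀) (D.two_ne₀ h2)
  obtain ⟨g₀, hg₀, hm⟩ := D₀.exists_mult (D.two_ne₀ h2) ν
  have hm' := D.simMult_extend D₀ g₀
  rw [hm] at hm'
  have hext : extend emb M₀ g₀ ∈ clsSub (M₀.map emb) k := (D₀.extend_mem_iff emb g₀).2 hg₀
  have h4 := hsq (g * extend emb M₀ g₀) (mul_mem hg hext) (by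
    rw [map_mul, Units.val_mul, hm']
    exact isSquare_mul_of_not hs fun h => hν (D.isSquare_of_emb hr h))
  rw [map_mul] at h4
  exact (Subgroup.mul_mem_cancel_right _
    (Subgroup.mem_sup_right (show simAut _ (extend emb M₀ g₀) ∈ C from
      ⟨⟨_, hext, rfl⟩, D.mem_centralizer _⟩))).1 h4

theorem FieldHyp.isSquare_det (D : FieldHyp M₀ emb σ r) (h2 : (2 : F) ≠ 0) (hr : r = 2) :
    IsSquare (M₀.map emb + (M₀.map emb)ᵀ).det := by
  rw [det_gram_map]; exact D.isSquare_emb h2 hr _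

/-- For an involution the count depends on the spinor norm of one rescaled rational similarity. -/
theorem FieldHyp.split_even_inv (D : FieldHyp M₀ emb σ r) (D₀ : EvenHyp M₀ k) (h2 : (2 : F) ≠ 0)
    (hr : r = 2) {ν : F₀ˣ} (hν : ¬ IsSquare (ν : F₀)) {g₀ : Cfsg.Geo.quadSimilarityGroup ⇑(matQuad M₀)}
    (hg₀ : g₀ ∈ clsSub M₀ k) (hgm : (simMult D₀.ne g₀ : F₀) = ν) :
    Cfsg.splitClassCount ((clsSub (M₀.map emb) k).map (simAut _))
      (Cfsg.Inn (Cfsg.POmega F ⇑(extForm emb M₀))) D.fld =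
      (open _root_.Classical in
        if simAut _ (extend emb M₀ g₀) ∈ Cfsg.Inn (Cfsg.POmega F ⇑(extForm emb M₀)) then 4 else 2) := by
  haveI := D.finite₀
  haveI := Cfsg.innNormal (Cfsg.POmega F ⇑(extForm emb M₀))
  have D' := D₀.base emb
  set T := Cfsg.Inn (Cfsg.POmega F ⇑(extForm emb M₀))
  set H := (clsSub (M₀.map emb) k).map (simAut ⇑(extForm emb M₀)) with hH
  set C := H ⊓ Subgroup.centralizer {D.fld}
  set H₁ := D'.sqPart.map (simAut ⇑(extForm emb M₀))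
  set γ := simAut _ (extend emb M₀ g₀) with hγ
  rw [splitClassCount_eq_relIndex _ _ D'.inn_le]
  have hH₁ : H₁ ≤ H := Subgroup.map_mono inf_le_left
  have hsq : ∀ y : F₀, IsSquare (emb y) := D.isSquare_emb h2 hr
  have hγH₁ : γ ∈ H₁ := (D'.simAut_mem_sqPart ((D₀.extend_mem_iff emb g₀).2 hg₀)).2 (by
    rw [D.simMult_extend D₀]; exact hsq _)
  have hγC : γ ∈ C := ⟨hH₁ hγH₁, D.mem_centralizer _⟩
  have hone : ∀ g₁, g₁ ∈ clsSub M₀ k → IsSquare (simMult D₀.ne g₁ : F₀) →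
      simAut _ (extend emb M₀ g₁) ∈ T := by
    intro g₁ hg₁ hs
    obtain ⟨c, h, rfl, hd⟩ := D₀.sq_decomp (D.two_ne₀ h2) hg₁ hs
    have e1 : simAut _ (extend emb M₀ (simScalar (matQuad M₀) c)) = 1 := by
      rw [D.simAut_extend_eq_one_iff, simAut_eq_one_iff D.nondeg₀ D.five_le]
      exact simScalar_mem_scalars _ c
    rw [map_mul, map_mul, e1, one_mul, extend_simIso]
    refine D'.simAut_mem_inn h2 ?_ (D.spinor_extend h2 hr h)
    refine Units.ext ?_
    have h0 := congrArg Units.val hd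
    rw [show detHom ⇑(matQuad M₀) h = Matrix.GeneralLinearGroup.det (h : GL ι F₀) from rfl,
      Matrix.GeneralLinearGroup.val_det_apply, Units.val_one] at h0
    show ((Matrix.GeneralLinearGroup.det (extendIso emb M₀ h : GL ι F)) : F) = 1
    rw [Matrix.GeneralLinearGroup.val_det_apply, ← map_one emb, ← h0, RingHom.map_det]
    rfl
  have hC : ∀ β ∈ C, β ∈ T ∨ β * γ ∈ T := by
    intro β hβ
    have hβ' : β ∈ ((clsSub (M₀.map emb) k).comap (extend emb M₀)).map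
        ((simAut _).comp (extend emb M₀)) :=
      (D.inf_centralizer (clsSub (M₀.map emb) k) fun a => D'.scalar_mem a).le hβ
    rw [D₀.comap_extend emb] at hβ'
    obtain ⟨g₁, hg₁, rfl⟩ := hβ'
    by_cases hs : IsSquare (simMult D₀.ne g₁ : F₀)
    · exact Or.inl (hone g₁ hg₁ hs)
    · refine Or.inr ?_
      rw [MonoidHom.comp_apply, hγ, ← map_mul, ← map_mul]
      refine hone _ (mul_mem hg₁ hg₀) ?_
      rw [map_mul, Units.val_mul, hgm]
      exact isSquare_mul_of_not hs hν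
  have hidx := D'.relIndex_inn_sqPart h2 (D.isSquare_det h2 hr)
  have hidx' := D'.relIndex_sqPart h2
  split_ifs with h
  · have hCT : C ≤ T := fun β hβ => (hC β hβ).elim id fun h' => (Subgroup.mul_mem_cancel_right _ h).1 h'
    rw [sup_eq_left.2 hCT, ← Subgroup.relIndex_mul_relIndex T H₁ H D'.inn_le_sqPart hH₁, hidx, hidx']
  · have hTH : T ⊔ C = H₁ := by
      refine le_antisymm (sup_le D'.inn_le_sqPart fun β hβ => ?_) ?_
      · rcases hC β hβ with h' | h'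
        · exact D'.inn_le_sqPart h'
        · exact (Subgroup.mul_mem_cancel_right _ hγH₁).1 (D'.inn_le_sqPart h')
      · intro β hβ
        by_cases hβT : β ∈ T
        · exact Subgroup.mem_sup_left hβT
        have hi : (T.subgroupOf H₁).index = 2 := hidx
        have := (Subgroup.mul_mem_iff_of_index_two hi (a := ⟨β, hβ⟩) (b := ⟨γ, hγH₁⟩)).2
          ⟨fun h' => absurd h' hβT, fun h' => absurd h' h⟩
        rw [Subgroup.mem_subgroupOf, Subgroup.coe_mul] at this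
        exact (Subgroup.mul_mem_cancel_right _ (Subgroup.mem_sup_right hγC)).1 (Subgroup.mem_sup_left this)
    rw [hTH, hidx']

end CfsgLib.Geometry
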