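import Cfsg.Agent.Lib.Geometry.FieldSplit
import Cfsg.Agent.Lib.Geometry.AutStd

/-! Field automorphisms of prime order of the odd-dimensional orthogonal groups. -/

set_option autoImplicit false

namespace CfsgLib.Geometry

open Matrix QuadraticMap

variable {ι : Type} [Fintype ι] [DecidableEq ι] {F : Type*} [Field F] [Finite F]

/-- In odd dimension a similarity is a scalar times an isometry of determinant one. -/
theorem exists_scalar_special {M : Matrix ι ι F} (hM : (M + Mᵀ).det ≠ 0) {m : ℕ}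
    (hn : Fintype.card ι = 2 * m + 1) (hne : ∃ v, matQuad M v ≠ 0)
    (g : Cfsg.Geo.quadSimilarityGroup ⇑(matQuad M)) :
    ∃ (c : Fˣ) (h : Cfsg.isometryGroup F ⇑(matQuad M)),
      g = simScalar (matQuad M) c * simIso _ h ∧ detHom ⇑(matQuad M) h = 1 := by
  set μ := simMult hne g with hμ
  set d := Matrix.GeneralLinearGroup.det (g : GL ι F) with hd
  have hdd : d * d = μ ^ (2 * m + 1) := Units.ext (by
    rw [← hn, Units.val_mul, Units.val_pow_eq_pow_val, hd, Matrix.GeneralLinearGroup.val_det_apply]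
    exact det_mul_det_of_sim hM hne g)
  set c := d / μ ^ m with hc
  have hcc : c * c = μ := by
    rw [hc, div_mul_div_comm, hdd, ← pow_add, ← two_mul, pow_succ, mul_div_cancel_left]
  have hmem : (((simScalar (matQuad M) c)⁻¹ * g : Cfsg.Geo.quadSimilarityGroup ⇑(matQuad M)) :
      GL ι F) ∈ Cfsg.isometryGroup F ⇑(matQuad M) := by
    rw [← simMult_eq_one_iff hne, map_mul, map_inv, simMult_scalar, hcc, inv_mul_cancel]
  refine ⟨c, ⟨_, hmem⟩, (mul_inv_cancel_left _ _).symm, ?_⟩
  have hdc : Matrix.GeneralLinearGroup.det (simScalar (matQuad M) c : GL ι F) = c ^ (2 * m + 1) := Units.ext (by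
    rw [Matrix.GeneralLinearGroup.val_det_apply, simScalar_coe, det_smul, det_one, mul_one, hn,
      Units.val_pow_eq_pow_val])
  show Matrix.GeneralLinearGroup.det ((simScalar (matQuad M) c : GL ι F)⁻¹ * (g : GL ι F)) = 1
  rw [map_mul, map_inv, hdc, inv_mul_eq_one, ← hd, pow_succ, pow_mul, pow_two, hcc, hc, mul_div_cancel]

theorem isConjUnder_orderOf {X : Type*} [Group X] {H : Subgroup X} {x y : X}
    (h : Cfsg.IsConjUnder H x y) : orderOf y = orderOf x := by
  obtain ⟨a, -, rfl⟩ := h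
  exact MulEquiv.orderOf_eq (MulAut.conj a) x

variable {F₀ : Type*} [Field F₀] {M₀ : Matrix ι ι F₀} {emb : F₀ →+* F} {σ : F ≃+* F} {r : ℕ}

theorem FieldHyp.coset_odd (D : FieldHyp M₀ emb σ r) {m : ℕ} (hn : Fintype.card ι = 2 * m + 1) :
    ∀ d ∈ (simAut ⇑(extForm emb M₀)).range, orderOf (d * D.fld) = r →
      Cfsg.IsConjUnder (simAut _).range D.fld (d * D.fld) := by
  rw [MonoidHom.range_eq_map]
  haveI := D.finite₀
  exact D.coset ⊤ (fun _ => trivial)
    (fun g _ P M₁ β hM₁ _ _ => (isSimTo_odd _ hM₁ hn).trans (isSimTo_odd _ D.nondeg₀ hn).symm)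
    (fun g => ⟨1, trivial⟩)

theorem FieldHyp.centralizer_odd (D : FieldHyp M₀ emb σ r) :
    Nonempty (↥((simAut ⇑(extForm emb M₀)).range ⊓ Subgroup.centralizer {D.fld}) ≃*
      ↥((simAut ⇑(matQuad M₀)).range)) := by
  obtain ⟨e⟩ := D.centralizer_iso ⊤ fun _ => trivial
  rw [Subgroup.comap_top] at e
  exact ⟨(MulEquiv.subgroupCongr (by rw [MonoidHom.range_eq_map])).trans
    (e.trans (MulEquiv.subgroupCongr (by rw [MonoidHom.range_eq_map])))⟩

theorem FieldHyp.split_odd (D : FieldHyp M₀ emb σ r) (h2 : (2 : F) ≠ 0) {m : ℕ}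
    (hn : Fintype.card ι = 2 * m + 1) :
    (Odd r → Cfsg.splitClassCount (simAut ⇑(extForm emb M₀)).range
      (Cfsg.Inn (Cfsg.POmega F ⇑(extForm emb M₀))) D.fld = 1) ∧
    (r = 2 → Cfsg.splitClassCount (simAut ⇑(extForm emb M₀)).range
      (Cfsg.Inn (Cfsg.POmega F ⇑(extForm emb M₀))) D.fld = 2) := by
  haveI := D.finite₀
  haveI := Cfsg.innNormal (Cfsg.POmega F ⇑(extForm emb M₀))
  set Q := extForm emb M₀
  set H := (simAut ⇑Q).range with hH
  set T := Cfsg.Inn (Cfsg.POmega F ⇑Q) with hT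
  have hTH : T ≤ H := fun β hβ => by
    rw [hT, inn_eq_map] at hβ; obtain ⟨w, rfl⟩ := hβ; exact ⟨_, rfl⟩
  rw [splitClassCount_eq_relIndex H T hTH]
  have hdet : (M₀.map emb + (M₀.map emb)ᵀ).det ≠ 0 := by rw [det_gram_map, map_ne_zero]; exact D.det_ne
  -- the class of a similarity is its spinor norm
  have hmem : ∀ h : Cfsg.isometryGroup F ⇑Q, detHom ⇑Q h = 1 →
      (simAut _ (simIso _ h) ∈ T ↔ (isoInv D.nondeg h2 h).1 = 1) := by
    intro h hh
    have h2' := (detHom_eq_one_iff D.nondeg h2 h).1 hh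
    constructor
    · intro hmem
      obtain ⟨w, hw, c, e⟩ := (mem_innPre_iff D.nondeg D.five_le (simIso _ h)).1 hmem
      have hm := congrArg (simMult D.ne) e
      rw [map_mul, simMult_scalar, simMult_iso, simMult_iso, mul_one] at hm
      have hd := congrArg (fun x : Cfsg.Geo.quadSimilarityGroup ⇑Q => Matrix.GeneralLinearGroup.det (x : GL ι F)) e
      simp only [Subgroup.coe_mul, map_mul] at hd
      rw [show Matrix.GeneralLinearGroup.det ((simIso ⇑Q h : Cfsg.Geo.quadSimilarityGroup ⇑Q) : GL ι F) = 1 from hh,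
        show Matrix.GeneralLinearGroup.det ((simIso ⇑Q w : Cfsg.Geo.quadSimilarityGroup ⇑Q) : GL ι F) = 1 from
          (detHom_eq_one_iff D.nondeg h2 w).2 (by rw [(mem_Omega_iff_isoInv D.nondeg h2 w).1 hw]; rfl), mul_one] at hd
      have hc : c = 1 := by
        have e3 : Matrix.GeneralLinearGroup.det (simScalar Q c : GL ι F) = c ^ (2 * m + 1) := Units.ext (by
          rw [Matrix.GeneralLinearGroup.val_det_apply, simScalar_coe, det_smul, det_one, mul_one, hn,
            Units.val_pow_eq_pow_val])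
        rw [e3, pow_succ, pow_mul, pow_two, ← hm, one_pow, one_mul] at hd
        exact hd.symm
      rw [hc, map_one, one_mul] at e
      have hhw : h = w := Subtype.ext
        (congrArg (Subtype.val : Cfsg.Geo.quadSimilarityGroup ⇑Q → GL ι F) e :)
      rw [hhw, (mem_Omega_iff_isoInv D.nondeg h2 w).1 hw]; rfl
    · intro h1
      have : h ∈ Cfsg.Omega F ⇑Q := (mem_Omega_iff_isoInv D.nondeg h2 h).2 (Prod.ext h1 h2')
      exact (mem_innPre_iff D.nondeg D.five_le _).2 ⟨h, this, 1, by rw [map_one, one_mul]⟩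
  have hcl : ∀ g, ∃ h : Cfsg.isometryGroup F ⇑Q, detHom ⇑Q h = 1 ∧ simAut _ g = simAut _ (simIso _ h) := fun g => by
    obtain ⟨c, h, rfl, hh⟩ := exists_scalar_special hdet hn D.ne g
    exact ⟨h, hh, simAut_scalar_mul D.nondeg D.five_le c _⟩
  constructor
  · intro hr
    rw [Subgroup.relIndex_eq_one]
    rintro _ ⟨g, rfl⟩
    obtain ⟨h, hh, e⟩ := hcl g
    obtain ⟨s, hs1, hs2⟩ := D.exists_special h2 hr
    have hsC : simAut _ (simIso _ (extendIso emb M₀ s)) ∈ H ⊓ Subgroup.centralizer {D.fld} := by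
      refine ⟨⟨_, rfl⟩, Subgroup.mem_centralizer_singleton_iff.2 ?_⟩
      rw [← extend_simIso]
      conv_rhs => rw [← inv_mul_cancel_right (D.fld * simAut _ (extend emb M₀ (simIso _ s))) D.fld, D.fld_conj,
        D.twist_extend]
    rw [e]
    by_cases h1 : (isoInv D.nondeg h2 h).1 = 1
    · exact Subgroup.mem_sup_left ((hmem h hh).2 h1)
    · have hd : detHom ⇑Q (h * (extendIso emb M₀ s)⁻¹) = 1 := by
        rw [map_mul, map_inv, hh, (detHom_eq_one_iff D.nondeg h2 _).2 hs2, inv_one, mul_one]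
      have h3 := (hmem _ hd).2 (by
        rw [map_mul, map_inv]
        show (isoInv D.nondeg h2 h).1 * (isoInv D.nondeg h2 (extendIso emb M₀ s)).1⁻¹ = 1
        rw [mul_inv_eq_one]
        exact (sqClass_cases h2 hs1 _).resolve_left h1)
      rw [show simAut _ (simIso _ h) = simAut _ (simIso _ (h * (extendIso emb M₀ s)⁻¹)) *
        simAut _ (simIso _ (extendIso emb M₀ s)) by rw [← map_mul, ← map_mul, inv_mul_cancel_right]]
      exact mul_mem (Subgroup.mem_sup_left h3) (Subgroup.mem_sup_right hsC)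
  · intro hr
    have hC : H ⊓ Subgroup.centralizer {D.fld} ≤ T := by
      have e0 : H = (⊤ : Subgroup _).map (simAut ⇑Q) := MonoidHom.range_eq_map _
      rw [e0, D.inf_centralizer ⊤ (fun _ => trivial)]
      rintro _ ⟨g₀, -, rfl⟩
      obtain ⟨c, h, rfl, hh⟩ := exists_scalar_special D.det_ne hn D.ne₀ g₀
      have e1 : simAut _ (extend emb M₀ (simScalar (matQuad M₀) c)) = 1 := by
        rw [D.simAut_extend_eq_one_iff, simAut_eq_one_iff D.nondeg₀ D.five_le]
        exact simScalar_mem_scalars _ c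
      rw [MonoidHom.comp_apply, map_mul, map_mul, e1, one_mul, extend_simIso, hmem _ ?_]
      · exact D.spinor_extend h2 hr h
      · refine Units.ext ?_
        have h0 := congrArg Units.val hh
        rw [show detHom ⇑(matQuad M₀) h = Matrix.GeneralLinearGroup.det (h : GL ι F₀) from rfl,
          Matrix.GeneralLinearGroup.val_det_apply, Units.val_one] at h0
        show ((Matrix.GeneralLinearGroup.det (extendIso emb M₀ h : GL ι F)) : F) = 1
        rw [Matrix.GeneralLinearGroup.val_det_apply, ← map_one emb, ← h0, RingHom.map_det]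
        rfl
    rw [sup_eq_left.2 hC]
    show (T.subgroupOf H).index = 2
    rw [Subgroup.index_eq_two_iff']
    obtain ⟨x, hx⟩ := orthInvariant_surjective D.nondeg
      (by rw [Module.finrank_fintype_fun_eq_card]; have := D.five_le; omega) h2 (reflGroup_eq_orth_of_two_ne D.nondeg h2)
      ((fun t => (t, (1 : Multiplicative (ZMod 2)))) (Classical.choose (show ∃ t : SqClass F, t ≠ 1 from by
        haveI : Nontrivial (SqClass F) := (Nat.card_eq_two_iff.1 (card_sqClass (F := F) h2)).elim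
          fun a ha => ha.elim fun b hb => ⟨⟨a, b, hb.1⟩⟩
        exact exists_ne 1)))
    set s := (isomEquiv Q).symm x
    have hs : isoInv D.nondeg h2 s = orthInvariant D.nondeg (reflGroup_eq_orth_of_two_ne D.nondeg h2) x := by
      show orthInvariant D.nondeg _ (isomEquiv Q s) = _
      rw [MulEquiv.apply_symm_apply]
    rw [hx] at hs
    have hs1 : (isoInv D.nondeg h2 s).1 ≠ 1 := by
      rw [hs]; exact Classical.choose_spec (p := fun t : SqClass F => t ≠ 1) _
    have hsd : detHom ⇑Q s = 1 := (detHom_eq_one_iff D.nondeg h2 s).2 (by rw [hs])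
    refine ⟨⟨_, simIso _ s, rfl⟩, fun b => ?_⟩
    rw [Subgroup.mem_subgroupOf, Subgroup.mem_subgroupOf, Subgroup.coe_mul]
    obtain ⟨b, g, rfl⟩ := b
    obtain ⟨h, hh, e⟩ := hcl g
    simp only [e, ← map_mul]
    rw [hmem _ (by rw [map_mul, hsd, hh, one_mul]), hmem _ hh, map_mul, Prod.fst_mul]
    rcases sqClass_cases h2 hs1 (isoInv D.nondeg h2 h).1 with h1 | h1
    · rw [h1, mul_one]; exact Or.inr ⟨rfl, hs1⟩
    · rw [h1]; exact Or.inl ⟨sqClass_mul_self _, hs1⟩

theorem oddMat_map {K : Type*} [Field K] (f : K →+* F) (m : ℕ) :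
    (oddMat m K).map f = oddMat m F := by
  rw [oddMat, oddMat, plusMat, plusMat, fromBlocks_map, fromBlocks_map]
  simp [Matrix.map_one, Matrix.map_zero]

theorem inndiagPOmegaOdd_eq (m : ℕ) (F : Type*) [Field F] :
    Cfsg.inndiagPOmegaOdd m F = (simAut (Cfsg.quadFormOdd m F)).range := by
  rw [← pgoAut_eq]; rfl

end CfsgLib.Geometry
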