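import Cfsg.Agent.Lib.Geometry.EvenTypes
import Cfsg.Agent.Lib.Geometry.FieldOdd

/-! Field automorphisms in even dimension: the coset and the centraliser in the inner-diagonal group. -/

set_option autoImplicit false

namespace CfsgLib.Geometry

open Matrix QuadraticMap

section MapEquiv

variable {F₀ F : Type*} [Field F₀] [Field F] (emb : F₀ →+* F)
variable {ι κ : Type} [Fintype ι] [DecidableEq ι] [Fintype κ] [DecidableEq κ]

/-- Base change of a linear equivalence of coordinate spaces. -/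
theorem exists_map_equiv (T : (κ → F₀) ≃ₗ[F₀] (ι → F₀)) :
    ∃ E : (κ → F) ≃ₗ[F] (ι → F),
      (∀ v : κ → F₀, E (emb ∘ v) = emb ∘ T v) ∧
      ∀ (σ : F ≃+* F), (∀ y, σ (emb y) = emb y) →
        ∀ w, E (fun i => σ (w i)) = fun i => σ (E w i) := by
  set A := LinearMap.toMatrix' (T : (κ → F₀) →ₗ[F₀] (ι → F₀))
  set B := LinearMap.toMatrix' (T.symm : (ι → F₀) →ₗ[F₀] (κ → F₀))
  have hAB : A * B = 1 := by
    rw [← LinearMap.toMatrix'_comp, ← LinearMap.toMatrix'_id]; congr 1; ext v; simp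
  have hBA : B * A = 1 := by
    rw [← LinearMap.toMatrix'_comp, ← LinearMap.toMatrix'_id]; congr 1; ext v; simp
  refine ⟨LinearEquiv.ofLinear (Matrix.mulVecLin (A.map emb)) (Matrix.mulVecLin (B.map emb)) ?_ ?_, fun v => ?_,
    fun σ hσ w => ?_⟩
  · rw [← Matrix.mulVecLin_mul, ← Matrix.map_mul, hAB, Matrix.map_one emb (map_zero emb) (map_one emb),
      Matrix.mulVecLin_one]
  · rw [← Matrix.mulVecLin_mul, ← Matrix.map_mul, hBA, Matrix.map_one emb (map_zero emb) (map_one emb),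
      Matrix.mulVecLin_one]
  · show A.map emb *ᵥ (emb ∘ v) = _
    funext i
    rw [show (T v) = A *ᵥ v by simp [A, LinearMap.toMatrix'_mulVec]]
    exact (RingHom.map_mulVec emb A v i).symm
  · show A.map emb *ᵥ (fun i => σ (w i)) = fun i => σ ((A.map emb *ᵥ w) i)
    funext i
    have h := RingHom.map_mulVec (σ : F →+* F) (A.map emb) w i
    refine Eq.trans ?_ h.symm
    rw [show (A.map emb).map (σ : F →+* F) = A.map emb from Matrix.ext fun a b => hσ _]
    rfl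

/-- Base change of similitudes. -/
theorem exists_map_sim {M : Matrix κ κ F₀} {M' : Matrix ι ι F₀} (T : (κ → F₀) ≃ₗ[F₀] (ι → F₀)) {t : F₀}
    (hT : ∀ v, matQuad M' (T v) = t * matQuad M v) :
    ∃ E : (κ → F) ≃ₗ[F] (ι → F), (∀ w, matQuad (M'.map emb) (E w) = emb t * matQuad (M.map emb) w) ∧
      ∀ (σ : F ≃+* F), (∀ y, σ (emb y) = emb y) →
        ∀ w, E (fun i => σ (w i)) = fun i => σ (E w i) := by
  obtain ⟨E, hE, hEσ⟩ := exists_map_equiv emb T
  obtain ⟨M₂, hM₂⟩ := exists_matQuad (t • matQuad M)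
  have h3 : (matQuad (M'.map emb)).comp (E : (κ → F) →ₗ[F] (ι → F)) = matQuad (M₂.map emb) :=
    eq_matQuad_map emb fun u => by
      rw [hM₂, QuadraticMap.comp_apply, LinearEquiv.coe_coe, hE, matQuad_map, hT, QuadraticMap.smul_apply,
        smul_eq_mul]
  have h4 : emb t • matQuad (M.map emb) = matQuad (M₂.map emb) := eq_matQuad_map emb fun u => by
    rw [hM₂, QuadraticMap.smul_apply, QuadraticMap.smul_apply, smul_eq_mul, smul_eq_mul, map_mul, matQuad_map]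
  exact ⟨E, fun w => QuadraticMap.congr_fun (h3.trans h4.symm) w, hEσ⟩

end MapEquiv

variable {ι : Type} [Fintype ι] [DecidableEq ι] {F : Type*} [Field F] [Finite F]
variable {F₀ : Type*} [Field F₀] {M₀ : Matrix ι ι F₀} {emb : F₀ →+* F} {σ : F ≃+* F} {r k : ℕ}

theorem conjSim_inv_apply {κ : Type} [Fintype κ] [DecidableEq κ] {Q : (κ → F) → F} (x : semiSim Q)
    (g : Cfsg.Geo.quadSimilarityGroup Q) : conjSim x⁻¹ (conjSim x g) = g :=
  Subtype.ext (SemidirectProduct.inl_injective (φ := glAut κ F) (by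
    show SemidirectProduct.inl ((x : GammaL κ F)⁻¹.left * glAut κ F (x : GammaL κ F)⁻¹.right
      ((x : GammaL κ F).left * glAut κ F (x : GammaL κ F).right (g : GL κ F) * (x : GammaL κ F).left⁻¹) *
      (x : GammaL κ F)⁻¹.left⁻¹) = _
    rw [← conj_inl_eq, ← conj_inl_eq]; group))

theorem FieldHyp.twist_eq_conjSim (D : FieldHyp M₀ emb σ r)
    (g : Cfsg.Geo.quadSimilarityGroup ⇑(extForm emb M₀)) : D.twist g = conjSim D.base g :=
  Subtype.ext (by
    show glAut ι F σ (g : GL ι F) = (1 : GL ι F) * glAut ι F σ (g : GL ι F) * (1 : GL ι F)⁻¹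
    rw [one_mul, inv_one, mul_one])

theorem FieldHyp.twist_mem_iff (D : FieldHyp M₀ emb σ r) (D₀ : EvenHyp M₀ k)
    (g : Cfsg.Geo.quadSimilarityGroup ⇑(extForm emb M₀)) :
    D.twist g ∈ clsSub (M₀.map emb) k ↔ g ∈ clsSub (M₀.map emb) k := by
  refine ⟨fun h => ?_, fun h => D.twist_eq_conjSim g ▸ (D₀.base emb).conj_mem _ h⟩
  rw [D.twist_eq_conjSim] at h
  have h' := (D₀.base emb).conj_mem (D.base⁻¹ : semiSim ⇑(extForm emb M₀)) h
  rwa [conjSim_inv_apply] at h'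

/-- Two descents with similar forms lie in the same class. -/
theorem FieldHyp.mem_iff_of_similar (D : FieldHyp M₀ emb σ r) (D₀ : EvenHyp M₀ k)
    {g₁ g₂ : Cfsg.Geo.quadSimilarityGroup ⇑(extForm emb M₀)} {P₁ P₂ : GL ι F} {M₁ M₂ : Matrix ι ι F₀}
    {β₁ β₂ : Fˣ}
    (h₁ : ∀ v, extForm emb M₀ ((P₁ : Matrix ι ι F) *ᵥ v) = (β₁ : F) * matQuad (M₁.map emb) v)
    (h₂ : ∀ v, extForm emb M₀ ((P₂ : Matrix ι ι F) *ᵥ v) = (β₂ : F) * matQuad (M₂.map emb) v)
    (e₁ : (g₁ : GL ι F) * glAut ι F σ P₁ = P₁) (e₂ : (g₂ : GL ι F) * glAut ι F σ P₂ = P₂)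
    (hsim : IsSimTo ⇑(matQuad M₁) ⇑(matQuad M₂)) :
    g₁ ∈ clsSub (M₀.map emb) k ↔ g₂ ∈ clsSub (M₀.map emb) k := by
  obtain ⟨T, t, ht, hT⟩ := hsim
  obtain ⟨E, hE, hEσ⟩ := exists_map_sim emb T hT
  set A := glEquiv.symm E
  have hA : glAut ι F σ A = A := Units.ext (matrix_eq_of_mulVec fun v => by
    obtain ⟨w, rfl⟩ : ∃ w : ι → F, (fun i => σ (w i)) = v := ⟨fun i => σ.symm (v i), by simp⟩
    rw [glAut_coe, ← map_mulVec']
    show (fun i => σ ((((A : GL ι F) : Matrix ι ι F) *ᵥ w) i)) = ((A : GL ι F) : Matrix ι ι F) *ᵥ _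
    rw [glEquiv_symm_mulVec, glEquiv_symm_mulVec]
    exact (hEσ σ D.fix' w).symm)
  have hmem : P₁ * A * P₂⁻¹ ∈ Cfsg.Geo.quadSimilarityGroup ⇑(extForm emb M₀) := by
    refine ⟨β₁ * Units.mk0 (emb t) ((map_ne_zero emb).2 ht) / β₂, fun v => ?_⟩
    obtain ⟨w, rfl⟩ : ∃ w, (P₂ : Matrix ι ι F) *ᵥ w = v :=
      ⟨((P₂⁻¹ : GL ι F) : Matrix ι ι F) *ᵥ v, by rw [mulVec_mulVec, Units.mul_inv, one_mulVec]⟩
    rw [Units.val_mul, Units.val_mul, mulVec_mulVec, mul_assoc, Units.inv_mul, mul_one, ← mulVec_mulVec,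
      h₁, glEquiv_symm_mulVec, hE, h₂, Units.val_div_eq_div_val, Units.val_mul, Units.val_mk0]
    field_simp
  set s : Cfsg.Geo.quadSimilarityGroup ⇑(extForm emb M₀) := ⟨_, hmem⟩
  have key : g₁ * D.twist s = s * g₂ := by
    refine Subtype.ext ?_
    show (g₁ : GL ι F) * glAut ι F σ (P₁ * A * P₂⁻¹) = P₁ * A * P₂⁻¹ * g₂
    have e₂' : glAut ι F σ P₂ = (g₂ : GL ι F)⁻¹ * P₂ := eq_inv_mul_of_mul_eq e₂
    rw [map_mul, map_mul, map_inv, hA, e₂', ← mul_assoc, ← mul_assoc, e₁]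
    group
  have hs := D.twist_mem_iff D₀ s
  set S := clsSub (M₀.map emb) k
  have D' := D₀.base emb
  have aux : ∀ a b : Cfsg.Geo.quadSimilarityGroup ⇑(extForm emb M₀),
      a * b ∈ S ↔ (a ∈ S ↔ b ∈ S) := fun a b => by
    by_cases ha : a ∈ S
    · simp [ha, Subgroup.mul_mem_cancel_left _ ha]
    · by_cases hb : b ∈ S
      · simp [ha, hb, Subgroup.mul_mem_cancel_right _ hb]
      · have h3 := D'.mul_mem_of_not ha (fun h => hb (inv_inv b ▸ inv_mem h))
        rw [inv_inv] at h3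
        simpa [ha, hb] using h3
  have h5 := aux g₁ (D.twist s)
  rw [key, aux s g₂, hs] at h5
  by_cases hg : g₁ ∈ S <;> by_cases hg' : g₂ ∈ S <;> simp_all

/-- A descent to a form similar to the given one lies in the class-preserving part. -/
theorem FieldHyp.mem_of_isSimTo (D : FieldHyp M₀ emb σ r) (D₀ : EvenHyp M₀ k)
    {g : Cfsg.Geo.quadSimilarityGroup ⇑(extForm emb M₀)} {P : GL ι F} {M₁ : Matrix ι ι F₀} {β : Fˣ}
    (h : ∀ v, extForm emb M₀ ((P : Matrix ι ι F) *ᵥ v) = (β : F) * matQuad (M₁.map emb) v)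
    (e : (g : GL ι F) * glAut ι F σ P = P) (hsim : IsSimTo ⇑(matQuad M₁) ⇑(matQuad M₀)) :
    g ∈ clsSub (M₀.map emb) k :=
  (D.mem_iff_of_similar D₀ (g₂ := 1) (P₂ := 1) (β₂ := 1) h (fun v => by simp) e (by simp) hsim).2 (one_mem _)

/-- A reflection in a rational vector descends to the other type. -/
theorem FieldHyp.exists_other (D : FieldHyp M₀ emb σ r) (D₀ : EvenHyp M₀ k) (hr : r = 2) :
    ∃ (v : ι → F₀) (hv : matQuad M₀ v ≠ 0) (g : Cfsg.Geo.quadSimilarityGroup ⇑(extForm emb M₀))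
      (a : Fˣ) (P : GL ι F) (M₁ : Matrix ι ι F₀) (β : Fˣ),
      g = simScalar _ a * extend emb M₀ (simIso _ ((isomEquiv (matQuad M₀)).symm (oRefl (matQuad M₀) v hv))) ∧
      (polarBilin (matQuad M₁)).Nondegenerate ∧
      (∀ w, extForm emb M₀ ((P : Matrix ι ι F) *ᵥ w) = (β : F) * matQuad (M₁.map emb) w) ∧
      (g : GL ι F) * glAut ι F σ P = P ∧ g ∉ clsSub (M₀.map emb) k ∧
      ¬ IsSimTo ⇑(matQuad M₁) ⇑(matQuad M₀) := by
  haveI := D.finite₀
  obtain ⟨v, hv⟩ := D₀.ne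
  set R₀ := simIso _ ((isomEquiv (matQuad M₀)).symm (oRefl (matQuad M₀) v hv))
  have hRR : R₀ * R₀ = 1 := by
    rw [← map_mul, ← map_mul, oRefl_mul_self, map_one, map_one]
  subst hr
  have ho : (simAut _ (extend emb M₀ R₀) * D.fld) ^ 2 = 1 := by
    rw [pow_two]
    have hfld : D.fld * D.fld = 1 := by
      rw [FieldHyp.fld, ← map_mul, autOmega_eq_one_iff D.nondeg D.five_le]
      have hσσ : σ * σ = 1 := by rw [← pow_two, ← D.order, pow_orderOf_eq_one]
      rw [Subgroup.coe_mul, show ((D.base : semiSim ⇑(extForm emb M₀)) : GammaL ι F) = SemidirectProduct.inr σ from rfl,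
        ← map_mul, hσσ, map_one]
      exact ⟨rfl, one_mem _⟩
    have hc : D.fld * simAut _ (extend emb M₀ R₀) = simAut _ (extend emb M₀ R₀) * D.fld := by
      conv_lhs => rw [← inv_mul_cancel_right (D.fld * simAut _ (extend emb M₀ R₀)) D.fld, D.fld_conj,
        D.twist_extend]
    rw [mul_assoc, ← mul_assoc D.fld, hc, mul_assoc _ D.fld, hfld, mul_one, ← map_mul, ← map_mul, hRR, map_one,
      map_one]
  obtain ⟨a, P, M₁, β, hM₁, hPQ, hP⟩ := D.descend _ ho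
  have hn : extend emb M₀ R₀ ∉ clsSub (M₀.map emb) k := by
    rw [D₀.extend_mem_iff]
    exact D₀.refl_not_mem hv
  have hg : simScalar _ a * extend emb M₀ R₀ ∉ clsSub (M₀.map emb) k := fun h =>
    hn ((Subgroup.mul_mem_cancel_left _ ((D₀.base emb).scalar_mem a)).1 h)
  exact ⟨v, hv, _, a, P, M₁, β, rfl, hM₁, hPQ, hP, hg, fun h => hg (D.mem_of_isSimTo D₀ hPQ hP h)⟩

theorem FieldHyp.coset_even (D : FieldHyp M₀ emb σ r) (D₀ : EvenHyp M₀ k) :
    ∀ d ∈ (clsSub (M₀.map emb) k).map (simAut _), orderOf (d * D.fld) = r →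
      Cfsg.IsConjUnder ((clsSub (M₀.map emb) k).map (simAut _)) D.fld (d * D.fld) := by
  haveI := D.finite₀
  haveI := Fintype.ofFinite F₀
  haveI := Fintype.ofFinite F
  refine D.coset _ (fun a => (D₀.base emb).scalar_mem a) ?_ ?_
  · intro g hg P M₁ β hM₁ hPQ hP
    by_contra hn
    rcases D.prime.eq_two_or_odd' with hr | hr
    · obtain ⟨v, hv, g', a, P', M', β', -, hM', hPQ', hP', hg', hn'⟩ := D.exists_other D₀ hr
      exact hg' ((D.mem_iff_of_similar D₀ hPQ hPQ' hP hP' (isSimTo_of_not _ _ _ D.nondeg₀ hM₁ hM'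
        D₀.card_eq (by have := D₀.four_le; omega) hn hn')).1 hg)
    · obtain ⟨m, hm⟩ : ∃ m, k = m + 1 := ⟨k - 1, by have := D₀.four_le; omega⟩
      have hcard := D₀.card_eq
      rw [hm] at hcard
      have hF : IsSimTo ⇑(extForm emb M₀) ⇑(matQuad (M₁.map emb)) :=
        ⟨glEquiv P, (β : F), β.ne_zero, fun v => by rw [glEquiv_apply]; exact hPQ v⟩
      have up : ∀ {κ : Type} [Fintype κ] [DecidableEq κ] (M : Matrix ι ι F₀) (N : Matrix κ κ F₀),
          IsSimTo ⇑(matQuad M) ⇑(matQuad N) → IsSimTo ⇑(matQuad (M.map emb)) ⇑(matQuad (N.map emb)) := by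
        rintro κ _ _ M N ⟨T, t, ht, hT⟩
        obtain ⟨E, hE, -⟩ := exists_map_sim emb T hT
        exact ⟨E, emb t, (map_ne_zero emb).2 ht, hE⟩
      have hmap : (plusMat (m + 1) F₀).map emb = plusMat (m + 1) F := by
        rw [plusMat, plusMat, fromBlocks_map]
        simp [Matrix.map_one, Matrix.map_zero]
      have upP : ∀ M : Matrix ι ι F₀, IsSimTo ⇑(matQuad M) (Cfsg.quadFormPlus (m + 1) F₀) →
          IsSimTo ⇑(matQuad (M.map emb)) (Cfsg.quadFormPlus (m + 1) F) := fun M h => by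
        rw [← coe_matQuad_plus] at h
        have := up M (plusMat (m + 1) F₀) h
        rwa [hmap, coe_matQuad_plus] at this
      have upM : ∀ (M : Matrix ι ι F₀) {a b : F₀},
          IsSimTo ⇑(matQuad M) (Cfsg.quadFormMinus m F₀ a b) →
          IsSimTo ⇑(matQuad (M.map emb)) (Cfsg.quadFormMinus m F (emb a) (emb b)) := fun M a b h => by
        rw [← coe_matQuad_minus] at h
        have := up M (minusMat m F₀ a b) h
        rwa [minusMat_map, coe_matQuad_minus] at this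
      rcases isSimTo_even (matQuad M₀) D.nondeg₀ hcard with p₀ | ⟨a₀, b₀, ab₀, p₀⟩ <;>
        rcases isSimTo_even (matQuad M₁) hM₁ hcard with p₁ | ⟨a₁, b₁, ab₁, p₁⟩
      · exact hn (p₁.trans p₀.symm)
      · exact not_isSimTo_minus_plus (aniso_map_odd D.fix D.order hr ab₁)
          ((upM M₁ p₁).symm.trans (hF.symm.trans (upP M₀ p₀)))
      · exact not_isSimTo_minus_plus (aniso_map_odd D.fix D.order hr ab₀)
          ((upM M₀ p₀).symm.trans (hF.trans (upP M₁ p₁)))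
      · exact hn (p₁.trans ((isSimTo_minus m ab₁ ab₀).trans p₀.symm))
  · intro g
    obtain ⟨v, hv⟩ := D₀.ne
    by_cases hg : g ∈ clsSub (M₀.map emb) k
    · exact ⟨1, by rwa [map_one, mul_one]⟩
    refine ⟨(simIso _ ((isomEquiv (matQuad M₀)).symm (oRefl (matQuad M₀) v hv)))⁻¹, ?_⟩
    rw [map_inv]
    refine (D₀.base emb).mul_mem_of_not hg ?_
    rw [D₀.extend_mem_iff]
    exact D₀.refl_not_mem hv

theorem FieldHyp.centralizer_even (D : FieldHyp M₀ emb σ r) (D₀ : EvenHyp M₀ k) :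
    Nonempty (↥((clsSub (M₀.map emb) k).map (simAut _) ⊓ Subgroup.centralizer {D.fld}) ≃*
      ↥((clsSub M₀ k).map (simAut ⇑(matQuad M₀)))) := by
  haveI := D.finite₀
  obtain ⟨e⟩ := D.centralizer_iso (clsSub (M₀.map emb) k) fun a => (D₀.base emb).scalar_mem a
  rw [D₀.comap_extend emb] at e
  exact ⟨e⟩

end CfsgLib.Geometry
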