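import Cfsg.Agent.Lib.Geometry.EvenGraph

/-! Small arithmetic helpers for the statements on field automorphisms. -/

set_option autoImplicit false

namespace CfsgLib.Geometry

theorem two_zero_iff {F : Type*} [Field F] [Fintype F] {p f : ℕ} [Fact p.Prime] (hf : 1 ≤ f)
    (hF : Fintype.card F = p ^ f) : (2 : F) = 0 ↔ p = 2 := by
  haveI := CfsgLib.KnownB.PSLAut.charP_of_card hf hF
  rw [show (2 : F) = ((2 : ℕ) : F) from (Nat.cast_ofNat).symm, CharP.cast_eq_zero_iff F p]
  exact ⟨fun h => ((Nat.prime_dvd_prime_iff_eq Fact.out Nat.prime_two).1 h), fun h => h ▸ dvd_rfl⟩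

theorem involution_unique {F : Type*} [Field F] [Fintype F] {σ τ : F ≃+* F} (hσ : orderOf σ = 2)
    (hτ : orderOf τ = 2) : σ = τ := by
  classical
  obtain ⟨p, hp⟩ := CharP.exists F
  obtain ⟨k, hk, hk'⟩ := FiniteField.card F p
  haveI := Fact.mk hk
  haveI := CfsgLib.KnownB.PSLAut.isCyclic_gal (F := F) k.pos hk'
  haveI : Finite (F ≃+* F) := Finite.of_injective (fun σ : F ≃+* F => (σ : F → F)) DFunLike.coe_injective
  haveI : Fintype (F ≃+* F) := Fintype.ofFinite _
  by_contra hne
  have h := IsCyclic.card_pow_eq_one_le (α := F ≃+* F) two_pos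
  have hsub : ({1, σ, τ} : Finset (F ≃+* F)) ⊆ Finset.univ.filter fun a => a ^ 2 = 1 := by
    intro a ha
    simp only [Finset.mem_insert, Finset.mem_singleton] at ha
    simp only [Finset.mem_filter, Finset.mem_univ, true_and]
    rcases ha with rfl | rfl | rfl
    · exact one_pow 2
    · rw [← hσ, pow_orderOf_eq_one]
    · rw [← hτ, pow_orderOf_eq_one]
  have hc : ({1, σ, τ} : Finset (F ≃+* F)).card = 3 := by
    have h1 : (1 : F ≃+* F) ≠ σ := fun h => by rw [← h, orderOf_one] at hσ; omega
    have h1' : (1 : F ≃+* F) ≠ τ := fun h => by rw [← h, orderOf_one] at hτ; omega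
    simp [Finset.card_insert_of_notMem, h1, h1', hne]
  have := Finset.card_le_card hsub
  omega

end CfsgLib.Geometry
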