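import Cfsg.Agent.Lib.Geometry.EvenCount

/-! The spinor norms deciding the splitting of involutory field and graph-field automorphisms. -/

set_option autoImplicit false

namespace CfsgLib.Geometry

open Matrix QuadraticMap

variable {F : Type*} [Field F] [Finite F]

/-- A diagonal similarity of the plus form induces an inner automorphism iff a product is a square. -/
theorem inn_iff_of_diag (h2 : (2 : F) ≠ 0) {m : ℕ} (hm : 4 ≤ m) (hneg : IsSquare (-1 : F))
    {g : Cfsg.Geo.quadSimilarityGroup ⇑(matQuad (plusMat m F))} {t : F} (ht : t ≠ 0) (d : Fin m → F)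
    (hd : ∀ i, d i ≠ 0)
    (hg : ∀ v, ((g : GL (Fin m ⊕ Fin m) F) : Matrix (Fin m ⊕ Fin m) (Fin m ⊕ Fin m) F) *ᵥ v =
      Sum.elim (fun i => t * d i * v (.inl i)) (fun i => t * (d i)⁻¹ * v (.inr i))) :
    simAut _ g ∈ Cfsg.Inn (Cfsg.POmega F ⇑(matQuad (plusMat m F))) ↔ IsSquare (∏ i, d i) := by
  have D := evenHyp_plus (F := F) hm
  have hprod : ∏ i, d i ≠ 0 := Finset.prod_ne_zero_iff.2 fun i _ => hd i
  obtain ⟨h, hh, hinv⟩ := exists_diag_invariant D.nondeg (reflGroup_eq_orth_of_two_ne D.nondeg h2)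
    (Sum.inl : Fin m → Fin m ⊕ Fin m) Sum.inr
    (fun x y h => by cases x <;> cases y <;> simp_all)
    (fun j => by rw [coe_matQuad_plus]; exact quadFormPlus_single m _)
    (fun j => by rw [coe_matQuad_plus]; exact quadFormPlus_single m _)
    (fun x j => by simp [polar_plus, Pi.single_apply])
    (fun x j => by simp [polar_plus, Pi.single_apply])
    d hprod (Sum.elim d fun i => (d i)⁻¹) (fun j => rfl) (fun j => rfl)
    (fun z hz => by cases z with
      | inl i => exact absurd rfl (hz i).1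
      | inr i => exact absurd rfl (hz i).2)
  have e : g = simScalar (matQuad (plusMat m F)) (Units.mk0 t ht) * simIso _ h :=
    Subtype.ext (Units.ext (matrix_eq_of_mulVec fun v => by
      rw [Subgroup.coe_mul, Units.val_mul, simScalar_coe, hg]
      show _ = (t • 1 * ((h : GL (Fin m ⊕ Fin m) F) : Matrix (Fin m ⊕ Fin m) (Fin m ⊕ Fin m) F)) *ᵥ v
      rw [hh, smul_mul_assoc, one_mul, smul_mulVec]
      funext z
      rcases z with i | i <;> simp [mulVec_diagonal, mul_assoc]))
  have hinv' : isoInv D.nondeg h2 h = (sqMk hprod, 1) := hinv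
  rw [e, simAut_scalar_mul' D.nondeg D.five_le, ← sqMk_eq_one_iff hprod]
  constructor
  · intro hmem
    have := D.spinor_of_mem_inn h2 (by rw [det_plus_gram]; exact hneg.pow m) hmem
    rwa [hinv'] at this
  · intro hs
    exact D.simAut_mem_inn h2 ((detHom_eq_one_iff D.nondeg h2 h).2 (by rw [hinv'])) (by rw [hinv']; exact hs)

/-- The inner automorphisms are recognised after transport. -/
theorem FormSim.mem_inn_iff {ι κ : Type} [Fintype ι] [DecidableEq ι] [Fintype κ] [DecidableEq κ]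
    {R : (κ → F) → F} {Q : (ι → F) → F} (T : FormSim R Q) (g : Cfsg.Geo.quadSimilarityGroup R) :
    simAut Q (T.simEquiv g) ∈ Cfsg.Inn (Cfsg.POmega F Q) ↔ simAut R g ∈ Cfsg.Inn (Cfsg.POmega F R) := by
  rw [← T.autEquiv_simAut, ← map_inn_congr T.pomegaEquiv]
  exact Subgroup.mem_map_equiv.trans (by rw [FormSim.autEquiv, MulEquiv.symm_apply_apply])

section Sqrt

variable {F₀ : Type*} [Field F₀] {emb : F₀ →+* F} {σ : F ≃+* F}

/-- A square root of a nonsquare of the fixed field is a square iff `-1` is a nonsquare there. -/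
theorem isSquare_sqrt_iff (hfix : ∀ x, σ x = x ↔ ∃ y, emb y = x) (hσ : orderOf σ = 2) (h2 : (2 : F) ≠ 0)
    {ν : F₀} (hν : ¬ IsSquare ν) {t : F} (ht : t * t = emb ν) :
    IsSquare t ↔ ¬ IsSquare (-1 : F₀) := by
  haveI := Finite.of_injective emb emb.injective
  haveI := Fintype.ofFinite F₀
  have h2₀ : (2 : F₀) ≠ 0 := fun h => h2 (by rw [← map_ofNat emb 2, h, map_zero])
  have hσσ : ∀ x, σ (σ x) = x := fun x => by
    have h := pow_orderOf_eq_one σ
    rw [hσ, pow_two] at h
    exact RingEquiv.congr_fun h x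
  have hN : ∀ w : F, ∃ y, emb y = w * σ w := fun w => (hfix _).1 (by rw [map_mul, hσσ, mul_comm])
  have hν0 : ν ≠ 0 := fun h => hν (h ▸ IsSquare.zero)
  have hσt : σ t = -t := by
    have : σ t * σ t = t * t := by rw [← map_mul, ht, (hfix _).2 ⟨ν, rfl⟩]
    rcases mul_self_eq_mul_self_iff.1 this with h | h
    · obtain ⟨y, hy⟩ := (hfix t).1 h
      exact absurd ⟨y, emb.injective (by rw [← ht, ← hy, map_mul])⟩ hν
    · exact h
  constructor
  · rintro ⟨w, hw⟩ ⟨i, hi⟩
    obtain ⟨y, hy⟩ := hN w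
    have hy2 : y * y = -ν := emb.injective (by
      rw [map_neg, map_mul, hy, ← ht,
        show w * σ w * (w * σ w) = (w * w) * σ (w * w) by rw [map_mul]; ring, ← hw, hσt]
      ring)
    have hi0 : i ≠ 0 := fun h => by rw [h, mul_zero] at hi; exact neg_ne_zero.2 one_ne_zero hi
    refine hν ⟨y / i, ?_⟩
    field_simp
    linear_combination -hy2 - ν * hi
  · intro hneg
    by_contra hns
    have hab : ∀ z₁ z₂ : F₀, z₁ ^ 2 + 0 * z₁ * z₂ + -ν * z₂ ^ 2 = 0 → z₁ = 0 ∧ z₂ = 0 := by
      intro z₁ z₂ h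
      rcases eq_or_ne z₂ 0 with rfl | hz
      · exact ⟨by simpa using h, rfl⟩
      · exact absurd ⟨z₁ / z₂, by field_simp; linear_combination -h⟩ hν
    obtain ⟨c, d, hcd⟩ := exists_binary_value hab (ν := ν) h2₀
    have hz : (emb c + emb d * t) * σ (emb c + emb d * t) = emb ν := by
      rw [map_add, map_mul, (hfix _).2 ⟨c, rfl⟩, (hfix _).2 ⟨d, rfl⟩, hσt]
      calc (emb c + emb d * t) * (emb c + emb d * -t) = emb c * emb c - emb d * emb d * (t * t) := by ring
        _ = emb (c * c - d * d * ν) := by rw [ht, map_sub, map_mul, map_mul, map_mul]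
        _ = _ := by congr 1; linear_combination hcd
    have hzns : ¬ IsSquare (emb c + emb d * t) := by
      rintro ⟨w, hw⟩
      obtain ⟨y, hy⟩ := hN w
      refine hν ⟨y, emb.injective ?_⟩
      rw [map_mul, hy, ← hz, hw, map_mul]; ring
    obtain ⟨w, hw⟩ := isSquare_mul_of_not hns hzns
    obtain ⟨y, hy⟩ := hN w
    refine hneg ⟨y / ν, emb.injective ?_⟩
    have hν' : emb ν ≠ 0 := (map_ne_zero emb).2 hν0
    rw [map_mul, map_div₀, map_neg, map_one, hy]
    field_simp
    have h5 : w * σ w * (w * σ w) = (t * σ t) * ((emb c + emb d * t) * σ (emb c + emb d * t)) := by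
      rw [show w * σ w * (w * σ w) = (w * w) * σ (w * w) by rw [map_mul]; ring, ← hw, map_mul]; ring
    rw [hσt, hz] at h5
    linear_combination -h5 + emb ν * ht

theorem isSquare_neg_one_field [Finite F₀] {q : ℕ} (hq : Nat.card F₀ = q) (h2 : (2 : F₀) ≠ 0) :
    IsSquare (-1 : F₀) ↔ q % 4 = 1 := by
  haveI := Fintype.ofFinite F₀
  rw [FiniteField.isSquare_neg_one_iff, ← hq, Nat.card_eq_fintype_card]
  have := FiniteField.odd_card_of_char_ne_two (F := F₀) fun h => h2 (by
    haveI := ringChar.of_eq h; exact CharTwo.two_eq_zero)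
  omega

theorem isSquare_pow_iff {x : F} (hx : x ≠ 0) (n : ℕ) : IsSquare (x ^ n) ↔ (Odd n → IsSquare x) := by
  rcases Nat.even_or_odd n with hn | hn
  · exact ⟨fun _ h => absurd hn (Nat.not_even_iff_odd.2 h), fun _ => hn.isSquare_pow x⟩
  obtain ⟨j, rfl⟩ := hn
  constructor
  · rintro ⟨w, hw⟩ -
    exact ⟨w / x ^ j, by field_simp; linear_combination hw⟩
  · exact fun h => (h ⟨j, rfl⟩).pow _

end Sqrt

variable {F₀ : Type*} [Field F₀] {emb : F₀ →+* F} {σ : F ≃+* F}

theorem plusMat_map (f : F₀ →+* F) (m : ℕ) : (plusMat m F₀).map f = plusMat m F := by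
  rw [plusMat, plusMat, fromBlocks_map]
  simp [Matrix.map_one, Matrix.map_zero]

/-- The count for an involutory field automorphism of the plus form. -/
theorem split_plus_two {m : ℕ} (hm : 4 ≤ m) (D : FieldHyp (plusMat m F₀) emb σ 2) (h2 : (2 : F) ≠ 0) {q : ℕ}
    (hq : Nat.card F₀ = q) :
    ((Odd m ∧ q % 4 = 1) → Cfsg.splitClassCount ((clsSub ((plusMat m F₀).map emb) m).map (simAut _))
      (Cfsg.Inn (Cfsg.POmega F ⇑(extForm emb (plusMat m F₀)))) D.fld = 2) ∧
    (¬ (Odd m ∧ q % 4 = 1) → Cfsg.splitClassCount ((clsSub ((plusMat m F₀).map emb) m).map (simAut _))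
      (Cfsg.Inn (Cfsg.POmega F ⇑(extForm emb (plusMat m F₀)))) D.fld = 4) := by
  classical
  haveI := D.finite₀
  haveI := Fintype.ofFinite F₀
  have h2₀ := D.two_ne₀ h2
  have D₀ := evenHyp_plus (F := F₀) hm
  obtain ⟨ν, hν⟩ := exists_nonsquare_unit (F := F₀) h2₀
  obtain ⟨g₀, hmat, hspec⟩ := exists_plus_mult (F := F₀) m ν
  have hgm : (simMult D₀.ne g₀ : F₀) = ν := D₀.simMult_of_spec hspec
  have hg₀ : g₀ ∈ clsSub (plusMat m F₀) m := by
    rw [D₀.mem_clsSub_odd h2₀, simChi_eq_one_iff, hmat, plusMultMat_det, hgm]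
  obtain ⟨t, ht⟩ := D.isSquare_emb h2 rfl (ν : F₀)
  have ht0 : t ≠ 0 := fun h => ν.ne_zero ((map_eq_zero emb).1 (by rw [ht, h, mul_zero]))
  set T : FormSim ⇑(extForm emb (plusMat m F₀)) ⇑(matQuad (plusMat m F)) :=
    FormSim.ofEq (by rw [extForm, plusMat_map])
  have hneg : IsSquare (-1 : F) := by
    have := D.isSquare_emb h2 rfl (-1 : F₀)
    rwa [map_neg, map_one] at this
  have hcrit : simAut _ (extend emb (plusMat m F₀) g₀) ∈
      Cfsg.Inn (Cfsg.POmega F ⇑(extForm emb (plusMat m F₀))) ↔ IsSquare (t ^ m) := by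
    rw [← T.mem_inn_iff, inn_iff_of_diag h2 hm hneg ht0 (fun _ => t) (fun _ => ht0) fun v => ?_, Fin.prod_const]
    rw [FormSim.simEquiv_ofEq_coe, extend_coe, hmat]
    show (plusMultMat m (ν : F₀)).map emb *ᵥ v = _
    rw [show (plusMultMat m (ν : F₀)).map emb = plusMultMat m (emb ν) by
      rw [plusMultMat, plusMultMat, fromBlocks_map]
      simp [Matrix.map_one, Matrix.map_zero, Matrix.map_smul' emb _ _ (map_mul emb)],
      plusMultMat_mulVec, ht]
    funext z
    rcases z with i | i <;> simp [mul_inv_cancel₀ ht0]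
  rw [isSquare_pow_iff ht0, isSquare_sqrt_iff D.fix D.order h2 hν ht.symm, isSquare_neg_one_field hq h2₀] at hcrit
  rw [D.split_even_inv D₀ h2 rfl hν hg₀ hgm]
  exact ⟨fun h => if_neg fun h' => (hcrit.1 h') h.1 h.2,
    fun h => if_pos (hcrit.2 fun h1 h2 => h ⟨h1, h2⟩)⟩

/-- The count for an involutory field automorphism of the minus form over the fixed field. -/
theorem split_minus_two {m : ℕ} (hm : 3 ≤ m) {a b : F₀}
    (hab : ∀ z₁ z₂ : F₀, z₁ ^ 2 + a * z₁ * z₂ + b * z₂ ^ 2 = 0 → z₁ = 0 ∧ z₂ = 0)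
    (D : FieldHyp (minusMat m F₀ a b) emb σ 2) (h2 : (2 : F) ≠ 0) {q : ℕ} (hq : Nat.card F₀ = q) :
    ((Odd (m + 1) ∧ q % 4 = 1) → Cfsg.splitClassCount ((clsSub ((minusMat m F₀ a b).map emb) (m + 1)).map (simAut _))
      (Cfsg.Inn (Cfsg.POmega F ⇑(extForm emb (minusMat m F₀ a b)))) D.fld = 4) ∧
    (¬ (Odd (m + 1) ∧ q % 4 = 1) → Cfsg.splitClassCount ((clsSub ((minusMat m F₀ a b).map emb) (m + 1)).map (simAut _))
      (Cfsg.Inn (Cfsg.POmega F ⇑(extForm emb (minusMat m F₀ a b)))) D.fld = 2) := by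
  classical
  haveI := D.finite₀
  haveI := Fintype.ofFinite F₀
  have h2₀ := D.two_ne₀ h2
  have D₀ := evenHyp_minus hm hab
  obtain ⟨ν, hν⟩ := exists_nonsquare_unit (F := F₀) h2₀
  obtain ⟨c, d, hcd⟩ := exists_binary_value hab (ν := (ν : F₀)) h2₀
  obtain ⟨g₀, hmat, hspec⟩ := exists_minus_mult m ν hcd
  have hgm : (simMult D₀.ne g₀ : F₀) = ν := D₀.simMult_of_spec hspec
  have hg₀ : g₀ ∈ clsSub (minusMat m F₀ a b) (m + 1) := by
    rw [D₀.mem_clsSub_odd h2₀, simChi_eq_one_iff, hmat, minusMultMat_det hcd, hgm]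
  obtain ⟨t, ht⟩ := D.isSquare_emb h2 rfl (ν : F₀)
  have ht0 : t ≠ 0 := fun h => ν.ne_zero ((map_eq_zero emb).1 (by rw [ht, h, mul_zero]))
  obtain ⟨θ, hs, hp, hne⟩ := exists_roots_two D.fix D.order hab
  have hσσ : ∀ x, σ (σ x) = x := fun x => by
    have h := pow_orderOf_eq_one σ
    rw [D.order, pow_two] at h
    exact RingEquiv.congr_fun h x
  set z := emb c + emb d * θ with hzdef
  have hσz : σ z = emb c + emb d * σ θ := by rw [hzdef, map_add, map_mul, D.fix', D.fix']
  have hzz : z * σ z = t * t := by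
    rw [hσz, ← ht, ← hcd, hzdef]
    simp only [map_add, map_mul]
    rw [← hs, ← hp]; ring
  have hz0 : z ≠ 0 := fun h => ht0 (mul_self_eq_zero.1 (by rw [← hzz, h, zero_mul]))
  have hzns : ¬ IsSquare z := by
    rintro ⟨w, hw⟩
    obtain ⟨y, hy⟩ := (D.fix (w * σ w)).1 (by rw [map_mul, hσσ, mul_comm])
    refine hν ⟨y, emb.injective ?_⟩
    rw [map_mul, hy, ht, ← hzz, hw, map_mul]; ring
  let f : ((Fin m ⊕ Fin m) ⊕ Fin 2 → F) →ₗ[F] (Fin (m + 1) ⊕ Fin (m + 1) → F) :=
    { toFun := fun v => Sum.elim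
        (Fin.snoc (fun i => v (.inl (.inl i))) (v (.inr 0) + θ * v (.inr 1)))
        (Fin.snoc (fun i => v (.inl (.inr i))) (v (.inr 0) + σ θ * v (.inr 1)))
      map_add' := fun u v => by
        funext z
        rcases z with i | i <;> induction i using Fin.lastCases <;>
          simp [mul_add, add_add_add_comm]
      map_smul' := fun c v => by
        funext z
        rcases z with i | i <;> induction i using Fin.lastCases <;>
          simp [mul_add, mul_left_comm] }
  have hinj : Function.Injective f := by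
    refine (injective_iff_map_eq_zero f).2 fun v hv => ?_
    have h1 := congrFun hv (.inl (Fin.last m))
    have h2 := congrFun hv (.inr (Fin.last m))
    simp only [f, LinearMap.coe_mk, AddHom.coe_mk, Sum.elim_inl, Sum.elim_inr, Fin.snoc_last,
      Pi.zero_apply] at h1 h2
    have hz1 : v (.inr 1) = 0 :=
      (mul_eq_zero.1 (show (θ - σ θ) * v (.inr 1) = 0 by linear_combination h1 - h2)).resolve_left
        (sub_ne_zero.2 hne.symm)
    funext z
    rcases z with (i | i) | i
    · simpa [f] using congrFun hv (.inl i.castSucc)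
    · simpa [f] using congrFun hv (.inr i.castSucc)
    · fin_cases i
      · simpa [hz1] using h1
      · exact hz1
  set T : FormSim ⇑(extForm emb (minusMat m F₀ a b)) ⇑(matQuad (plusMat (m + 1) F)) :=
    ⟨f.linearEquivOfInjective hinj (by simp [Fintype.card_sum]; omega), 1, fun v => by
      rw [LinearMap.linearEquivOfInjective_apply, Units.val_one, one_mul, extForm, minusMat_map, coe_matQuad_minus,
        coe_matQuad_plus]
      simp only [Cfsg.quadFormPlus, Cfsg.quadFormMinus, f, LinearMap.coe_mk, AddHom.coe_mk,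
        Sum.elim_inl, Sum.elim_inr, Fin.sum_univ_castSucc, Fin.snoc_castSucc, Fin.snoc_last]
      rw [← hs, ← hp]
      ring⟩ with hT
  have hneg : IsSquare (-1 : F) := by
    have := D.isSquare_emb h2 rfl (-1 : F₀)
    rwa [map_neg, map_one] at this
  have hcrit : simAut _ (extend emb (minusMat m F₀ a b) g₀) ∈
      Cfsg.Inn (Cfsg.POmega F ⇑(extForm emb (minusMat m F₀ a b))) ↔ IsSquare (t ^ m * (z / t)) := by
    rw [← T.mem_inn_iff, inn_iff_of_diag h2 (m := m + 1) (by omega) hneg ht0 (Fin.snoc (fun _ => t) (z / t))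
      (fun i => by induction i using Fin.lastCases <;> simp [hz0, ht0]) fun w => ?_, Fin.prod_snoc, Fin.prod_const]
    obtain ⟨v, rfl⟩ := T.equiv.surjective w
    show ((conjGL T.equiv (extend emb (minusMat m F₀ a b) g₀ : GL ((Fin m ⊕ Fin m) ⊕ Fin 2) F) :
      GL (Fin (m + 1) ⊕ Fin (m + 1)) F) : Matrix (Fin (m + 1) ⊕ Fin (m + 1)) (Fin (m + 1) ⊕ Fin (m + 1)) F) *ᵥ _ = _
    rw [conjGL_mulVec, extend_coe, hmat,
      show (minusMultMat m a b c d (ν : F₀)).map emb = minusMultMat m (emb a) (emb b) (emb c) (emb d) (emb ν) by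
        rw [minusMultMat, minusMultMat, plusMultMat, plusMultMat, binMultMat, binMultMat, fromBlocks_map,
          fromBlocks_map]
        simp only [Matrix.map_zero _ (map_zero emb), Matrix.map_one _ (map_zero emb) (map_one emb),
          Matrix.map_smul' emb _ _ (map_mul emb)]
        congr 1
        ext i j; fin_cases i <;> fin_cases j <;> simp,
      minusMultMat_mulVec]
    simp only [hT, LinearMap.linearEquivOfInjective_apply]
    funext q
    rcases q with i | i <;> induction i using Fin.lastCases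
    · simp [f, mul_div_cancel₀ _ ht0]
      rw [hzdef, ← hs, ← hp]; ring
    · simp [f, ht]
    · simp [f]
      rw [show t * (t / z) = σ z by rw [← mul_div_assoc, ← hzz, mul_div_cancel_left₀ _ hz0], hσz, ← hs, ← hp]; ring
    · simp [f, mul_inv_cancel₀ ht0]
  have hkey : IsSquare (t ^ m * (z / t)) ↔ ¬ IsSquare (t ^ (m + 1)) := by
    have e : t ^ m * (z / t) = t ^ (m + 1) * z * ((1 / t) * (1 / t)) := by rw [pow_succ]; field_simp
    have hu : t ^ (m + 1) ≠ 0 := pow_ne_zero _ ht0
    constructor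
    · rintro ⟨w, hw⟩ ⟨u, hu'⟩
      refine hzns ⟨w * t / u, ?_⟩
      have : u ≠ 0 := fun h => hu (by rw [hu', h, mul_zero])
      rw [pow_succ] at hu'
      field_simp at hw ⊢
      linear_combination t * hw - z * hu'
    · intro h
      rw [e]
      exact (isSquare_mul_of_not h hzns).mul ⟨1 / t, rfl⟩
  rw [hkey, isSquare_pow_iff ht0, isSquare_sqrt_iff D.fix D.order h2 hν ht.symm,
    isSquare_neg_one_field hq h2₀] at hcrit
  rw [D.split_even_inv D₀ h2 rfl hν hg₀ hgm]
  exact ⟨fun h => if_pos (hcrit.2 fun h' => h' h.1 h.2),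
    fun h => if_neg fun h' => hcrit.1 h' fun h1 h2 => h ⟨h1, h2⟩⟩

end CfsgLib.Geometry
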