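import Cfsg.Agent.Lib.Geometry.SimInvariant
import Cfsg.Agent.Lib.KnownB.PSLAut.Descent

/-! Galois descent for semilinear maps, base change of quadratic forms, transport of subgroup data. -/

set_option autoImplicit false

namespace CfsgLib.Geometry

open Matrix QuadraticMap


section Conj

variable {X X' : Type*} [Group X] [Group X'] (Φ : X ≃* X')

theorem isConjUnder_transport {D : Subgroup X} {x y : X} (h : Cfsg.IsConjUnder D x y) :
    Cfsg.IsConjUnder (D.map Φ.toMonoidHom) (Φ x) (Φ y) := by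
  obtain ⟨a, ha, rfl⟩ := h
  exact ⟨Φ a, ⟨a, ha, rfl⟩, by rw [map_mul, map_mul, map_inv]⟩

theorem isConjUnder_transport_iff {D : Subgroup X} {x y : X} :
    Cfsg.IsConjUnder (D.map Φ.toMonoidHom) (Φ x) (Φ y) ↔ Cfsg.IsConjUnder D x y := by
  refine ⟨?_, isConjUnder_transport Φ⟩
  rintro ⟨a, ⟨b, hb, rfl⟩, h⟩
  exact ⟨b, hb, Φ.injective (by rw [map_mul, map_mul, map_inv]; exact h)⟩

theorem coset_transport {D : Subgroup X} {x : X} {r : ℕ}
    (h : ∀ d ∈ D.map Φ.toMonoidHom, orderOf (d * Φ x) = r →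
      Cfsg.IsConjUnder (D.map Φ.toMonoidHom) (Φ x) (d * Φ x))
    {d : X} (hd : d ∈ D) (ho : orderOf (d * x) = r) : Cfsg.IsConjUnder D x (d * x) := by
  refine (isConjUnder_transport_iff Φ).1 ?_
  rw [map_mul]
  exact h _ ⟨d, hd, rfl⟩ (by rw [← map_mul, MulEquiv.orderOf_eq, ho])

theorem centralizer_transport (D : Subgroup X) (x : X) :
    Nonempty (↥(D ⊓ Subgroup.centralizer {x}) ≃*
      ↥(D.map Φ.toMonoidHom ⊓ Subgroup.centralizer {Φ x})) := by
  refine ⟨(Φ.subgroupMap _).trans (MulEquiv.subgroupCongr ?_)⟩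
  ext y
  obtain ⟨z, rfl⟩ := Φ.surjective y
  simp only [Subgroup.mem_map, Subgroup.mem_inf, Subgroup.mem_centralizer_singleton_iff,
    MulEquiv.coe_toMonoidHom, Φ.injective.eq_iff, exists_eq_right, ← map_mul]
  exact ⟨fun ⟨w, h1, h2⟩ => Φ.injective h2 ▸ h1, fun h => ⟨z, h, rfl⟩⟩

theorem splitClassCount_transport (D K : Subgroup X) (x : X) :
    Cfsg.splitClassCount D K x =
      Cfsg.splitClassCount (D.map Φ.toMonoidHom) (K.map Φ.toMonoidHom) (Φ x) := by
  let e : {y : X // Cfsg.IsConjUnder D x y} ≃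
      {y : X' // Cfsg.IsConjUnder (D.map Φ.toMonoidHom) (Φ x) y} :=
    Φ.toEquiv.subtypeEquiv fun y => (isConjUnder_transport_iff Φ).symm
  exact Nat.card_congr (Quot.congr e fun a b => (isConjUnder_transport_iff Φ).symm)

end Conj

section Descent

variable {ι : Type} [Fintype ι] [DecidableEq ι] {F : Type*} [Field F]

/-- A scalar matrix. -/
def scalarGL (ι : Type) [Fintype ι] [DecidableEq ι] (F : Type*) [Field F] : Fˣ →* GL ι F :=
  Units.map (Matrix.scalar ι : F →+* Matrix ι ι F).toMonoidHom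

theorem scalarGL_coe (a : Fˣ) :
    ((scalarGL ι F a : GL ι F) : Matrix ι ι F) = (a : F) • 1 := by
  show Matrix.scalar ι (a : F) = _
  rw [Matrix.scalar_apply, smul_one_eq_diagonal]

theorem scalarGL_mul (a : Fˣ) (g : GL ι F) :
    ((scalarGL ι F a * g : GL ι F) : Matrix ι ι F) = (a : F) • (g : Matrix ι ι F) := by
  rw [Units.val_mul, scalarGL_coe, smul_mul_assoc, one_mul]

theorem scalarGL_comm (a : Fˣ) (g : GL ι F) : scalarGL ι F a * g = g * scalarGL ι F a :=
  Units.ext (by rw [Units.val_mul, Units.val_mul, scalarGL_coe, smul_mul_assoc, one_mul, mul_smul_comm, mul_one])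

theorem glAut_scalarGL (σ : F ≃+* F) (a : Fˣ) :
    glAut ι F σ (scalarGL ι F a) = scalarGL ι F (Units.map (σ : F →* F) a) := by
  refine Units.ext (Matrix.ext fun i j => ?_)
  rw [glAut_coe, scalarGL_coe, scalarGL_coe]
  rcases eq_or_ne i j with rfl | h <;> simp [*]

/-- Reindexing along the canonical enumeration. -/
private noncomputable def rix (A : Matrix ι ι F) : Matrix (Fin (Fintype.card ι)) (Fin (Fintype.card ι)) F :=
  A.submatrix (Fintype.equivFin ι).symm (Fintype.equivFin ι).symm

private theorem rix_mul (A B : Matrix ι ι F) : rix (A * B) = rix A * rix B :=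
  (Matrix.submatrix_mul_equiv A B _ _ _).symm

private theorem rix_injective :
    Function.Injective (rix : Matrix ι ι F → Matrix (Fin (Fintype.card ι)) (Fin (Fintype.card ι)) F) :=
  fun A B h => by
    ext i j
    simpa [rix] using congrFun (congrFun h (Fintype.equivFin ι i)) (Fintype.equivFin ι j)

private theorem rix_one : rix (1 : Matrix ι ι F) = 1 := Matrix.submatrix_one_equiv _

private theorem rix_pow (x : GammaL ι F) (k : ℕ) :
    rix ((x ^ k).left : Matrix ι ι F) =
      CfsgLib.KnownB.Descent.sprod (rix (x.left : Matrix ι ι F)) x.right k := by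
  induction k with
  | zero => simp [CfsgLib.KnownB.Descent.sprod, rix_one]
  | succ k ih =>
    rw [pow_succ', SemidirectProduct.mul_left, Units.val_mul, glAut_coe, rix_mul,
      CfsgLib.KnownB.Descent.sprod, ← ih]
    rfl

/-- A semilinear map whose `r`-th power is scalar is, up to a scalar, conjugate to a field automorphism. -/
theorem exists_conj_inr [Nonempty ι] [Finite F] {x : GammaL ι F} {r : ℕ} (hr : 0 < r)
    (hσ : orderOf x.right = r) {c : Fˣ} (h : x ^ r = SemidirectProduct.inl (scalarGL ι F c)) :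
    ∃ (a : Fˣ) (P : GL ι F), SemidirectProduct.inl (scalarGL ι F a) * x =
      SemidirectProduct.inl P * SemidirectProduct.inr x.right * (SemidirectProduct.inl P)⁻¹ := by
  haveI : NeZero (Fintype.card ι) := ⟨Fintype.card_ne_zero⟩
  have hu : IsUnit (rix (x.left : Matrix ι ι F)) :=
    (Matrix.isUnit_submatrix_equiv _ _).2 x.left.isUnit
  obtain ⟨P, a, ha, hP⟩ := CfsgLib.KnownB.Descent.descent_scalar hr hσ hu (c := (c : F)) (by
    rw [← rix_pow, h, SemidirectProduct.left_inl, scalarGL_coe]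
    show (((c : F) • (1 : Matrix ι ι F)).submatrix _ _) = _
    rw [show (((c : F) • (1 : Matrix ι ι F)).submatrix (Fintype.equivFin ι).symm (Fintype.equivFin ι).symm) =
      (c : F) • rix (1 : Matrix ι ι F) from rfl, rix_one])
  let P' : Matrix ι ι F :=
    (P : Matrix (Fin (Fintype.card ι)) (Fin (Fintype.card ι)) F).submatrix (Fintype.equivFin ι) (Fintype.equivFin ι)
  have hP'r : rix P' = (P : Matrix _ _ F) := by ext i j; simp [rix, P']
  have hP'u : IsUnit P' := (Matrix.isUnit_submatrix_equiv _ _).2 P.isUnit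
  refine ⟨Units.mk0 a ha, hP'u.unit, ?_⟩
  rw [eq_mul_inv_iff_mul_eq]
  refine SemidirectProduct.ext ?_ (by simp)
  refine Units.ext (rix_injective ?_)
  simp only [SemidirectProduct.mul_left, SemidirectProduct.mul_right, SemidirectProduct.left_inl,
    SemidirectProduct.right_inl, SemidirectProduct.left_inr, one_mul, map_one, MulAut.one_apply, mul_one,
    Units.val_mul, glAut_coe, scalarGL_coe, Units.val_mk0, IsUnit.unit_spec]
  rw [rix_mul, rix_mul, smul_one_eq_diagonal]
  rw [show rix (P'.map x.right) = (rix P').map x.right from rfl, hP'r]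
  refine Eq.trans ?_ hP
  rw [show rix (diagonal fun _ => a) = a • rix (1 : Matrix ι ι F) by rw [← smul_one_eq_diagonal]; rfl,
    rix_one, smul_mul_assoc, one_mul]

/-- A matrix fixed by `σ` up to a scalar is a scalar multiple of a fixed matrix. -/
theorem fixed_glAut [Nonempty ι] {σ : F ≃+* F} {r : ℕ} (hr : 0 < r) (hσ : orderOf σ = r)
    {g : GL ι F} {c : Fˣ} (h : glAut ι F σ g = scalarGL ι F c * g) :
    ∃ a : Fˣ, glAut ι F σ (scalarGL ι F a * g) = scalarGL ι F a * g := by
  haveI : NeZero (Fintype.card ι) := ⟨Fintype.card_ne_zero⟩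
  have h' := congrArg (fun u : GL ι F => (u : Matrix ι ι F)) h
  simp only [glAut_coe, scalarGL_mul] at h'
  obtain ⟨a, ha, hfix⟩ := CfsgLib.KnownB.Descent.fixed_up_to_scalar hr hσ
    (g := rix (g : Matrix ι ι F)) (fun h0 => g.isUnit.ne_zero (rix_injective (h0.trans rfl)))
    (c := (c : F)) (congrArg rix h')
  refine ⟨Units.mk0 a ha, Units.ext (rix_injective ?_)⟩
  rw [glAut_coe, scalarGL_mul]
  exact hfix

end Descent

section Base

variable {ι : Type} [Fintype ι] [DecidableEq ι] {F : Type*} [Field F] {F₀ : Type*} [Field F₀]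
  (emb : F₀ →+* F)

theorem exists_gl_of_fixed {σ : F ≃+* F} (hfix : ∀ a, σ a = a ↔ ∃ y, emb y = a) {g : GL ι F}
    (h : glAut ι F σ g = g) : ∃ g₀ : GL ι F₀, GeneralLinearGroup.map emb g₀ = g := by
  have h' := congrArg (fun u : GL ι F => (u : Matrix ι ι F)) h
  simp only [glAut_coe] at h'
  choose M hM using fun i j => (hfix _).1 (congrFun (congrFun h' i) j)
  have hM' : (Matrix.of M).map emb = (g : Matrix ι ι F) := by ext i j; exact hM i j
  have hdet : (Matrix.of M).det ≠ 0 := fun h0 => by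
    have := congrArg emb h0
    rw [RingHom.map_det, map_zero, RingHom.mapMatrix_apply, hM'] at this
    exact (GeneralLinearGroup.det g).ne_zero this
  exact ⟨GeneralLinearGroup.mkOfDetNeZero _ hdet, Units.ext hM'⟩

theorem map_mulVec_comp (A : Matrix ι ι F₀) (v : ι → F₀) :
    (emb ∘ (A *ᵥ v)) = A.map emb *ᵥ (emb ∘ v) :=
  funext fun i => RingHom.map_mulVec emb A v i

theorem matQuad_map (M₀ : Matrix ι ι F₀) (v : ι → F₀) :
    matQuad (M₀.map emb) (emb ∘ v) = emb (matQuad M₀ v) := by
  rw [matQuad_apply, matQuad_apply, ← map_mulVec_comp, RingHom.map_dotProduct]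

theorem det_gram_map (M₀ : Matrix ι ι F₀) :
    (M₀.map emb + (M₀.map emb)ᵀ).det = emb ((M₀ + M₀ᵀ).det) := by
  rw [RingHom.map_det, RingHom.mapMatrix_apply]
  congr 1
  ext i j
  simp

/-- A form agreeing with a base change on rational vectors is the base change. -/
theorem eq_matQuad_map {R : QuadraticForm F (ι → F)} {M₁ : Matrix ι ι F₀}
    (h : ∀ v : ι → F₀, R (emb ∘ v) = emb (matQuad M₁ v)) : R = matQuad (M₁.map emb) := by
  have e1 : ∀ i : ι, (emb ∘ (Pi.single i 1 : ι → F₀)) = (Pi.single i 1 : ι → F) := fun i => by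
    funext j; rcases eq_or_ne j i with rfl | hj <;> simp [*]
  have hb : ∀ i, R (Pi.single i 1) = matQuad (M₁.map emb) (Pi.single i 1) := fun i => by
    rw [← e1, h, matQuad_map]
  have hp : polarBilin R = polarBilin (matQuad (M₁.map emb)) :=
    LinearMap.BilinForm.ext_basis (Pi.basisFun F ι) fun i j => by
      simp only [Pi.basisFun_apply, polarBilin_apply_apply, polar, ← e1,
        show ∀ u w : ι → F₀, emb ∘ u + emb ∘ w = emb ∘ (u + w) from fun u w => funext fun k => (map_add emb _ _).symm,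
        h, matQuad_map]
  refine QuadraticMap.ext fun v => ?_
  rw [pi_eq_sum_univ' v]
  induction (Finset.univ : Finset ι) using Finset.induction_on with
  | empty => simp
  | insert a s ha ih =>
    rw [Finset.sum_insert ha, map_add', map_add', ih, map_smul', map_smul', hb,
      ← polarBilin_apply_apply, ← polarBilin_apply_apply, hp]

theorem exists_matQuad (Q₀ : QuadraticForm F₀ (ι → F₀)) : ∃ M₁ : Matrix ι ι F₀, matQuad M₁ = Q₀ := by
  obtain ⟨B, hB⟩ := LinearMap.BilinMap.toQuadraticMap_surjective Q₀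
  refine ⟨LinearMap.BilinForm.toMatrix' B, ?_⟩
  rw [matQuad, Matrix.toBilin'_toMatrix']
  exact hB

theorem slAct_inr (σ : F ≃+* F) (v : ι → F) :
    slAct (SemidirectProduct.inr σ : GammaL ι F) v = fun i => σ (v i) := by
  simp [slAct]

theorem matQuad_fixed {σ : F ≃+* F} (hfix : ∀ y, σ (emb y) = emb y) (M₀ : Matrix ι ι F₀) (v : ι → F) :
    matQuad (M₀.map emb) (fun i => σ (v i)) = σ (matQuad (M₀.map emb) v) := by
  simp only [matQuad_apply, dotProduct, mulVec, map_sum, map_mul, Matrix.map_apply, hfix]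

end Base

end CfsgLib.Geometry
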