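import Cfsg.Agent.Lib.Geometry.FieldOdd

/-! Field automorphisms of `POmega` of the standard odd-dimensional form. -/

set_option autoImplicit false

namespace CfsgLib.Geometry

open Matrix QuadraticMap

variable {F : Type*} [Field F] [Finite F]

/-- A field automorphism of prime order, moved to standard position. -/
theorem exists_standard_odd (h2 : (2 : F) ≠ 0) {m : ℕ} (hm : 3 ≤ m)
    {x : MulAut (Cfsg.POmega F (Cfsg.quadFormOdd m F))}
    (hx : Cfsg.IsFieldAutClassPOmega (Cfsg.quadFormOdd m F) x) :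
    ∃ (α : MulAut (Cfsg.POmega F (Cfsg.quadFormOdd m F))) (σ : F ≃+* F), orderOf σ = orderOf x ∧
      Cfsg.IsFieldAutPOmegaOf (Cfsg.quadFormOdd m F) σ (α * x * α⁻¹) := by
  revert x
  rw [← coe_matQuad_odd]
  intro x hx
  refine exists_conj_of_fieldClass (M := oddMat m F) ?_ (by simp; omega) (fun σ => oddMat_map (σ : F →+* F) m) hx
  rw [det_odd_gram]
  exact mul_ne_zero h2 (pow_ne_zero _ (neg_ne_zero.2 one_ne_zero))

theorem fieldHyp_odd (h2 : (2 : F) ≠ 0) {m : ℕ} (hm : 3 ≤ m) {F₀ : Type*} [Field F₀] {emb : F₀ →+* F}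
    {σ : F ≃+* F} {r : ℕ} (hfix : ∀ a, σ a = a ↔ ∃ y, emb y = a) (hr : r.Prime) (hσ : orderOf σ = r) :
    FieldHyp (oddMat m F₀) emb σ r :=
  ⟨by
    rw [det_odd_gram]
    refine mul_ne_zero (fun h => h2 (by rw [← map_ofNat emb 2, h, map_zero])) ?_
    exact pow_ne_zero _ (neg_ne_zero.2 one_ne_zero), by simp; omega, hfix, hr, hσ⟩

theorem extForm_odd {F₀ : Type*} [Field F₀] (emb : F₀ →+* F) (m : ℕ) :
    ⇑(extForm emb (oddMat m F₀)) = Cfsg.quadFormOdd m F := by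
  rw [extForm, oddMat_map, coe_matQuad_odd]

theorem normal_inndiag_odd (h2 : (2 : F) ≠ 0) {m : ℕ} (hm : 3 ≤ m) :
    (Cfsg.inndiagPOmegaOdd m F).Normal := by
  rw [inndiagPOmegaOdd_eq, MonoidHom.range_eq_map]
  exact normal_map_simAut (gammaPOmega_odd_eq_top h2 hm) ⊤ fun _ _ _ => trivial

/-- The coset, centraliser and splitting statements in standard position. -/
theorem standard_odd (h2 : (2 : F) ≠ 0) {m : ℕ} (hm : 3 ≤ m) {F₀ : Type*} [Field F₀] {emb : F₀ →+* F}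
    {σ : F ≃+* F} {r : ℕ} (hfix : ∀ a, σ a = a ↔ ∃ y, emb y = a) (hr : r.Prime) (hσ : orderOf σ = r)
    {φ : MulAut (Cfsg.POmega F (Cfsg.quadFormOdd m F))}
    (hφ : Cfsg.IsFieldAutPOmegaOf (Cfsg.quadFormOdd m F) σ φ) :
    (∀ d ∈ Cfsg.inndiagPOmegaOdd m F, orderOf (d * φ) = r →
      Cfsg.IsConjUnder (Cfsg.inndiagPOmegaOdd m F) φ (d * φ)) ∧
    Nonempty (↥(Cfsg.inndiagPOmegaOdd m F ⊓ Subgroup.centralizer {φ}) ≃* ↥(Cfsg.inndiagPOmegaOdd m F₀)) ∧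
    (Odd r → Cfsg.splitClassCount (Cfsg.inndiagPOmegaOdd m F)
      (Cfsg.Inn (Cfsg.POmega F (Cfsg.quadFormOdd m F))) φ = 1) ∧
    (r = 2 → Cfsg.splitClassCount (Cfsg.inndiagPOmegaOdd m F)
      (Cfsg.Inn (Cfsg.POmega F (Cfsg.quadFormOdd m F))) φ = 2) := by
  have D := fieldHyp_odd h2 hm hfix hr hσ
  have hn : Fintype.card (Unit ⊕ (Fin m ⊕ Fin m)) = 2 * m + 1 := by simp; omega
  rw [inndiagPOmegaOdd_eq, inndiagPOmegaOdd_eq, ← coe_matQuad_odd (F := F₀)]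
  revert φ
  rw [← extForm_odd emb]
  intro φ hφ
  rw [(D.isFieldAut_iff φ).1 hφ]
  exact ⟨D.coset_odd hn, D.centralizer_odd, D.split_odd h2 hn⟩

end CfsgLib.Geometry
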