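import Cfsg.Agent.Lib.Geometry.FieldCriterion
import Cfsg.Agent.Lib.Geometry.FieldOddStd
import Cfsg.Agent.Lib.Classical.OrthStd

/-! The centraliser criterion for the odd-dimensional orthogonal groups. -/

set_option autoImplicit false

namespace CfsgLib.Geometry

open Matrix QuadraticMap

variable {F : Type*} [Field F] [Finite F]

theorem oddMat_entry_fixed {F₀ : Type*} [Field F₀] (emb : F₀ →+* F) (τ : F ≃+* F) (m : ℕ)
    (i j : Unit ⊕ (Fin m ⊕ Fin m)) : τ (emb (oddMat m F₀ i j)) = emb (oddMat m F₀ i j) := by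
  have h := congrFun (congrFun (oddMat_map ((τ : F →+* F).comp emb) m) i) j
  have h' := congrFun (congrFun (oddMat_map emb m) i) j
  simp only [Matrix.map_apply] at h h'
  exact h.trans h'.symm

theorem two_dvd_card_pOmega_odd (h2 : (2 : F) ≠ 0) {m : ℕ} (hm : 3 ≤ m) :
    2 ∣ Nat.card (Cfsg.POmega F ⇑(matQuad (oddMat m F))) := by
  have hdet : (oddMat m F + (oddMat m F)ᵀ).det ≠ 0 := by
    rw [det_odd_gram]
    exact mul_ne_zero h2 (pow_ne_zero _ (neg_ne_zero.2 one_ne_zero))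
  have h := card_pOmega_odd_dim h2 (by simp; omega) (by simp) hdet
  rw [coe_matQuad_odd] at h ⊢
  rw [CfsgLib.Classical.card_isometry_odd h2] at h
  have h0 : 8 ∣ ∏ i ∈ Finset.range m, (Nat.card F ^ (2 * (i + 1)) - 1) := by
    refine dvd_trans ?_ (Finset.dvd_prod_of_mem _ (Finset.mem_range.2 (show 0 < m by omega)))
    haveI := Fintype.ofFinite F
    have hodd : Odd (Nat.card F) := by
      rw [Nat.card_eq_fintype_card]
      rcases Nat.even_or_odd (Fintype.card F) with he | ho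
      · exfalso
        obtain ⟨p, n, hp, hpn⟩ := FiniteField.card' F
        exact h2 (by
          have : ringChar F = 2 := FiniteField.even_card_iff_char_two.2 (Nat.even_iff.1 he)
          exact_mod_cast (ringChar.spec F 2).2 (by rw [this]))
      · exact ho
    obtain ⟨k, hk⟩ := hodd
    obtain ⟨l, hl⟩ := Nat.even_mul_succ_self k
    refine ⟨l, ?_⟩
    rw [hk, show (2 * k + 1) ^ (2 * (0 + 1)) = 4 * (k * (k + 1)) + 1 by ring, hl, Nat.add_sub_cancel]
    ring
  obtain ⟨c, hc⟩ := h0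
  rw [hc] at h
  refine ⟨2 * (Nat.card F ^ (m ^ 2) * c), Nat.eq_of_mul_eq_mul_left (show 0 < 4 by norm_num) ?_⟩
  rw [h]; ring

theorem sq_mem_innPre_odd (h2 : (2 : F) ≠ 0) {m : ℕ} (hm : 3 ≤ m)
    (g : Cfsg.Geo.quadSimilarityGroup ⇑(matQuad (oddMat m F))) : g * g ∈ innPre ⇑(matQuad (oddMat m F)) := by
  have hdet : (oddMat m F + (oddMat m F)ᵀ).det ≠ 0 := by
    rw [det_odd_gram]
    exact mul_ne_zero h2 (pow_ne_zero _ (neg_ne_zero.2 one_ne_zero))
  have hQ := nondegenerate_matQuad hdet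
  have hn : 5 ≤ Fintype.card (Unit ⊕ (Fin m ⊕ Fin m)) := by simp; omega
  obtain ⟨c, h, rfl, hh⟩ := exists_scalar_special hdet (show Fintype.card _ = 2 * m + 1 by simp; omega)
    (exists_ne_zero_of_nondegenerate _ hQ (by simp)) g
  refine (mem_innPre_iff hQ hn _).2 ⟨h * h, ?_, c * c, ?_⟩
  · refine (mem_Omega_iff_isoInv hQ h2 _).2 ?_
    rw [map_mul]
    exact Prod.ext (sqClass_mul_self _) (by
      rw [Prod.snd_mul, (detHom_eq_one_iff hQ h2 h).1 hh, one_mul]; rfl)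
  · refine Subtype.ext (Units.ext ?_)
    simp only [map_mul, Subgroup.coe_mul, Units.val_mul, simScalar_coe, smul_mul_assoc, one_mul, mul_smul_comm,
      smul_smul, mul_comm]

/-- The criterion in standard position. -/
theorem standard_odd_criterion (h2 : (2 : F) ≠ 0) {m : ℕ} (hm : 3 ≤ m) {F₀ : Type*} [Field F₀] {emb : F₀ →+* F}
    {σ : F ≃+* F} {r : ℕ} (hfix : ∀ a, σ a = a ↔ ∃ y, emb y = a) (hr : r.Prime) (hσ : orderOf σ = r)
    {φ : MulAut (Cfsg.POmega F (Cfsg.quadFormOdd m F))}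
    (hφ : Cfsg.IsFieldAutPOmegaOf (Cfsg.quadFormOdd m F) σ φ)
    (A : Subgroup (MulAut (Cfsg.POmega F (Cfsg.quadFormOdd m F)))) (hinn : ∀ k, MulAut.conj k ∈ A) :
    Cfsg.pPrimeCore r ↥(A ⊓ Subgroup.centralizer {φ}) ≠ ⊥ ↔
      Nat.Coprime r (Nat.card ↥(MonoidHom.eqLocus φ.toMonoidHom
        (MonoidHom.id (Cfsg.POmega F (Cfsg.quadFormOdd m F))))) := by
  have D := fieldHyp_odd h2 hm hfix hr hσ
  haveI := D.finite₀
  have h20 : (2 : F₀) ≠ 0 := fun h => h2 (by rw [← map_ofNat emb 2, h, map_zero])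
  have hΓ := gammaPOmega_odd_eq_top (F := F) h2 hm
  revert φ A
  rw [← extForm_odd emb] at hΓ ⊢
  intro φ hφ A hinn
  rw [(D.isFieldAut_iff φ).1 hφ]
  exact D.core_criterion hΓ (fun τ => oddMat_entry_fixed emb τ m) (sq_mem_innPre_odd h20 hm)
    (two_dvd_card_pOmega_odd h20 hm) A hinn

/-- An automorphism of prime order that is not inner-diagonal is a field automorphism. -/
theorem fieldClass_odd (h2 : (2 : F) ≠ 0) {m : ℕ} (hm : 3 ≤ m)
    {x : MulAut (Cfsg.POmega F (Cfsg.quadFormOdd m F))} {p : ℕ} (hp : p.Prime) (hord : orderOf x = p)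
    (hnot : x ∉ Cfsg.inndiagPOmegaOdd m F) :
    ∃ (α : MulAut (Cfsg.POmega F (Cfsg.quadFormOdd m F))) (σ : F ≃+* F), σ ≠ RingEquiv.refl F ∧ orderOf σ = p ∧
      Cfsg.IsFieldAutPOmegaOf (Cfsg.quadFormOdd m F) σ (α * x * α⁻¹) := by
  haveI : Nonempty (Unit ⊕ (Fin m ⊕ Fin m)) := ⟨Sum.inl ()⟩
  obtain ⟨y, rfl⟩ : x ∈ (autOmega (Cfsg.quadFormOdd m F)).range := by
    rw [← gammaPOmega_eq, gammaPOmega_odd_eq_top h2 hm]; trivial
  set σ := (y : GammaL (Unit ⊕ (Fin m ⊕ Fin m)) F).right with hσ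
  have hsim : ∀ z : semiSim (Cfsg.quadFormOdd m F), (z : GammaL (Unit ⊕ (Fin m ⊕ Fin m)) F).right = 1 →
      autOmega _ z ∈ Cfsg.inndiagPOmegaOdd m F := by
    intro z hz
    rw [inndiagPOmegaOdd_eq]
    obtain ⟨c, hc⟩ := z.2
    have e : (z : GammaL (Unit ⊕ (Fin m ⊕ Fin m)) F) = SemidirectProduct.inl (z : GammaL _ F).left :=
      SemidirectProduct.ext (by simp) (by rw [SemidirectProduct.right_inl]; exact hz)
    refine ⟨⟨_, c, fun v => ?_⟩, congrArg (autOmega _) (Subtype.ext e.symm : _ = z)⟩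
    have := hc v
    rw [e, slAct_inl, SemidirectProduct.right_inl] at this
    exact this
  have hσ1 : σ ≠ 1 := fun h => hnot (hsim y h)
  have hdet : (oddMat m F + (oddMat m F)ᵀ).det ≠ 0 := by
    rw [det_odd_gram]
    exact mul_ne_zero h2 (pow_ne_zero _ (neg_ne_zero.2 one_ne_zero))
  have hone : ∀ z : semiSim (Cfsg.quadFormOdd m F), autOmega _ z = 1 →
      (z : GammaL (Unit ⊕ (Fin m ⊕ Fin m)) F).right = 1 := by
    rw [← coe_matQuad_odd]
    exact fun z hz => ((autOmega_eq_one_iff (nondegenerate_matQuad hdet) (by simp; omega) z).1 hz).1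
  have hσp : orderOf σ = p := by
    haveI := Fact.mk hp
    refine orderOf_eq_prime ?_ hσ1
    have := hone (y ^ p) (by rw [map_pow, ← hord, pow_orderOf_eq_one])
    rw [SubgroupClass.coe_pow, show ((y : GammaL (Unit ⊕ (Fin m ⊕ Fin m)) F) ^ p).right = σ ^ p from
      map_pow SemidirectProduct.rightHom _ p] at this
    exact this
  have hfixσ : ∀ v : Unit ⊕ (Fin m ⊕ Fin m) → F,
      Cfsg.quadFormOdd m F (fun i => σ (v i)) = σ (Cfsg.quadFormOdd m F v) := fun v => by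
    rw [← coe_matQuad_odd]
    have h : (oddMat m F).map σ *ᵥ (fun i => σ (v i)) = (oddMat m F) *ᵥ fun i => σ (v i) := by
      rw [show (oddMat m F).map ⇑σ = oddMat m F from oddMat_map (σ : F →+* F) m]
    rw [matQuad_apply, matQuad_apply, ← h, ← map_mulVec']
    simp [dotProduct, map_sum, map_mul]
  let yσ : semiSim (Cfsg.quadFormOdd m F) := ⟨SemidirectProduct.inr σ, 1, fun v => by
    rw [slAct_inr, hfixσ, SemidirectProduct.right_inr, Units.val_one, one_mul]⟩
  have hφ : Cfsg.IsFieldAutPOmegaOf (Cfsg.quadFormOdd m F) σ (autOmega _ yσ) := by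
    have hs : Cfsg.IsSemisimilarityPair (Cfsg.quadFormOdd m F) 1 σ := (mem_semiSim_iff _ _).1 yσ.2
    intro s s' h
    exact (isInduced_iff hs (autOmega _ yσ)).2 (congrArg (autOmega _) (Subtype.ext rfl)) s s'
      (by rw [h]; simp)
  let K := RingHom.eqLocusField (σ : F →+* F) (RingHom.id F)
  obtain ⟨hc, -⟩ := standard_odd h2 hm (emb := K.subtype)
    (fun a => ⟨fun h => ⟨⟨a, h⟩, rfl⟩, fun ⟨b, hb⟩ => hb ▸ b.2⟩) hp hσp hφ
  obtain ⟨a, -, ha⟩ := hc (autOmega _ (y * yσ⁻¹)) (hsim _ (by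
    rw [Subgroup.coe_mul, Subgroup.coe_inv, SemidirectProduct.mul_right, SemidirectProduct.inv_right]
    exact mul_inv_cancel σ)) (by rw [← map_mul, inv_mul_cancel_right]; exact hord)
  rw [← map_mul, inv_mul_cancel_right] at ha
  exact ⟨a⁻¹, σ, hσ1, hσp, by rw [ha]; simpa [mul_assoc] using hφ⟩

end CfsgLib.Geometry
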