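import Cfsg.Agent.Lib.Geometry.FieldBase
import Cfsg.Agent.Lib.Geometry.FormTypes

/-! The standard field automorphism of a form defined over a subfield: cosets, centraliser, splitting. -/

set_option autoImplicit false

namespace CfsgLib.Geometry

open Matrix QuadraticMap

section Count

variable {X : Type*} [Group X]

/-- A class of a coset splits into as many `K`-classes as the index of `K` times the centraliser. -/
theorem splitClassCount_eq_relIndex (H K : Subgroup X) [K.Normal] (hK : K ≤ H) (x : X) :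
    Cfsg.splitClassCount H K x = (K ⊔ (H ⊓ Subgroup.centralizer {x})).relIndex H := by
  set J := (K ⊔ (H ⊓ Subgroup.centralizer {x})).subgroupOf H with hJ
  let rel : {y : X // Cfsg.IsConjUnder H x y} → {y : X // Cfsg.IsConjUnder H x y} → Prop :=
    fun y z => Cfsg.IsConjUnder K y.1 z.1
  have hr : Equivalence rel := by
    refine ⟨fun y => ⟨1, one_mem _, by simp⟩, ?_, ?_⟩
    · rintro y z ⟨a, ha, h⟩
      exact ⟨a⁻¹, inv_mem ha, by rw [h]; group⟩
    · rintro y z w ⟨a, ha, h⟩ ⟨b, hb, h'⟩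
      exact ⟨b * a, mul_mem hb ha, by rw [h', h]; group⟩
  let c : H → {y : X // Cfsg.IsConjUnder H x y} := fun g => ⟨(g : X) * x * (g : X)⁻¹, g, g.2, rfl⟩
  have hrel : ∀ a b : H, rel (c a) (c b) ↔ a⁻¹ * b ∈ J := by
    intro a b
    rw [hJ, Subgroup.mem_subgroupOf, Subgroup.mem_sup_of_normal_left (s := K)]
    constructor
    · rintro ⟨s, hs, h⟩
      change (b : X) * x * (b : X)⁻¹ = s * ((a : X) * x * (a : X)⁻¹) * s⁻¹ at h
      refine ⟨(a : X)⁻¹ * s * a, by simpa using ‹K.Normal›.conj_mem s hs (a : X)⁻¹,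
        (a : X)⁻¹ * s⁻¹ * b, Subgroup.mem_inf.2 ⟨H.mul_mem (H.mul_mem (H.inv_mem a.2) (H.inv_mem (hK hs))) b.2, ?_⟩, by
          rw [Subgroup.coe_mul, Subgroup.coe_inv]; group⟩
      refine Subgroup.mem_centralizer_singleton_iff.2 ?_
      calc (a : X)⁻¹ * s⁻¹ * b * x = (a : X)⁻¹ * s⁻¹ * ((b : X) * x * (b : X)⁻¹) * b := by group
        _ = x * ((a : X)⁻¹ * s⁻¹ * b) := by rw [h]; group
    · rintro ⟨y, hy, z, ⟨-, hz⟩, h⟩
      have hz : z * x = x * z := Subgroup.mem_centralizer_singleton_iff.1 hz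
      rw [Subgroup.coe_mul, Subgroup.coe_inv] at h
      refine ⟨(a : X) * y * (a : X)⁻¹, ‹K.Normal›.conj_mem y hy a, ?_⟩
      show (b : X) * x * (b : X)⁻¹ = _
      rw [show (b : X) = a * (y * z) by rw [h]; group]
      calc (a : X) * (y * z) * x * ((a : X) * (y * z))⁻¹ = a * y * (z * x) * (z⁻¹ * y⁻¹ * (a : X)⁻¹) := by group
        _ = a * y * (x * z) * (z⁻¹ * y⁻¹ * (a : X)⁻¹) := by rw [hz]
        _ = _ := by show _ = (a : X) * y * (a : X)⁻¹ * ((a : X) * x * (a : X)⁻¹) * _; group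
  let φ : H ⧸ J → Quot rel := Quotient.lift (fun g => Quot.mk rel (c g))
    fun a b h => Quot.sound ((hrel a b).2 (QuotientGroup.leftRel_apply.1 h))
  refine (Nat.card_congr (Equiv.ofBijective φ ⟨?_, ?_⟩)).symm
  · intro a b h
    induction a using QuotientGroup.induction_on with
    | H a =>
      induction b using QuotientGroup.induction_on with
      | H b => exact QuotientGroup.eq.2 ((hrel a b).1 (hr.eqvGen_iff.1 (Quot.eqvGen_exact h)))
  · intro q
    induction q using Quot.inductionOn with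
    | h y =>
      obtain ⟨y, d, hd, rfl⟩ := y
      exact ⟨QuotientGroup.mk ⟨d, hd⟩, rfl⟩

/-- Two homomorphisms with the same kernel have isomorphic images. -/
theorem nonempty_map_equiv_of_ker {G Y : Type*} [Group G] [Group Y] (K : Subgroup G) (f : G →* X)
    (g : G →* Y) (h : ∀ k ∈ K, f k = 1 ↔ g k = 1) : Nonempty (K.map f ≃* K.map g) := by
  let f' := f.comp K.subtype
  let g' := g.comp K.subtype
  have hk : f'.ker = g'.ker := by ext k; exact h k k.2
  have hf : f'.range = K.map f := by rw [MonoidHom.range_comp, Subgroup.range_subtype]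
  have hg : g'.range = K.map g := by rw [MonoidHom.range_comp, Subgroup.range_subtype]
  exact ⟨(MulEquiv.subgroupCongr hf.symm).trans ((QuotientGroup.quotientKerEquivRange f').symm.trans
    ((QuotientGroup.quotientMulEquivOfEq hk).trans ((QuotientGroup.quotientKerEquivRange g').trans
      (MulEquiv.subgroupCongr hg))))⟩

end Count

variable {ι : Type} [Fintype ι] [DecidableEq ι] {F : Type*} [Field F] [Finite F]
variable {F₀ : Type*} [Field F₀]

/-- A form over the fixed field of an automorphism of prime order. -/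
structure FieldHyp (M₀ : Matrix ι ι F₀) (emb : F₀ →+* F) (σ : F ≃+* F) (r : ℕ) : Prop where
  det_ne : (M₀ + M₀ᵀ).det ≠ 0
  seven_le : 7 ≤ Fintype.card ι
  fix : ∀ a, σ a = a ↔ ∃ y, emb y = a
  prime : r.Prime
  order : orderOf σ = r

variable {M₀ : Matrix ι ι F₀} {emb : F₀ →+* F} {σ : F ≃+* F} {r : ℕ}

/-- The extended form. -/
noncomputable abbrev extForm (emb : F₀ →+* F) (M₀ : Matrix ι ι F₀) : QuadraticForm F (ι → F) :=
  matQuad (M₀.map emb)

theorem FieldHyp.fix' (D : FieldHyp M₀ emb σ r) (y : F₀) : σ (emb y) = emb y := (D.fix _).2 ⟨y, rfl⟩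

theorem FieldHyp.finite₀ (_D : FieldHyp M₀ emb σ r) : Finite F₀ := Finite.of_injective emb emb.injective

theorem FieldHyp.nondeg₀ (D : FieldHyp M₀ emb σ r) : (polarBilin (matQuad M₀)).Nondegenerate :=
  nondegenerate_matQuad D.det_ne

theorem FieldHyp.nondeg (D : FieldHyp M₀ emb σ r) : (polarBilin (extForm emb M₀)).Nondegenerate :=
  nondegenerate_matQuad (by rw [det_gram_map, map_ne_zero]; exact D.det_ne)

theorem FieldHyp.five_le (D : FieldHyp M₀ emb σ r) : 5 ≤ Fintype.card ι := by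
  have := D.seven_le; omega

theorem FieldHyp.nonempty (D : FieldHyp M₀ emb σ r) : Nonempty ι :=
  Fintype.card_pos_iff.1 (by have := D.seven_le; omega)

theorem FieldHyp.ne₀ (D : FieldHyp M₀ emb σ r) : ∃ v, matQuad M₀ v ≠ 0 :=
  haveI := D.finite₀
  exists_ne_zero_of_nondegenerate _ D.nondeg₀ (by have := D.seven_le; omega)

theorem FieldHyp.ne (D : FieldHyp M₀ emb σ r) : ∃ v, extForm emb M₀ v ≠ 0 := by
  obtain ⟨v, hv⟩ := D.ne₀
  exact ⟨emb ∘ v, by rw [matQuad_map, map_ne_zero]; exact hv⟩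

/-- The field automorphism as a semisimilarity. -/
noncomputable def FieldHyp.base (D : FieldHyp M₀ emb σ r) : semiSim ⇑(extForm emb M₀) :=
  ⟨SemidirectProduct.inr σ, 1, fun v => by
    rw [slAct_inr, matQuad_fixed emb D.fix', SemidirectProduct.right_inr, Units.val_one, one_mul]⟩

/-- The standard field automorphism. -/
noncomputable def FieldHyp.fld (D : FieldHyp M₀ emb σ r) : MulAut (Cfsg.POmega F ⇑(extForm emb M₀)) :=
  autOmega _ D.base

theorem FieldHyp.isFieldAut_iff (D : FieldHyp M₀ emb σ r)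
    (β : MulAut (Cfsg.POmega F ⇑(extForm emb M₀))) :
    Cfsg.IsFieldAutPOmegaOf ⇑(extForm emb M₀) σ β ↔ β = D.fld := by
  have hs : Cfsg.IsSemisimilarityPair ⇑(extForm emb M₀) 1 σ := (mem_semiSim_iff _ _).1 D.base.2
  rw [FieldHyp.fld, show D.base = ⟨⟨1, σ⟩, (mem_semiSim_iff _ ⟨1, σ⟩).2 hs⟩ from Subtype.ext rfl,
    ← isInduced_iff hs]
  exact forall₂_congr fun s s' => by
    rw [Units.val_one, one_mul, show ((1⁻¹ : GL ι F) : Matrix ι ι F) = 1 by simp, mul_one]

theorem FieldHyp.fld_ne_one (D : FieldHyp M₀ emb σ r) : D.fld ≠ 1 := fun h =>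
  D.prime.ne_one (by
    rw [← D.order, show σ = 1 from ((autOmega_eq_one_iff D.nondeg D.five_le D.base).1 h).1, orderOf_one])

theorem FieldHyp.twist_mem (D : FieldHyp M₀ emb σ r) (g : Cfsg.Geo.quadSimilarityGroup ⇑(extForm emb M₀)) :
    glAut ι F σ (g : GL ι F) ∈ Cfsg.Geo.quadSimilarityGroup ⇑(extForm emb M₀) := by
  obtain ⟨c, hc⟩ := g.2
  refine ⟨Units.map (σ : F →* F) c, fun v => ?_⟩
  obtain ⟨w, rfl⟩ : ∃ w : ι → F, (fun i => σ (w i)) = v := ⟨fun i => σ.symm (v i), by simp⟩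
  rw [glAut_coe, ← map_mulVec', matQuad_fixed emb D.fix', hc, map_mul, matQuad_fixed emb D.fix']
  rfl

/-- The action of `σ` on similarities. -/
noncomputable def FieldHyp.twist (D : FieldHyp M₀ emb σ r) :
    Cfsg.Geo.quadSimilarityGroup ⇑(extForm emb M₀) →* Cfsg.Geo.quadSimilarityGroup ⇑(extForm emb M₀) :=
  ((glAut ι F σ).toMonoidHom.comp (Subgroup.subtype _)).codRestrict _ D.twist_mem

theorem FieldHyp.base_conj (D : FieldHyp M₀ emb σ r) (g : Cfsg.Geo.quadSimilarityGroup ⇑(extForm emb M₀)) :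
    D.base * simIncl _ g * D.base⁻¹ = simIncl _ (D.twist g) := by
  refine Subtype.ext ?_
  show SemidirectProduct.inr σ * SemidirectProduct.inl (g : GL ι F) * (SemidirectProduct.inr σ)⁻¹ = _
  rw [← map_inv, ← SemidirectProduct.inl_aut]
  rfl

theorem FieldHyp.fld_conj (D : FieldHyp M₀ emb σ r) (g : Cfsg.Geo.quadSimilarityGroup ⇑(extForm emb M₀)) :
    D.fld * simAut _ g * D.fld⁻¹ = simAut _ (D.twist g) := by
  simp only [FieldHyp.fld, simAut, MonoidHom.comp_apply, ← map_inv, ← map_mul, D.base_conj]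

theorem extend_mem (emb : F₀ →+* F) (M₀ : Matrix ι ι F₀) (g : Cfsg.Geo.quadSimilarityGroup ⇑(matQuad M₀)) :
    GeneralLinearGroup.map emb (g : GL ι F₀) ∈ Cfsg.Geo.quadSimilarityGroup ⇑(extForm emb M₀) := by
  obtain ⟨c, hc⟩ := g.2
  refine ⟨Units.map (emb : F₀ →* F) c, fun v => ?_⟩
  set G : Matrix ι ι F := ((GeneralLinearGroup.map emb (g : GL ι F₀) : GL ι F) : Matrix ι ι F)
  obtain ⟨M₁, hM₁⟩ := exists_matQuad ((c : F₀) • matQuad M₀)
  have e1 : (extForm emb M₀).comp (Matrix.mulVecLin G) = matQuad (M₁.map emb) :=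
    eq_matQuad_map emb fun u => by
      rw [hM₁, QuadraticMap.comp_apply, Matrix.mulVecLin_apply, QuadraticMap.smul_apply, smul_eq_mul,
        show G = ((g : GL ι F₀) : Matrix ι ι F₀).map emb from rfl, ← map_mulVec_comp, matQuad_map, hc]
  have e2 : (emb (c : F₀)) • extForm emb M₀ = matQuad (M₁.map emb) :=
    eq_matQuad_map emb fun u => by
      rw [hM₁, QuadraticMap.smul_apply, QuadraticMap.smul_apply, smul_eq_mul, smul_eq_mul, map_mul, matQuad_map]
  exact QuadraticMap.congr_fun (e1.trans e2.symm) v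

/-- Base change of similarities. -/
noncomputable def extend (emb : F₀ →+* F) (M₀ : Matrix ι ι F₀) :
    Cfsg.Geo.quadSimilarityGroup ⇑(matQuad M₀) →* Cfsg.Geo.quadSimilarityGroup ⇑(extForm emb M₀) :=
  ((GeneralLinearGroup.map (n := ι) emb).comp (Subgroup.subtype _)).codRestrict _ (extend_mem emb M₀)

@[simp] theorem extend_coe (g : Cfsg.Geo.quadSimilarityGroup ⇑(matQuad M₀)) :
    ((extend emb M₀ g : GL ι F) : Matrix ι ι F) = ((g : GL ι F₀) : Matrix ι ι F₀).map emb := rfl

theorem FieldHyp.twist_extend (D : FieldHyp M₀ emb σ r) (g : Cfsg.Geo.quadSimilarityGroup ⇑(matQuad M₀)) :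
    D.twist (extend emb M₀ g) = extend emb M₀ g := by
  refine Subtype.ext (Units.ext ?_)
  show (((g : GL ι F₀) : Matrix ι ι F₀).map emb).map σ = _
  ext i j
  exact D.fix' _

theorem simAut_scalar_mul (hQ : (polarBilin (extForm emb M₀)).Nondegenerate) (hn : 5 ≤ Fintype.card ι)
    (a : Fˣ) (g : Cfsg.Geo.quadSimilarityGroup ⇑(extForm emb M₀)) :
    simAut _ (simScalar _ a * g) = simAut _ g := by
  rw [map_mul, (simAut_eq_one_iff hQ hn _).2 (simScalar_mem_scalars _ a), one_mul]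

theorem FieldHyp.simAut_extend_eq_one_iff (D : FieldHyp M₀ emb σ r)
    (g : Cfsg.Geo.quadSimilarityGroup ⇑(matQuad M₀)) :
    simAut _ (extend emb M₀ g) = 1 ↔ simAut _ g = 1 := by
  haveI := D.finite₀
  haveI := D.nonempty
  rw [simAut_eq_one_iff D.nondeg D.five_le, simAut_eq_one_iff D.nondeg₀ D.five_le,
    Cfsg.Geo.mem_scalars_iff, Cfsg.Geo.mem_scalars_iff]
  have key : ∀ c : F₀, (c • (1 : Matrix ι ι F₀)).map emb = emb c • (1 : Matrix ι ι F) := fun c => by
    ext i j; rcases eq_or_ne i j with rfl | h <;> simp [*]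
  constructor
  · rintro ⟨c, hc⟩
    rw [extend_coe] at hc
    obtain ⟨i⟩ := D.nonempty
    set t := ((g : GL ι F₀) : Matrix ι ι F₀) i i
    have ht : emb t = (c : F) := by simpa using congrFun (congrFun hc i) i
    refine ⟨Units.mk0 t fun h => c.ne_zero (by rw [← ht, h, map_zero]), Matrix.map_injective emb.injective ?_⟩
    show ((g : GL ι F₀) : Matrix ι ι F₀).map emb = (t • (1 : Matrix ι ι F₀)).map emb
    rw [key, hc, ht]
  · rintro ⟨c, hc⟩
    exact ⟨Units.map (emb : F₀ →* F) c, by rw [extend_coe, hc, key]; rfl⟩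

/-- A similarity commuting with the field automorphism is a scalar times a rational one. -/
theorem FieldHyp.exists_preimage (D : FieldHyp M₀ emb σ r) (g : Cfsg.Geo.quadSimilarityGroup ⇑(extForm emb M₀))
    (h : simAut _ g * D.fld = D.fld * simAut _ g) :
    ∃ (a : Fˣ) (g₀ : Cfsg.Geo.quadSimilarityGroup ⇑(matQuad M₀)),
      extend emb M₀ g₀ = simScalar _ a * g := by
  haveI := D.nonempty
  have h1 : simAut _ (D.twist g * g⁻¹) = 1 := by
    rw [map_mul, map_inv, ← D.fld_conj, ← h, mul_inv_cancel_right, mul_inv_cancel]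
  obtain ⟨c, hc⟩ := (simAut_eq_one_iff D.nondeg D.five_le _).1 h1
  have hc' : glAut ι F σ (g : GL ι F) = scalarGL ι F c * (g : GL ι F) :=
    mul_inv_eq_iff_eq_mul.1 hc.symm
  obtain ⟨a, ha⟩ := fixed_glAut D.prime.pos D.order hc'
  obtain ⟨g₀, hg₀⟩ := exists_gl_of_fixed emb D.fix ha
  obtain ⟨μ, hμ⟩ := (simScalar (extForm emb M₀) a * g).2
  have hmap : ∀ v, emb ∘ (((g₀ : GL ι F₀) : Matrix ι ι F₀) *ᵥ v) =
      ((scalarGL ι F a * (g : GL ι F) : GL ι F) : Matrix ι ι F) *ᵥ (emb ∘ v) := fun v => by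
    rw [map_mulVec_comp, ← hg₀]; rfl
  have hv : ∀ v, emb (matQuad M₀ (((g₀ : GL ι F₀) : Matrix ι ι F₀) *ᵥ v)) = (μ : F) * emb (matQuad M₀ v) := fun v => by
    rw [← matQuad_map, hmap, ← matQuad_map emb M₀ v]
    exact hμ _
  obtain ⟨v₀, hv₀⟩ := D.ne₀
  set t := matQuad M₀ (((g₀ : GL ι F₀) : Matrix ι ι F₀) *ᵥ v₀) / matQuad M₀ v₀ with ht
  have htμ : emb t = μ := by rw [ht, map_div₀, hv, mul_div_assoc, div_self ((map_ne_zero emb).2 hv₀), mul_one]
  have ht0 : t ≠ 0 := fun h0 => μ.ne_zero (by rw [← htμ, h0, map_zero])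
  exact ⟨a, ⟨g₀, Units.mk0 t ht0, fun v => emb.injective (by rw [hv, map_mul, Units.val_mk0, htμ])⟩,
    Subtype.ext hg₀⟩

/-- The centraliser of the field automorphism in an image of similarities. -/
theorem FieldHyp.inf_centralizer (D : FieldHyp M₀ emb σ r)
    (S : Subgroup (Cfsg.Geo.quadSimilarityGroup ⇑(extForm emb M₀))) (hS : ∀ a, simScalar _ a ∈ S) :
    S.map (simAut _) ⊓ Subgroup.centralizer {D.fld} =
      (S.comap (extend emb M₀)).map ((simAut _).comp (extend emb M₀)) := by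
  ext β
  rw [Subgroup.mem_inf, Subgroup.mem_centralizer_singleton_iff]
  constructor
  · rintro ⟨⟨g, hg, rfl⟩, hc⟩
    obtain ⟨a, g₀, e⟩ := D.exists_preimage g hc
    refine ⟨g₀, ?_, ?_⟩
    · show extend emb M₀ g₀ ∈ S
      rw [e]; exact mul_mem (hS a) hg
    · rw [MonoidHom.comp_apply, e, simAut_scalar_mul D.nondeg D.five_le]
  · rintro ⟨g₀, hg₀, rfl⟩
    refine ⟨⟨_, hg₀, rfl⟩, ?_⟩
    rw [MonoidHom.comp_apply]
    conv_rhs => rw [← inv_mul_cancel_right (D.fld * simAut _ (extend emb M₀ g₀)) D.fld, D.fld_conj,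
      D.twist_extend]

theorem FieldHyp.centralizer_iso (D : FieldHyp M₀ emb σ r)
    (S : Subgroup (Cfsg.Geo.quadSimilarityGroup ⇑(extForm emb M₀))) (hS : ∀ a, simScalar _ a ∈ S) :
    Nonempty (↥(S.map (simAut _) ⊓ Subgroup.centralizer {D.fld}) ≃*
      ↥((S.comap (extend emb M₀)).map (simAut ⇑(matQuad M₀)))) := by
  obtain ⟨e⟩ := nonempty_map_equiv_of_ker (S.comap (extend emb M₀))
    ((simAut _).comp (extend emb M₀)) (simAut ⇑(matQuad M₀)) fun g _ => D.simAut_extend_eq_one_iff g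
  exact ⟨(MulEquiv.subgroupCongr (D.inf_centralizer S hS)).trans e⟩

/-- The form over the fixed field belonging to an element of order `r` of the coset. -/
theorem FieldHyp.descend (D : FieldHyp M₀ emb σ r) (g : Cfsg.Geo.quadSimilarityGroup ⇑(extForm emb M₀))
    (ho : (simAut _ g * D.fld) ^ r = 1) :
    ∃ (a : Fˣ) (P : GL ι F) (M₁ : Matrix ι ι F₀) (β : Fˣ), (polarBilin (matQuad M₁)).Nondegenerate ∧
      (∀ v, extForm emb M₀ ((P : Matrix ι ι F) *ᵥ v) = (β : F) * matQuad (M₁.map emb) v) ∧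
      ((simScalar (extForm emb M₀) a * g : Cfsg.Geo.quadSimilarityGroup ⇑(extForm emb M₀)) : GL ι F) *
        glAut ι F σ P = P := by
  haveI := D.nonempty
  haveI := D.finite₀
  set y := simIncl _ g * D.base with hy
  have hyr : autOmega _ (y ^ r) = 1 := by
    rw [map_pow, hy, map_mul]
    exact ho
  obtain ⟨h1, h2⟩ := (autOmega_eq_one_iff D.nondeg D.five_le _).1 hyr
  obtain ⟨c, hc⟩ := h2
  have hval : ((y : GammaL ι F)) = SemidirectProduct.inl (g : GL ι F) * SemidirectProduct.inr σ := rfl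
  have hright : (y : GammaL ι F).right = σ := by rw [hval]; simp
  obtain ⟨a, P, hP⟩ := exists_conj_inr (x := (y : GammaL ι F)) D.prime.pos (by rw [hright]; exact D.order)
    (c := c) (SemidirectProduct.ext (by rw [← SubgroupClass.coe_pow, SemidirectProduct.left_inl]; exact hc.symm)
      (by rw [← SubgroupClass.coe_pow, SemidirectProduct.right_inl]; exact h1))
  set g' := simScalar (extForm emb M₀) a * g with hg'
  have hP' : (g' : GL ι F) * glAut ι F σ P = P := by
    rw [hright, hval, eq_mul_inv_iff_mul_eq] at hP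
    have := congrArg SemidirectProduct.left hP
    simpa [hg', mul_assoc, simScalar, scalarGL] using this
  -- the form in the new coordinates
  set μ := simMult D.ne g'
  set R : QuadraticForm F (ι → F) := (extForm emb M₀).comp (Matrix.mulVecLin (P : Matrix ι ι F))
  have hR : ∀ v, R (fun i => σ (v i)) = (μ : F) * σ (R v) := fun v => by
    simp only [R, QuadraticMap.comp_apply, Matrix.mulVecLin_apply]
    conv_lhs => rw [← hP', Units.val_mul, glAut_coe, ← mulVec_mulVec, ← map_mulVec']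
    rw [simMult_spec D.ne, matQuad_fixed emb D.fix']
  have hnorm : ∏ k ∈ Finset.range r, (σ ^ k : F ≃+* F) (μ : F) = 1 := by
    have hk : ∀ k v, R (fun i => (σ ^ k : F ≃+* F) (v i)) =
        (∏ l ∈ Finset.range k, (σ ^ l : F ≃+* F) (μ : F)) * (σ ^ k : F ≃+* F) (R v) := by
      intro k
      induction k with
      | zero => intro v; simp
      | succ k ih =>
        intro v
        rw [Finset.prod_range_succ, pow_succ]
        refine (ih fun i => σ (v i)).trans ?_
        rw [hR, map_mul, mul_assoc]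
        rfl
    obtain ⟨w, hw⟩ := D.ne
    have hv : R (((P⁻¹ : GL ι F) : Matrix ι ι F) *ᵥ w) ≠ 0 := by
      simp only [R, QuadraticMap.comp_apply, Matrix.mulVecLin_apply, mulVec_mulVec, Units.mul_inv, one_mulVec]
      exact hw
    have h3 := hk r (((P⁻¹ : GL ι F) : Matrix ι ι F) *ᵥ w)
    rw [← D.order, pow_orderOf_eq_one, D.order] at h3
    exact mul_right_cancel₀ hv (h3.symm.trans (one_mul _).symm)
  obtain ⟨b, hb0, hb⟩ := CfsgLib.KnownB.Descent.hilbert90 D.prime.pos D.order hnorm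
  have hfixed : ∀ v : ι → F₀, ∃ t, emb t = b⁻¹ * R (emb ∘ v) := fun v => (D.fix _).1 (by
    have e : (fun i => σ ((emb ∘ v) i)) = emb ∘ v := funext fun i => D.fix' _
    have h := hR (emb ∘ v)
    rw [e] at h
    rw [map_mul, map_inv₀]
    conv_rhs => rw [h, ← hb]
    have : σ b ≠ 0 := (map_ne_zero σ).2 hb0
    field_simp)
  choose q hq using hfixed
  have e1 : ∀ u w : ι → F₀, emb ∘ (u + w) = emb ∘ u + emb ∘ w := fun u w => funext fun k => map_add emb _ _
  have e2 : ∀ (t : F₀) (u : ι → F₀), emb ∘ (t • u) = emb t • (emb ∘ u) := fun t u => funext fun k => map_mul emb _ _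
  have hpq : ∀ u w, emb (polar q u w) = b⁻¹ * polar R (emb ∘ u) (emb ∘ w) := fun u w => by
    rw [polar, polar, map_sub, map_sub, hq, hq, hq, e1]; ring
  obtain ⟨M₁, hM₁⟩ := exists_matQuad (QuadraticMap.ofPolar q
    (fun t u => emb.injective (by rw [smul_eq_mul, map_mul, map_mul, hq, hq, e2, map_smul']; ring))
    (fun u u' w => emb.injective (by rw [map_add, hpq, hpq, hpq, e1, polar_add_left]; ring))
    (fun t u w => emb.injective (by rw [smul_eq_mul, map_mul, hpq, hpq, e2, polar_smul_left']; ring)))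
  have hM₁' : ∀ v, matQuad M₁ v = q v := fun v => by rw [hM₁]; rfl
  have hRM : R = b • matQuad (M₁.map emb) := by
    have : b⁻¹ • R = matQuad (M₁.map emb) := eq_matQuad_map emb fun v => by
      rw [QuadraticMap.smul_apply, smul_eq_mul, hM₁', hq]
    rw [← this, smul_smul, mul_inv_cancel₀ hb0, one_smul]
  have hPQ : ∀ v, extForm emb M₀ ((P : Matrix ι ι F) *ᵥ v) = b * matQuad (M₁.map emb) v := fun v =>
    (QuadraticMap.congr_fun hRM v :)
  have hM₁n : (polarBilin (matQuad M₁)).Nondegenerate := by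
    have key : ∀ u, (∀ w, polar (matQuad M₁) u w = 0) → u = 0 := fun u hu => by
      have h0 : ∀ w : ι → F₀, polar R (emb ∘ u) (emb ∘ w) = 0 := fun w => by
        have := hpq u w
        rw [show polar q u w = polar (matQuad M₁) u w by simp only [polar, hM₁'], hu, map_zero] at this
        exact (mul_eq_zero.1 this.symm).resolve_left (inv_ne_zero hb0)
      have hall : polarBilin R (emb ∘ u) = 0 := (Pi.basisFun F ι).ext fun i => by
        have hs : (emb ∘ (Pi.single i 1 : ι → F₀)) = (Pi.single i 1 : ι → F) := by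
          funext j; rcases eq_or_ne j i with rfl | hj <;> simp [*]
        rw [Pi.basisFun_apply, ← hs]; exact h0 _
      have hPu : (P : Matrix ι ι F) *ᵥ (emb ∘ u) = 0 := D.nondeg.1 _ fun w => by
        have := LinearMap.congr_fun hall (((P⁻¹ : GL ι F) : Matrix ι ι F) *ᵥ w)
        rw [polarBilin_apply_apply, LinearMap.zero_apply] at this
        simpa [R, polar, ← mulVec_add, mulVec_mulVec, mulVec_add] using this
      have hu0 := congrArg (((P⁻¹ : GL ι F) : Matrix ι ι F) *ᵥ ·) hPu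
      simp only [mulVec_mulVec, Units.inv_mul, one_mulVec, mulVec_zero] at hu0
      funext i
      exact emb.injective ((congrFun hu0 i).trans (map_zero emb).symm)
    exact ⟨fun u hu => key u hu, fun w hw => key w fun u => by rw [polar_comm]; exact hw u⟩
  exact ⟨a, P, M₁, Units.mk0 b hb0, hM₁n, hPQ, hP'⟩

/-- Elements of order `r` in the coset of the field automorphism are conjugate to it. -/
theorem FieldHyp.coset (D : FieldHyp M₀ emb σ r)
    (S : Subgroup (Cfsg.Geo.quadSimilarityGroup ⇑(extForm emb M₀))) (hS : ∀ a, simScalar _ a ∈ S)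
    (hsim : ∀ g ∈ S, ∀ (P : GL ι F) (M₁ : Matrix ι ι F₀) (β : Fˣ),
      (polarBilin (matQuad M₁)).Nondegenerate →
      (∀ v, extForm emb M₀ ((P : Matrix ι ι F) *ᵥ v) = (β : F) * matQuad (M₁.map emb) v) →
      (g : GL ι F) * glAut ι F σ P = P → IsSimTo ⇑(matQuad M₁) ⇑(matQuad M₀))
    (hswap : ∀ g : Cfsg.Geo.quadSimilarityGroup ⇑(extForm emb M₀),
      ∃ h₀, g * extend emb M₀ h₀ ∈ S) :
    ∀ d ∈ S.map (simAut _), orderOf (d * D.fld) = r →
      Cfsg.IsConjUnder (S.map (simAut _)) D.fld (d * D.fld) := by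
  haveI := D.nonempty
  haveI := D.finite₀
  rintro _ ⟨g, hg, rfl⟩ ho
  obtain ⟨a, P, M₁, β, hM₁n, hPQ, hP'⟩ := D.descend g (orderOf_dvd_iff_pow_eq_one.1 (dvd_of_eq ho))
  set g' := simScalar (extForm emb M₀) a * g with hg'
  have hg'S : g' ∈ S := mul_mem (hS a) hg
  obtain ⟨E, t, ht, hE⟩ := hsim g' hg'S P M₁ β hM₁n hPQ hP'
  set T := glEquiv.symm E
  set P₂ := P * GeneralLinearGroup.map emb T with hP₂
  have hT : ∀ v : ι → F, matQuad (M₁.map emb) (((GeneralLinearGroup.map emb T : GL ι F) : Matrix ι ι F) *ᵥ v) =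
      emb t * extForm emb M₀ v := by
    intro v
    obtain ⟨M₂, hM₂⟩ := exists_matQuad (t • matQuad M₀)
    have h3 : (matQuad (M₁.map emb)).comp (Matrix.mulVecLin (((T : GL ι F₀) : Matrix ι ι F₀).map emb)) =
        matQuad (M₂.map emb) := eq_matQuad_map emb fun u => by
      rw [hM₂, QuadraticMap.comp_apply, Matrix.mulVecLin_apply, QuadraticMap.smul_apply, smul_eq_mul,
        ← map_mulVec_comp, matQuad_map, glEquiv_symm_mulVec, hE]
    have h4 : emb t • extForm emb M₀ = matQuad (M₂.map emb) := eq_matQuad_map emb fun u => by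
      rw [hM₂, QuadraticMap.smul_apply, QuadraticMap.smul_apply, smul_eq_mul, smul_eq_mul, map_mul, matQuad_map]
    exact QuadraticMap.congr_fun (h3.trans h4.symm) v
  have hP₂mem : P₂ ∈ Cfsg.Geo.quadSimilarityGroup ⇑(extForm emb M₀) :=
    ⟨Units.mk0 ((β : F) * emb t) (mul_ne_zero β.ne_zero ((map_ne_zero emb).2 ht)), fun v => by
      rw [hP₂, Units.val_mul, ← mulVec_mulVec, hPQ, hT, Units.val_mk0, mul_assoc]⟩
  obtain ⟨h₀, hh₀⟩ := hswap ⟨P₂, hP₂mem⟩
  set P₃ : Cfsg.Geo.quadSimilarityGroup ⇑(extForm emb M₀) := ⟨P₂, hP₂mem⟩ * extend emb M₀ h₀ with hP₃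
  refine ⟨simAut _ P₃, ⟨P₃, hh₀, rfl⟩, ?_⟩
  have htw : g' * D.twist P₃ = P₃ := by
    rw [hP₃, map_mul, D.twist_extend, ← mul_assoc]
    congr 1
    refine Subtype.ext ?_
    show (g' : GL ι F) * glAut ι F σ P₂ = P₂
    have hfixT : glAut ι F σ (GeneralLinearGroup.map emb T) = GeneralLinearGroup.map emb T := by
      refine Units.ext (Matrix.ext fun i j => ?_)
      exact D.fix' _
    rw [hP₂, map_mul, hfixT, ← mul_assoc, hP']
  have h5 : simAut _ g * (D.fld * simAut _ P₃ * D.fld⁻¹) = simAut _ P₃ := by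
    rw [D.fld_conj, ← simAut_scalar_mul D.nondeg D.five_le a g, ← hg', ← map_mul, htw]
  rw [eq_mul_inv_of_mul_eq h5]
  group

end CfsgLib.Geometry
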