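import Cfsg.Agent.Lib.Geometry.SymplecticBasis

/-! The determinant of a similitude of a nondegenerate alternating form. -/

set_option autoImplicit false

namespace CfsgLib.Geometry

open Matrix

universe u v

/-- A similitude of a nondegenerate alternating form on a `2k`-dimensional space has determinant `μ ^ k`. -/
theorem det_alt_similitude {F : Type u} [Field F] {V : Type v} [AddCommGroup V] [Module F V]
    [FiniteDimensional F V] {B : LinearMap.BilinForm F V} (hA : B.IsAlt) (hB : ∀ u, (∀ v, B u v = 0) → u = 0)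
    {φ : V →ₗ[F] V} {μ : F} (hμ : μ ≠ 0) (hφ : ∀ u v, B (φ u) (φ v) = μ * B u v) {k : ℕ}
    (hk : Module.finrank F V = 2 * k) : LinearMap.det φ = μ ^ k := by
  obtain ⟨m, r, b, h1, h2, h3, h4⟩ := exists_sympBasis_aux (F := F) _ rfl B hA
  have hr : r = 0 := by
    by_contra hr
    exact b.ne_zero (Sum.inr ⟨0, Nat.pos_of_ne_zero hr⟩) (hB _ (h4 _))
  subst hr
  let e : (Fin m ⊕ Fin m) ⊕ Fin 0 ≃ Fin m ⊕ Fin m := Equiv.sumEmpty _ _
  let c := b.reindex e
  have hmk : m = k := by
    have := Module.finrank_eq_card_basis c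
    rw [hk, Fintype.card_sum, Fintype.card_fin] at this
    omega
  subst hmk
  have hG : LinearMap.BilinForm.toMatrix c B = -Matrix.J (Fin m) F := by
    ext i j
    rw [LinearMap.BilinForm.toMatrix_apply]
    rcases i with i | i <;> rcases j with j | j <;>
      simp only [c, Module.Basis.reindex_apply, e, Equiv.sumEmpty_symm_apply, Matrix.J, Matrix.neg_apply,
        fromBlocks_apply₁₁, fromBlocks_apply₁₂, fromBlocks_apply₂₁, fromBlocks_apply₂₂,
        Matrix.zero_apply, Matrix.one_apply, neg_zero, neg_neg]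
    · exact h2 i j
    · exact h1 i j
    · rw [← hA.neg_eq, h1]
      simp [eq_comm]
    · exact h3 i j
  have hcomp : B.comp φ φ = μ • B := LinearMap.ext₂ fun u v => hφ u v
  set A := LinearMap.toMatrix c c φ with hAdef
  have hrel : Aᵀ * Matrix.J (Fin m) F * A = μ • Matrix.J (Fin m) F := by
    have := congrArg (LinearMap.BilinForm.toMatrix c) hcomp
    rw [LinearMap.BilinForm.toMatrix_comp c, map_smul, hG, ← hAdef] at this
    simpa using this
  let D : Matrix (Fin m ⊕ Fin m) (Fin m ⊕ Fin m) F := diagonal (Sum.elim (fun _ => μ⁻¹) fun _ => 1)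
  have hJD : Dᵀ * (μ • Matrix.J (Fin m) F) * D = Matrix.J (Fin m) F := by
    rw [diagonal_transpose]
    ext i j
    rw [Matrix.mul_diagonal, Matrix.diagonal_mul, Matrix.smul_apply]
    rcases i with i | i <;> rcases j with j | j <;> simp [Matrix.J, Matrix.one_apply]
    all_goals split_ifs <;> simp [hμ]
  have hmem : A * D ∈ Matrix.symplecticGroup (Fin m) F := by
    rw [SymplecticGroup.mem_iff', Matrix.transpose_mul]
    calc Dᵀ * Aᵀ * Matrix.J (Fin m) F * (A * D)
        = Dᵀ * (Aᵀ * Matrix.J (Fin m) F * A) * D := by simp only [Matrix.mul_assoc]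
      _ = Matrix.J (Fin m) F := by rw [hrel, hJD]
  have hdet := SymplecticGroup.det_eq_one hmem
  rw [det_mul, det_diagonal, Fintype.prod_sum_type, hAdef, LinearMap.det_toMatrix] at hdet
  simp only [Sum.elim_inl, Sum.elim_inr, Finset.prod_const_one, mul_one, Finset.prod_const,
    Finset.card_univ, Fintype.card_fin, inv_pow] at hdet
  exact (mul_inv_eq_one₀ (pow_ne_zero _ hμ)).1 hdet

end CfsgLib.Geometry
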