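import Cfsg.Agent.Lib.Geometry.Symplectic
import Cfsg.Agent.Lib.Classical.SympOrder
import Mathlib.LinearAlgebra.Matrix.GeneralLinearGroup.Card
import Cfsg.Prelude.Def_ClassicalGeometry

/-! Orders of stabilisers of subspaces, by counting families of vectors spanning them. -/

set_option autoImplicit false

namespace CfsgLib.Geometry.StabCount

open Matrix

section Orbit

/-- If the stabiliser in `S` is the stabiliser in `H`, the orbit lengths give the index. -/
theorem card_mul_orbit {H X : Type*} [Group H] [Finite H] [MulAction H X] (S : Subgroup H) (x : X)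
    (hx : MulAction.stabilizer H x ≤ S) :
    Nat.card S * Nat.card (MulAction.orbit H x) = Nat.card H * Nat.card (MulAction.orbit S x) := by
  have h1 : Nat.card (MulAction.orbit H x) * Nat.card (MulAction.stabilizer H x) = Nat.card H := by
    rw [Nat.card_coe_set_eq, ← MulAction.index_stabilizer, Subgroup.index_mul_card]
  have h2 : Nat.card (MulAction.orbit S x) * Nat.card (MulAction.stabilizer S x) = Nat.card S := by
    rw [Nat.card_coe_set_eq, ← MulAction.index_stabilizer, Subgroup.index_mul_card]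
  have h3 : Nat.card (MulAction.stabilizer S x) = Nat.card (MulAction.stabilizer H x) :=
    Nat.card_congr
      { toFun := fun s => ⟨s.1.1, s.2⟩
        invFun := fun h => ⟨⟨h.1, hx h.2⟩, h.2⟩
        left_inv := fun s => rfl
        right_inv := fun h => rfl }
  rw [h3] at h2
  rw [← h1, ← h2]; ring

variable {H : Type*} [Group H] {ι : Type} [Fintype ι] [DecidableEq ι] {F : Type*} [Field F]

/-- The action on families of vectors. -/
abbrev famAction (toMat : H →* Matrix ι ι F) (k : ℕ) : MulAction H (Fin k → ι → F) where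
  smul h v := fun i => toMat h *ᵥ v i
  one_smul v := funext fun i => by show toMat 1 *ᵥ v i = v i; rw [map_one, one_mulVec]
  mul_smul a b v := funext fun i => by show toMat (a * b) *ᵥ v i = _; rw [map_mul, ← mulVec_mulVec]; rfl

/-- The stabiliser of a set spanned by a transitive kind of families. -/
theorem card_stab_mul [Finite H] (toMat : H →* Matrix ι ι F) {k : ℕ} (P : (Fin k → ι → F) → Prop)
    (hP : ∀ h v, P v → P fun i => toMat h *ᵥ v i)
    (htr : ∀ v w, P v → P w → ∃ h, ∀ i, toMat h *ᵥ v i = w i)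
    (S : Subgroup H) {x : Fin k → ι → F} (hx : P x)
    (hfix : ∀ h, (∀ i, toMat h *ᵥ x i = x i) → h ∈ S)
    (Q : (Fin k → ι → F) → Prop) (hQP : ∀ v, Q v → P v) (hxQ : ∀ h ∈ S, Q fun i => toMat h *ᵥ x i)
    (hQ : ∀ h, Q (fun i => toMat h *ᵥ x i) → h ∈ S) :
    Nat.card S * Nat.card {v // P v} = Nat.card H * Nat.card {v // Q v} := by
  letI := famAction toMat k
  have h1 : MulAction.orbit H x = {v | P v} := Set.ext fun v => by
    constructor
    · rintro ⟨h, rfl⟩; exact hP h x hx
    · intro hv
      obtain ⟨h, hh⟩ := htr x v hx hv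
      exact ⟨h, funext hh⟩
  have h2 : MulAction.orbit S x = {v | Q v} := Set.ext fun v => by
    constructor
    · rintro ⟨h, rfl⟩; exact hxQ h.1 h.2
    · intro hv
      obtain ⟨h, hh⟩ := htr x v hx (hQP v hv)
      exact ⟨⟨h, hQ h (by rwa [show (fun i => toMat h *ᵥ x i) = v from funext hh])⟩, funext hh⟩
  have h := card_mul_orbit S x fun h hh => hfix h (fun i => congrFun hh i)
  rwa [h1, h2] at h

end Orbit

section Symp

variable {F : Type*} [Field F] {m : ℕ}

/-- Independent families spanning totally isotropic subspaces. -/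
def IsTIFam {k : ℕ} (v : Fin k → (Fin m ⊕ Fin m → F)) : Prop :=
  LinearIndependent F v ∧ ∀ i j, Cfsg.sympForm m F (v i) (v j) = 0

/-- The perp of a family. -/
noncomputable def perp {k : ℕ} (v : Fin k → (Fin m ⊕ Fin m → F)) : Submodule F (Fin m ⊕ Fin m → F) :=
  (sympBilin m F).orthogonal (Submodule.span F (Set.range v))

theorem mem_perp {k : ℕ} {v : Fin k → (Fin m ⊕ Fin m → F)} {x : Fin m ⊕ Fin m → F} :
    x ∈ perp v ↔ ∀ i, Cfsg.sympForm m F (v i) x = 0 := by
  rw [perp, LinearMap.BilinForm.mem_orthogonal_iff]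
  constructor
  · intro h i
    exact (sympBilin_apply m F _ _).symm.trans (h _ (Submodule.subset_span ⟨i, rfl⟩))
  · intro h u hu
    have : Submodule.span F (Set.range v) ≤ LinearMap.ker ((sympBilin m F).flip x) :=
      Submodule.span_le.2 (by rintro _ ⟨i, rfl⟩; exact (sympBilin_apply m F _ _).trans (h i))
    exact this hu

theorem finrank_perp {k : ℕ} {v : Fin k → (Fin m ⊕ Fin m → F)} (hv : LinearIndependent F v) :
    Module.finrank F (perp v) = 2 * m - k := by
  rw [perp, LinearMap.BilinForm.finrank_orthogonal (sympBilin_nondegenerate m F),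
    finrank_span_eq_card hv, Fintype.card_fin, Module.finrank_fintype_fun_eq_card, Fintype.card_sum,
    Fintype.card_fin, two_mul]

theorem span_le_perp {k : ℕ} {v : Fin k → (Fin m ⊕ Fin m → F)} (hv : IsTIFam v) :
    Submodule.span F (Set.range v) ≤ perp v :=
  Submodule.span_le.2 (by rintro _ ⟨i, rfl⟩; exact mem_perp.2 fun j => hv.2 j i)

theorem sympForm_self (x : Fin m ⊕ Fin m → F) : Cfsg.sympForm m F x x = 0 :=
  (sympBilin_apply m F x x).symm.trans (sympBilin_isAlt m F x)

theorem isTIFam_cons {k : ℕ} {x : Fin m ⊕ Fin m → F} {v : Fin k → (Fin m ⊕ Fin m → F)} :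
    IsTIFam (Fin.cons x v) ↔ IsTIFam v ∧ x ∈ perp v ∧ x ∉ Submodule.span F (Set.range v) := by
  constructor
  · rintro ⟨h1, h2⟩
    obtain ⟨h3, h4⟩ := linearIndependent_finCons.1 h1
    exact ⟨⟨h3, fun i j => by simpa using h2 i.succ j.succ⟩,
      mem_perp.2 fun i => by simpa using h2 i.succ 0, h4⟩
  · rintro ⟨⟨h1, h2⟩, h3, h4⟩
    have h3' := mem_perp.1 h3
    have h5 : ∀ i, Cfsg.sympForm m F x (v i) = 0 := fun i => by
      rw [← sympBilin_apply, ← (sympBilin_isAlt m F).neg_eq, sympBilin_apply, h3', neg_zero]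
    refine ⟨linearIndependent_finCons.2 ⟨h1, h4⟩, fun i j => ?_⟩
    induction i using Fin.cases <;> induction j using Fin.cases <;> simp [h2, h3', h5, sympForm_self]

theorem card_diff_sub [Finite F] {V : Type*} [AddCommGroup V] [Module F V] [Module.Finite F V]
    {A B : Submodule F V} (h : A ≤ B) :
    Nat.card {x : V // x ∈ B ∧ x ∉ A} =
      Nat.card F ^ Module.finrank F B - Nat.card F ^ Module.finrank F A := by
  haveI : Finite V := Module.finite_of_finite F
  rw [show {x : V // x ∈ B ∧ x ∉ A} = ↥((B : Set V) \ (A : Set V)) from rfl, Nat.card_coe_set_eq,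
    Set.ncard_sdiff (by exact_mod_cast h) (Set.toFinite _), ← Nat.card_coe_set_eq, ← Nat.card_coe_set_eq,
    SetLike.coe_sort_coe, SetLike.coe_sort_coe, Module.natCard_eq_pow_finrank (K := F),
    Module.natCard_eq_pow_finrank (K := F) (V := A)]

/-- The number of ways of extending a family. -/
theorem card_fibre [Finite F] {k : ℕ} {v : Fin k → (Fin m ⊕ Fin m → F)} (hv : IsTIFam v) :
    Nat.card {x // x ∈ perp v ∧ x ∉ Submodule.span F (Set.range v)} =
      Nat.card F ^ (2 * m - k) - Nat.card F ^ k := by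
  rw [card_diff_sub (span_le_perp hv), finrank_perp hv.1, finrank_span_eq_card hv.1, Fintype.card_fin]

theorem card_tiFam [Finite F] (k : ℕ) :
    Nat.card {v : Fin k → (Fin m ⊕ Fin m → F) // IsTIFam v} =
      ∏ i ∈ Finset.range k, (Nat.card F ^ (2 * m - i) - Nat.card F ^ i) := by
  induction k with
  | zero =>
    haveI : Unique {v : Fin 0 → (Fin m ⊕ Fin m → F) // IsTIFam v} :=
      { default := ⟨Fin.elim0, linearIndependent_empty_type, fun i => i.elim0⟩
        uniq := fun v => Subtype.ext (Subsingleton.elim _ _) }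
    simp
  | succ k ih =>
    classical
    haveI : Fintype {v : Fin k → (Fin m ⊕ Fin m → F) // IsTIFam v} := Fintype.ofFinite _
    let e : {v : Fin (k + 1) → (Fin m ⊕ Fin m → F) // IsTIFam v} ≃
        Σ v : {v : Fin k → (Fin m ⊕ Fin m → F) // IsTIFam v},
          {x // x ∈ perp v.1 ∧ x ∉ Submodule.span F (Set.range v.1)} :=
      { toFun := fun v => ⟨⟨Fin.tail v.1, (isTIFam_cons.1 (by rw [Fin.cons_self_tail]; exact v.2)).1⟩,
          v.1 0, (isTIFam_cons.1 (by rw [Fin.cons_self_tail]; exact v.2)).2⟩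
        invFun := fun p => ⟨Fin.cons p.2.1 p.1.1, isTIFam_cons.2 ⟨p.1.2, p.2.2⟩⟩
        left_inv := fun v => Subtype.ext (Fin.cons_self_tail _)
        right_inv := fun p => rfl }
    rw [Nat.card_congr e, Nat.card_sigma, Finset.sum_congr rfl fun v _ => card_fibre v.2, Finset.sum_const,
      Finset.card_univ, ← Nat.card_eq_fintype_card, ih, smul_eq_mul, Finset.prod_range_succ]

/-- Independent families inside a subspace. -/
def famInEquiv {V : Type*} [AddCommGroup V] [Module F V] {k : ℕ} (W : Submodule F V) :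
    {v : Fin k → V // LinearIndependent F v ∧ ∀ i, v i ∈ W} ≃ {s : Fin k → W // LinearIndependent F s} where
  toFun v := ⟨fun i => ⟨v.1 i, v.2.2 i⟩, LinearIndependent.of_comp W.subtype v.2.1⟩
  invFun s := ⟨fun i => s.1 i, s.2.map' W.subtype W.ker_subtype, fun i => (s.1 i).2⟩
  left_inv _ := rfl
  right_inv _ := rfl

theorem card_famIn [Fintype F] {V : Type*} [AddCommGroup V] [Module F V] [Module.Finite F V] {k : ℕ}
    {W : Submodule F V} (hW : Module.finrank F W = k) :
    Nat.card {v : Fin k → V // LinearIndependent F v ∧ ∀ i, v i ∈ W} =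
      ∏ i : Fin k, (Fintype.card F ^ k - Fintype.card F ^ (i : ℕ)) := by
  haveI : Finite V := Module.finite_of_finite F
  haveI := Fintype.ofFinite W
  rw [Nat.card_congr (famInEquiv W), card_linearIndependent hW.ge, hW]

theorem span_eq_of_famIn {V : Type*} [AddCommGroup V] [Module F V] [Module.Finite F V] {k : ℕ}
    {W : Submodule F V} (hW : Module.finrank F W = k) {v : Fin k → V} (hv : LinearIndependent F v)
    (hm : ∀ i, v i ∈ W) : Submodule.span F (Set.range v) = W :=
  Submodule.eq_of_le_of_finrank_le (Submodule.span_le.2 (by rintro _ ⟨i, rfl⟩; exact hm i))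
    (by rw [finrank_span_eq_card hv, hW, Fintype.card_fin])

theorem isTIFam_map {k : ℕ} (A : Matrix.symplecticGroup (Fin m) F) {v : Fin k → (Fin m ⊕ Fin m → F)}
    (hv : IsTIFam v) : IsTIFam fun i => A.1 *ᵥ v i := by
  refine ⟨?_, fun i j => ?_⟩
  · have : LinearIndependent F ((spEquiv m F A).toLinearMap ∘ v) := hv.1.map' _ (spEquiv m F A).ker
    exact this
  · have := spEquiv_preserves m F A (v i) (v j)
    rw [spEquiv_apply, spEquiv_apply, sympBilin_apply, sympBilin_apply] at this
    rw [this, hv.2]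

theorem tiFam_transitive {k : ℕ} {v w : Fin k → (Fin m ⊕ Fin m → F)} (hv : IsTIFam v) (hw : IsTIFam w) :
    ∃ A : Matrix.symplecticGroup (Fin m) F, ∀ i, A.1 *ᵥ v i = w i :=
  sp_extend m F v w hv.1 hw.1 fun i j => by rw [hv.2, hw.2]

variable [Fintype F]

instance finite_sp : Finite (Matrix.symplecticGroup (Fin m) F) :=
  Finite.of_injective (fun A => (A : Matrix (Fin m ⊕ Fin m) (Fin m ⊕ Fin m) F)) Subtype.val_injective

/-- The stabiliser of a totally isotropic subspace. -/
theorem card_stab_ti {k : ℕ} {W : Submodule F (Fin m ⊕ Fin m → F)} (hWk : Module.finrank F W = k)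
    (hW : ∀ u ∈ W, ∀ v ∈ W, Cfsg.sympForm m F u v = 0) :
    Nat.card ↥(Cfsg.stabilizing (Cfsg.spToMat m F) (W : Set (Fin m ⊕ Fin m → F))) *
        ∏ i ∈ Finset.range k, (Fintype.card F ^ (2 * m - i) - Fintype.card F ^ i) =
      Nat.card (Matrix.symplecticGroup (Fin m) F) *
        ∏ i : Fin k, (Fintype.card F ^ k - Fintype.card F ^ (i : ℕ)) := by
  set b := Module.finBasisOfFinrankEq F W hWk
  set x : Fin k → (Fin m ⊕ Fin m → F) := fun i => (b i : Fin m ⊕ Fin m → F)
  have hxli : LinearIndependent F x := b.linearIndependent.map' W.subtype W.ker_subtype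
  have hspan := span_eq_of_famIn hWk hxli (fun i => (b i).2)
  rw [← Nat.card_eq_fintype_card (α := F), ← card_tiFam k, Nat.card_eq_fintype_card (α := F), ← card_famIn hWk]
  have hmem : ∀ A : Matrix.symplecticGroup (Fin m) F,
      A ∈ Cfsg.stabilizing (Cfsg.spToMat m F) (W : Set (Fin m ⊕ Fin m → F)) ↔
        ∀ i, A.1 *ᵥ x i ∈ W := by
    intro A
    constructor
    · exact fun h i => (h _).1 (b i).2
    · intro h v
      have hmap : W.map (spEquiv m F A).toLinearMap = W := by
        rw [← hspan, Submodule.map_span, ← Set.range_comp]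
        refine (span_eq_of_famIn hWk (hxli.map' _ (spEquiv m F A).ker) fun i => ?_).trans hspan.symm
        exact h i
      show v ∈ W ↔ A.1 *ᵥ v ∈ W
      constructor
      · intro hv; rw [← hmap]; exact ⟨v, hv, rfl⟩
      · intro hv
        rw [← hmap] at hv
        obtain ⟨u, hu, e⟩ := hv
        rwa [← (spEquiv m F A).injective (e : spEquiv m F A u = spEquiv m F A v)]
  exact card_stab_mul (Cfsg.spToMat m F) IsTIFam (fun A v hv => isTIFam_map A hv)
    (fun v w hv hw => tiFam_transitive hv hw) _ ⟨hxli, fun i j => hW _ (b i).2 _ (b j).2⟩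
    (fun A hA => (hmem A).2 fun i => by rw [show A.1 *ᵥ x i = x i from hA i]; exact (b i).2)
    (fun v => LinearIndependent F v ∧ ∀ i, v i ∈ W)
    (fun v hv => ⟨hv.1, fun i j => hW _ (hv.2 i) _ (hv.2 j)⟩)
    (fun A hA => ⟨(isTIFam_map A ⟨hxli, fun i j => hW _ (b i).2 _ (b j).2⟩).1, (hmem A).1 hA⟩)
    (fun A hA => (hmem A).2 hA.2)

end Symp

end CfsgLib.Geometry.StabCount
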