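import Cfsg.Agent.Lib.Geometry.Hermitian
import Cfsg.Agent.Lib.Geometry.StabCount
import Cfsg.Agent.Lib.Classical.UnitaryOrder

/-! Totally isotropic planes of Hermitian spaces. -/

set_option autoImplicit false

namespace CfsgLib.Geometry.HermCount

open Matrix CfsgLib.Geometry CfsgLib.Classical

variable {F : Type*} [Field F] [Finite F] {q : ℕ}

/-- Counting subspaces by their spanning families. -/
theorem card_subspaces_mul {V : Type*} [AddCommGroup V] [Module F V] [Module.Finite F V] {k : ℕ}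
    (P : Submodule F V → Prop) :
    Nat.card {W : Submodule F V // Module.finrank F W = k ∧ P W} *
        ∏ i : Fin k, (Nat.card F ^ k - Nat.card F ^ (i : ℕ)) =
      Nat.card {v : Fin k → V // LinearIndependent F v ∧ P (Submodule.span F (Set.range v))} := by
  classical
  haveI := Fintype.ofFinite F
  haveI : Finite V := Module.finite_of_finite F
  haveI : Finite (Submodule F V) := Finite.of_injective _ SetLike.coe_injective
  let A := {W : Submodule F V // Module.finrank F W = k ∧ P W}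
  haveI : Fintype A := Fintype.ofFinite A
  let g : {v : Fin k → V // LinearIndependent F v ∧ P (Submodule.span F (Set.range v))} ≃
      Σ W : A, {v : Fin k → V // LinearIndependent F v ∧ ∀ i, v i ∈ W.1} :=
    { toFun := fun v => ⟨⟨Submodule.span F (Set.range v.1),
        by rw [finrank_span_eq_card v.2.1, Fintype.card_fin], v.2.2⟩,
        ⟨v.1, v.2.1, fun i => Submodule.subset_span ⟨i, rfl⟩⟩⟩
      invFun := fun p => ⟨p.2.1, p.2.2.1, by
        rw [StabCount.span_eq_of_famIn p.1.2.1 p.2.2.1 p.2.2.2]; exact p.1.2.2⟩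
      left_inv := fun v => rfl
      right_inv := fun p => by
        obtain ⟨⟨W, hW⟩, v, hv⟩ := p
        obtain rfl := StabCount.span_eq_of_famIn hW.1 hv.1 hv.2
        rfl }
  rw [Nat.card_congr g, Nat.card_sigma, Finset.sum_congr rfl fun W _ => StabCount.card_famIn W.2.1,
    Finset.sum_const, Finset.card_univ, smul_eq_mul, Nat.card_eq_fintype_card, Nat.card_eq_fintype_card]

/-- The isotropic vectors orthogonal to a non-zero isotropic one. -/
theorem card_perp_iso (hF : Nat.card F = q ^ 2) (n : ℕ) {v : Fin (n + 2) → F} (hv : v ≠ 0)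
    (hvv : Cfsg.hermForm (n + 2) F q v v = 0) :
    Nat.card {w : Fin (n + 2) → F // Cfsg.hermForm (n + 2) F q w w = 0 ∧ Cfsg.hermForm (n + 2) F q w v = 0} =
      q ^ 2 * normCount F q n 0 := by
  obtain ⟨σ, hσ, hσne, hσ2⟩ := exists_frob hF
  have hq : q ≠ 0 := by have := two_le_q hF; omega
  obtain ⟨t, ht⟩ := exists_pow_succ_eq hF (c := (-1 : F)) (by rw [← hσ, map_neg, map_one])
  let v₀ : Fin (n + 2) → F := Fin.cons 1 (Fin.cons t 0)
  have hv₀ : v₀ ≠ 0 := fun h => by simpa [v₀] using congrFun h 0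
  have hv₀₀ : Cfsg.hermForm (n + 2) F q v₀ v₀ = 0 := by
    rw [hermForm_self, Fin.sum_univ_succ, Fin.sum_univ_succ]
    simp [v₀, ht]
  have hli : ∀ u : Fin (n + 2) → F, u ≠ 0 → LinearIndependent F ![u] := fun u hu =>
    linearIndependent_unique_iff.2 (by simpa using hu)
  obtain ⟨g, hg, hgv⟩ := herm_extend (B := hermB σ (n + 2)) hσne hσ2 (hermB_isSymm hσ2 _) (hermB_nondeg hσ2 _)
    ![v] ![v₀] (hli v hv) (hli v₀ hv₀) fun i j => by simp [hermB_eq hσ, hvv, hv₀₀]
  have hg' : ∀ a b, Cfsg.hermForm (n + 2) F q (g a) (g b) = Cfsg.hermForm (n + 2) F q a b := fun a b => by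
    rw [← hermB_eq hσ, ← hermB_eq hσ]; exact hg b a
  have hgv' : g v = v₀ := by simpa using hgv 0
  rw [Nat.card_congr ((g.toEquiv).subtypeEquiv
    (q := fun w => Cfsg.hermForm (n + 2) F q w w = 0 ∧ Cfsg.hermForm (n + 2) F q w v₀ = 0)
    fun w => by rw [LinearEquiv.coe_toEquiv, ← hgv', hg', hg'])]
  have hts : (t ^ q) ^ (q + 1) = -1 := by rw [← pow_mul, mul_comm, pow_mul, ht, ← hσ, map_neg, map_one]
  have key : ∀ w : Fin (n + 2) → F,
      (Cfsg.hermForm (n + 2) F q w w = 0 ∧ Cfsg.hermForm (n + 2) F q w v₀ = 0) ↔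
        (w 0 = -(w 1 * t ^ q) ∧ ∑ i : Fin n, w i.succ.succ ^ (q + 1) = 0) := by
    intro w
    have h1 : Cfsg.hermForm (n + 2) F q w v₀ = w 0 + w 1 * t ^ q := by
      rw [Cfsg.hermForm, Fin.sum_univ_succ, Fin.sum_univ_succ]
      simp [v₀, hq]
    rw [h1, hermForm_self, Fin.sum_univ_succ, Fin.sum_univ_succ]
    have h2 : w 0 = -(w 1 * t ^ q) → w 0 ^ (q + 1) + w 1 ^ (q + 1) = 0 := fun h => by
      rw [h, neg_pow, mul_pow, hts]
      have : ((-1 : F)) ^ (q + 1) = 1 := by rw [pow_succ, ← hσ, map_neg, map_one]; ring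
      rw [this]; ring
    constructor
    · rintro ⟨ha, hb⟩
      have hb' := eq_neg_of_add_eq_zero_left hb
      refine ⟨hb', ?_⟩
      rw [← add_assoc] at ha
      simpa [h2 hb'] using ha
    · rintro ⟨ha, hb⟩
      refine ⟨?_, by rw [ha]; ring⟩
      rw [← add_assoc, show (Fin.succ 0 : Fin (n + 2)) = 1 from rfl, h2 ha, zero_add, hb]
  let e : {w : Fin (n + 2) → F // w 0 = -(w 1 * t ^ q) ∧ ∑ i : Fin n, w i.succ.succ ^ (q + 1) = 0} ≃
      F × {u : Fin n → F // ∑ i, u i ^ (q + 1) = 0} :=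
    { toFun := fun w => (w.1 1, ⟨fun i => w.1 i.succ.succ, w.2.2⟩)
      invFun := fun p => ⟨Fin.cons (-(p.1 * t ^ q)) (Fin.cons p.1 p.2.1), by simp, by simpa using p.2.2⟩
      left_inv := fun w => Subtype.ext (funext fun i => by
        induction i using Fin.cases with
        | zero => simpa using w.2.1.symm
        | succ i => induction i using Fin.cases <;> simp)
      right_inv := fun p => by simp }
  rw [Nat.card_congr ((Equiv.subtypeEquivRight key).trans e), Nat.card_prod, hF]
  rfl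

/-- Totally isotropic planes. -/
theorem card_ti_planes (hF : Nat.card F = q ^ 2) (n : ℕ) :
    Nat.card {W : Submodule F (Fin (n + 2) → F) // Module.finrank F W = 2 ∧
        ∀ u ∈ W, ∀ v ∈ W, Cfsg.hermForm (n + 2) F q u v = 0} *
      ((q ^ 4 - 1) * (q ^ 4 - q ^ 2)) =
    (normCount F q (n + 2) 0 - 1) * (q ^ 2 * normCount F q n 0 - q ^ 2) := by
  classical
  haveI := Fintype.ofFinite F
  obtain ⟨σ, hσ, hσne, hσ2⟩ := exists_frob hF
  have hsym : ∀ a b : Fin (n + 2) → F,
      Cfsg.hermForm (n + 2) F q a b = 0 → Cfsg.hermForm (n + 2) F q b a = 0 := fun a b h => by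
    rw [← hermB_eq hσ] at h ⊢
    rw [← (hermB_isSymm hσ2 _).eq, h, map_zero]
  have h := card_subspaces_mul (F := F) (V := Fin (n + 2) → F) (k := 2)
    (fun W => ∀ u ∈ W, ∀ v ∈ W, Cfsg.hermForm (n + 2) F q u v = 0)
  rw [Fin.prod_univ_two, hF] at h
  simp only [Fin.val_zero, Fin.val_one, pow_zero, pow_one, ← pow_mul] at h
  rw [h]
  let A := {v : Fin (n + 2) → F // v ≠ 0 ∧ Cfsg.hermForm (n + 2) F q v v = 0}
  let B := fun v : A => {w : Fin (n + 2) → F //
    (Cfsg.hermForm (n + 2) F q w w = 0 ∧ Cfsg.hermForm (n + 2) F q w v.1 = 0) ∧ w ∉ Submodule.span F {v.1}}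
  have hTI : ∀ v : Fin 2 → Fin (n + 2) → F,
      (∀ u ∈ Submodule.span F (Set.range v), ∀ w ∈ Submodule.span F (Set.range v),
        Cfsg.hermForm (n + 2) F q u w = 0) ↔ ∀ i j, Cfsg.hermForm (n + 2) F q (v i) (v j) = 0 := by
    refine fun v => ⟨fun h i j => h _ (Submodule.subset_span ⟨i, rfl⟩) _ (Submodule.subset_span ⟨j, rfl⟩), ?_⟩
    intro h u hu w hw
    rw [← hermB_eq hσ]
    obtain ⟨a, rfl⟩ := (Submodule.mem_span_range_iff_exists_fun F).1 hu
    obtain ⟨b, rfl⟩ := (Submodule.mem_span_range_iff_exists_fun F).1 hw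
    simp only [map_sum, LinearMap.map_smulₛₗ, LinearMap.sum_apply, LinearMap.smul_apply, RingHom.id_apply]
    simp [hermB_eq hσ, h]
  let e : {v : Fin 2 → Fin (n + 2) → F // LinearIndependent F v ∧
      ∀ u ∈ Submodule.span F (Set.range v), ∀ w ∈ Submodule.span F (Set.range v),
        Cfsg.hermForm (n + 2) F q u w = 0} ≃ Σ v : A, B v :=
    { toFun := fun v => ⟨⟨v.1 0, v.2.1.ne_zero 0, (hTI _).1 v.2.2 0 0⟩,
        v.1 1, ⟨(hTI _).1 v.2.2 1 1, (hTI _).1 v.2.2 1 0⟩, fun hh => by
          obtain ⟨c, hc⟩ := Submodule.mem_span_singleton.1 hh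
          exact (LinearIndependent.pair_iff' (v.2.1.ne_zero 0)).1
            (by rw [show ![v.1 0, v.1 1] = v.1 from funext fun i => by fin_cases i <;> rfl]; exact v.2.1) c hc⟩
      invFun := fun p => ⟨![p.1.1, p.2.1], (LinearIndependent.pair_iff' p.1.2.1).2
          fun c hc => p.2.2.2 (Submodule.mem_span_singleton.2 ⟨c, hc⟩),
        (hTI _).2 fun i j => by
          fin_cases i <;> fin_cases j
          · exact p.1.2.2
          · exact hsym _ _ p.2.2.1.2
          · exact p.2.2.1.2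
          · exact p.2.2.1.1⟩
      left_inv := fun v => Subtype.ext (funext fun i => by fin_cases i <;> rfl)
      right_inv := fun p => rfl }
  have hA : Nat.card A = normCount F q (n + 2) 0 - 1 := by
    have : normCount F q (n + 2) 0 = Nat.card A + 1 := by
      rw [normCount]
      simp only [← hermForm_self]
      rw [← Nat.card_congr (Equiv.sumCompl fun v : {v : Fin (n + 2) → F // Cfsg.hermForm (n + 2) F q v v = 0} => v.1 = 0),
        Nat.card_sum, add_comm]
      congr 1
      · exact Nat.card_congr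
          { toFun := fun v => ⟨v.1.1, v.2, v.1.2⟩
            invFun := fun v => ⟨⟨v.1, v.2.2⟩, v.2.1⟩
            left_inv := fun v => rfl
            right_inv := fun v => rfl }
      · haveI : Unique {v : {v : Fin (n + 2) → F // Cfsg.hermForm (n + 2) F q v v = 0} // v.1 = 0} :=
          { default := ⟨⟨0, by simp [← hermB_eq hσ]⟩, rfl⟩
            uniq := fun v => Subtype.ext (Subtype.ext v.2) }
        exact Nat.card_unique
    omega
  have hB : ∀ v : A, Nat.card (B v) = q ^ 2 * normCount F q n 0 - q ^ 2 := by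
    intro v
    rw [← card_perp_iso hF n v.2.1 v.2.2, show q ^ 2 = Nat.card (Submodule.span F {v.1}) by
      rw [Module.natCard_eq_pow_finrank (K := F), finrank_span_singleton v.2.1, pow_one, hF]]
    let T : Set (Fin (n + 2) → F) := {w | Cfsg.hermForm (n + 2) F q w w = 0 ∧ Cfsg.hermForm (n + 2) F q w v.1 = 0}
    show Nat.card ↥(T \ (Submodule.span F {v.1} : Set (Fin (n + 2) → F))) = Nat.card ↥T - _
    rw [Nat.card_coe_set_eq, Set.ncard_sdiff ?_ (Set.toFinite _), Nat.card_coe_set_eq, ← Nat.card_coe_set_eq]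
    · rfl
    · intro w hw
      obtain ⟨c, rfl⟩ := Submodule.mem_span_singleton.1 hw
      have := v.2.2
      simp [T, ← hermB_eq hσ] at this ⊢
      simp [this]
  haveI : Fintype A := Fintype.ofFinite A
  rw [Nat.card_congr e, Nat.card_sigma, Finset.sum_congr rfl fun v _ => hB v, Finset.sum_const,
    Finset.card_univ, ← Nat.card_eq_fintype_card, hA, smul_eq_mul]

end CfsgLib.Geometry.HermCount
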