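import Cfsg.Agent.Lib.Geometry.AltInvolutions
import Cfsg.Agent.Lib.Geometry.Symplectic
import Cfsg.Agent.Lib.Geometry.POmegaStd
import Cfsg.Agent.Lib.Classical.SympSimple

/-! `PΩ` in odd dimension has more involution classes than `PSp` of the same rank. -/

set_option autoImplicit false

namespace CfsgLib.Geometry

open QuadraticMap

universe u v

/-- Orthonormal families of any proper size in odd characteristic. -/
theorem exists_orth_ones {F : Type u} [Field F] [Finite F] (h2 : (2 : F) ≠ 0) (k : ℕ) :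
    ∀ {V : Type v} [AddCommGroup V] [Module F V] [FiniteDimensional F V] (Q : QuadraticForm F V),
    (polarBilin Q).Nondegenerate → k < Module.finrank F V →
    ∃ a : Fin k → V, (∀ i, Q (a i) = 1) ∧ ∀ i j, i ≠ j → polar Q (a i) (a j) = 0 := by
  induction k with
  | zero => exact fun Q _ _ => ⟨fun i => i.elim0, fun i => i.elim0, fun i => i.elim0⟩
  | succ k ih =>
    intro V _ _ _ Q hQ hk
    obtain ⟨a, ha⟩ := exists_represents hQ (by omega) 1
    let W : Submodule F V := LinearMap.ker (polarBilin Q a)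
    have haa : polar Q a a = 2 := by rw [polar_self' Q a, ha]; norm_num
    have hQW : (polarBilin (Q.comp W.subtype)).Nondegenerate := by
      have hl : ∀ x : W, (∀ y : W, polar Q (x : V) (y : V) = 0) → x = 0 := fun x hx => by
        refine Subtype.ext (hQ.1 _ fun y => ?_)
        have hxa : polar Q (x : V) a = 0 := by rw [QuadraticMap.polar_comm]; exact x.2
        have hy : y - (2⁻¹ * polar Q a y) • a ∈ W := by
          show polarBilin Q a _ = 0
          rw [map_sub, map_smul, polarBilin_apply_apply, polarBilin_apply_apply, haa, smul_eq_mul]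
          field_simp
          ring
        have := hx ⟨_, hy⟩
        rw [← polarBilin_apply_apply, map_sub, map_smul, polarBilin_apply_apply,
          polarBilin_apply_apply, hxa, smul_zero, sub_zero] at this
        exact this
      have hp : ∀ x y : W, polar (Q.comp W.subtype) x y = polar Q (x : V) (y : V) := fun x y => by
        simp [QuadraticMap.polar]
      exact ⟨fun x hx => hl x fun y => (hp x y).symm.trans (hx y), fun y hy => hl y fun x =>
        by rw [QuadraticMap.polar_comm]; exact (hp x y).symm.trans (hy x)⟩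
    have hr := LinearMap.finrank_range_add_finrank_ker (polarBilin Q a)
    have hr' : Module.finrank F (LinearMap.range (polarBilin Q a)) ≤ 1 :=
      le_trans (Submodule.finrank_le _) (by simp)
    obtain ⟨b, hb, hbb⟩ := ih (Q.comp W.subtype) hQW (by
      show k < Module.finrank F (LinearMap.ker (polarBilin Q a)); omega)
    refine ⟨Fin.cons a fun i => (b i : V), fun i => ?_, fun i j hij => ?_⟩
    · cases i using Fin.cases <;> simp [ha]
      exact hb _
    · cases i using Fin.cases <;> cases j using Fin.cases <;> simp at hij ⊢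
      · exact (b _).2
      · rw [QuadraticMap.polar_comm]; exact (b _).2
      · simpa [QuadraticMap.polar] using hbb _ _ hij

variable {F : Type u} [Field F] [Finite F] {V : Type v} [AddCommGroup V] [Module F V]
  [FiniteDimensional F V] {Q : QuadraticForm F V}

/-- The product of the reflections in an orthonormal family. -/
theorem exists_refl_prod (hQ : (polarBilin Q).Nondegenerate) (hR : reflGroup Q = orth Q) (k : ℕ) :
    ∀ a : Fin k → V, (∀ i, Q (a i) = 1) → (∀ i j, i ≠ j → polar Q (a i) (a j) = 0) →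
    ∃ g : orth Q, orthInvariant hQ hR g = (1, Multiplicative.ofAdd (k : ZMod 2)) ∧
      ∀ x, (g : V ≃ₗ[F] V) x = x - ∑ i, polar Q x (a i) • a i := by
  induction k with
  | zero => exact fun a _ _ => ⟨1, by simp; rfl, fun x => by simp⟩
  | succ k ih =>
    intro a ha hab
    obtain ⟨g, hg, hgx⟩ := ih (fun i => a i.castSucc) (fun i => ha _)
      (fun i j hij => hab _ _ (fun h => hij (Fin.castSucc_injective _ h)))
    have hne : Q (a (Fin.last k)) ≠ 0 := by rw [ha]; exact one_ne_zero
    have h1 : sqMk hne = 1 := (sqMk_eq_one_iff hne).2 (by rw [ha]; exact IsSquare.one)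
    refine ⟨g * oRefl Q _ hne, ?_, fun x => ?_⟩
    · rw [map_mul, hg, orthInvariant_oRefl, h1, Prod.mk_mul_mk, one_mul, ← ofAdd_add]
      push_cast
      rfl
    · show (g : V ≃ₗ[F] V) (refl Q _ hne x) = _
      have hfix : (g : V ≃ₗ[F] V) (a (Fin.last k)) = a (Fin.last k) := by
        rw [hgx, Finset.sum_eq_zero (fun i _ => by
          rw [hab _ _ (Fin.castSucc_ne_last i).symm, zero_smul]), sub_zero]
      rw [refl_apply, ha, inv_one, one_mul, map_sub, map_smul, hgx, hfix, Fin.sum_univ_castSucc,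
        sub_sub]

omit [Finite F] in
theorem movSpace_refl_prod (h2 : (2 : F) ≠ 0) {k : ℕ} {a : Fin k → V} (ha : ∀ i, Q (a i) = 1)
    (hab : ∀ i j, i ≠ j → polar Q (a i) (a j) = 0) {g : V ≃ₗ[F] V}
    (hgx : ∀ x, g x = x - ∑ i, polar Q x (a i) • a i) :
    Module.finrank F (movSpace g) = k ∧ ∀ i, g (a i) = -a i := by
  have hs : ∀ i, ∑ j, polar Q (a i) (a j) • a j = (2 : F) • a i := fun i => by
    rw [Finset.sum_eq_single i (fun j _ hj => by rw [hab _ _ hj.symm, zero_smul])
      (fun h => absurd (Finset.mem_univ i) h), polar_self' Q (a i), ha, mul_one]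
  have hga : ∀ i, g (a i) = -a i := fun i => by rw [hgx, hs, two_smul]; abel
  refine ⟨?_, hga⟩
  have hli : LinearIndependent F a := by
    rw [Fintype.linearIndependent_iff]
    intro c hc i
    have e := congrArg (polarBilin Q (a i)) hc
    rw [map_sum, map_zero, Finset.sum_eq_single i (fun j _ hj => by
      rw [map_smul, polarBilin_apply_apply, hab _ _ hj.symm, smul_zero])
      (fun h => absurd (Finset.mem_univ i) h), map_smul, polarBilin_apply_apply,
      polar_self' Q (a i), ha, mul_one, smul_eq_mul] at e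
    exact (mul_eq_zero.1 e).resolve_right h2
  have hspan : movSpace g = Submodule.span F (Set.range a) := by
    refine le_antisymm ?_ (Submodule.span_le.2 ?_)
    · rintro _ ⟨x, rfl⟩
      rw [movMap_apply, hgx, sub_sub_cancel]
      exact Submodule.sum_mem _ fun i _ => Submodule.smul_mem _ _ (Submodule.subset_span ⟨i, rfl⟩)
    · rintro _ ⟨i, rfl⟩
      refine ⟨(2⁻¹ : F) • a i, ?_⟩
      rw [movMap_apply, map_smul, hga, smul_neg, sub_neg_eq_add, ← two_smul F, smul_smul,
        mul_inv_cancel₀ h2, one_smul]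
  rw [hspan, finrank_span_eq_card hli, Fintype.card_fin]

omit [Finite F] in
theorem finrank_movSpace_of_semiconj {g h c : V ≃ₗ[F] V} (e : ∀ x, c (g x) = h (c x)) :
    Module.finrank F (movSpace g) = Module.finrank F (movSpace h) := by
  have : (movSpace g).map c.toLinearMap = movSpace h := by
    refine le_antisymm ?_ ?_
    · rintro _ ⟨_, ⟨x, rfl⟩, rfl⟩
      exact ⟨c x, by rw [movMap_apply, LinearEquiv.coe_coe, movMap_apply, map_sub, e]⟩
    · rintro _ ⟨y, rfl⟩
      refine ⟨_, ⟨c.symm y, rfl⟩, ?_⟩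
      rw [LinearEquiv.coe_coe, movMap_apply, map_sub, e, LinearEquiv.apply_symm_apply, movMap_apply]
  rw [← this, LinearEquiv.finrank_map_eq]

/-- At least `m` involution classes in `Ω_{2m+1}`. -/
theorem exists_involutions_omega (h2 : (2 : F) ≠ 0) (hQ : (polarBilin Q).Nondegenerate) (m : ℕ)
    (hm : 1 ≤ m) (hn : Module.finrank F V = 2 * m + 1) :
    ∃ x : Fin m → commutator (orth Q), (∀ i, x i * x i = 1) ∧ (∀ i, x i ≠ 1) ∧
      ∀ i j, IsConj (x i) (x j) → i = j := by
  have hR := reflGroup_eq_orth hQ (Or.inl (by omega))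
  have hker := ker_orthInvariant hQ (by omega) h2 hR
  have key : ∀ i : Fin m, ∃ g : commutator (orth Q), g * g = 1 ∧
      Module.finrank F (movSpace ((g : orth Q) : V ≃ₗ[F] V)) = 2 * ((i : ℕ) + 1) := by
    intro i
    obtain ⟨a, ha, hab⟩ := exists_orth_ones h2 (2 * ((i : ℕ) + 1)) Q hQ (by omega)
    obtain ⟨g, hg, hgx⟩ := exists_refl_prod hQ hR _ a ha hab
    obtain ⟨hf, hga⟩ := movSpace_refl_prod h2 ha hab hgx
    refine ⟨⟨g, ?_⟩, Subtype.ext (Subtype.ext (LinearEquiv.ext fun x => ?_)), hf⟩
    · rw [← hker, MonoidHom.mem_ker, hg]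
      exact Prod.ext rfl (by
        rw [Nat.cast_mul, show ((2 : ℕ) : ZMod 2) = 0 from rfl, zero_mul, ofAdd_zero]; rfl)
    · show (g : V ≃ₗ[F] V) ((g : V ≃ₗ[F] V) x) = x
      conv_lhs => rw [hgx x, map_sub, map_sum]
      simp only [map_smul, hga, hgx x, smul_neg, Finset.sum_neg_distrib]
      abel
  choose x hx hxf using key
  refine ⟨x, hx, fun i h => ?_, fun i j hij => ?_⟩
  · have := hxf i
    rw [h] at this
    rw [show (((1 : commutator (orth Q)) : orth Q) : V ≃ₗ[F] V) = 1 from rfl, movSpace_one,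
      finrank_bot] at this
    omega
  · obtain ⟨c, hc⟩ := isConj_iff.1 hij
    have e : x i = c⁻¹ * x j * c := by rw [← hc]; group
    have h1 : c * x i = x j * c := by rw [e]; group
    have := finrank_movSpace_of_semiconj (g := ((x i : orth Q) : V ≃ₗ[F] V))
      (h := ((x j : orth Q) : V ≃ₗ[F] V)) (c := ((c : orth Q) : V ≃ₗ[F] V))
      (fun v => congrArg (fun z : commutator (orth Q) => ((z : orth Q) : V ≃ₗ[F] V) v) h1)
    rw [hxf, hxf] at this
    exact Fin.ext (by omega)

/-- In odd dimension `Ω` has trivial centre. -/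
theorem center_omega_odd (h2 : (2 : F) ≠ 0) (hQ : (polarBilin Q).Nondegenerate)
    (hn : 5 ≤ Module.finrank F V) (hodd : Odd (Module.finrank F V)) :
    Subgroup.center (commutator (orth Q)) = ⊥ := by
  classical
  have h := card_center_omega hQ hn
  have hne : ¬ ((2 : F) ≠ 0 ∧ ∃ g : commutator (orth Q), ∀ v,
      ((g : orth Q) : V ≃ₗ[F] V) v = -v) := by
    rintro ⟨-, g, hg⟩
    have hk := Abelianization.commutator_subset_ker
      ((LinearEquiv.det : (V ≃ₗ[F] V) →* Fˣ).comp (orth Q).subtype) g.2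
    have hk' := congrArg Units.val (MonoidHom.mem_ker.1 hk)
    rw [MonoidHom.comp_apply, Subgroup.coe_subtype, LinearEquiv.coe_det, Units.val_one,
      show ((g : orth Q) : V ≃ₗ[F] V).toLinearMap = (-1 : F) • LinearMap.id from
        LinearMap.ext fun v => by simp [hg], LinearMap.det_smul, LinearMap.det_id, mul_one,
      hodd.neg_one_pow] at hk'
    exact h2 (by linear_combination (-1 : F) * hk')
  rw [if_neg hne] at h
  exact Subgroup.card_eq_one.1 h

/-- Classes of involutions in `PSp`: a complete invariant with `⌊m/2⌋ + 1` values. -/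
theorem exists_psp_invariant (h2 : (2 : F) ≠ 0) (m : ℕ) (hm : 1 ≤ m)
    (y : Cfsg.PSp m F) (hy : y * y = 1) (hy1 : y ≠ 1) :
    ∃ (c : Option (Fin (m / 2))) (A : Matrix.symplecticGroup (Fin m) F),
      QuotientGroup.mk A = y ∧
      match c with
      | none => ∀ x, spEquiv m F A (spEquiv m F A x) = -x
      | some j => (∀ x, spEquiv m F A (spEquiv m F A x) = x) ∧
          Module.finrank F (negSpace (spEquiv m F A)) = 2 * ((j : ℕ) + 1) := by
  haveI : Nonempty (Fin m) := ⟨⟨0, hm⟩⟩
  obtain ⟨A, rfl⟩ := QuotientGroup.mk_surjective y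
  rw [← QuotientGroup.mk_mul, QuotientGroup.eq_one_iff,
    CfsgLib.Classical.mem_center_sp_iff] at hy
  rw [Ne, QuotientGroup.eq_one_iff, CfsgLib.Classical.mem_center_sp_iff] at hy1
  have e : ∀ x, spEquiv m F A (spEquiv m F A x) = ((A * A).1).mulVec x := fun x => by
    simp [Matrix.mulVec_mulVec]
  rcases hy with hy | hy
  swap
  · exact ⟨none, A, rfl, fun x => by rw [e, hy, Matrix.neg_mulVec, Matrix.one_mulVec]⟩
  have hA2 : ∀ x, spEquiv m F A (spEquiv m F A x) = x := fun x => by
    rw [e, hy, Matrix.one_mulVec]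
  let Z : Matrix.symplecticGroup (Fin m) F := ⟨-1, SymplecticGroup.neg_mem (one_mem _)⟩
  have hZ : Z ∈ Subgroup.center (Matrix.symplecticGroup (Fin m) F) :=
    CfsgLib.Classical.mem_center_sp_iff.2 (Or.inr rfl)
  have hB : ∀ x, spEquiv m F (A * Z) x = -spEquiv m F A x := fun x => by simp [Z, Matrix.neg_mulVec, Matrix.mulVec_neg]
  have hB2 : ∀ x, spEquiv m F (A * Z) (spEquiv m F (A * Z) x) = x := fun x => by
    rw [hB, hB, map_neg, neg_neg, hA2]
  have hmk : (QuotientGroup.mk (A * Z) : Cfsg.PSp m F) = QuotientGroup.mk A := by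
    rw [QuotientGroup.eq]
    have : (A * Z)⁻¹ * A = Z⁻¹ := by group
    rw [this]
    exact inv_mem hZ
  have hnd := fun (S : Matrix.symplecticGroup (Fin m) F)
      (hS : ∀ x, spEquiv m F S (spEquiv m F S x) = x) =>
    finrank_eq_two_mul (sympBilin_isAlt m F) _
      (negSpace_nondeg h2 (sympBilin_nondegenerate m F) (spEquiv_preserves m F S) hS)
  obtain ⟨j₁, hj₁⟩ := hnd A hA2
  obtain ⟨j₂, hj₂⟩ := hnd (A * Z) hB2
  have hsum := finrank_negSpace_add h2 hA2 hB
  have hpos : ∀ S : Matrix.symplecticGroup (Fin m) F, ¬ (S.1 = 1) →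
      (∀ x, spEquiv m F S (spEquiv m F S x) = x) →
      0 < Module.finrank F (negSpace (spEquiv m F S)) := fun S hS hS2 => by
    by_contra h0
    have hbot : negSpace (spEquiv m F S) = ⊥ := Submodule.finrank_eq_zero.1 (by omega)
    refine hS (matrix_eq_of_mulVec fun x => ?_)
    have hm' : x - spEquiv m F S x ∈ negSpace (spEquiv m F S) :=
      mem_negSpace.2 (by rw [map_sub, hS2, neg_sub])
    rw [hbot, Submodule.mem_bot, sub_eq_zero] at hm'
    rw [Matrix.one_mulVec, ← spEquiv_apply]
    exact hm'.symm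
  have h1 := hpos A (fun h => hy1 (Or.inl h)) hA2
  have h3 := hpos (A * Z) (fun h => hy1 (Or.inr (by
    have : (A * Z).1 = -A.1 := by simp [Z]
    rw [this] at h
    rw [← h, neg_neg]))) hB2
  rw [Module.finrank_fintype_fun_eq_card, Fintype.card_sum, Fintype.card_fin, hj₁, hj₂] at hsum
  rcases le_total j₁ j₂ with hle | hle
  · exact ⟨some ⟨j₁ - 1, by omega⟩, A, rfl, hA2, by simp only; omega⟩
  · exact ⟨some ⟨j₂ - 1, by omega⟩, A * Z, hmk, hB2, by simp only; omega⟩

/-- Elements of `PSp` with the same invariant are conjugate. -/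
theorem psp_conj_of_semiconj (m : ℕ) {A B : Matrix.symplecticGroup (Fin m) F}
    (h : ∃ g : (Fin m ⊕ Fin m → F) ≃ₗ[F] (Fin m ⊕ Fin m → F),
      (∀ x y, sympBilin m F (g x) (g y) = sympBilin m F x y) ∧
      ∀ x, g (spEquiv m F A x) = spEquiv m F B (g x)) :
    IsConj (QuotientGroup.mk A : Cfsg.PSp m F) (QuotientGroup.mk B) := by
  obtain ⟨g, hg, hgx⟩ := h
  obtain ⟨C, rfl⟩ := exists_spEquiv_eq m F g hg
  have : C * A = B * C := spEquiv_injective m F (LinearEquiv.ext fun x => by
    rw [map_mul, map_mul, LinearEquiv.mul_apply, LinearEquiv.mul_apply]; exact hgx x)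
  refine isConj_iff.2 ⟨QuotientGroup.mk C, ?_⟩
  rw [← QuotientGroup.mk_inv, ← QuotientGroup.mk_mul, ← QuotientGroup.mk_mul, this,
    mul_inv_cancel_right]

omit [AddCommGroup V] [Module F V] [FiniteDimensional F V] in
theorem psp_not_equiv_pOmega_odd (h2 : (2 : F) ≠ 0) (m : ℕ) (hm : 3 ≤ m) :
    IsEmpty (Cfsg.PSp m F ≃* Cfsg.POmega F (Cfsg.quadFormOdd m F)) := by
  refine ⟨fun e => ?_⟩
  have hQ := nondegenerate_matQuad (M := oddMat m F) (by rw [det_odd_gram]; simp [h2])
  have hfr : Module.finrank F (Unit ⊕ (Fin m ⊕ Fin m) → F) = 2 * m + 1 := by simp; omega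
  obtain ⟨x, hx, hx1, hxc⟩ := exists_involutions_omega h2 hQ m (by omega) hfr
  have hc := center_omega_odd h2 hQ (by omega) ⟨m, hfr⟩
  rw [← coe_matQuad_odd] at e
  let φ : commutator (orth (matQuad (oddMat m F))) →* Cfsg.PSp m F :=
    ((e.trans (pOmegaEquiv _)).symm.toMonoidHom).comp (QuotientGroup.mk' _)
  have hφ : Function.Bijective φ :=
    (e.trans (pOmegaEquiv _)).symm.bijective.comp
      ⟨(MonoidHom.ker_eq_bot_iff (QuotientGroup.mk' (Subgroup.center
          (commutator (orth (matQuad (oddMat m F))))))).1 ((QuotientGroup.ker_mk' _).trans hc),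
        QuotientGroup.mk'_surjective _⟩
  have key := fun i => exists_psp_invariant h2 m (by omega) (φ (x i))
    (by rw [← map_mul, hx, map_one]) (fun h => hx1 i (hφ.1 (h.trans (map_one φ).symm)))
  choose c A hA hc' using key
  have hinj : Function.Injective c := fun i j hij => by
    have hi := hc' i
    have hj := hc' j
    rw [hij] at hi
    have hconj : IsConj (φ (x i)) (φ (x j)) := by
      rw [← hA i, ← hA j]
      refine psp_conj_of_semiconj m ?_
      cases hcj : c j with
      | none =>
        rw [hcj] at hi hj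
        exact alt_complex_conj h2 (sympBilin_nondegenerate m F) (sympBilin_isAlt m F)
          (spEquiv_preserves m F _) hi (spEquiv_preserves m F _) hj
      | some k =>
        rw [hcj] at hi hj
        exact alt_involution_conj h2 (sympBilin_nondegenerate m F) (sympBilin_isAlt m F)
          (spEquiv_preserves m F _) hi.1 (spEquiv_preserves m F _) hj.1 (hi.2.trans hj.2.symm)
    refine hxc i j ?_
    obtain ⟨d, hd⟩ := isConj_iff.1 hconj
    obtain ⟨d', rfl⟩ := hφ.2 d
    exact isConj_iff.2 ⟨d', hφ.1 (by rw [map_mul, map_mul, map_inv]; exact hd)⟩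
  have := Fintype.card_le_of_injective c hinj
  simp at this
  omega

end CfsgLib.Geometry
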