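import Cfsg.Agent.Lib.Geometry.OmegaIndex

/-! The isometry negating a nondegenerate subspace. -/

set_option autoImplicit false

namespace CfsgLib.Geometry

open QuadraticMap Matrix

variable {F V : Type*} [Field F] [AddCommGroup V] [Module F V] [FiniteDimensional F V]
variable {Q : QuadraticForm F V}

/-- Negation on the span of a family with nonsingular Gram matrix, and its invariant. -/
theorem exists_neg_isometry (hQ : (polarBilin Q).Nondegenerate) (hR : reflGroup Q = orth Q)
    (h2 : (2 : F) ≠ 0) {d : ℕ} (v : Fin d → V)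
    (hd : (Matrix.of fun i j => polar Q (v i) (v j)).det ≠ 0) :
    ∃ g : orth Q, (∀ x ∈ Submodule.span F (Set.range v), (g : V ≃ₗ[F] V) x = -x) ∧
      (∀ z, (∀ i, polar Q (v i) z = 0) → (g : V ≃ₗ[F] V) z = z) ∧
      (∀ z, ∃ x ∈ Submodule.span F (Set.range v), ∀ i, polar Q (v i) (z - x) = 0) ∧
      orthInvariant hQ hR g =
        (sqMk (mul_ne_zero (pow_ne_zero d h2) hd), Multiplicative.ofAdd (d : ZMod 2)) := by
  classical
  set G : Matrix (Fin d) (Fin d) F := Matrix.of fun i j => polar Q (v i) (v j) with hG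
  have hGu : IsUnit G.det := isUnit_iff_ne_zero.2 hd
  let p : V →ₗ[F] (Fin d → F) := LinearMap.pi fun i => polarBilin Q (v i)
  let comb : (Fin d → F) →ₗ[F] V := Fintype.linearCombination F v
  let proj : V →ₗ[F] V := comb ∘ₗ (Matrix.toLin' G⁻¹) ∘ₗ p
  have hcomb : ∀ c : Fin d → F, comb c = ∑ i, c i • v i := fun c =>
    Fintype.linearCombination_apply F v c
  have hpcomb : ∀ c, p (comb c) = G *ᵥ c := fun c => by
    funext i
    show polarBilin Q (v i) (comb c) = _
    rw [hcomb, map_sum]
    simp [Matrix.mulVec, dotProduct, hG, mul_comm]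
  have hpproj : ∀ z, p (proj z) = p z := fun z => by
    show p (comb (G⁻¹ *ᵥ p z)) = p z
    rw [hpcomb, mulVec_mulVec, mul_nonsing_inv _ hGu, one_mulVec]
  have hprojspan : ∀ z, proj z ∈ Submodule.span F (Set.range v) := fun z => by
    show comb _ ∈ _
    rw [hcomb]
    exact Submodule.sum_mem _ fun i _ => Submodule.smul_mem _ _ (Submodule.subset_span ⟨i, rfl⟩)
  have hprojv : ∀ k, proj (v k) = v k := fun k => by
    show comb (G⁻¹ *ᵥ p (v k)) = v k
    have : p (v k) = G *ᵥ Pi.single k 1 := by
      funext i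
      rw [mulVec_single_one]
      rfl
    rw [this, mulVec_mulVec, nonsing_inv_mul _ hGu, one_mulVec, hcomb]
    simp [Pi.single_apply]
  let gl : V →ₗ[F] V := LinearMap.id - (2 : F) • proj
  have hgl : ∀ z, gl z = z - (2 : F) • proj z := fun z => rfl
  have hinv : ∀ z, gl (gl z) = z := fun z => by
    have h1 : proj (gl z) = -proj z := by
      show comb (G⁻¹ *ᵥ p (gl z)) = -comb (G⁻¹ *ᵥ p z)
      rw [← map_neg comb, ← mulVec_neg, hgl, map_sub, map_smul, hpproj]
      congr 2
      module
    rw [hgl, h1, hgl]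
    module
  let e : V ≃ₗ[F] V := LinearEquiv.ofInvolutive gl hinv
  have hmem : e ∈ orth Q := fun z => by
    show Q (gl z) = Q z
    rw [hgl, map_sub', map_smul', polar_smul_right']
    have hkey : polar Q z (proj z) = 2 * Q (proj z) := by
      rw [← polar_self']
      set c := G⁻¹ *ᵥ p z with hc
      have e1 : ∀ y, polar Q y (comb c) = ∑ i, c i * p y i := fun y => by
        rw [hcomb, ← polarBilin_apply_apply, map_sum]
        refine Finset.sum_congr rfl fun i _ => ?_
        rw [map_smul, polarBilin_apply_apply, smul_eq_mul, polar_comm]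
        rfl
      show polar Q z (comb c) = polar Q (proj z) (comb c)
      rw [e1, e1, hpproj]
    rw [hkey]; ring
  have hspan : ∀ x ∈ Submodule.span F (Set.range v), proj x = x := fun x hx => by
    induction hx using Submodule.span_induction with
    | mem x hx => obtain ⟨k, rfl⟩ := hx; exact hprojv k
    | zero => exact map_zero _
    | add a b _ _ ha hb => rw [map_add, ha, hb]
    | smul a b _ hb => rw [map_smul, hb]
  have hneg : ∀ x ∈ Submodule.span F (Set.range v), e x = -x := fun x hx => by
    show gl x = -x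
    rw [hgl, hspan x hx]; module
  have hmov : movSpace e = Submodule.span F (Set.range v) := by
    refine le_antisymm ?_ ?_
    · rintro _ ⟨z, rfl⟩
      show z - gl z ∈ _
      rw [hgl, sub_sub_cancel]
      exact Submodule.smul_mem _ _ (hprojspan z)
    · intro x hx
      refine ⟨(2 : F)⁻¹ • x, ?_⟩
      rw [movMap_apply, map_smul, hneg x hx, smul_neg, sub_neg_eq_add, ← two_smul F ((2 : F)⁻¹ • x),
        smul_smul, mul_inv_cancel₀ h2, one_smul]
  have hli : LinearIndependent F v := by
    rw [Fintype.linearIndependent_iff]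
    intro c hc i
    have h0 : G *ᵥ c = 0 := by rw [← hpcomb, hcomb, hc, map_zero]
    rw [show c = 0 from Matrix.eq_zero_of_mulVec_eq_zero hd h0]
    rfl
  have hfr : Module.finrank F (movSpace e) = d := by
    rw [hmov, finrank_span_eq_card hli, Fintype.card_fin]
  refine ⟨⟨e, hmem⟩, hneg, fun z hz => ?_, fun z => ⟨proj z, hprojspan z, fun i => ?_⟩, ?_⟩
  · show gl z = z
    have : p z = 0 := funext hz
    rw [hgl, show proj z = comb (G⁻¹ *ᵥ p z) from rfl, this, mulVec_zero, map_zero, smul_zero, sub_zero]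
  · rw [polar_sub_right, show polar Q (v i) (proj z) = p (proj z) i from rfl, hpproj]
    exact sub_self _
  · have hw : ∀ i, (2 : F)⁻¹ • v i - e ((2 : F)⁻¹ • v i) = v i := fun i => by
      rw [hneg _ (Submodule.smul_mem _ _ (Submodule.subset_span ⟨i, rfl⟩)), sub_neg_eq_add,
        ← two_smul F ((2 : F)⁻¹ • v i), smul_smul, mul_inv_cancel₀ h2, one_smul]
    have hrep : IsSpinorRep Q e
        (Matrix.of fun i j => (2 : F)⁻¹ * polar Q (v i) (v j)).det := by
      refine ⟨d, fun i => (2 : F)⁻¹ • v i, ?_, hfr, ?_⟩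
      · simp only [hw]; exact hli
      · congr 1
        ext i j
        rw [Matrix.of_apply, Matrix.of_apply, hw, polar_smul_left']
    refine Prod.ext ?_ (congrArg Multiplicative.ofAdd (congrArg Nat.cast hfr))
    show spinor Q e = _
    rw [spinor_eq hQ hmem hrep]
    have hdet : (Matrix.of fun i j => (2 : F)⁻¹ * polar Q (v i) (v j)).det =
        2 ^ d * G.det * ((2 : F) ^ d)⁻¹ * ((2 : F) ^ d)⁻¹ := by
      rw [show (Matrix.of fun i j => (2 : F)⁻¹ * polar Q (v i) (v j)) = (2 : F)⁻¹ • G from rfl,
        det_smul, Fintype.card_fin, inv_pow]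
      field_simp
    have h3 : 2 ^ d * G.det * ((2 : F) ^ d)⁻¹ * ((2 : F) ^ d)⁻¹ ≠ 0 := by simp [h2, hd]
    calc sqMk (spinorRep_ne_zero hQ hmem hrep) = sqMk h3 := by simp only [hdet]
      _ = _ := sqMk_mul_sq _ h3

end CfsgLib.Geometry
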