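import Cfsg.Agent.Lib.Geometry.StdForms

/-! The split octonion product on the eight-dimensional plus space. -/

set_option autoImplicit false
set_option maxHeartbeats 1000000

namespace CfsgLib.Geometry.Oct

open Matrix QuadraticMap

variable {F : Type*} [Field F]

/-- The eight-dimensional space. -/
abbrev V (F : Type*) := Fin 4 ⊕ Fin 4 → F

local notation "Q8" => matQuad (plusMat 4 F)

/-- Zorn's product: the hyperbolic pairs `1,2,3` carry the two vector parts. -/
def mul (a b : V F) : V F :=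
  Sum.elim
    ![a (.inl 0) * b (.inl 0) - (a (.inl 1) * b (.inr 1) + a (.inl 2) * b (.inr 2) + a (.inl 3) * b (.inr 3)),
      a (.inl 0) * b (.inl 1) + b (.inr 0) * a (.inl 1) - (a (.inr 2) * b (.inr 3) - a (.inr 3) * b (.inr 2)),
      a (.inl 0) * b (.inl 2) + b (.inr 0) * a (.inl 2) - (a (.inr 3) * b (.inr 1) - a (.inr 1) * b (.inr 3)),
      a (.inl 0) * b (.inl 3) + b (.inr 0) * a (.inl 3) - (a (.inr 1) * b (.inr 2) - a (.inr 2) * b (.inr 1))]
    ![a (.inr 0) * b (.inr 0) - (a (.inr 1) * b (.inl 1) + a (.inr 2) * b (.inl 2) + a (.inr 3) * b (.inl 3)),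
      b (.inl 0) * a (.inr 1) + a (.inr 0) * b (.inr 1) - (a (.inl 2) * b (.inl 3) - a (.inl 3) * b (.inl 2)),
      b (.inl 0) * a (.inr 2) + a (.inr 0) * b (.inr 2) - (a (.inl 3) * b (.inl 1) - a (.inl 1) * b (.inl 3)),
      b (.inl 0) * a (.inr 3) + a (.inr 0) * b (.inr 3) - (a (.inl 1) * b (.inl 2) - a (.inl 2) * b (.inl 1))]

/-- The identity. -/
def one : V F := Sum.elim ![1, 0, 0, 0] ![1, 0, 0, 0]

/-- The conjugation. -/
def conj (a : V F) : V F :=
  Sum.elim ![a (.inr 0), -a (.inl 1), -a (.inl 2), -a (.inl 3)] ![a (.inl 0), -a (.inr 1), -a (.inr 2), -a (.inr 3)]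

theorem Q8_apply (a : V F) : Q8 a = a (.inl 0) * a (.inr 0) + a (.inl 1) * a (.inr 1) +
    a (.inl 2) * a (.inr 2) + a (.inl 3) * a (.inr 3) := by
  rw [coe_matQuad_plus]
  simp [Cfsg.quadFormPlus, Fin.sum_univ_four]

theorem Q8_mul (a b : V F) : Q8 (mul a b) = Q8 a * Q8 b := by
  simp only [Q8_apply, mul, Sum.elim_inl, Sum.elim_inr, Matrix.cons_val]
  ring

theorem Q8_one : Q8 (one : V F) = 1 := by
  simp [Q8_apply, one]

theorem Q8_conj (a : V F) : Q8 (conj a) = Q8 a := by
  simp only [Q8_apply, conj, Sum.elim_inl, Sum.elim_inr, Matrix.cons_val]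
  ring

theorem ext8 {a b : V F} (h₀ : a (.inl 0) = b (.inl 0)) (h₁ : a (.inl 1) = b (.inl 1))
    (h₂ : a (.inl 2) = b (.inl 2)) (h₃ : a (.inl 3) = b (.inl 3)) (k₀ : a (.inr 0) = b (.inr 0))
    (k₁ : a (.inr 1) = b (.inr 1)) (k₂ : a (.inr 2) = b (.inr 2)) (k₃ : a (.inr 3) = b (.inr 3)) : a = b := by
  funext i
  rcases i with i | i <;> fin_cases i <;> assumption

theorem mul_one' (a : V F) : mul a one = a := by
  apply ext8 <;> simp [mul, one]

theorem one_mul' (a : V F) : mul one a = a := by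
  apply ext8 <;> simp [mul, one]

theorem mul_add' (a b c : V F) : mul a (b + c) = mul a b + mul a c := by
  apply ext8 <;> simp only [mul, Pi.add_apply, Sum.elim_inl, Sum.elim_inr, Matrix.cons_val] <;> ring

theorem add_mul' (a b c : V F) : mul (a + b) c = mul a c + mul b c := by
  apply ext8 <;> simp only [mul, Pi.add_apply, Sum.elim_inl, Sum.elim_inr, Matrix.cons_val] <;> ring

theorem mul_smul' (r : F) (a b : V F) : mul a (r • b) = r • mul a b := by
  apply ext8 <;> simp only [mul, Pi.smul_apply, smul_eq_mul, Sum.elim_inl, Sum.elim_inr, Matrix.cons_val] <;> ring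

theorem smul_mul' (r : F) (a b : V F) : mul (r • a) b = r • mul a b := by
  apply ext8 <;> simp only [mul, Pi.smul_apply, smul_eq_mul, Sum.elim_inl, Sum.elim_inr, Matrix.cons_val] <;> ring

theorem conj_mul_cancel (a x : V F) : mul (conj a) (mul a x) = Q8 a • x := by
  apply ext8 <;>
    simp only [Q8_apply, mul, conj, Pi.smul_apply, smul_eq_mul, Sum.elim_inl, Sum.elim_inr, Matrix.cons_val] <;> ring

theorem mul_conj_cancel (a x : V F) : mul (mul x a) (conj a) = Q8 a • x := by
  apply ext8 <;>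
    simp only [Q8_apply, mul, conj, Pi.smul_apply, smul_eq_mul, Sum.elim_inl, Sum.elim_inr, Matrix.cons_val] <;> ring

/-- A Moufang law. -/
theorem moufang (a x y : V F) : mul (mul a (mul x y)) a = mul (mul a x) (mul y a) := by
  apply ext8 <;> simp only [mul, Sum.elim_inl, Sum.elim_inr, Matrix.cons_val] <;> ring

theorem sandwich (a y : V F) : mul (mul a (conj y)) a = polar Q8 a y • a - Q8 a • y := by
  apply ext8 <;>
    simp only [polar, Q8_apply, mul, conj, Pi.add_apply, Pi.sub_apply, Pi.smul_apply, smul_eq_mul, Sum.elim_inl,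
      Sum.elim_inr, Matrix.cons_val] <;> ring

/-- The middle nucleus is the scalars. -/
theorem eq_smul_one_of_assoc (a : V F) (h : ∀ x z, mul (mul x a) z = mul x (mul a z)) :
    a = a (.inl 0) • one := by
  have key : ∀ i j k, mul (mul (Pi.single i 1) a) (Pi.single j 1) k =
      mul (Pi.single i 1) (mul a (Pi.single j 1)) k := fun i j k => congrFun (h _ _) k
  have e1 : a (.inl 1) = 0 := by simpa [mul] using key (.inl 0) (.inl 2) (.inr 3)
  have e2 : a (.inl 2) = 0 := by simpa [mul] using key (.inl 0) (.inl 1) (.inr 3)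
  have e3 : a (.inl 3) = 0 := by simpa [mul] using key (.inl 0) (.inl 1) (.inr 2)
  have e5 : a (.inr 1) = 0 := by simpa [mul] using key (.inl 0) (.inr 2) (.inl 3)
  have e6 : a (.inr 2) = 0 := by simpa [mul, eq_comm] using key (.inl 0) (.inr 1) (.inl 3)
  have e7 : a (.inr 3) = 0 := by simpa [mul] using key (.inl 0) (.inr 1) (.inl 2)
  have e0 : a (.inr 0) = a (.inl 0) := by simpa [mul, eq_comm] using key (.inl 1) (.inl 2) (.inr 3)
  apply ext8 <;> simp [one, e0, e1, e2, e3, e5, e6, e7]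

end CfsgLib.Geometry.Oct
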