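import Cfsg.Agent.Lib.Geometry.EvenCount
import Cfsg.Agent.Lib.Geometry.OutShapes

/-! The outer automorphism group of `POmega` in even dimension from a reflection and a field element. -/

set_option autoImplicit false

namespace CfsgLib.Geometry

open Matrix QuadraticMap

variable {ι : Type} [Fintype ι] [DecidableEq ι] {F : Type*} [Field F] [Finite F]

/-- The reflection at `v` as a similarity. -/
noncomputable def simRefl (M : Matrix ι ι F) (v : ι → F) (hv : matQuad M v ≠ 0) :
    Cfsg.Geo.quadSimilarityGroup ⇑(matQuad M) :=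
  simIso _ ((isomEquiv (matQuad M)).symm (oRefl (matQuad M) v hv))

/-- A reflection and a semisimilarity generating the field automorphisms, commuting with each other. -/
structure OutData (M : Matrix ι ι F) (k f : ℕ) (v : ι → F) (hv : matQuad M v ≠ 0)
    (w : semiSim ⇑(matQuad M)) : Prop where
  even : EvenHyp M k
  gamma : Cfsg.gammaPOmega F ⇑(matQuad M) = ⊤
  pos : 1 ≤ f
  order : orderOf (w : GammaL ι F).right = f
  gen : ∀ τ : F ≃+* F, ∃ i : ℕ, τ = (w : GammaL ι F).right ^ i
  comm : Commute (simIncl ⇑(matQuad M) (simRefl M v hv)) w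

variable {M : Matrix ι ι F} {k f : ℕ} {v : ι → F} {hv : matQuad M v ≠ 0} {w : semiSim ⇑(matQuad M)}

/-- The classes in `Out`. -/
noncomputable def outOf (M : Matrix ι ι F) : semiSim ⇑(matQuad M) →* Cfsg.Out (Cfsg.POmega F ⇑(matQuad M)) :=
  (QuotientGroup.mk' (Cfsg.Inn (Cfsg.POmega F ⇑(matQuad M)))).comp (autOmega _)

theorem outOf_simIncl (g : Cfsg.Geo.quadSimilarityGroup ⇑(matQuad M)) :
    outOf M (simIncl _ g) = outHom _ g := rfl

theorem simRefl_mul_self (M : Matrix ι ι F) (v : ι → F) (hv : matQuad M v ≠ 0) :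
    simRefl M v hv * simRefl M v hv = 1 := by
  rw [simRefl, ← map_mul, ← map_mul, oRefl_mul_self, map_one, map_one]

theorem OutData.right_pow_mem (D : OutData M k f v hv w) (n : ℕ) :
    autOmega _ (w ^ n) ∈ (simAut ⇑(matQuad M)).range ↔ f ∣ n := by
  rw [← D.order, orderOf_dvd_iff_pow_eq_one]
  have hr : ((w ^ n : semiSim ⇑(matQuad M)) : GammaL ι F).right = (w : GammaL ι F).right ^ n := by
    rw [SubgroupClass.coe_pow, ← SemidirectProduct.rightHom_eq_right, map_pow]
  constructor
  · rintro ⟨g, hg⟩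
    have h1 : autOmega _ ((simIncl _ g)⁻¹ * w ^ n) = 1 := by rw [map_mul, map_inv, inv_mul_eq_one]; exact hg
    have h2 := ((autOmega_eq_one_iff D.even.nondeg D.even.five_le _).1 h1).1
    rw [Subgroup.coe_mul, Subgroup.coe_inv, SemidirectProduct.mul_right, SemidirectProduct.inv_right,
      show ((simIncl ⇑(matQuad M) g : semiSim ⇑(matQuad M)) : GammaL ι F) = SemidirectProduct.inl (g : GL ι F) from rfl,
      SemidirectProduct.right_inl, inv_one, one_mul, hr] at h2
    exact h2
  · intro h
    set z := w ^ n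
    have hz : (z : GammaL ι F) = SemidirectProduct.inl (z : GammaL ι F).left := by
      refine SemidirectProduct.ext (by simp) ?_
      rw [hr, h, SemidirectProduct.right_inl]
    obtain ⟨c, hc⟩ := z.2
    have hg : (z : GammaL ι F).left ∈ Cfsg.Geo.quadSimilarityGroup ⇑(matQuad M) := ⟨c, fun u => by
      have := hc u
      rw [hz, slAct_inl, SemidirectProduct.right_inl] at this
      exact this⟩
    exact ⟨⟨_, hg⟩, congrArg (autOmega _) (Subtype.ext hz.symm)⟩

theorem OutData.exists_decomp (D : OutData M k f v hv w) (α : MulAut (Cfsg.POmega F ⇑(matQuad M))) :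
    ∃ (g : Cfsg.Geo.quadSimilarityGroup ⇑(matQuad M)) (i : ℕ), α = simAut _ g * autOmega _ (w ^ i) := by
  have hα : α ∈ (autOmega ⇑(matQuad M)).range := by rw [← gammaPOmega_eq, D.gamma]; trivial
  obtain ⟨x, rfl⟩ := hα
  obtain ⟨i, hi⟩ := D.gen (x : GammaL ι F).right
  set y : semiSim ⇑(matQuad M) := x * (w ^ i)⁻¹ with hy
  have hy1 : (y : GammaL ι F) = SemidirectProduct.inl (y : GammaL ι F).left := by
    refine SemidirectProduct.ext (by simp) ?_
    rw [SemidirectProduct.right_inl, hy, Subgroup.coe_mul, Subgroup.coe_inv, SubgroupClass.coe_pow,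
      SemidirectProduct.mul_right, SemidirectProduct.inv_right, hi,
      show (((w : GammaL ι F)) ^ i).right = (w : GammaL ι F).right ^ i from
        map_pow SemidirectProduct.rightHom (w : GammaL ι F) i, mul_inv_cancel]
  obtain ⟨c, hc⟩ := y.2
  have hg : (y : GammaL ι F).left ∈ Cfsg.Geo.quadSimilarityGroup ⇑(matQuad M) := ⟨c, fun u => by
    have := hc u
    rw [hy1, slAct_inl, SemidirectProduct.right_inl] at this
    exact this⟩
  refine ⟨⟨_, hg⟩, i, ?_⟩
  rw [simAut, MonoidHom.comp_apply, ← map_mul]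
  refine congrArg _ ?_
  rw [show simIncl ⇑(matQuad M) ⟨_, hg⟩ = y from Subtype.ext hy1.symm, hy]
  exact (inv_mul_cancel_right x _).symm

/-- Every automorphism is a product of an inner-diagonal one, the reflection and a field element. -/
theorem OutData.exists_decomp' (D : OutData M k f v hv w) (α : MulAut (Cfsg.POmega F ⇑(matQuad M))) :
    ∃ (g : Cfsg.Geo.quadSimilarityGroup ⇑(matQuad M)) (i : ℕ),
      g ∈ clsSub M k ∧ (α = simAut _ g * autOmega _ (w ^ i) ∨
        α = simAut _ g * (simAut _ (simRefl M v hv) * autOmega _ (w ^ i))) := by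
  obtain ⟨g, i, rfl⟩ := D.exists_decomp α
  rcases D.even.mem_or_mul_refl g hv with hg | hg
  · exact ⟨g, i, hg, Or.inl rfl⟩
  · refine ⟨g * simRefl M v hv, i, hg, Or.inr ?_⟩
    rw [map_mul, mul_assoc, ← mul_assoc (simAut _ (simRefl M v hv)), ← map_mul _ (simRefl M v hv), simRefl_mul_self,
      map_one, one_mul]

theorem OutData.card_out (D : OutData M k f v hv w) :
    Nat.card (Cfsg.Out (Cfsg.POmega F ⇑(matQuad M))) =
      (Cfsg.Inn (Cfsg.POmega F ⇑(matQuad M))).relIndex ((clsSub M k).map (simAut _)) * (2 * f) := by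
  set H := (clsSub M k).map (simAut ⇑(matQuad M)) with hH
  set P := (simAut ⇑(matQuad M)).range with hP
  haveI : P.Normal := by
    rw [hP, MonoidHom.range_eq_map]
    exact normal_map_simAut D.gamma ⊤ fun _ _ _ => trivial
  have hHP : H ≤ P := by rw [hH, hP, MonoidHom.range_eq_map]; exact Subgroup.map_mono le_top
  have h1 : P.index = f := by
    set u : MulAut (Cfsg.POmega F ⇑(matQuad M)) ⧸ P := QuotientGroup.mk (autOmega _ w) with hu
    have hgen : Subgroup.zpowers u = ⊤ := by
      rw [eq_top_iff]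
      intro a _
      induction a using QuotientGroup.induction_on with
      | H α =>
        obtain ⟨g, i, rfl⟩ := D.exists_decomp α
        refine ⟨i, ?_⟩
        show u ^ (i : ℤ) = _
        rw [QuotientGroup.mk_mul, (QuotientGroup.eq_one_iff _).2 (show simAut _ g ∈ P from ⟨g, rfl⟩),
          one_mul, zpow_natCast, hu, ← QuotientGroup.mk_pow, map_pow]
    have hord : orderOf u = f := by
      refine Nat.dvd_antisymm (orderOf_dvd_of_pow_eq_one ?_) ?_
      · rw [hu, ← QuotientGroup.mk_pow, QuotientGroup.eq_one_iff, ← map_pow]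
        exact (D.right_pow_mem f).2 dvd_rfl
      · refine (D.right_pow_mem _).1 ?_
        rw [map_pow]
        show _ ∈ P
        rw [← QuotientGroup.eq_one_iff, QuotientGroup.mk_pow, ← hu]
        exact pow_orderOf_eq_one u
    rw [Subgroup.index, ← hord, ← Nat.card_zpowers, hgen, Subgroup.card_top]
  have h2 : H.relIndex P = 2 := by
    show (H.subgroupOf P).index = 2
    rw [Subgroup.index_eq_two_iff']
    refine ⟨⟨simAut _ (simRefl M v hv), _, rfl⟩, ?_⟩
    rintro ⟨_, b, rfl⟩
    rw [Subgroup.mem_subgroupOf, Subgroup.mem_subgroupOf, Subgroup.coe_mul]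
    show Xor (simAut _ (simRefl M v hv) * simAut _ b ∈ H) (simAut _ b ∈ H)
    have key : ∀ g, simAut _ g ∈ H ↔ g ∈ clsSub M k := by
      refine fun g => ⟨?_, fun h => ⟨g, h, rfl⟩⟩
      rintro ⟨g', hg', e⟩
      have h1 : simAut _ (g'⁻¹ * g) = 1 := by rw [map_mul, map_inv, e, inv_mul_cancel]
      obtain ⟨c, hc⟩ := (simAut_eq_one_iff D.even.nondeg D.even.five_le _).1 h1
      rw [← mul_inv_cancel_left g' g, show g'⁻¹ * g = simScalar (matQuad M) c from Subtype.ext (hc.symm.trans rfl)]
      exact mul_mem hg' (D.even.scalar_mem c)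
    rw [← map_mul, key, key]
    have hR : simRefl M v hv ∉ clsSub M k := D.even.refl_not_mem hv
    by_cases hb : b ∈ clsSub M k
    · exact Or.inr ⟨hb, fun h => hR ((Subgroup.mul_mem_cancel_right _ hb).1 h)⟩
    · refine Or.inl ⟨?_, hb⟩
      have := D.even.mul_mem_of_not hR (fun h => hb (inv_inv b ▸ inv_mem h))
      rwa [inv_inv] at this
  show Subgroup.index _ = _
  rw [← Subgroup.relIndex_mul_index D.even.inn_le, ← Subgroup.relIndex_mul_index hHP, h1, h2]

/-- Characteristic two: generators. -/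
theorem OutData.gen_two (D : OutData M k f v hv w) (h2 : (2 : F) = 0)
    (S : Subgroup (Cfsg.Out (Cfsg.POmega F ⇑(matQuad M)))) (hR : outHom _ (simRefl M v hv) ∈ S)
    (hw : outOf M w ∈ S) : S = ⊤ := by
  rw [eq_top_iff]
  intro a _
  induction a using QuotientGroup.induction_on with
  | H α =>
    obtain ⟨g, i, hg, h⟩ := D.exists_decomp' α
    have h1 : (QuotientGroup.mk' (Cfsg.Inn (Cfsg.POmega F ⇑(matQuad M)))) (simAut _ g) = 1 :=
      (QuotientGroup.eq_one_iff _).2 ((D.even.map_clsSub_two h2).le ⟨g, hg, rfl⟩)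
    show (QuotientGroup.mk' (Cfsg.Inn (Cfsg.POmega F ⇑(matQuad M)))) α ∈ S
    rcases h with rfl | rfl
    · rw [map_mul, h1, one_mul, map_pow, map_pow]
      exact pow_mem hw i
    · rw [map_mul, h1, one_mul, map_mul, map_pow, map_pow]
      exact mul_mem hR (pow_mem hw i)

theorem OutData.card_two (D : OutData M k f v hv w) (h2 : (2 : F) = 0) :
    Nat.card (Cfsg.Out (Cfsg.POmega F ⇑(matQuad M))) = 2 * f := by
  rw [D.card_out, D.even.map_clsSub_two h2, Subgroup.relIndex_self, one_mul]

theorem OutData.comm_out (D : OutData M k f v hv w) :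
    Commute (outHom _ (simRefl M v hv)) (outOf M w) := D.comm.map (outOf M)

theorem outHom_refl_sq (M : Matrix ι ι F) (v : ι → F) (hv : matQuad M v ≠ 0) :
    outHom _ (simRefl M v hv) * outHom _ (simRefl M v hv) = 1 := by
  rw [← map_mul, simRefl_mul_self, map_one]
set_option maxHeartbeats 4000000 in

/-- The odd-characteristic classes. -/
theorem OutData.exists_classes (D : OutData M k f v hv w) (h2 : (2 : F) ≠ 0) :
    ∃ a b : Cfsg.Out (Cfsg.POmega F ⇑(matQuad M)),
      let s := outHom ⇑(matQuad M) (simRefl M v hv)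
      a * a = 1 ∧ (b * b = 1 ∨ b * b = a) ∧ Commute a b ∧ Commute a s ∧ s * b * s = a * b ∧
      Commute a (outOf M w) ∧ (outOf M w * b * (outOf M w)⁻¹ = b ∨ outOf M w * b * (outOf M w)⁻¹ = a * b) ∧
      (∀ S : Subgroup (Cfsg.Out (Cfsg.POmega F ⇑(matQuad M))), a ∈ S → b ∈ S → s ∈ S → outOf M w ∈ S → S = ⊤) ∧
      (¬ IsSquare (M + Mᵀ).det → a = 1 ∧ Nat.card (Cfsg.Out (Cfsg.POmega F ⇑(matQuad M))) = 4 * f) ∧
      (IsSquare (M + Mᵀ).det → a ≠ 1 ∧ Nat.card (Cfsg.Out (Cfsg.POmega F ⇑(matQuad M))) = 8 * f) := by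
  haveI := Fintype.ofFinite F
  have E := D.even.simHyp h2
  obtain ⟨ν, hν⟩ := exists_nonsquare_unit (F := F) h2
  obtain ⟨g₀, hg₀, hgm⟩ := D.even.exists_mult h2 ν
  have hm0 : E.mult g₀ = ν := Units.ext hgm
  have hν' : sqHom F ν ≠ 1 := fun h => hν ((sqHom_eq_one_iff ν).1 h)
  have hchi : ∀ g, g ∈ clsSub M k → E.chi g = 1 := fun g hg => (D.even.mem_clsSub_odd h2 g).1 hg
  set r := (isomEquiv (matQuad M)).symm (oRefl (matQuad M) v hv) with hr
  have hrr : isomEquiv (matQuad M) r = oRefl (matQuad M) v hv := MulEquiv.apply_symm_apply _ _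
  have hRr : simRefl M v hv = simIso _ r := rfl
  have hri : isoInv E.nondeg E.two_ne r = (sqMk hv, Multiplicative.ofAdd 1) := by
    show orthInvariant E.nondeg _ (isomEquiv (matQuad M) r) = _
    rw [hrr, orthInvariant_oRefl]
  -- commutators of the reflection with class-preserving similarities of nonsquare multiplier
  have hcomm : ∀ g, sqHom F (E.mult g) = sqHom F ν → ∃ h : Cfsg.isometryGroup F ⇑(matQuad M),
      isoInv E.nondeg E.two_ne h = (sqHom F ν, 1) ∧
      outHom _ (simRefl M v hv) * outHom _ g * outHom _ (simRefl M v hv) =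
        outHom _ (simIso _ h) * outHom _ g := by
    intro g hg
    obtain ⟨r', hr', hr'i⟩ := E.isoInv_conj_refl g hv hrr
    refine ⟨r * r', ?_, ?_⟩
    · rw [map_mul, hri, hr'i, hg, Prod.mk_mul_mk, mul_left_comm, sqClass_mul_self, mul_one,
        show Multiplicative.ofAdd (1 : ZMod 2) * Multiplicative.ofAdd 1 = 1 by decide]
    · rw [map_mul (simIso _), map_mul (outHom _), hr', map_mul, map_mul, map_inv, hRr]
      group
  obtain ⟨h₀, hh₀, hconj₀⟩ := hcomm g₀ (by rw [hm0])
  have hd₀ : detHom ⇑(matQuad M) h₀ = 1 := (detHom_eq_one_iff E.nondeg E.two_ne h₀).2 (by rw [hh₀])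
  have hcover : ∀ g, g ∈ clsSub M k → sqHom F (E.mult g) = 1 →
      outHom _ g = 1 ∨ outHom _ g = outHom _ (simIso _ h₀) := by
    intro g hg hsq
    obtain ⟨c, h, rfl, hh⟩ := E.exists_scalar_mul_iso hsq
    rw [map_mul (outHom _), E.outHom_scalar, one_mul]
    exact E.special_cover hν' hh₀ h (hh.trans (hchi _ hg))
  set a := outHom _ (simIso _ h₀) with ha
  set b := outHom _ g₀ with hb
  set s := outHom _ (simRefl M v hv) with hs
  have haa : a * a = 1 := by
    rw [ha, ← map_mul, ← map_mul, ← map_one (outHom ⇑(matQuad M)), ← map_one (simIso ⇑(matQuad M))]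
    exact E.outHom_iso_eq (by rw [map_mul, hh₀, Prod.mk_mul_mk, sqClass_mul_self, one_mul, map_one]; rfl)
  have hss : s * s = 1 := outHom_refl_sq M v hv
  have hS₀ : simIso _ h₀ ∈ clsSub M k := by rw [D.even.mem_clsSub_odd h2, simChi_iso]; exact hd₀
  have hmh₀ : sqHom F (E.mult (simIso _ h₀)) = 1 := by
    rw [show E.mult (simIso _ h₀) = 1 from simMult_iso _ _, map_one]
  have hbb : b * b = 1 ∨ b * b = a := by
    rw [hb, ← map_mul]
    exact hcover _ (mul_mem hg₀ hg₀) (by rw [map_mul, map_mul, sqClass_mul_self])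
  have hclass : ∀ g, g ∈ clsSub M k →
      outHom _ g = 1 ∨ outHom _ g = a ∨ outHom _ g = b ∨ outHom _ g = a * b := by
    intro g hg
    rcases sqClass_cases E.two_ne hν' (sqHom F (E.mult g)) with h | h
    · rcases hcover g hg h with e | e
      · exact Or.inl e
      · exact Or.inr (Or.inl e)
    · have h' := hcover (g * g₀⁻¹) (mul_mem hg (inv_mem hg₀))
        (by rw [map_mul, map_mul, map_inv, map_inv, h, hm0, mul_inv_cancel])
      rw [map_mul, map_inv, mul_inv_eq_iff_eq_mul, mul_inv_eq_iff_eq_mul, one_mul, ← hb] at h'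
      rcases h' with e | e
      · exact Or.inr (Or.inr (Or.inl e))
      · exact Or.inr (Or.inr (Or.inr e))
  have hab : Commute a b := by
    by_cases ha1 : a = 1
    · rw [ha1]; exact Commute.one_left _
    have hmem : g₀ * simIso _ h₀ * g₀⁻¹ ∈ clsSub M k := mul_mem (mul_mem hg₀ hS₀) (inv_mem hg₀)
    rcases hcover _ hmem (by rw [map_mul, map_mul, map_mul, map_mul, hmh₀, mul_one, map_inv, map_inv,
      mul_inv_cancel]) with e | e
    · refine absurd ?_ ha1
      rw [map_mul, map_mul, map_inv, mul_inv_eq_one] at e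
      simpa using e
    · rw [map_mul, map_mul, map_inv, mul_inv_eq_iff_eq_mul] at e
      exact e.symm
  have has : Commute a s := by
    rw [ha, hs, hRr]
    show _ * _ = _ * _
    rw [← map_mul, ← map_mul, ← map_mul, ← map_mul]
    exact E.outHom_iso_eq (by rw [map_mul, map_mul, mul_comm])
  have hψs : Commute s (outOf M w) := D.comm_out
  have hconjR : ∀ g, g ∈ clsSub M k →
      conjSim w g ∈ clsSub M k ∧ outOf M w * outHom _ g * (outOf M w)⁻¹ = outHom _ (conjSim w g) := by
    intro g hg
    refine ⟨D.even.conj_mem w hg, ?_⟩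
    rw [outOf, outHom, MonoidHom.comp_apply, MonoidHom.comp_apply, MonoidHom.comp_apply, simAut_conjSim,
      map_mul, map_mul, map_inv]
  -- the multiplier class is kept by the field element
  have hmw : sqHom F (E.mult (conjSim w g₀)) = sqHom F ν := by
    rcases sqClass_cases E.two_ne hν' (sqHom F (E.mult (conjSim w g₀))) with h | h
    · exfalso
      have hm : (simMult D.even.ne (conjSim w g₀) : F) = (w : GammaL ι F).right (ν : F) := by
        refine simMult_eq D.even.ne _ fun u => ?_
        obtain ⟨z, rfl⟩ : ∃ z, slAct (w : GammaL ι F) z = u := ⟨_, slAct_apply_inv _ u⟩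
        show matQuad M ((((w : GammaL ι F).left * glAut ι F (w : GammaL ι F).right (g₀ : GL ι F) *
          (w : GammaL ι F).left⁻¹ : GL ι F) : Matrix ι ι F) *ᵥ slAct _ z) = _
        obtain ⟨c, hc⟩ := w.2
        rw [slAct_conj_inl, hc, simMult_spec D.even.ne, hgm, map_mul, hc]
        ring
      obtain ⟨t, ht⟩ := (sqHom_eq_one_iff _).1 h
      refine hν ⟨(w : GammaL ι F).right.symm t, (w : GammaL ι F).right.injective ?_⟩
      rw [map_mul, RingEquiv.apply_symm_apply, ← ht, ← hm]
      rfl
    · exact h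
  have hψb : outOf M w * b * (outOf M w)⁻¹ = b ∨ outOf M w * b * (outOf M w)⁻¹ = a * b := by
    obtain ⟨hmem, e⟩ := hconjR g₀ hg₀
    rw [hb, e]
    rcases hcover (conjSim w g₀ * g₀⁻¹) (mul_mem hmem (inv_mem hg₀))
      (by rw [map_mul, map_mul, map_inv, map_inv, hmw, hm0, mul_inv_cancel]) with e' | e' <;>
      rw [map_mul, map_inv, mul_inv_eq_iff_eq_mul] at e'
    · exact Or.inl (by rw [e', one_mul])
    · exact Or.inr e'
  have hsbs : s * b * s = a * b := hconj₀
  have hψa : Commute a (outOf M w) := by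
    have hψab : (outOf M w * b * (outOf M w)⁻¹) = b ∨ (outOf M w * b * (outOf M w)⁻¹) = a * b := hψb
    have hae : a = s * b * s * b⁻¹ := by rw [hsbs, mul_inv_cancel_right]
    have hsψ : outOf M w * s * (outOf M w)⁻¹ = s := by rw [← hψs.eq, mul_inv_cancel_right]
    have key : outOf M w * a * (outOf M w)⁻¹ = a := by
      have h1 : outOf M w * a * (outOf M w)⁻¹ = (outOf M w * s * (outOf M w)⁻¹) *
          (outOf M w * b * (outOf M w)⁻¹) * (outOf M w * s * (outOf M w)⁻¹) *
          (outOf M w * b * (outOf M w)⁻¹)⁻¹ := by rw [hae]; group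
      rw [h1, hsψ]
      rcases hψab with e | e <;> rw [e]
      · exact hae.symm
      · calc s * (a * b) * s * (a * b)⁻¹ = a * (s * b * s) * (a * b)⁻¹ := by
              rw [← mul_assoc s a b, ← has.eq]; group
          _ = a := by rw [hsbs]; group
    exact (eq_mul_inv_iff_mul_eq.1 key.symm : a * outOf M w = outOf M w * a)
  refine ⟨a, b, haa, hbb, hab, has, hsbs, hψa, hψb, ?_, ?_⟩
  · intro S hSa hSb hSs hSw
    rw [eq_top_iff]
    intro z _
    induction z using QuotientGroup.induction_on with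
    | H α =>
      obtain ⟨g, i, hg, h⟩ := D.exists_decomp' α
      have hgS : outHom _ g ∈ S := by
        rcases hclass g hg with e | e | e | e <;> rw [e]
        · exact one_mem _
        · exact hSa
        · exact hSb
        · exact mul_mem hSa hSb
      show (QuotientGroup.mk' (Cfsg.Inn (Cfsg.POmega F ⇑(matQuad M)))) α ∈ S
      rcases h with rfl | rfl
      · rw [map_mul, map_pow, map_pow]
        exact mul_mem hgS (pow_mem hSw i)
      · rw [map_mul, map_mul, map_pow, map_pow]
        exact mul_mem hgS (mul_mem hSs (pow_mem hSw i))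
  have hiff := E.outHom_iso_eq_one_iff hν' hh₀
  constructor
  · intro hd
    refine ⟨hiff.2 hd, ?_⟩
    have hle : D.even.sqPart.map (simAut _) ≤ Cfsg.Inn (Cfsg.POmega F ⇑(matQuad M)) := by
      rintro _ ⟨g, hg, rfl⟩
      obtain ⟨hg', hsq⟩ := (D.even.mem_sqPart g).1 hg
      refine (QuotientGroup.eq_one_iff _).1 (?_ : outHom _ g = 1)
      rcases hcover g hg' ((sqHom_eq_one_iff _).2 hsq) with e | e
      · exact e
      · exact e.trans (hiff.2 hd)
    rw [D.card_out, ← le_antisymm hle D.even.inn_le_sqPart, D.even.relIndex_sqPart h2]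
    ring
  · intro hd
    refine ⟨fun h => hiff.1 h hd, ?_⟩
    rw [D.card_out, ← Subgroup.relIndex_mul_relIndex _ _ _ D.even.inn_le_sqPart
      (Subgroup.map_mono inf_le_left : D.even.sqPart.map (simAut _) ≤ (clsSub M k).map (simAut _)),
      D.even.relIndex_inn_sqPart h2 hd, D.even.relIndex_sqPart h2]
    ring

end CfsgLib.Geometry
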