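import Cfsg.Agent.Lib.Geometry.OutFrob
import Cfsg.Agent.Lib.Geometry.OutEvenShape
import Cfsg.Agent.Lib.Geometry.EvenTypes
import Cfsg.Agent.Lib.Geometry.AutStd

/-! The semilinear element for the minus form: its `f`-th power is a reflection. -/

set_option autoImplicit false

namespace CfsgLib.Geometry

open Matrix QuadraticMap

universe u

variable {F : Type u} [Field F] [Fintype F] {p f : ℕ} {a b : F}

/-- A semisimilarity of the binary norm form over Frobenius. -/
theorem exists_binary_semisim (hp : p.Prime) (hF : Fintype.card F = p ^ f) {τ : F ≃+* F}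
    (hτ : ∀ x, τ x = x ^ p)
    (hab : ∀ z₁ z₂ : F, z₁ ^ 2 + a * z₁ * z₂ + b * z₂ ^ 2 = 0 → z₁ = 0 ∧ z₂ = 0) :
    ∃ c d : F, d ≠ 0 ∧
      (∀ x y : F, (τ x + c * τ y) ^ 2 + a * (τ x + c * τ y) * (d * τ y) + b * (d * τ y) ^ 2 =
        τ (x ^ 2 + a * x * y + b * y ^ 2)) ∧
      ∀ x y : F, (fun z : F × F => (τ z.1 + c * τ z.2, d * τ z.2))^[f] (x, y) = (x + a * y, -y) := by
  haveI := Fact.mk hp
  haveI := charP_of_pow hp hF
  let P : Polynomial F := Polynomial.X ^ 2 + (Polynomial.C (-a) * Polynomial.X + Polynomial.C b)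
  have hdeg : (Polynomial.C (-a) * Polynomial.X + Polynomial.C b).degree < ((2 : ℕ) : WithBot ℕ) :=
    lt_of_le_of_lt Polynomial.degree_linear_le (by norm_num)
  have hmo : P.Monic := Polynomial.monic_X_pow_add hdeg
  have hn : P.natDegree = 2 :=
    Polynomial.natDegree_eq_of_degree_eq_some
      (by rw [Polynomial.degree_add_eq_left_of_degree_lt (by rwa [Polynomial.degree_X_pow]),
        Polynomial.degree_X_pow])
  haveI : Fact (Irreducible P) := ⟨(hmo.irreducible_iff_roots_eq_zero_of_degree_le_three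
    (by rw [hn]) (by rw [hn]; omega)).2 (Multiset.eq_zero_of_forall_notMem fun t ht => by
      rw [Polynomial.mem_roots hmo.ne_zero, Polynomial.IsRoot] at ht
      simp only [P, Polynomial.eval_add, Polynomial.eval_pow, Polynomial.eval_X,
        Polynomial.eval_mul, Polynomial.eval_C] at ht
      exact absurd (hab t (-1) (by linear_combination ht)).2 (neg_ne_zero.2 one_ne_zero))⟩
  have hrk : Module.finrank F (AdjoinRoot P) = 2 := by
    rw [(AdjoinRoot.powerBasis hmo.ne_zero).finrank, AdjoinRoot.powerBasis_dim, hn]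
  haveI : Module.Finite F (AdjoinRoot P) := Module.finite_of_finrank_eq_succ hrk
  haveI : Finite (AdjoinRoot P) := Module.finite_of_finite F
  haveI : Algebra.IsAlgebraic F (AdjoinRoot P) := Algebra.IsAlgebraic.of_finite F _
  set ρ := algebraMap F (AdjoinRoot P)
  haveI : CharP (AdjoinRoot P) p := charP_of_injective_algebraMap ρ.injective p
  haveI : ExpChar (AdjoinRoot P) p := ExpChar.prime hp
  set σ : AdjoinRoot P ≃+* AdjoinRoot P :=
    (FiniteField.frobeniusAlgEquivOfAlgebraic F (AdjoinRoot P)).toRingEquiv with hσdef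
  have hσq : ∀ z, σ z = z ^ p ^ f := fun z => by rw [← hF]; rfl
  have hσρ : ∀ x, σ (ρ x) = ρ x := fun x => AlgEquiv.commutes _ x
  -- a root and its conjugate
  have hfix : ∀ x, σ x = x ↔ ∃ y, ρ y = x := fun x => by
    show FiniteField.frobeniusAlgEquivOfAlgebraic F (AdjoinRoot P) x = x ↔ x ∈ Set.range ρ
    rw [IsGalois.mem_range_algebraMap_iff_fixed]
    refine ⟨fun h φ => ?_, fun h => h _⟩
    obtain ⟨j, rfl⟩ := (FiniteField.bijective_frobeniusAlgEquivOfAlgebraic_pow F (AdjoinRoot P)).2 φ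
    show (FiniteField.frobeniusAlgEquivOfAlgebraic F (AdjoinRoot P) ^ (j : ℕ)) x = x
    induction (j : ℕ) with
    | zero => rfl
    | succ i ih => rw [pow_succ, AlgEquiv.mul_apply, h, ih]
  have hσ2 : orderOf σ = 2 := by
    rw [← hrk, ← FiniteField.orderOf_frobeniusAlgEquivOfAlgebraic (K := F) (L := AdjoinRoot P)]
    refine orderOf_eq_orderOf_iff.2 fun k => ?_
    have hpow : ∀ k : ℕ, ((σ ^ k : AdjoinRoot P ≃+* AdjoinRoot P)) =
        ((FiniteField.frobeniusAlgEquivOfAlgebraic F (AdjoinRoot P)) ^ k :) := by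
      intro k
      induction k with
      | zero => rfl
      | succ k ih => rw [pow_succ, pow_succ, ih]; rfl
    rw [hpow]
    exact ⟨fun h => AlgEquiv.ext fun x => RingEquiv.congr_fun h x, fun h => by rw [h]; rfl⟩
  obtain ⟨θ, hs, hpr, hne⟩ := exists_roots_two hfix hσ2 hab
  have hσσ : σ (σ θ) = θ := by
    have h := RingEquiv.congr_fun (pow_orderOf_eq_one σ) θ
    rw [hσ2, pow_two] at h
    exact h
  have hσθp : σ (θ ^ p) = σ θ ^ p := map_pow σ θ p
  have hpne : σ θ ^ p ≠ θ ^ p := fun h => hne (frobenius_inj (AdjoinRoot P) p h)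
  obtain ⟨d, hd⟩ := (hfix ((σ θ ^ p - θ ^ p) / (σ θ - θ))).1 (by
    rw [map_div₀, map_sub, map_sub, map_pow, map_pow, hσσ, ← neg_sub (σ θ ^ p), ← neg_sub (σ θ), neg_div_neg_eq])
  have hdθ : ρ d * (σ θ - θ) = σ θ ^ p - θ ^ p := by rw [hd]; exact div_mul_cancel₀ _ (sub_ne_zero.2 hne)
  obtain ⟨c, hc⟩ := (hfix (θ ^ p - θ * ρ d)).1 (by
    rw [map_sub, map_mul, map_pow, hσρ]; linear_combination -hdθ)
  set ev : F → F → AdjoinRoot P := fun x y => ρ x + θ * ρ y with hev
  have hinj : ∀ x y x' y', ev x y = ev x' y' → x = x' ∧ y = y' := by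
    intro x y x' y' h
    simp only [hev] at h
    by_cases hy : y = y'
    · subst hy
      exact ⟨ρ.injective (add_right_cancel h), rfl⟩
    · refine absurd ?_ hne
      have h0 : ρ y - ρ y' ≠ 0 := sub_ne_zero.2 fun e => hy (ρ.injective e)
      have e : θ = (ρ x' - ρ x) / (ρ y - ρ y') := by rw [eq_div_iff h0]; linear_combination h
      rw [e, map_div₀, map_sub, map_sub, hσρ, hσρ, hσρ, hσρ]
  have hnorm : ∀ x y, ρ (x ^ 2 + a * x * y + b * y ^ 2) = ev x y * σ (ev x y) := fun x y => by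
    simp only [hev, map_add, map_mul, map_pow, hσρ]
    linear_combination -(ρ x * ρ y) * hs - (ρ y * ρ y) * hpr
  have hstep : ∀ x y, ev (τ x + c * τ y) (d * τ y) = ev x y ^ p := fun x y => by
    simp only [hev]
    rw [add_pow_char, mul_pow, map_add, map_mul, map_mul, hc, hτ, hτ, map_pow, map_pow]
    ring
  refine ⟨c, d, fun h0 => hpne ?_, fun x y => ρ.injective ?_, fun x y => ?_⟩
  · rw [h0, map_zero, zero_mul] at hdθ
    exact sub_eq_zero.1 hdθ.symm
  · rw [hnorm, hstep, hτ, map_pow ρ _ p, map_pow σ, ← mul_pow, ← hnorm]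
  · have key : ∀ i : ℕ, ∀ z : F × F,
        ev ((fun z : F × F => (τ z.1 + c * τ z.2, d * τ z.2))^[i] z).1
          ((fun z : F × F => (τ z.1 + c * τ z.2, d * τ z.2))^[i] z).2 = ev z.1 z.2 ^ p ^ i := by
      intro i
      induction i with
      | zero => intro z; simp
      | succ i ih =>
        intro z
        rw [Function.iterate_succ_apply, ih, hstep, ← pow_mul, pow_succ']
    have h := key f (x, y)
    rw [← hσq] at h
    obtain ⟨h1, h2⟩ := hinj _ _ (x + a * y) (-y) (h.trans (by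
      simp only [hev, map_add, map_mul, map_neg, hσρ]; linear_combination (ρ y) * hs))
    exact Prod.ext h1 h2

/-- The data for the minus form. -/
theorem exists_outData_minus (hp : p.Prime) (hf : 1 ≤ f) (hF : Fintype.card F = p ^ f) {n : ℕ} (hn : 3 ≤ n)
    (hab : ∀ z₁ z₂ : F, z₁ ^ 2 + a * z₁ * z₂ + b * z₂ ^ 2 = 0 → z₁ = 0 ∧ z₂ = 0) :
    ∃ (v : (Fin n ⊕ Fin n) ⊕ Fin 2 → F) (hv : matQuad (minusMat n F a b) v ≠ 0)
      (w : semiSim ⇑(matQuad (minusMat n F a b))),
      OutData (minusMat n F a b) (n + 1) f v hv w ∧ w ^ f = simIncl _ (simRefl (minusMat n F a b) v hv) := by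
  obtain ⟨τ, hτ, hord, hgen⟩ := exists_frob hp hF
  obtain ⟨c, d, hd, hQ, hiter⟩ := exists_binary_semisim hp hF hτ hab
  let g : GL ((Fin n ⊕ Fin n) ⊕ Fin 2) F := Matrix.GeneralLinearGroup.mkOfDetNeZero
    (fromBlocks 1 0 0 !![1, c; 0, d]) (by rw [det_fromBlocks_zero₂₁, det_one, one_mul, det_fin_two]; simpa using hd)
  let x : GammaL ((Fin n ⊕ Fin n) ⊕ Fin 2) F := ⟨g, τ⟩
  have hx : ∀ v, slAct x v = Sum.elim (fun i => τ (v (Sum.inl i)))
      ![τ (v (Sum.inr 0)) + c * τ (v (Sum.inr 1)), d * τ (v (Sum.inr 1))] := by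
    intro v
    show fromBlocks (1 : Matrix (Fin n ⊕ Fin n) (Fin n ⊕ Fin n) F) 0 0 !![1, c; 0, d] *ᵥ (fun i => τ (v i)) = _
    funext i
    rcases i with i | i
    · simp [fromBlocks_mulVec, Function.comp_def]
    · fin_cases i <;> simp [fromBlocks_mulVec, Function.comp_def, Matrix.mulVec, dotProduct, Fin.sum_univ_two]
  have hmem : x ∈ semiSim ⇑(matQuad (minusMat n F a b)) := ⟨1, fun v => by
    rw [coe_matQuad_minus, hx, Units.val_one, one_mul]
    show _ = τ _
    simp only [Cfsg.quadFormMinus, Sum.elim_inl, Sum.elim_inr, Matrix.cons_val_zero, Matrix.cons_val_one]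
    rw [hQ]
    simp only [map_add, map_sum, map_mul]⟩
  set v₀ : (Fin n ⊕ Fin n) ⊕ Fin 2 → F := Sum.elim 0 ![a, -2] with hv₀
  have hQv : matQuad (minusMat n F a b) v₀ = 4 * b - a * a := by
    rw [coe_matQuad_minus]
    simp [Cfsg.quadFormMinus, hv₀]
    ring
  have hv : matQuad (minusMat n F a b) v₀ ≠ 0 := by
    rw [hQv]
    exact fun h => (binAniso_discr hab).1 (by linear_combination h)
  have hw : (⟨x, hmem⟩ : semiSim ⇑(matQuad (minusMat n F a b))) ^ f =
      simIncl _ (simRefl (minusMat n F a b) v₀ hv) := by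
    refine Subtype.ext (gammaL_ext ?_ fun u => ?_)
    · show (x ^ f).right = (SemidirectProduct.inl _ : GammaL ((Fin n ⊕ Fin n) ⊕ Fin 2) F).right
      rw [SemidirectProduct.right_inl,
        show (x ^ f).right = x.right ^ f from map_pow SemidirectProduct.rightHom x f]
      show τ ^ f = 1
      rw [← hord, pow_orderOf_eq_one]
    · show slAct (x ^ f) u = slAct (SemidirectProduct.inl _) u
      rw [slAct_pow, slAct_inl]
      show _ = (((isomEquiv (matQuad (minusMat n F a b))).symm (oRefl _ v₀ hv) :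
        Cfsg.isometryGroup F ⇑(matQuad (minusMat n F a b))) : GL ((Fin n ⊕ Fin n) ⊕ Fin 2) F).1 *ᵥ u
      rw [isomEquiv_symm_mulVec]
      show _ = refl (matQuad (minusMat n F a b)) v₀ hv u
      have hpol : polar (matQuad (minusMat n F a b)) u v₀ = -u (Sum.inr 1) * (4 * b - a * a) := by
        rw [polar, coe_matQuad_minus]
        simp [Cfsg.quadFormMinus, hv₀]
        ring
      rw [refl_apply, hpol, hQv]
      have hne : (4 * b - a * a) ≠ 0 := hQv ▸ hv
      rw [show (4 * b - a * a)⁻¹ * (-u (Sum.inr 1) * (4 * b - a * a)) = -u (Sum.inr 1) by rw [mul_left_comm, inv_mul_cancel₀ hne, mul_one]]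
      have hit : ∀ i : ℕ, (slAct x)^[i] u = Sum.elim (fun j => (τ ^ i : F ≃+* F) (u (Sum.inl j)))
          ![((fun z : F × F => (τ z.1 + c * τ z.2, d * τ z.2))^[i] (u (Sum.inr 0), u (Sum.inr 1))).1,
            ((fun z : F × F => (τ z.1 + c * τ z.2, d * τ z.2))^[i] (u (Sum.inr 0), u (Sum.inr 1))).2] := by
        intro i
        induction i with
        | zero => funext j; rcases j with j | j <;> [simp; (fin_cases j <;> simp)]
        | succ i ih =>
          rw [Function.iterate_succ_apply', ih, hx, Function.iterate_succ_apply', pow_succ']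
          funext j
          rcases j with j | j
          · rfl
          · fin_cases j <;> simp
      rw [hit f, hiter, ← hord, pow_orderOf_eq_one]
      funext j
      rcases j with j | j
      · simp [hv₀]
      · fin_cases j <;> simp [hv₀] <;> ring
  refine ⟨v₀, hv, ⟨x, hmem⟩, ⟨evenHyp_minus hn hab, ?_, hf, hord, hgen, ?_⟩, hw⟩
  · have h := gammaPOmega_minus_eq_top hn hab
    rwa [← coe_matQuad_minus] at h
  · rw [← hw]
    exact Commute.pow_self _ f

end CfsgLib.Geometry
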