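import Cfsg.Agent.Lib.Geometry.Basic

/-! Quadratic forms with non-degenerate polar form: reflections, Siegel maps, Witt extension. -/

set_option autoImplicit false

namespace CfsgLib.Geometry

open QuadraticMap

variable {F V : Type*} [Field F] [AddCommGroup V] [Module F V]

/-- The orthogonal group of a quadratic form, inside the linear equivalences. -/
def orth (Q : QuadraticForm F V) : Subgroup (V ≃ₗ[F] V) where
  carrier := {g | ∀ v, Q (g v) = Q v}
  mul_mem' {a b} ha hb v := (ha (b v)).trans (hb v)
  one_mem' _ := rfl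
  inv_mem' {a} ha v := by
    conv_rhs => rw [← a.apply_symm_apply v, ha]
    rfl

theorem mem_orth {Q : QuadraticForm F V} {g : V ≃ₗ[F] V} : g ∈ orth Q ↔ ∀ v, Q (g v) = Q v :=
  Iff.rfl

theorem orth_polar {Q : QuadraticForm F V} {g : V ≃ₗ[F] V} (hg : g ∈ orth Q) (u v : V) :
    polar Q (g u) (g v) = polar Q u v := by
  simp only [polar, ← map_add, mem_orth.1 hg]

theorem polar_self' (Q : QuadraticForm F V) (v : V) : polar Q v v = 2 * Q v := by
  rw [QuadraticMap.polar_self, nsmul_eq_mul]; rfl

theorem map_add' (Q : QuadraticForm F V) (u v : V) : Q (u + v) = Q u + Q v + polar Q u v :=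
  QuadraticMap.map_add _ _ _

theorem map_sub' (Q : QuadraticForm F V) (u v : V) : Q (u - v) = Q u + Q v - polar Q u v := by
  rw [sub_eq_add_neg, map_add', QuadraticMap.map_neg, QuadraticMap.polar_neg_right, sub_eq_add_neg]

theorem map_smul' (Q : QuadraticForm F V) (a : F) (v : V) : Q (a • v) = a * a * Q v :=
  QuadraticMap.map_smul _ _ _

theorem polar_smul_left' (Q : QuadraticForm F V) (a : F) (u v : V) :
    polar Q (a • u) v = a * polar Q u v := QuadraticMap.polar_smul_left _ _ _ _

theorem polar_smul_right' (Q : QuadraticForm F V) (a : F) (u v : V) :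
    polar Q u (a • v) = a * polar Q u v := QuadraticMap.polar_smul_right _ _ _ _

/-- Simp set for expanding `Q` and its polar form on combinations of vectors. -/
theorem polar_add_smul_add_smul (Q : QuadraticForm F V) (v d e : V) (s t : F) :
    Q (v + s • d + t • e) = Q v + s * polar Q v d + t * polar Q v e + s * s * Q d + t * t * Q e
      + s * t * polar Q d e := by
  simp only [map_add', polar_add_left, polar_smul_left', polar_smul_right', map_smul']
  ring

/-- The linear map `v ↦ polar Q v a`. -/
noncomputable def polarLeft (Q : QuadraticForm F V) (a : V) : V →ₗ[F] F :=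
  (polarBilin Q).flip a

@[simp]
theorem polarLeft_apply (Q : QuadraticForm F V) (a v : V) : polarLeft Q a v = polar Q v a := rfl

/-- The reflection map of a vector. -/
noncomputable def reflMap (Q : QuadraticForm F V) (a : V) : V →ₗ[F] V :=
  LinearMap.id - (Q a)⁻¹ • (polarLeft Q a).smulRight a

theorem reflMap_apply (Q : QuadraticForm F V) (a v : V) :
    reflMap Q a v = v - ((Q a)⁻¹ * polar Q v a) • a := by simp [reflMap, smul_smul]

theorem reflMap_map (Q : QuadraticForm F V) {a : V} (ha : Q a ≠ 0) (v : V) :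
    Q (reflMap Q a v) = Q v := by
  rw [reflMap_apply, map_sub', map_smul', polar_smul_right']
  field_simp; ring

theorem reflMap_reflMap (Q : QuadraticForm F V) {a : V} (ha : Q a ≠ 0) (v : V) :
    reflMap Q a (reflMap Q a v) = v := by
  simp only [reflMap_apply, polar_sub_left, polar_smul_left', polar_self', sub_sub, ← add_smul]
  have : (Q a)⁻¹ * polar Q v a + (Q a)⁻¹ * (polar Q v a - (Q a)⁻¹ * polar Q v a * (2 * Q a)) = 0 := by
    field_simp; ring
  rw [this, zero_smul, sub_zero]

/-- The reflection in a non-singular vector. -/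
noncomputable def refl (Q : QuadraticForm F V) (a : V) (ha : Q a ≠ 0) : V ≃ₗ[F] V :=
  LinearEquiv.ofInvolutive (reflMap Q a) (reflMap_reflMap Q ha)

theorem refl_apply (Q : QuadraticForm F V) (a : V) (ha : Q a ≠ 0) (v : V) :
    refl Q a ha v = v - ((Q a)⁻¹ * polar Q v a) • a := reflMap_apply Q a v

theorem refl_mem_orth (Q : QuadraticForm F V) (a : V) (ha : Q a ≠ 0) : refl Q a ha ∈ orth Q :=
  fun v => reflMap_map Q ha v

theorem refl_mul_self (Q : QuadraticForm F V) (a : V) (ha : Q a ≠ 0) :
    refl Q a ha * refl Q a ha = 1 :=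
  LinearEquiv.ext fun v => reflMap_reflMap Q ha v

theorem refl_self (Q : QuadraticForm F V) (a : V) (ha : Q a ≠ 0) : refl Q a ha a = -a := by
  rw [refl_apply, polar_self', mul_comm 2, ← mul_assoc, inv_mul_cancel₀ ha, one_mul]
  rw [two_smul, sub_add_cancel_left]

theorem refl_eq_self (Q : QuadraticForm F V) (a : V) (ha : Q a ≠ 0) {v : V} (hv : polar Q v a = 0) :
    refl Q a ha v = v := by
  rw [refl_apply, hv, mul_zero, zero_smul, sub_zero]

/-- Conjugating a reflection gives the reflection in the image. -/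
theorem refl_conj (Q : QuadraticForm F V) {g : V ≃ₗ[F] V} (hg : g ∈ orth Q) (a : V) (ha : Q a ≠ 0) :
    g * refl Q a ha * g⁻¹ = refl Q (g a) (by rwa [mem_orth.1 hg]) := by
  refine LinearEquiv.ext fun v => ?_
  show g (refl Q a ha (g.symm v)) = _
  rw [refl_apply, refl_apply, map_sub, map_smul, g.apply_symm_apply, mem_orth.1 hg]
  congr 3
  rw [← orth_polar hg (g.symm v) a, g.apply_symm_apply]

/-- Reflections in proportional vectors agree. -/
theorem refl_smul (Q : QuadraticForm F V) (a : V) (ha : Q a ≠ 0) {t : F} (ht : t ≠ 0)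
    (hta : Q (t • a) ≠ 0) : refl Q (t • a) hta = refl Q a ha := by
  refine LinearEquiv.ext fun v => ?_
  rw [refl_apply, refl_apply, map_smul', polar_smul_right', smul_smul]
  congr 2
  field_simp

/-- The group generated by all reflections. -/
noncomputable def reflGroup (Q : QuadraticForm F V) : Subgroup (V ≃ₗ[F] V) :=
  Subgroup.closure {g | ∃ (a : V) (ha : Q a ≠ 0), g = refl Q a ha}

theorem refl_mem_reflGroup (Q : QuadraticForm F V) (a : V) (ha : Q a ≠ 0) :
    refl Q a ha ∈ reflGroup Q :=
  Subgroup.subset_closure ⟨a, ha, rfl⟩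

theorem reflGroup_le_orth (Q : QuadraticForm F V) : reflGroup Q ≤ orth Q := by
  rw [reflGroup, Subgroup.closure_le]
  rintro g ⟨a, ha, rfl⟩
  exact refl_mem_orth Q a ha

/-- The Siegel (Eichler) map. -/
noncomputable def siegelMap (Q : QuadraticForm F V) (e w : V) : V →ₗ[F] V :=
  LinearMap.id + (polarLeft Q e).smulRight w - (polarLeft Q w).smulRight e
    - Q w • (polarLeft Q e).smulRight e

theorem siegelMap_apply (Q : QuadraticForm F V) (e w v : V) :
    siegelMap Q e w v =
      v + polar Q v e • w - polar Q v w • e - (Q w * polar Q v e) • e := by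
  simp [siegelMap, smul_smul]

theorem siegelMap_comp (Q : QuadraticForm F V) {e w₁ w₂ : V} (he : Q e = 0)
    (h₁ : polar Q e w₁ = 0) (h₂ : polar Q e w₂ = 0) (v : V) :
    siegelMap Q e w₁ (siegelMap Q e w₂ v) = siegelMap Q e (w₁ + w₂) v := by
  have hee : polar Q e e = 0 := by rw [polar_self', he, mul_zero]
  have h₁' : polar Q w₁ e = 0 := by rw [polar_comm]; exact h₁
  have h₂' : polar Q w₂ e = 0 := by rw [polar_comm]; exact h₂
  simp only [siegelMap_apply, polar_add_left, polar_sub_left, polar_smul_left', polar_add_right,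
    map_add', hee, h₁, h₂', mul_zero, add_zero, sub_zero]
  rw [polar_comm Q w₂ w₁]
  module

theorem siegelMap_zero (Q : QuadraticForm F V) (e v : V) : siegelMap Q e 0 v = v := by
  simp [siegelMap_apply, polar_zero_right]

theorem siegelMap_map (Q : QuadraticForm F V) {e w : V} (he : Q e = 0) (hw : polar Q e w = 0)
    (v : V) : Q (siegelMap Q e w v) = Q v := by
  rw [siegelMap_apply,
    show v + polar Q v e • w - polar Q v w • e - (Q w * polar Q v e) • e =
      v + polar Q v e • w + (-(polar Q v w + Q w * polar Q v e)) • e by module,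
    polar_add_smul_add_smul, he, polar_comm Q w e, hw]
  ring

/-- The Siegel transformation as an equivalence. -/
noncomputable def siegel (Q : QuadraticForm F V) (e w : V) (he : Q e = 0) (hw : polar Q e w = 0) :
    V ≃ₗ[F] V :=
  LinearEquiv.ofLinearMap (siegelMap Q e w) (siegelMap Q e (-w))
    (LinearMap.ext fun v => by
      simp [siegelMap_comp Q he hw (by rw [polar_neg_right, hw, neg_zero]), siegelMap_zero])
    (LinearMap.ext fun v => by
      simp [siegelMap_comp Q he (by rw [polar_neg_right, hw, neg_zero]) hw, siegelMap_zero])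

theorem siegel_apply (Q : QuadraticForm F V) (e w : V) (he : Q e = 0) (hw : polar Q e w = 0)
    (v : V) : siegel Q e w he hw v =
      v + polar Q v e • w - polar Q v w • e - (Q w * polar Q v e) • e :=
  siegelMap_apply Q e w v

theorem siegel_mem_orth (Q : QuadraticForm F V) (e w : V) (he : Q e = 0) (hw : polar Q e w = 0) :
    siegel Q e w he hw ∈ orth Q :=
  fun v => siegelMap_map Q he hw v

theorem siegel_eq_self (Q : QuadraticForm F V) (e w : V) (he : Q e = 0) (hw : polar Q e w = 0)
    {v : V} (h1 : polar Q v e = 0) (h2 : polar Q v w = 0) : siegel Q e w he hw v = v := by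
  simp [siegel_apply, h1, h2]

variable [FiniteDimensional F V]

theorem exists_polar {Q : QuadraticForm F V} (hQ : (polarBilin Q).Nondegenerate)
    (H : Submodule F V) {x : V} (hx : x ∉ H) (a : F) :
    ∃ w, (∀ h ∈ H, polar Q w h = 0) ∧ polar Q w x = a :=
  exists_perp (σ := RingHom.id F) Function.surjective_id _ hQ.1 H hx a

theorem exists_polar₂ {Q : QuadraticForm F V} (hQ : (polarBilin Q).Nondegenerate)
    (H : Submodule F V) {x y : V} (hx : x ∉ H) (hy : y ∉ H) :
    ∃ w, (∀ h ∈ H, polar Q w h = 0) ∧ polar Q w x ≠ 0 ∧ polar Q w y ≠ 0 :=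
  exists_perp₂ (σ := RingHom.id F) Function.surjective_id _ hQ.1 H hx hy

/-- A singular vector outside `H` orthogonal to `H` has a singular partner orthogonal to `H`. -/
theorem exists_partner {Q : QuadraticForm F V} (hQ : (polarBilin Q).Nondegenerate)
    (H : Submodule F V) {e : V} (heH : e ∉ H) (he : Q e = 0) (hperp : ∀ h ∈ H, polar Q e h = 0) :
    ∃ f, Q f = 0 ∧ polar Q e f = 1 ∧ ∀ h ∈ H, polar Q f h = 0 := by
  obtain ⟨w, hw, hwe⟩ := exists_polar hQ H heH 1
  have hew : polar Q e w = 1 := by rw [polar_comm]; exact hwe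
  refine ⟨w - Q w • e, ?_, ?_, fun h hh => ?_⟩
  · rw [map_sub', map_smul', polar_smul_right', he, hwe]; ring
  · rw [polar_sub_right, polar_smul_right', polar_self', he, hew]; ring
  · rw [polar_sub_left, polar_smul_left', hw h hh, hperp h hh]; ring

/-- Witt extension for quadratic forms, on independent families. -/
theorem quad_extend {Q : QuadraticForm F V} (hQ : (polarBilin Q).Nondegenerate) {k : ℕ}
    (v w : Fin k → V) (hv : LinearIndependent F v) (hw : LinearIndependent F w)
    (hq : ∀ i, Q (v i) = Q (w i)) (hp : ∀ i j, polar Q (v i) (v j) = polar Q (w i) (w j)) :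
    ∃ g ∈ orth Q, ∀ i, g (v i) = w i := by
  refine extend_induction (orth Q)
    (fun {k} v w => (∀ i, Q (v i) = Q (w i)) ∧ ∀ i j, polar Q (v i) (v j) = polar Q (w i) (w j))
    (fun g hg {k} v w h => ⟨fun i => by rw [h.1, mem_orth.1 hg],
      fun i j => by rw [h.2, orth_polar hg]⟩)
    (fun v w h => ⟨fun i => h.1 _, fun i j => h.2 _ _⟩) ?_ v w hv hw ⟨hq, hp⟩
  intro k v x y _ hx hy ⟨hQ1, hP1⟩
  let H := Submodule.span F (Set.range v)
  have hqxy : Q x = Q y := by simpa using hQ1 0
  have hvH : ∀ i, v i ∈ H := fun i => Submodule.subset_span (Set.mem_range_self i)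
  have hd : ∀ i, polar Q (v i) (y - x) = 0 := fun i => by
    have := hP1 i.succ 0
    simp only [Fin.cons_succ, Fin.cons_zero] at this
    rw [polar_sub_right, ← this, sub_self]
  generalize hdef : y - x = d at hd
  have hy' : y = x + d := by rw [← hdef]; abel
  have hQd : Q d = -polar Q x d := by
    have h := hqxy
    rw [hy', map_add'] at h
    linear_combination -h
  by_cases h0 : Q d ≠ 0
  · refine ⟨refl Q d h0, refl_mem_orth Q d h0, ?_, fun i => refl_eq_self Q d h0 (hd i)⟩
    rw [refl_apply, hy',
      show (Q d)⁻¹ * polar Q x d = -1 by rw [← neg_neg (polar Q x d), ← hQd]; field_simp]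
    module
  push Not at h0
  have hxd : polar Q x d = 0 := by linear_combination (-hQd.symm.trans h0)
  by_cases hxH : x ∈ H ⊔ Submodule.span F {d}
  · -- scale `d`
    obtain ⟨h, hh, z, hz, hxz⟩ := Submodule.mem_sup.1 hxH
    obtain ⟨c, rfl⟩ := Submodule.mem_span_singleton.1 hz
    have hc : c ≠ 0 := fun hc => hx (by rw [← hxz, hc, zero_smul, add_zero]; exact hh)
    have hdH : d ∉ H := fun h' => hx (by rw [← hxz]; exact add_mem hh (H.smul_mem _ h'))
    have hc1 : c + 1 ≠ 0 := fun hc1 => hy (by
      rw [hy', ← hxz, show h + c • d + d = h + (c + 1) • d by module, hc1, zero_smul, add_zero]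
      exact hh)
    have hdperp : ∀ h' ∈ H, polar Q d h' = 0 := by
      have hle : H ≤ LinearMap.ker (polarBilin Q d) := Submodule.span_le.2 (by
        rintro _ ⟨i, rfl⟩
        show polar Q d (v i) = 0
        rw [polar_comm]; exact hd i)
      exact fun h' hh' => hle hh'
    obtain ⟨e, he, hde, heH⟩ := exists_partner hQ H hdH h0 hdperp
    let l := (c + 1) / c
    let g : V →ₗ[F] V := LinearMap.id + (l - 1) • (polarLeft Q e).smulRight d
      + (l⁻¹ - 1) • (polarLeft Q d).smulRight e
    have hg : ∀ u, g u = u + ((l - 1) * polar Q u e) • d + ((l⁻¹ - 1) * polar Q u d) • e :=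
      fun u => by simp [g, smul_smul]
    have hl : l ≠ 0 := div_ne_zero hc1 hc
    have hgQ : ∀ u, Q (g u) = Q u := fun u => by
      rw [hg, polar_add_smul_add_smul, h0, he, hde]
      field_simp; ring
    have hgP : ∀ a b, polarBilin Q (g a) (g b) = polarBilin Q a b := fun a b => by
      simp only [polarBilin_apply_apply, polar, ← map_add, hgQ]
    refine ⟨isoOfPreserves (polarBilin Q) hQ.1 g hgP, fun u => by simpa using hgQ u, ?_, fun i => ?_⟩
    · rw [isoOfPreserves_apply, hy', ← hxz, map_add, map_smul, hg h, hg d,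
        polar_comm Q h d, hdperp h hh, polar_comm Q h e, heH h hh, polar_self', h0, hde]
      have : c • l = c + 1 := by simp [l, mul_div_cancel₀ _ hc]
      rw [show c • (d + ((l - 1) * 1) • d + ((l⁻¹ - 1) * (2 * 0)) • e) = (c • l) • d by module, this]
      module
    · rw [isoOfPreserves_apply, hg, hd i, polar_comm Q (v i) e, heH _ (hvH i)]
      simp
  · obtain ⟨w, hw, hwx⟩ := exists_polar hQ _ hxH (-1)
    have hdw : polar Q d w = 0 := by
      rw [polar_comm]; exact hw d (Submodule.mem_sup_right (Submodule.mem_span_singleton_self d))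
    refine ⟨siegel Q d w h0 hdw, siegel_mem_orth Q d w h0 hdw, ?_, fun i => ?_⟩
    · rw [siegel_apply, hxd, polar_comm Q x w, hwx, hy']
      module
    · exact siegel_eq_self Q d w h0 hdw (hd i)
        (by rw [polar_comm]; exact hw _ (Submodule.mem_sup_left (hvH i)))

/-- Witt's lemma for quadratic forms. -/
theorem quad_witt {Q : QuadraticForm F V} (hQ : (polarBilin Q).Nondegenerate)
    (X : Submodule F V) (φ : X →ₗ[F] V) (hφ : Function.Injective φ)
    (h : ∀ x : X, Q (φ x) = Q (x : V)) :
    ∃ g ∈ orth Q, ∀ x : X, g (x : V) = φ x :=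
  extend_subspace _ X φ hφ fun v h1 h2 => quad_extend hQ _ _ h1 h2 (fun i => (h _).symm)
    fun i j => by simp only [polar, ← map_add, ← Submodule.coe_add, h]

end CfsgLib.Geometry
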