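import Mathlib

/-! Kernels of powers of a nilpotent endomorphism with one-dimensional kernel. -/

set_option autoImplicit false

namespace CfsgLib.Geometry

variable {F V : Type*} [Field F] [AddCommGroup V] [Module F V] [FiniteDimensional F V]

theorem finrank_ker_pow_le {N : V →ₗ[F] V} (h1 : Module.finrank F (LinearMap.ker N) ≤ 1) (j : ℕ) :
    Module.finrank F (LinearMap.ker (N ^ j)) ≤ j := by
  induction j with
  | zero => rw [pow_zero, show LinearMap.ker (1 : V →ₗ[F] V) = ⊥ from LinearMap.ker_id, finrank_bot]
  | succ j ih =>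
    have hle : ∀ x ∈ LinearMap.ker (N ^ (j + 1)), (N ^ j) x ∈ LinearMap.ker N := fun x hx => by
      rw [LinearMap.mem_ker, ← Module.End.mul_apply, ← pow_succ']
      exact hx
    let r : LinearMap.ker (N ^ (j + 1)) →ₗ[F] LinearMap.ker N :=
      LinearMap.codRestrict _ ((N ^ j).comp (LinearMap.ker (N ^ (j + 1))).subtype)
        fun x => hle x x.2
    have h := LinearMap.finrank_range_add_finrank_ker r
    have h2 : Module.finrank F (LinearMap.range r) ≤ 1 := le_trans (Submodule.finrank_le _) h1
    let s : LinearMap.ker r →ₗ[F] LinearMap.ker (N ^ j) :=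
      LinearMap.codRestrict _ ((LinearMap.ker (N ^ (j + 1))).subtype.comp (LinearMap.ker r).subtype)
        fun x => congrArg Subtype.val x.2
    have h3 : Module.finrank F (LinearMap.ker r) ≤ Module.finrank F (LinearMap.ker (N ^ j)) :=
      LinearMap.finrank_le_finrank_of_injective (f := s) fun x y e =>
        Subtype.ext (Subtype.ext (congrArg Subtype.val e :))
    omega

/-- Invariant subspaces of a regular nilpotent endomorphism are kernels of its powers. -/
theorem invariant_eq_ker_pow {N : V →ₗ[F] V} {n : ℕ} (hN : N ^ n = 0)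
    (h1 : Module.finrank F (LinearMap.ker N) ≤ 1) {W : Submodule F V} (hW : ∀ v ∈ W, N v ∈ W) :
    W = LinearMap.ker (N ^ Module.finrank F W) := by
  have key : ∀ d, ∀ U : Submodule F V, (∀ v ∈ U, N v ∈ U) → Module.finrank F U = d →
      U ≤ LinearMap.ker (N ^ d) := by
    intro d
    induction d using Nat.strong_induction_on with
    | _ d ih =>
    intro U hU hd
    rcases Nat.eq_zero_or_pos d with rfl | hd0
    · rw [Submodule.finrank_eq_zero.1 hd]; exact bot_le
    have hlt : U.map N < U := by
      refine lt_of_le_of_ne (by rintro _ ⟨v, hv, rfl⟩; exact hU v hv) fun he => ?_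
      have hpow : ∀ k, U.map (N ^ k) = U := fun k => by
        induction k with
        | zero => exact Submodule.map_id U
        | succ k ihk => rw [pow_succ, Module.End.mul_eq_comp, Submodule.map_comp, he, ihk]
      have h0 := hpow n
      rw [hN, Submodule.map_zero] at h0
      rw [← h0, finrank_bot] at hd
      omega
    have hlt' := Submodule.finrank_lt_finrank_of_lt hlt
    intro v hv
    have hv' : N v ∈ LinearMap.ker (N ^ Module.finrank F ↥(U.map N)) :=
      ih _ (by omega) (U.map N) (by rintro _ ⟨w, hw, rfl⟩; exact ⟨N w, hU w hw, rfl⟩) rfl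
        ⟨v, hv, rfl⟩
    rw [LinearMap.mem_ker] at hv' ⊢
    rw [← Nat.sub_add_cancel (show Module.finrank F ↥(U.map N) + 1 ≤ d by omega), pow_add,
      Module.End.mul_apply, pow_succ, Module.End.mul_apply, hv', map_zero]
  exact Submodule.eq_of_le_of_finrank_le (key _ W hW rfl) (finrank_ker_pow_le h1 _)

end CfsgLib.Geometry
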