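import Cfsg.Prelude.Def_LieTypeDatum
import Cfsg.Agent.Lib.Geometry.POmega

/-! Semisimilarities of a quadratic form and the automorphisms they induce on `POmega`. -/

set_option autoImplicit false

namespace CfsgLib.Geometry

open Matrix QuadraticMap

/-- An automorphism restricted to a characteristic subgroup. -/
noncomputable def restrictChar {G : Type*} [Group G] (H : Subgroup G) [H.Characteristic] :
    MulAut G →* MulAut H where
  toFun e := (e.subgroupMap H).trans
    (MulEquiv.subgroupCongr (Subgroup.characteristic_iff_map_eq.1 inferInstance e))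
  map_one' := MulEquiv.ext fun _ => rfl
  map_mul' _ _ := MulEquiv.ext fun _ => rfl

@[simp] theorem restrictChar_coe {G : Type*} [Group G] (H : Subgroup G) [H.Characteristic]
    (e : MulAut G) (x : H) : (restrictChar H e x : G) = e (x : G) := rfl

/-- An automorphism acting on the quotient by the centre. -/
noncomputable def descendCenter {G : Type*} [Group G] : MulAut G →* MulAut (G ⧸ Subgroup.center G) where
  toFun e := QuotientGroup.congr _ _ e (Subgroup.characteristic_iff_map_eq.1 inferInstance e)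
  map_one' := MulEquiv.ext fun x => by induction x using QuotientGroup.induction_on; rfl
  map_mul' a b := MulEquiv.ext fun x => by induction x using QuotientGroup.induction_on; rfl

/-- On a perfect group, an automorphism trivial modulo the centre is trivial. -/
theorem eq_one_of_descendCenter {G : Type*} [Group G] (hG : commutator G = ⊤) (e : MulAut G)
    (h : descendCenter e = 1) : e = 1 := by
  have hz : ∀ g, g⁻¹ * e g ∈ Subgroup.center G := fun g =>
    (QuotientGroup.eq (s := Subgroup.center G)).1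
      (MulEquiv.congr_fun h (QuotientGroup.mk g)).symm
  let z : G →* Subgroup.center G :=
    { toFun := fun g => ⟨g⁻¹ * e g, hz g⟩
      map_one' := Subtype.ext (by simp)
      map_mul' := fun a b => Subtype.ext (by
        show (a * b)⁻¹ * e (a * b) = a⁻¹ * e a * (b⁻¹ * e b)
        rw [map_mul, _root_.mul_inv_rev, mul_assoc, ← mul_assoc a⁻¹, ← mul_assoc,
          Subgroup.mem_center_iff.1 (hz a), mul_assoc]) }
  refine MulEquiv.ext fun g => ?_
  have : z g = 1 := by
    have : commutator G ≤ z.ker := by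
      rw [commutator_def, Subgroup.commutator_le]
      intro a _ b _
      rw [MonoidHom.mem_ker, map_commutatorElement, commutatorElement_eq_one_iff_commute]
      exact Subtype.ext (Subgroup.mem_center_iff.1 (z b).2 _)
    exact this (hG ▸ Subgroup.mem_top g)
  exact (inv_mul_eq_one.1 (congrArg Subtype.val this)).symm

variable {ι : Type} [Fintype ι] [DecidableEq ι] {F : Type*} [Field F]

/-- Field automorphisms acting entrywise on `GL`. -/
def glAut (ι : Type) [Fintype ι] [DecidableEq ι] (F : Type*) [Field F] :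
    (F ≃+* F) →* MulAut (GL ι F) where
  toFun σ := Units.mapEquiv (σ.mapMatrix : Matrix ι ι F ≃+* Matrix ι ι F).toMulEquiv
  map_one' := MulEquiv.ext fun g => Units.ext (Matrix.ext fun _ _ => rfl)
  map_mul' _ _ := MulEquiv.ext fun g => Units.ext (Matrix.ext fun _ _ => rfl)

@[simp] theorem glAut_coe (σ : F ≃+* F) (g : GL ι F) :
    ((glAut ι F σ g : GL ι F) : Matrix ι ι F) = (g : Matrix ι ι F).map σ := rfl

/-- The group of semilinear bijections of `ι → F`. -/
abbrev GammaL (ι : Type) [Fintype ι] [DecidableEq ι] (F : Type*) [Field F] :=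
  GL ι F ⋊[glAut ι F] (F ≃+* F)

/-- The action `v ↦ g σ(v)`. -/
def slAct (x : GammaL ι F) (v : ι → F) : ι → F :=
  (x.left : Matrix ι ι F) *ᵥ fun i => x.right (v i)

theorem map_mulVec' (σ : F ≃+* F) (M : Matrix ι ι F) (v : ι → F) :
    (fun i => σ ((M *ᵥ v) i)) = M.map σ *ᵥ fun i => σ (v i) :=
  funext fun i => RingHom.map_mulVec (σ : F →+* F) M v i

@[simp] theorem slAct_one (v : ι → F) : slAct (1 : GammaL ι F) v = v := by
  simp [slAct]

theorem slAct_mul (x y : GammaL ι F) (v : ι → F) : slAct (x * y) v = slAct x (slAct y v) := by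
  simp only [slAct, SemidirectProduct.mul_left, SemidirectProduct.mul_right, Units.val_mul,
    glAut_coe, ← mulVec_mulVec, map_mulVec']
  rfl

theorem slAct_add (x : GammaL ι F) (u v : ι → F) : slAct x (u + v) = slAct x u + slAct x v := by
  simp only [slAct, Pi.add_apply, map_add]
  rw [show (fun i => x.right (u i) + x.right (v i)) =
    (fun i => x.right (u i)) + fun i => x.right (v i) from rfl, mulVec_add]

theorem slAct_smul (x : GammaL ι F) (c : F) (v : ι → F) :
    slAct x (c • v) = x.right c • slAct x v := by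
  simp only [slAct, Pi.smul_apply, smul_eq_mul, map_mul]
  rw [show (fun i => x.right c * x.right (v i)) = x.right c • fun i => x.right (v i) from rfl,
    mulVec_smul]

theorem slAct_inl (g : GL ι F) (v : ι → F) :
    slAct (SemidirectProduct.inl g : GammaL ι F) v = (g : Matrix ι ι F) *ᵥ v := by
  simp [slAct]

theorem slAct_inv_apply (x : GammaL ι F) (v : ι → F) : slAct x⁻¹ (slAct x v) = v := by
  rw [← slAct_mul, inv_mul_cancel, slAct_one]

theorem slAct_apply_inv (x : GammaL ι F) (v : ι → F) : slAct x (slAct x⁻¹ v) = v := by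
  rw [← slAct_mul, mul_inv_cancel, slAct_one]

/-- The group of semisimilarities of `Q`. -/
def semiSim (Q : (ι → F) → F) : Subgroup (GammaL ι F) where
  carrier := {x | ∃ c : Fˣ, ∀ v, Q (slAct x v) = (c : F) * x.right (Q v)}
  one_mem' := ⟨1, fun v => by simp⟩
  mul_mem' := by
    rintro x y ⟨c, hc⟩ ⟨d, hd⟩
    refine ⟨c * Units.mk0 (x.right d) (by simp), fun v => ?_⟩
    rw [slAct_mul, hc, hd, map_mul, Units.val_mul, Units.val_mk0, mul_assoc]
    rfl
  inv_mem' := by
    rintro x ⟨c, hc⟩
    refine ⟨Units.mk0 (x.right.symm (c : F)⁻¹) (by simp), fun v => ?_⟩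
    have h : Q v = c * x.right (Q (slAct x⁻¹ v)) := by rw [← hc, slAct_apply_inv]
    rw [h, Units.val_mk0]
    show _ = x.right.symm _ * x.right.symm _
    rw [← map_mul, ← mul_assoc, inv_mul_cancel₀ c.ne_zero, one_mul, RingEquiv.symm_apply_apply]

theorem mem_semiSim_iff (Q : (ι → F) → F) (x : GammaL ι F) :
    x ∈ semiSim Q ↔ Cfsg.IsSemisimilarityPair Q x.left x.right := Iff.rfl

variable {Q : (ι → F) → F}

theorem mem_isometryGroup_iff (g : GL ι F) :
    g ∈ Cfsg.isometryGroup F Q ↔ ∀ v, Q ((g : Matrix ι ι F) *ᵥ v) = Q v :=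
  ⟨fun h v => h v v, fun h u _ => h u⟩

theorem slAct_conj_inl (x : GammaL ι F) (g : GL ι F) (v : ι → F) :
    ((x.left * glAut ι F x.right g * x.left⁻¹ : GL ι F) : Matrix ι ι F) *ᵥ slAct x v =
      slAct x ((g : Matrix ι ι F) *ᵥ v) := by
  simp only [slAct, map_mulVec', Units.val_mul, glAut_coe, mulVec_mulVec, mul_assoc,
    Units.inv_mul, mul_one]

theorem conj_mem_isometryGroup {x : GammaL ι F} (hx : x ∈ semiSim Q) {g : GL ι F}
    (hg : g ∈ Cfsg.isometryGroup F Q) :
    x.left * glAut ι F x.right g * x.left⁻¹ ∈ Cfsg.isometryGroup F Q := by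
  obtain ⟨c, hc⟩ := hx
  refine (mem_isometryGroup_iff _).2 fun v => ?_
  rw [← slAct_apply_inv x v, slAct_conj_inl, hc, hc, (mem_isometryGroup_iff g).1 hg]

theorem conj_inl_eq (x : GammaL ι F) (g : GL ι F) :
    x * SemidirectProduct.inl g * x⁻¹ =
      SemidirectProduct.inl (x.left * glAut ι F x.right g * x.left⁻¹) := by
  ext : 1 <;> simp [mul_assoc]

/-- Conjugation of the isometry group by semisimilarities. -/
def conjIsometry (Q : (ι → F) → F) : semiSim Q →* MulAut (Cfsg.isometryGroup F Q) where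
  toFun x :=
    { toFun := fun g => ⟨(x : GammaL ι F).left * glAut ι F (x : GammaL ι F).right g *
          (x : GammaL ι F).left⁻¹, conj_mem_isometryGroup x.2 g.2⟩
      invFun := fun g => ⟨(x : GammaL ι F)⁻¹.left * glAut ι F (x : GammaL ι F)⁻¹.right g *
          (x : GammaL ι F)⁻¹.left⁻¹, conj_mem_isometryGroup (inv_mem x.2) g.2⟩
      left_inv := fun g => Subtype.ext (SemidirectProduct.inl_injective (φ := glAut ι F) (by
        rw [← conj_inl_eq, ← conj_inl_eq]; group))
      right_inv := fun g => Subtype.ext (SemidirectProduct.inl_injective (φ := glAut ι F) (by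
        rw [← conj_inl_eq, ← conj_inl_eq]; group))
      map_mul' := fun a b => Subtype.ext (by
        simp only [Subgroup.coe_mul, map_mul]; group) }
  map_one' := MulEquiv.ext fun g => Subtype.ext (by simp)
  map_mul' x y := MulEquiv.ext fun g => Subtype.ext (SemidirectProduct.inl_injective
    (φ := glAut ι F) (by
      show SemidirectProduct.inl ((↑(x * y) : GammaL ι F).left * _ * _) =
        SemidirectProduct.inl ((x : GammaL ι F).left * glAut ι F _ (_ * _ * _) * _)
      rw [← conj_inl_eq, ← conj_inl_eq, ← conj_inl_eq, Subgroup.coe_mul]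
      group))

theorem conjIsometry_coe (x : semiSim Q) (g : Cfsg.isometryGroup F Q) :
    ((conjIsometry Q x g : Cfsg.isometryGroup F Q) : GL ι F) =
      (x : GammaL ι F).left * glAut ι F (x : GammaL ι F).right g * (x : GammaL ι F).left⁻¹ := rfl

theorem conjIsometry_mulVec (x : semiSim Q) (g : Cfsg.isometryGroup F Q) (v : ι → F) :
    (((conjIsometry Q x g : Cfsg.isometryGroup F Q) : GL ι F) : Matrix ι ι F) *ᵥ
      slAct (x : GammaL ι F) v = slAct (x : GammaL ι F) (((g : GL ι F) : Matrix ι ι F) *ᵥ v) :=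
  slAct_conj_inl _ _ _

/-- The automorphisms of `POmega` induced by semisimilarities. -/
noncomputable def autOmega (Q : (ι → F) → F) : semiSim Q →* MulAut (Cfsg.POmega F Q) :=
  descendCenter.comp ((restrictChar _).comp (conjIsometry Q))

theorem autOmega_mk (x : semiSim Q) (s : Cfsg.Omega F Q) :
    autOmega Q x (QuotientGroup.mk s) = QuotientGroup.mk (restrictChar _ (conjIsometry Q x) s) := rfl

theorem isInduced_iff {g : GL ι F} {σ : F ≃+* F} (h : Cfsg.IsSemisimilarityPair Q g σ)
    (β : MulAut (Cfsg.POmega F Q)) :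
    Cfsg.IsInducedBySemilinearPOmega Q g σ β ↔
      β = autOmega Q ⟨⟨g, σ⟩, (mem_semiSim_iff Q ⟨g, σ⟩).2 h⟩ := by
  constructor
  · intro hβ
    refine MulEquiv.ext fun x => ?_
    induction x using QuotientGroup.induction_on with
    | H s => exact (hβ s _ rfl).trans (autOmega_mk _ s).symm
  · rintro rfl s s' hs
    rw [autOmega_mk]
    exact congrArg _ (Subtype.ext (Subtype.ext (Units.ext hs.symm)))

/-- The similarities as semisimilarities. -/
def simIncl (Q : (ι → F) → F) : Cfsg.Geo.quadSimilarityGroup Q →* semiSim Q where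
  toFun g := ⟨SemidirectProduct.inl (g : GL ι F), by
    obtain ⟨c, hc⟩ := g.2
    exact ⟨c, fun v => by rw [slAct_inl, hc]; rfl⟩⟩
  map_one' := Subtype.ext (map_one _)
  map_mul' a b := Subtype.ext (map_mul _ _ _)

/-- The automorphisms of `POmega` induced by similarities. -/
noncomputable def simAut (Q : (ι → F) → F) :
    Cfsg.Geo.quadSimilarityGroup Q →* MulAut (Cfsg.POmega F Q) :=
  (autOmega Q).comp (simIncl Q)

theorem isometryGroup_le_sim : Cfsg.isometryGroup F Q ≤ Cfsg.Geo.quadSimilarityGroup Q :=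
  fun g hg => ⟨1, fun v => by rw [(mem_isometryGroup_iff g).1 hg, Units.val_one, one_mul]⟩

/-- The isometries among the similarities. -/
def simIso (Q : (ι → F) → F) : Cfsg.isometryGroup F Q →* Cfsg.Geo.quadSimilarityGroup Q :=
  Subgroup.inclusion isometryGroup_le_sim

theorem simAut_simIso_omega (s : Cfsg.Omega F Q) :
    simAut Q (simIso Q (s : Cfsg.isometryGroup F Q)) = MulAut.conj (QuotientGroup.mk s) := by
  refine MulEquiv.ext fun x => ?_
  induction x using QuotientGroup.induction_on with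
  | H t =>
    rw [MulAut.conj_apply, ← QuotientGroup.mk_inv, ← QuotientGroup.mk_mul, ← QuotientGroup.mk_mul]
    show QuotientGroup.mk (restrictChar _ (conjIsometry Q _) t) = _
    refine congrArg _ (Subtype.ext (Subtype.ext (Units.ext ?_)))
    simp only [restrictChar_coe, conjIsometry_coe]
    simp [simIncl, simIso]

theorem isInduced_sim_iff {g : GL ι F} (hg : g ∈ Cfsg.Geo.quadSimilarityGroup Q)
    (β : MulAut (Cfsg.POmega F Q)) :
    Cfsg.IsInducedBySemilinearPOmega Q g (RingEquiv.refl F) β ↔ β = simAut Q ⟨g, hg⟩ :=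
  isInduced_iff (σ := RingEquiv.refl F) (by
    obtain ⟨c, hc⟩ := hg; exact ⟨c, fun v => hc v⟩) β

/-- A subgroup generated by automorphisms induced by a subgroup of similarities. -/
theorem autSubgroupOf_sim_eq (K : Subgroup (Cfsg.Geo.quadSimilarityGroup Q))
    {P : (Cfsg.POmega F Q ≃* Cfsg.POmega F Q) → Prop}
    (hP : ∀ β, P β ↔ ∃ (g : GL ι F) (hg : g ∈ Cfsg.Geo.quadSimilarityGroup Q), ⟨g, hg⟩ ∈ K ∧
      Cfsg.IsInducedBySemilinearPOmega Q g (RingEquiv.refl F) β) :
    Cfsg.autSubgroupOf P = K.map (simAut Q) := by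
  refine le_antisymm ((Subgroup.closure_le _).2 fun β hβ => ?_) ?_
  · obtain ⟨g, hg, hK, hi⟩ := (hP β).1 hβ
    exact ⟨⟨g, hg⟩, hK, ((isInduced_sim_iff hg β).1 hi).symm⟩
  · rintro _ ⟨g, hK, rfl⟩
    exact Subgroup.subset_closure ((hP _).2 ⟨g, g.2, hK, (isInduced_sim_iff g.2 _).2 rfl⟩)

theorem pgoAut_eq : Cfsg.pgoAut F Q = (simAut Q).range := by
  rw [MonoidHom.range_eq_map]
  exact autSubgroupOf_sim_eq ⊤ fun β => ⟨fun ⟨g, hg, h⟩ => ⟨g, hg, trivial, h⟩,
    fun ⟨g, hg, _, h⟩ => ⟨g, hg, h⟩⟩

theorem poAut_eq : Cfsg.poAut F Q = (simIso Q).range.map (simAut Q) :=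
  autSubgroupOf_sim_eq _ fun β => ⟨fun ⟨g, hg, h⟩ =>
      ⟨g, isometryGroup_le_sim hg, ⟨⟨g, hg⟩, rfl⟩, h⟩,
    fun ⟨g, _, ⟨⟨g', hg'⟩, e⟩, h⟩ => ⟨g, by
      have e' : g' = g := congrArg Subtype.val e
      exact e' ▸ hg', h⟩⟩

theorem psoAut_eq : Cfsg.psoAut F Q =
    ((Cfsg.specialIsometryGL F Q).subgroupOf (Cfsg.Geo.quadSimilarityGroup Q)).map (simAut Q) :=
  autSubgroupOf_sim_eq _ fun β => ⟨fun ⟨g, hg, h⟩ =>
      ⟨g, isometryGroup_le_sim hg.1, hg, h⟩,
    fun ⟨g, _, hK, h⟩ => ⟨g, hK, h⟩⟩

theorem inn_eq_map : Cfsg.Inn (Cfsg.POmega F Q) =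
    (((simAut Q).comp (simIso Q)).comp (Cfsg.Omega F Q).subtype).range := by
  ext β
  constructor
  · rintro ⟨x, rfl⟩
    induction x using QuotientGroup.induction_on with
    | H s => exact ⟨s, simAut_simIso_omega s⟩
  · rintro ⟨s, rfl⟩
    exact ⟨QuotientGroup.mk s, (simAut_simIso_omega s).symm⟩

theorem gammaPOmega_eq : Cfsg.gammaPOmega F Q = (autOmega Q).range := by
  refine le_antisymm ((Subgroup.closure_le _).2 ?_) ?_
  · rintro β ⟨g, σ, hs, hi⟩
    exact ⟨_, ((isInduced_iff hs β).1 hi).symm⟩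
  · rintro _ ⟨x, rfl⟩
    exact Subgroup.subset_closure ⟨(x : GammaL ι F).left, (x : GammaL ι F).right,
      (mem_semiSim_iff _ _).1 x.2, (isInduced_iff ((mem_semiSim_iff _ _).1 x.2) _).2 rfl⟩

end CfsgLib.Geometry
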