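import Cfsg.Agent.Lib.Geometry.SemiSim
import Cfsg.Agent.Lib.Geometry.OmegaMem

/-! Semisimilarities inducing the trivial automorphism of `POmega` are scalars. -/

set_option autoImplicit false

namespace CfsgLib.Geometry

open Matrix QuadraticMap

variable {ι : Type} [Fintype ι] [DecidableEq ι] {F : Type*} [Field F] [Finite F]
variable {Q : QuadraticForm F (ι → F)}

/-- `Omega` is perfect in dimension at least five. -/
theorem commutator_Omega_eq_top (hQ : (polarBilin Q).Nondegenerate) (hn : 5 ≤ Fintype.card ι) :
    commutator (Cfsg.Omega F ⇑Q) = ⊤ := by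
  have hn' : 5 ≤ Module.finrank F (ι → F) := by simpa using hn
  have hn4 : Module.finrank F (ι → F) ≠ 4 ∨ ∃ a : F, a ≠ 0 ∧ a ≠ 1 := Or.inl (by omega)
  have hC := commutator_eq_siegel hQ (by omega) (splitSingular_of hQ hn4) (reflGroup_eq_orth hQ hn4)
  have hS : (commutator (orth Q)).map (orth Q).subtype = siegelGroup Q := by
    rw [hC, Subgroup.map_subgroupOf_eq_of_le siegelGroup_le_orth]
  have h1 : commutator (orth Q) ≤ ⁅commutator (orth Q), commutator (orth Q)⁆ := by
    rw [← Subgroup.map_le_map_iff_of_injective (orth Q).subtype_injective,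
      Subgroup.map_commutator, hS]
    exact siegelGroup_perfect hQ hn'
  have h2 : commutator (commutator (orth Q)) = ⊤ := by
    rw [← top_le_iff, ← Subgroup.map_le_map_iff_of_injective (commutator (orth Q)).subtype_injective,
      ← MonoidHom.range_eq_map, Subgroup.range_subtype, Subgroup.map_subtype_commutator]
    exact h1
  refine Subgroup.map_injective (f := (omegaEquiv Q).toMonoidHom) (omegaEquiv Q).injective ?_
  have htop := Subgroup.map_top_of_surjective (omegaEquiv Q).toMonoidHom (omegaEquiv Q).surjective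
  refine Eq.trans ?_ htop.symm
  refine Eq.trans ?_ h2
  refine (Subgroup.map_commutator ⊤ ⊤ (omegaEquiv Q).toMonoidHom).trans ?_
  exact congrArg₂ (fun a b => ⁅a, b⁆) htop htop

/-- A semisimilarity inducing the identity fixes every singular point. -/
theorem slAct_singular (hQ : (polarBilin Q).Nondegenerate) (hn : 5 ≤ Fintype.card ι)
    {x : semiSim ⇑Q} (hx : autOmega ⇑Q x = 1) {e : ι → F} (he0 : e ≠ 0) (he : Q e = 0) :
    ∃ t : F, t ≠ 0 ∧ slAct (x : GammaL ι F) e = t • e := by
  have hn' : 5 ≤ Module.finrank F (ι → F) := by simpa using hn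
  have hn4 : Module.finrank F (ι → F) ≠ 4 ∨ ∃ a : F, a ≠ 0 ∧ a ≠ 1 := Or.inl (by omega)
  have hC := commutator_eq_siegel hQ (by omega) (splitSingular_of hQ hn4) (reflGroup_eq_orth hQ hn4)
  have hfix := eq_one_of_descendCenter (commutator_Omega_eq_top hQ hn) _
    (show descendCenter (restrictChar _ (conjIsometry ⇑Q x)) = 1 from hx)
  have hcomm : ∀ (w v : ι → F) (hw : polar Q e w = 0),
      siegel Q e w he hw (slAct (x : GammaL ι F) v) = slAct (x : GammaL ι F) (siegel Q e w he hw v) := by
    intro w v hw
    let S : orth Q := ⟨siegel Q e w he hw, siegel_mem_orth Q e w he hw⟩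
    have hS : S ∈ commutator (orth Q) := by
      rw [hC, Subgroup.mem_subgroupOf]; exact siegel_mem e w he hw
    let s : Cfsg.Omega F ⇑Q := ⟨(isomEquiv Q).symm S, (mem_Omega_iff_commutator Q _).2 (by
      rw [MulEquiv.apply_symm_apply]; exact hS)⟩
    have h := congrArg Subtype.val (MulEquiv.congr_fun hfix s)
    rw [MulAut.one_apply, restrictChar_coe] at h
    have h' := conjIsometry_mulVec x (s : Cfsg.isometryGroup F ⇑Q) v
    rw [h] at h'
    simpa [s, S] using h'
  obtain ⟨f, hf, hef⟩ := exists_pair hQ he0 he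
  obtain ⟨u, hu0, hu, huW⟩ := exists_singular_pairPerp hQ hn' he hf hef
  obtain ⟨y, hy, huy⟩ := exists_pair hQ hu0 hu
  obtain ⟨hue, huf⟩ := mem_pairPerp.1 huW
  set y' := y - polar Q y f • e - polar Q y e • f with hy'
  have hye : polar Q e y' = 0 := by
    simp [hy', polar_sub_right, polar_smul_right', polar_self', he, hef, polar_comm Q y e]
  have huy' : polar Q u y' = 1 := by
    simp [hy', polar_sub_right, polar_smul_right', huy, polar_comm Q u e, polar_comm Q u f, hue, huf]
  set p := slAct (x : GammaL ι F) e with hp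
  have key : ∀ w v, polar Q e w = 0 → polar Q v e = 0 → polar Q v w = 1 →
      ∃ a b : F, p = a • e + b • w := by
    intro w v hw hve hvw
    have h := hcomm w v hw
    set z := slAct (x : GammaL ι F) v with hz
    rw [siegel_apply, siegel_apply, hve, hvw, mul_zero, zero_smul, zero_smul, add_zero, sub_zero,
      one_smul, sub_eq_add_neg v e, slAct_add, show -e = (-1 : F) • e by simp, slAct_smul, map_neg,
      map_one, neg_one_smul, ← hz, ← hp] at h
    refine ⟨polar Q z w + Q w * polar Q z e, -polar Q z e, ?_⟩
    calc p = z - (z + -p) := by abel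
      _ = _ := by rw [← h]; module
  obtain ⟨a, b, hab⟩ := key u y' (by rw [← polar_comm]; simpa [polar_comm] using hue)
    (by rw [polar_comm]; exact hye) (by rw [polar_comm]; exact huy')
  obtain ⟨a', c, hac⟩ := key y' u hye (by rw [polar_comm]; simpa [polar_comm] using hue) huy'
  have hc : c = 0 := by
    have h := congrArg (polar Q u) (hab.symm.trans hac)
    simp [polar_add_right, polar_smul_right', polar_self', hu, huy', polar_comm Q u e, hue] at h
    exact h.symm
  rw [hc, zero_smul, add_zero] at hac
  refine ⟨a', fun h => he0 ?_, hac⟩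
  rw [h, zero_smul] at hac
  have := slAct_inv_apply (x : GammaL ι F) e
  rw [← hp, hac] at this
  simpa [slAct, ← Pi.zero_def] using this.symm

/-- The kernel of `autOmega`: field part trivial, matrix part scalar. -/
theorem autOmega_eq_one_iff (hQ : (polarBilin Q).Nondegenerate) (hn : 5 ≤ Fintype.card ι)
    (x : semiSim ⇑Q) :
    autOmega ⇑Q x = 1 ↔
      (x : GammaL ι F).right = 1 ∧ (x : GammaL ι F).left ∈ Cfsg.Geo.scalars ι F := by
  constructor
  · intro hx
    have hn' : 5 ≤ Module.finrank F (ι → F) := by simpa using hn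
    obtain ⟨e, he0, he⟩ := exists_singular hQ (by omega)
    obtain ⟨f, hf, hef⟩ := exists_pair hQ he0 he
    obtain ⟨u, hu0, hu, huW⟩ := exists_singular_pairPerp hQ hn' he hf hef
    obtain ⟨y, hy, huy⟩ := exists_pair hQ hu0 hu
    obtain ⟨hue, huf⟩ := mem_pairPerp.1 huW
    have hue' : polar Q u e = 0 := by simpa [polar_comm] using hue
    have huf' : polar Q u f = 0 := by simpa [polar_comm] using huf
    have hσ : (x : GammaL ι F).right = 1 := by
      refine RingEquiv.ext fun c => ?_
      show (x : GammaL ι F).right c = c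
      by_cases hc : c = 0
      · rw [hc, map_zero]
      obtain ⟨t, ht0, ht⟩ := slAct_singular hQ hn hx he0 he
      obtain ⟨r, hr0, hr⟩ := slAct_singular hQ hn hx hu0 hu
      have hne : ∀ d : F, d • e + u ≠ 0 ∧ Q (d • e + u) = 0 := fun d => by
        refine ⟨fun h => ?_, by rw [map_add', map_smul', polar_smul_left', he, hu, polar_comm, hue']; ring⟩
        have := congrArg (fun z => polar Q z y) h
        simp only [polar_add_left, polar_smul_left', huy, polar_zero_left] at this
        have h2 := congrArg (fun z => polar Q z f) h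
        simp only [polar_add_left, polar_smul_left', hef, huf', polar_zero_left, mul_one, add_zero] at h2
        rw [h2, zero_mul, zero_add] at this
        exact one_ne_zero this
      have hcoef : ∀ α β α' β' : F, α • e + β • u = α' • e + β' • u → α = α' ∧ β = β' := by
        intro α β α' β' h
        have hα : α = α' := by
          have := congrArg (fun z => polar Q z f) h
          simpa [polar_add_left, polar_smul_left', hef, huf'] using this
        refine ⟨hα, ?_⟩
        have := congrArg (fun z => polar Q z y) h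
        simpa [polar_add_left, polar_smul_left', hα, huy] using this
      have two : ∀ d : F, (x : GammaL ι F).right d * t = r * d := fun d => by
        obtain ⟨q, -, hq⟩ := slAct_singular hQ hn hx (hne d).1 (hne d).2
        rw [slAct_add, slAct_smul, ht, hr, smul_add, smul_smul, smul_smul] at hq
        obtain ⟨h1, h2⟩ := hcoef _ _ _ q hq
        rw [h1, h2]
      have h1 := two 1
      rw [map_one, one_mul, mul_one] at h1
      have := two c
      rw [← h1, mul_comm] at this
      exact mul_left_cancel₀ ht0 this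
    refine ⟨hσ, ?_⟩
    have hfix : ∀ v, v ≠ 0 → Q v = 0 →
        ∃ t : F, Matrix.toLin' ((x : GammaL ι F).left : Matrix ι ι F) v = t • v := fun v hv0 hv => by
      obtain ⟨t, -, ht⟩ := slAct_singular hQ hn hx hv0 hv
      refine ⟨t, ?_⟩
      rw [Matrix.toLin'_apply, ← ht, slAct, hσ]
      rfl
    obtain ⟨t, ht⟩ := exists_smul_of_fix_points hQ hn' hfix
    have hM : ((x : GammaL ι F).left : Matrix ι ι F) = t • 1 := matrix_eq_of_mulVec fun v => by
      rw [← Matrix.toLin'_apply, ht, smul_mulVec, one_mulVec]
    have ht0 : t ≠ 0 := fun h => he0 (by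
      obtain ⟨s, hs0, hs⟩ := slAct_singular hQ hn hx he0 he
      rw [slAct, hσ, hM, h, zero_smul, zero_mulVec] at hs
      exact (smul_eq_zero.1 hs.symm).resolve_left hs0)
    exact (Cfsg.Geo.mem_scalars_iff _).2 ⟨Units.mk0 t ht0, hM⟩
  · rintro ⟨h1, h2⟩
    obtain ⟨c, hc⟩ := (Cfsg.Geo.mem_scalars_iff _).1 h2
    have hid : conjIsometry ⇑Q x = 1 := MulEquiv.ext fun g => Subtype.ext (by
      rw [conjIsometry_coe, h1, map_one, MulAut.one_apply, MulAut.one_apply, mul_inv_eq_iff_eq_mul]
      refine Units.ext ?_
      rw [Units.val_mul, Units.val_mul, hc, Matrix.smul_mul, one_mul, Matrix.mul_smul, mul_one])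
    rw [autOmega, MonoidHom.comp_apply, MonoidHom.comp_apply, hid, map_one, map_one]

theorem simAut_eq_one_iff (hQ : (polarBilin Q).Nondegenerate) (hn : 5 ≤ Fintype.card ι)
    (g : Cfsg.Geo.quadSimilarityGroup ⇑Q) :
    simAut ⇑Q g = 1 ↔ (g : GL ι F) ∈ Cfsg.Geo.scalars ι F := by
  rw [simAut, MonoidHom.comp_apply, autOmega_eq_one_iff hQ hn]
  simp [simIncl]

end CfsgLib.Geometry
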