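import Cfsg.Agent.Lib.Geometry.SympDet
import Cfsg.Agent.Lib.Geometry.NegIsometry
import Cfsg.Agent.Lib.Geometry.SimAlgebra
import Cfsg.Agent.Lib.Geometry.OmegaTrans
import Cfsg.Agent.Lib.KnownB.BilinConj

/-! The centraliser of an isometry of odd order prime to the characteristic. -/

set_option autoImplicit false

namespace CfsgLib.Geometry

open QuadraticMap Polynomial

variable {F V : Type*} [Field F] [AddCommGroup V] [Module F V] [FiniteDimensional F V]
variable {Q : QuadraticForm F V}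

theorem aeval_commute (f : Module.End F V) (P R : F[X]) :
    aeval f P * aeval f R = aeval f R * aeval f P := by
  rw [← map_mul, ← map_mul, mul_comm]

/-- Polynomials in an element of order prime to `q` are fixed by a power of `q`. -/
theorem exists_aeval_pow_eq_self [Fintype F] {f : Module.End F V} {r : ℕ} (hr : 1 < r)
    (hfr : f ^ r = 1) (hcop : (Fintype.card F).Coprime r) (hodd : Odd (Fintype.card F)) :
    ∃ N, 3 ≤ N ∧ Odd N ∧ ∀ P : F[X], aeval f P ^ N = aeval f P := by
  set q := Fintype.card F with hq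
  have hmod : q ^ r.totient % r = 1 := by
    have h := Nat.ModEq.pow_totient hcop
    rw [Nat.ModEq, Nat.one_mod_eq_one.2 (by omega)] at h
    exact h
  have hexp : ∀ (j : ℕ) (P : F[X]), P ^ q ^ j = expand F (q ^ j) P := by
    intro j
    induction j with
    | zero => intro P; simp
    | succ j ih =>
      intro P
      rw [pow_succ, pow_mul, ih, ← FiniteField.expand_card, ← hq, Polynomial.expand_expand, mul_comm]
  refine ⟨q ^ r.totient, ?_, hodd.pow, fun P => ?_⟩
  · have h3 : 3 ≤ q := by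
      have := Fintype.one_lt_card (α := F)
      obtain ⟨k, hk⟩ := hodd
      omega
    exact h3.trans (Nat.le_self_pow (Nat.totient_pos.2 (by omega)).ne' q)
  · rw [← map_pow, hexp, expand_aeval, ← Nat.div_add_mod (q ^ r.totient) r, hmod, pow_add, pow_mul,
      hfr, one_pow, one_mul, pow_one]

/-- Determinant of a scalar on the image of a projection and one on its kernel. -/
theorem det_smul_proj {e : Module.End F V} (he : e * e = e) (c : F) :
    LinearMap.det (c • e + (1 - e)) = c ^ Module.finrank F (LinearMap.range e) ∧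
      Module.finrank F (LinearMap.range e) + Module.finrank F (LinearMap.ker e) = Module.finrank F V := by
  refine ⟨?_, LinearMap.finrank_range_add_finrank_ker e⟩
  have hee : ∀ v, e (e v) = e v := fun v => LinearMap.congr_fun he v
  have hc : IsCompl (LinearMap.range e) (LinearMap.ker e) := by
    refine ⟨disjoint_iff.2 (eq_bot_iff.2 fun v hv => ?_),
      codisjoint_iff.2 (eq_top_iff.2 fun v _ => Submodule.mem_sup.2 ⟨e v, ⟨v, rfl⟩, v - e v, ?_, ?_⟩)⟩
    · obtain ⟨⟨u, rfl⟩, h⟩ := hv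
      rw [SetLike.mem_coe, LinearMap.mem_ker, hee] at h
      exact h
    · rw [LinearMap.mem_ker, map_sub, hee, sub_self]
    · exact add_sub_cancel _ _
  let E := Submodule.prodEquivOfIsCompl _ _ hc
  have hE : (c • e + (1 - e) : Module.End F V) = (E : _ →ₗ[F] V) ∘ₗ
      ((c • LinearMap.id : LinearMap.range e →ₗ[F] LinearMap.range e).prodMap
        (LinearMap.id : LinearMap.ker e →ₗ[F] LinearMap.ker e)) ∘ₗ (E.symm : V →ₗ[F] _) := by
    refine LinearMap.ext fun v => ?_
    obtain ⟨⟨⟨a, u, rfl⟩, b⟩, rfl⟩ := E.surjective v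
    rw [LinearMap.comp_apply, LinearMap.comp_apply, LinearEquiv.coe_coe, LinearEquiv.coe_coe,
      E.symm_apply_apply]
    simp only [E, Submodule.coe_prodEquivOfIsCompl', LinearMap.prodMap_apply, LinearMap.add_apply,
      LinearMap.smul_apply, LinearMap.sub_apply, Module.End.one_apply, LinearMap.id_coe, id_eq,
      map_add, hee, LinearMap.mem_ker.1 b.2, Submodule.coe_smul]
    module
  rw [hE, LinearMap.det_conj, LinearMap.det_prodMap, LinearMap.det_id, mul_one, LinearMap.det_smul,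
    LinearMap.det_id, mul_one]

/-- The basic facts on `T = f + f⁻¹` and `S = f - f⁻¹`. -/
theorem moving_facts (hQ : (polarBilin Q).Nondegenerate) (h2 : (2 : F) ≠ 0)
    {f : Module.End F V} (hf : ∀ v, Q (f v) = Q v) {r : ℕ} (hr : Odd r) (hfr : f ^ r = 1) :
    (∀ u v, polar Q ((f + f ^ (r - 1)) u) v = polar Q u ((f + f ^ (r - 1)) v)) ∧
    (∀ u v, polar Q ((f - f ^ (r - 1)) u) v = -polar Q u ((f - f ^ (r - 1)) v)) ∧
    (∀ v, (f + f ^ (r - 1)) v = 0 → v = 0) ∧
    (∀ v, (f - f ^ (r - 1)) v = 0 → f v = v) ∧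
    f * f ^ (r - 1) = 1 ∧ (∀ u v, polar Q (f u) v = polar Q u ((f ^ (r - 1)) v)) := by
  obtain ⟨j, hj⟩ := hr
  set fi := f ^ (r - 1) with hfi
  have h1 : f * fi = 1 := by rw [hfi, ← pow_succ', show r - 1 + 1 = r by omega, hfr]
  have hp : ∀ u v, polar Q (f u) (f v) = polar Q u v := fun u v => by
    simp only [polar, ← map_add, hf]
  have hadj : ∀ u v, polar Q (f u) v = polar Q u (fi v) := fun u v => by
    conv_lhs => rw [show v = f (fi v) from (LinearMap.congr_fun h1 v).symm]
    exact hp _ _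
  have hadj' : ∀ u v, polar Q (fi u) v = polar Q u (f v) := fun u v => by
    rw [polar_comm, ← hadj, polar_comm]
  have hpow : ∀ v, f (f v) = v → f v = v := fun v hv => by
    have e : ∀ i : ℕ, (f ^ (2 * i)) v = v := fun i => by
      induction i with
      | zero => rfl
      | succ i ih =>
        rw [show 2 * (i + 1) = 2 * i + 1 + 1 by ring, pow_succ, pow_succ, Module.End.mul_apply,
          Module.End.mul_apply, hv, ih]
    have := LinearMap.congr_fun hfr v
    rw [hj, pow_succ', Module.End.mul_apply, e j] at this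
    exact this
  refine ⟨fun u v => ?_, fun u v => ?_, fun v hv => ?_, fun v hv => ?_, h1, hadj⟩
  · simp only [LinearMap.add_apply, polar_add_left, polar_add_right, hadj, hadj']
    ring
  · simp only [LinearMap.sub_apply, polar_sub_left, polar_sub_right, hadj, hadj']
    ring
  · have e1 : f (f v) = -v := by
      have := congrArg f hv
      rw [LinearMap.add_apply, map_add, map_zero, ← Module.End.mul_apply f fi, h1,
        Module.End.one_apply] at this
      exact eq_neg_of_add_eq_zero_left this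
    have e4 : ∀ i : ℕ, (f ^ (2 * i)) v = (-1 : F) ^ i • v := fun i => by
      induction i with
      | zero => simp
      | succ i ih =>
        rw [show 2 * (i + 1) = 2 * i + 1 + 1 by ring, pow_succ, pow_succ, Module.End.mul_apply,
          Module.End.mul_apply, e1, map_neg, ih, pow_succ, mul_smul, neg_one_smul, smul_neg]
    have := LinearMap.congr_fun hfr v
    rw [hj, pow_succ', Module.End.mul_apply, e4 j, map_smul, Module.End.one_apply] at this
    -- `f v = ± v`, so `v = -v`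
    have h := congrArg f this
    rw [map_smul, e1] at h
    have h' : (-1 : F) ^ j • ((-1 : F) ^ j • -v) = v := by rw [h, this]
    rw [smul_smul, ← mul_pow, neg_one_mul, neg_neg, one_pow, one_smul] at h'
    have : (2 : F) • v = 0 := by rw [two_smul]; exact neg_eq_iff_add_eq_zero.1 h'
    exact (smul_eq_zero.1 this).resolve_left h2
  · refine hpow v ?_
    have := congrArg f hv
    rw [LinearMap.sub_apply, map_sub, map_zero, ← Module.End.mul_apply f fi, h1,
      Module.End.one_apply, sub_eq_zero] at this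
    exact this

/-- An isometry commuting with `f`, of Dickson invariant `0` and nonsquare spinor norm. -/
theorem exists_special_commute [Finite F] (hQ : (polarBilin Q).Nondegenerate)
    (hR : reflGroup Q = orth Q) (h2 : (2 : F) ≠ 0) {f : Module.End F V} (hf : ∀ v, Q (f v) = Q v)
    {r : ℕ} (hr : Odd r) (hfr : f ^ r = 1) (hf1 : f ≠ 1) (hcop : (Nat.card F).Coprime r) :
    ∃ (g : orth Q) (t : SqClass F), t ≠ 1 ∧ orthInvariant hQ hR g = (t, 1) ∧
      ∀ v, (g : V ≃ₗ[F] V) (f v) = f ((g : V ≃ₗ[F] V) v) := by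
  classical
  haveI := Fintype.ofFinite F
  have hr1 : 1 < r := by
    obtain ⟨j, hj⟩ := hr
    rcases Nat.eq_zero_or_pos j with h | h
    · exact absurd (by rw [hj, h, mul_zero, zero_add, pow_one] at hfr; exact hfr) hf1
    · omega
  have hodd : Odd (Fintype.card F) := Nat.odd_iff.2 (FiniteField.odd_card_of_char_ne_two fun h => h2 (by
    haveI := ringChar.of_eq h
    exact CharTwo.two_eq_zero))
  obtain ⟨N, hN3, hNodd, hN⟩ := exists_aeval_pow_eq_self hr1 hfr
    (by rwa [Nat.card_eq_fintype_card] at hcop) hodd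
  obtain ⟨hT, hS, -, hSker, hffi, -⟩ := moving_facts hQ h2 hf hr hfr
  set fi := f ^ (r - 1) with hfi
  set T := f + fi with hTdef
  set S := f - fi with hSdef
  have hTp : T = aeval f (X + X ^ (r - 1) : F[X]) := by simp [hTdef, hfi]
  have hTN : ∀ P : F[X], aeval T P ^ N = aeval T P := fun P => by
    rw [hTp, ← Polynomial.aeval_comp]; exact hN _
  have hSP : S = aeval f (X - X ^ (r - 1) : F[X]) := by simp [hSdef, hfi]
  have hST : ∀ P : F[X], S * aeval T P = aeval T P * S := fun P => by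
    rw [hTp, ← Polynomial.aeval_comp, hSP]; exact aeval_commute f _ _
  have hSS : S * S = aeval T (X ^ 2 - C 4 : F[X]) := by
    rw [map_sub, map_pow, aeval_X, aeval_C, hSdef, hTdef]
    have hc : fi * f = 1 := by rw [hfi, ← pow_succ, show r - 1 + 1 = r by omega, hfr]
    simp only [pow_two, sub_mul, mul_sub, add_mul, mul_add, hffi, hc]
    rw [show (algebraMap F (Module.End F V)) (4 : F) = 1 + 1 + 1 + 1 by rw [map_ofNat]; norm_num]
    noncomm_ring
  have hsa : ∀ (P : F[X]) u v, polar Q (aeval T P u) v = polar Q u (aeval T P v) := by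
    intro P
    induction P using Polynomial.induction_on with
    | C a => intro u v; simp [polar_smul_left', polar_smul_right']
    | add p q hp hq => intro u v; simp [polar_add_left, polar_add_right, hp, hq]
    | monomial n a ih =>
      intro u v
      rw [pow_succ, ← mul_assoc, map_mul, aeval_X, Module.End.mul_apply, Module.End.mul_apply, ih, hT,
        ← Module.End.mul_apply T, show T * aeval T (C a * X ^ n) = aeval T (C a * X ^ n) * T by
          have := aeval_commute T X (C a * X ^ n)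
          rwa [aeval_X] at this]
      rfl
  -- the projection to the moving part
  obtain ⟨l, hl⟩ := hNodd
  have hepoly : S ^ (N - 1) = aeval T ((X ^ 2 - C 4 : F[X]) ^ l) := by
    rw [map_pow, ← hSS, ← pow_two, ← pow_mul]; congr 1; omega
  set P₁ : F[X] := (X ^ 2 - C 4 : F[X]) ^ l with hP₁
  have hSe : S * aeval T P₁ = S := by
    rw [← hepoly, ← pow_succ', show N - 1 + 1 = N by omega, hSP, hN]
  have hee : aeval T P₁ * aeval T P₁ = aeval T P₁ := by
    rw [← hepoly]
    calc S ^ (N - 1) * S ^ (N - 1) = S ^ N * S ^ (N - 2) := by rw [← pow_add, ← pow_add]; congr 1; omega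
      _ = S ^ (N - 1) := by rw [hSP, hN, ← pow_succ', show N - 2 + 1 = N - 1 by omega]
  have hne : aeval T P₁ ≠ 0 := fun h => hf1 (LinearMap.ext fun v => hSker v (by
    rw [show S = 0 by rw [← hSe, h, mul_zero]]; rfl))
  -- a minimal idempotent
  let p : ℕ → Prop := fun d => ∃ P : F[X], aeval T P * aeval T P = aeval T P ∧ aeval T P ≠ 0 ∧
    aeval T P₁ * aeval T P = aeval T P ∧ Module.finrank F (LinearMap.range (aeval T P)) = d
  have hp : ∃ d, p d := ⟨_, P₁, hee, hne, hee, rfl⟩
  obtain ⟨P₀, hεε, hε0, heε, hεd⟩ := Nat.find_spec hp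
  set ε := aeval T P₀ with hεdef
  have hmin : ∀ P : F[X], aeval T P * aeval T P = aeval T P → aeval T P ≠ 0 →
      ε * aeval T P = aeval T P → aeval T P = ε := by
    intro P hPP hP0 hεP
    have hle : LinearMap.range (aeval T P) ≤ LinearMap.range ε := by
      rintro _ ⟨v, rfl⟩; exact ⟨aeval T P v, by rw [← Module.End.mul_apply, hεP]⟩
    have hge : Nat.find hp ≤ Module.finrank F (LinearMap.range (aeval T P)) :=
      Nat.find_min' hp ⟨P, hPP, hP0, by rw [← hεP, ← mul_assoc, heε], rfl⟩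
    have heq := Submodule.eq_of_le_of_finrank_le hle (hεd.le.trans hge)
    refine LinearMap.ext fun v => ?_
    obtain ⟨u, hu⟩ : ε v ∈ LinearMap.range (aeval T P) := heq ▸ ⟨v, rfl⟩
    calc aeval T P v = aeval T P (ε v) := by
          rw [← Module.End.mul_apply, hεdef, aeval_commute, ← hεdef, hεP]
      _ = ε v := by rw [← hu, ← Module.End.mul_apply, hPP]
  -- the field
  let I : Ideal F[X] :=
    { carrier := {P | aeval T P * ε = 0}
      add_mem' := fun {a b} ha hb => by
        show aeval T (a + b) * ε = 0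
        rw [map_add, add_mul, ha, hb, add_zero]
      zero_mem' := by show aeval T (0 : F[X]) * ε = 0; rw [map_zero, zero_mul]
      smul_mem' := fun c x hx => by
        show aeval T (c * x) * ε = 0
        rw [map_mul, mul_assoc, hx, mul_zero] }
  haveI hmax : I.IsMaximal := by
    rw [Ideal.isMaximal_iff]
    refine ⟨fun h => hε0 (by
      have h' : aeval T (1 : F[X]) * ε = 0 := h
      rwa [map_one, one_mul] at h'), fun J P hIJ hP hPJ => ?_⟩
    have h1 : aeval T (P ^ (N - 1) * P₀) * aeval T (P ^ (N - 1) * P₀) = aeval T (P ^ (N - 1) * P₀) := by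
      rw [map_mul, mul_assoc, ← mul_assoc (aeval T P₀), aeval_commute T P₀, mul_assoc _ (aeval T P₀),
        ← hεdef, hεε, ← mul_assoc, map_pow]
      congr 1
      calc aeval T P ^ (N - 1) * aeval T P ^ (N - 1) = aeval T P ^ N * aeval T P ^ (N - 2) := by
            rw [← pow_add, ← pow_add]; congr 1; omega
        _ = _ := by rw [hTN, ← pow_succ']; congr 1; omega
    have h2' : aeval T (P ^ (N - 1) * P₀) ≠ 0 := fun h => hP (by
      show aeval T P * ε = 0
      have hNP : P ^ N * P₀ = P * (P ^ (N - 1) * P₀) := by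
        rw [← mul_assoc, ← pow_succ', show N - 1 + 1 = N by omega]
      calc aeval T P * ε = aeval T (P ^ N * P₀) := by rw [map_mul, map_pow, hTN]
        _ = 0 := by rw [hNP, map_mul, h, mul_zero])
    have h3 := hmin _ h1 h2' (by
      rw [hεdef, ← map_mul, show P₀ * (P ^ (N - 1) * P₀) = P ^ (N - 1) * (P₀ * P₀) by ring, map_mul,
        map_mul, map_mul, ← hεdef, hεε])
    have hI : P ^ (N - 1) - 1 ∈ I := by
      show aeval T (P ^ (N - 1) - 1) * ε = 0
      rw [map_sub, map_one, sub_mul, one_mul, hεdef, ← map_mul, h3, sub_self]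
    have hPN : P ^ (N - 1) ∈ J := by
      rw [show N - 1 = N - 2 + 1 by omega, pow_succ]; exact J.mul_mem_left _ hPJ
    have := J.sub_mem hPN (hIJ hI)
    rwa [sub_sub_cancel] at this
  let _ : Field (F[X] ⧸ I) := Ideal.Quotient.field I
  set mk : F[X] →+* (F[X] ⧸ I) := Ideal.Quotient.mk I with hmk
  have hmksurj : Function.Surjective mk := Ideal.Quotient.mk_surjective
  have hwd : ∀ P R : F[X], mk P = mk R → aeval T P * ε = aeval T R * ε := fun P R h => by
    have : aeval T (P - R) * ε = 0 := Ideal.Quotient.eq.1 h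
    rwa [map_sub, sub_mul, sub_eq_zero] at this
  let ψ₀ : (F[X] ⧸ I) → Module.End F V := fun x => aeval T (Function.surjInv hmksurj x) * ε
  have hψ : ∀ P, ψ₀ (mk P) = aeval T P * ε := fun P =>
    hwd _ _ (Function.surjInv_eq hmksurj (mk P))
  have halg : ∀ a : F, algebraMap F (F[X] ⧸ I) a = mk (C a) := fun a => rfl
  let ψ : (F[X] ⧸ I) →ₗ[F] Module.End F V :=
    { toFun := ψ₀
      map_add' := fun x y => by
        obtain ⟨P, rfl⟩ := hmksurj x; obtain ⟨R, rfl⟩ := hmksurj y
        rw [← map_add, hψ, hψ, hψ, map_add, add_mul]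
      map_smul' := fun a x => by
        obtain ⟨P, rfl⟩ := hmksurj x
        rw [Algebra.smul_def, halg, ← map_mul, hψ, hψ, map_mul, aeval_C, ← Algebra.smul_def]
        exact smul_mul_assoc a _ _ }
  have hψ' : ∀ P, ψ (mk P) = aeval T P * ε := hψ
  have hψmul : ∀ x y, ψ (x * y) = ψ x * ψ y := fun x y => by
    obtain ⟨P, rfl⟩ := hmksurj x; obtain ⟨R, rfl⟩ := hmksurj y
    rw [← map_mul, hψ', hψ', hψ', map_mul, mul_assoc, mul_assoc, ← mul_assoc ε, hεdef,
      aeval_commute T P₀ R, mul_assoc, ← hεdef, hεε]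
  have hψsa : ∀ x u v, polar Q (ψ x u) v = polar Q u (ψ x v) := fun x u v => by
    obtain ⟨P, rfl⟩ := hmksurj x
    rw [hψ', hεdef, ← map_mul]; exact hsa _ _ _
  have hψS : ∀ x, S * ψ x = ψ x * S := fun x => by
    obtain ⟨P, rfl⟩ := hmksurj x
    rw [hψ', hεdef, ← map_mul]; exact hST _
  have hψ1 : ψ 1 = ε := by rw [← map_one mk, hψ', map_one, one_mul]
  have hψinj : Function.Injective ψ := by
    refine (injective_iff_map_eq_zero ψ).2 fun x hx => ?_
    obtain ⟨P, rfl⟩ := hmksurj x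
    exact Ideal.Quotient.eq_zero_iff_mem.2 ((hψ' P).symm.trans hx)
  haveI : FiniteDimensional F (F[X] ⧸ I) := FiniteDimensional.of_injective ψ hψinj
  haveI : Finite (F[X] ⧸ I) := Module.finite_of_finite F
  haveI := Fintype.ofFinite (F[X] ⧸ I)
  set δ : (F[X] ⧸ I) := mk (X ^ 2 - C 4) with hδ
  have hψδ : ∀ x, S * (S * ψ x) = ψ (δ * x) := fun x => by
    rw [hψmul, hδ, hψ', ← hSS, ← mul_assoc, mul_assoc (S * S) ε]
    congr 1
    obtain ⟨P, rfl⟩ := hmksurj x
    rw [hψ', hεdef, ← mul_assoc, aeval_commute T P₀ P, mul_assoc, ← hεdef, hεε]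
  have hδ0 : δ ≠ 0 := fun h => hε0 (by
    have h' : aeval T (X ^ 2 - C 4 : F[X]) * ε = 0 := by rw [← hψ', ← hδ, h, map_zero]
    have : S * S * ε = 0 := by rw [hSS]; exact h'
    rw [← heε, ← hepoly, show N - 1 = N - 3 + 2 by omega, pow_add, pow_two, mul_assoc, this, mul_zero])
  -- a nonsingular vector in the image of the idempotent
  obtain ⟨w₀, hw₀, hQw₀⟩ : ∃ w₀, ε w₀ = w₀ ∧ Q w₀ ≠ 0 := by
    by_contra hcon
    push Not at hcon
    refine hε0 (LinearMap.ext fun v => hQ.1 _ fun u => ?_)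
    have hz : ∀ z, Q (ε z) = 0 := fun z => hcon _ (LinearMap.congr_fun hεε z)
    show polar Q (ε v) u = 0
    calc polar Q (ε v) u = polar Q (ε (ε v)) u := by rw [← Module.End.mul_apply, hεε]
      _ = polar Q (ε v) (ε u) := hsa P₀ _ _
      _ = 0 := by simp only [polar, ← map_add, hz, sub_zero]
  let φ : V → (F[X] ⧸ I) →ₗ[F] V := fun w => (LinearMap.applyₗ (R := F) w) ∘ₗ ψ
  have hφ : ∀ w x, φ w x = ψ x w := fun w x => rfl
  let β : (F[X] ⧸ I) → F := fun x => polar Q (ψ x w₀) w₀
  have hβ : ∀ y : (F[X] ⧸ I), (∀ x, β (x * y) = 0) → y = 0 := fun y hy => by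
    by_contra h0
    have := hy y⁻¹
    rw [inv_mul_cancel₀ h0] at this
    simp only [β, hψ1, hw₀, polar_self'] at this
    exact hQw₀ ((mul_eq_zero.1 this).resolve_left h2)
  have hcross : ∀ w x y, polar Q (ψ x w) (S (ψ y w)) = 0 := fun w x y => by
    have e1 : polar Q (ψ x w) (S (ψ y w)) = polar Q w (S (ψ (x * y) w)) := by
      rw [hψsa, hψmul, ← Module.End.mul_apply, ← Module.End.mul_apply, ← Module.End.mul_apply,
        ← hψS, mul_assoc]
    have e2 : polar Q (S (ψ (x * y) w)) w = -polar Q w (S (ψ (x * y) w)) := by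
      rw [hS, hψsa, ← Module.End.mul_apply (ψ (x * y)), ← hψS, Module.End.mul_apply]
    rw [polar_comm] at e2
    rw [e1]
    exact (mul_eq_zero.1 (show (2 : F) * _ = 0 by linear_combination e2)).resolve_left h2
  -- a nonsquare norm
  obtain ⟨ν, hν⟩ := FiniteField.exists_nonsquare (F := F) (fun h => h2 (by
    haveI := ringChar.of_eq h
    exact CharTwo.two_eq_zero))
  obtain ⟨e₀, he₀⟩ := FiniteField.norm_surjective F (F[X] ⧸ I) ν
  have h2K : (2 : (F[X] ⧸ I)) ≠ 0 := fun h => h2 ((algebraMap F (F[X] ⧸ I)).injective (by rw [map_ofNat, map_zero]; exact h))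
  obtain ⟨a, b, hab⟩ : ∃ a b : (F[X] ⧸ I), a ^ 2 - δ * b ^ 2 = e₀ := by
    obtain ⟨a, b, h⟩ := FiniteField.exists_root_sum_quadratic
      (f := (X ^ 2 - C e₀ : (F[X] ⧸ I)[X])) (g := C (-δ) * X ^ 2)
      (degree_X_pow_sub_C two_pos _) (degree_C_mul_X_pow 2 (neg_ne_zero.2 hδ0))
      (FiniteField.odd_card_of_char_ne_two fun h => h2K (by
        haveI := ringChar.of_eq h
        exact CharTwo.two_eq_zero))
    refine ⟨a, b, ?_⟩
    simp only [eval_sub, eval_pow, eval_X, eval_C, eval_mul] at h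
    linear_combination h
  have he₀0 : e₀ ≠ 0 := fun h => hν (by rw [← he₀, h, Algebra.norm_zero]; exact IsSquare.zero)
  set w₁ := ψ a w₀ + S (ψ b w₀) with hw₁
  have hcomb : ∀ x, ψ x w₁ = ψ (x * a) w₀ + S (ψ (x * b) w₀) := fun x => by
    rw [hw₁, map_add, hψmul, hψmul, Module.End.mul_apply, Module.End.mul_apply,
      ← Module.End.mul_apply (ψ x) S, ← hψS]
    rfl
  have hgram₁ : ∀ x y, polar Q (ψ x w₁) (ψ y w₁) = β (e₀ * (x * y)) := fun x y => by
    have hs : ∀ u v, polar Q (S (ψ u w₀)) (S (ψ v w₀)) = -β (u * v * δ) := fun u v => by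
      rw [hS, ← Module.End.mul_apply S (ψ v), ← Module.End.mul_apply S, hψδ, hψsa,
        ← Module.End.mul_apply, ← hψmul, polar_comm]
      simp only [β, mul_comm δ v, mul_assoc]
    rw [hcomb, hcomb, polar_add_left, polar_add_right, polar_add_right, hcross,
      polar_comm Q (S _) (ψ _ w₀), hcross, hs, zero_add, add_zero, hψsa, ← Module.End.mul_apply,
      ← hψmul, polar_comm]
    simp only [β]
    rw [← sub_eq_add_neg, ← polar_sub_left, ← LinearMap.sub_apply, ← map_sub]
    congr 3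
    rw [← hab]; ring
  have hgram₀ : ∀ x y, polar Q (ψ x w₀) (ψ y w₀) = β (x * y) := fun x y => by
    rw [hψsa, ← Module.End.mul_apply, ← hψmul, polar_comm]
  -- Gram matrices
  let bK := Module.finBasis F (F[X] ⧸ I)
  set d := Module.finrank F (F[X] ⧸ I)
  set G : Matrix (Fin d) (Fin d) F := Matrix.of fun i j => β (bK i * bK j) with hG
  have hG0 : G.det ≠ 0 := fun h0 => by
    obtain ⟨c, hc0, hc⟩ := Matrix.exists_mulVec_eq_zero_iff.2 h0
    refine hc0 (bK.equivFun.symm.injective ((hβ _ fun x => ?_).trans (map_zero _).symm))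
    let L : (F[X] ⧸ I) →ₗ[F] F := (polarLeft Q w₀) ∘ₗ φ w₀
    have hL : ∀ y, L y = β y := fun y => rfl
    rw [← bK.sum_repr x, Finset.sum_mul, ← hL, map_sum]
    refine Finset.sum_eq_zero fun i _ => ?_
    rw [smul_mul_assoc, map_smul, Module.Basis.equivFun_symm_apply, Finset.mul_sum, map_sum]
    have := congrFun hc i
    simp only [Matrix.mulVec, dotProduct, hG, Matrix.of_apply, Pi.zero_apply] at this
    rw [show ∑ j, L (bK i * c j • bK j) = ∑ j, β (bK i * bK j) * c j from
      Finset.sum_congr rfl fun j _ => by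
        rw [mul_smul_comm, map_smul, smul_eq_mul, hL, mul_comm], this, smul_zero]
  set L₀ := Algebra.leftMulMatrix bK e₀ with hL₀
  have hLdet : L₀.det = ν := by rw [hL₀, ← Algebra.norm_eq_matrix_det, he₀]
  have hd₀ : (Matrix.of fun i j => polar Q (φ w₀ (bK i)) (φ w₀ (bK j))) = G := by
    ext i j; exact hgram₀ _ _
  have hd₁ : (Matrix.of fun i j => polar Q (φ w₁ (bK i)) (φ w₁ (bK j))) = L₀.transpose * G := by
    ext i j
    rw [Matrix.of_apply, hφ, hφ, hgram₁, ← mul_assoc, Matrix.mul_apply]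
    conv_lhs => rw [← bK.sum_repr (e₀ * bK i), Finset.sum_mul]
    let L : (F[X] ⧸ I) →ₗ[F] F := (polarLeft Q w₀) ∘ₗ φ w₀
    rw [show β (∑ x, bK.repr (e₀ * bK i) x • bK x * bK j) = L (∑ x, bK.repr (e₀ * bK i) x • bK x * bK j)
      from rfl, map_sum]
    refine Finset.sum_congr rfl fun x _ => ?_
    rw [smul_mul_assoc, map_smul, smul_eq_mul, Matrix.transpose_apply, hL₀,
      Algebra.leftMulMatrix_eq_repr_mul]
    rfl
  have hn₁ : (Matrix.of fun i j => polar Q (φ w₁ (bK i)) (φ w₁ (bK j))).det ≠ 0 := by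
    rw [hd₁, Matrix.det_mul, Matrix.det_transpose, hLdet]
    exact mul_ne_zero (fun h => hν (h ▸ IsSquare.zero)) hG0
  have hn₀ : (Matrix.of fun i j => polar Q (φ w₀ (bK i)) (φ w₀ (bK j))).det ≠ 0 := by
    rw [hd₀]; exact hG0
  obtain ⟨R₀, hR₀n, hR₀f, -, hR₀i⟩ := exists_neg_isometry hQ hR h2 (fun i => φ w₀ (bK i)) hn₀
  obtain ⟨R₁, hR₁n, hR₁f, -, hR₁i⟩ := exists_neg_isometry hQ hR h2 (fun i => φ w₁ (bK i)) hn₁
  have hν0 : ν ≠ 0 := fun h => hν (h ▸ IsSquare.zero)
  refine ⟨R₀ * R₁, sqMk hν0, fun h => hν ((sqMk_eq_one_iff _).1 h), ?_, ?_⟩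
  · rw [map_mul, hR₀i, hR₁i, Prod.mk_mul_mk]
    refine Prod.ext ?_ (show Multiplicative.ofAdd (d : ZMod 2) * Multiplicative.ofAdd (d : ZMod 2) = 1 by
      rw [← ofAdd_add, CharTwo.add_self_eq_zero, ofAdd_zero])
    show sqMk _ * sqMk _ = sqMk hν0
    have hdG : (2 : F) ^ d * G.det ≠ 0 := mul_ne_zero (pow_ne_zero _ h2) hG0
    simp only [hd₀, hd₁, Matrix.det_mul, Matrix.det_transpose, hLdet, mul_left_comm _ ν]
    rw [sqMk_mul hν0 hdG, mul_left_comm, sqClass_mul_self, mul_one]
  -- commutation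
  have hspan : ∀ w x, φ w x ∈ Submodule.span F (Set.range fun i => φ w (bK i)) := fun w x => by
    rw [← bK.sum_repr x, map_sum]
    exact Submodule.sum_mem _ fun i _ => by
      rw [map_smul]; exact Submodule.smul_mem _ _ (Submodule.subset_span ⟨i, rfl⟩)
  have hact : ∀ (R : orth Q) (w : V),
      (∀ z ∈ Submodule.span F (Set.range fun i => φ w (bK i)), (R : V ≃ₗ[F] V) z = -z) →
      (∀ z, (∀ i, polar Q (φ w (bK i)) z = 0) → (R : V ≃ₗ[F] V) z = z) →
      ∀ s t, (R : V ≃ₗ[F] V) (ψ s w + S (ψ t w)) = -(ψ s w) + S (ψ t w) := fun R w hn hfx s t => by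
    rw [map_add, hn (ψ s w) (hspan w s), hfx (S (ψ t w)) fun i => hcross w _ _]
  let half : (F[X] ⧸ I) := mk (C (2 : F)⁻¹)
  have hψhalf : ∀ x, ψ (half * x) = (2 : F)⁻¹ • ψ x := fun x => by
    rw [show half * x = (2 : F)⁻¹ • x by rw [Algebra.smul_def, halg], map_smul]
  have hfE : f = (2 : F)⁻¹ • (T + S) := by
    rw [hTdef, hSdef, show f + fi + (f - fi) = (2 : F) • f by rw [two_smul]; abel, smul_smul,
      inv_mul_cancel₀ h2, one_smul]
  have hfiE : fi = (2 : F)⁻¹ • (T - S) := by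
    rw [hTdef, hSdef, show f + fi - (f - fi) = (2 : F) • fi by rw [two_smul]; abel, smul_smul,
      inv_mul_cancel₀ h2, one_smul]
  set τ : (F[X] ⧸ I) := mk X with hτ
  have hψτ : ∀ x, T * ψ x = ψ (τ * x) := fun x => by
    rw [hψmul, hτ, hψ', aeval_X]
    obtain ⟨P, rfl⟩ := hmksurj x
    rw [hψ', mul_assoc T, ← mul_assoc ε, hεdef, aeval_commute T P₀, mul_assoc, ← hεdef, hεε]
  have hSψ : ∀ x, T * (S * ψ x) = S * ψ (τ * x) := fun x => by
    rw [← hψτ, ← mul_assoc, ← mul_assoc,
      show T * S = S * T by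
        have := hST (X : F[X]); rw [aeval_X] at this; exact this.symm]
  have hfψ : ∀ w s t, f (ψ s w + S (ψ t w)) =
      ψ (half * (τ * s + δ * t)) w + S (ψ (half * (s + τ * t)) w) := fun w s t => by
    rw [hfE, LinearMap.smul_apply, LinearMap.add_apply, hψhalf, hψhalf, map_add ψ, map_add ψ,
      ← hψτ, ← hψδ]
    simp only [map_add, LinearMap.smul_apply, LinearMap.add_apply, Module.End.mul_apply, map_smul,
      ← hψτ]
    rw [← Module.End.mul_apply T S (ψ t w), show T * S = S * T by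
      have := hST (X : F[X]); rw [aeval_X] at this; exact this.symm, Module.End.mul_apply]
    module
  -- change of the generator
  have hchange : ∀ s t, ∃ s' t', ψ s w₀ + S (ψ t w₀) = ψ s' w₁ + S (ψ t' w₁) := fun s t => by
    refine ⟨(s * a - t * b * δ) * e₀⁻¹, (t * a - s * b) * e₀⁻¹, ?_⟩
    rw [hcomb, hcomb, map_add, ← Module.End.mul_apply S (ψ ((t * a - s * b) * e₀⁻¹ * b)),
      ← Module.End.mul_apply S (S * ψ ((t * a - s * b) * e₀⁻¹ * b)), hψδ]
    rw [show ∀ A B C D : V, (A + B) + (C + D) = (A + D) + (B + C) from fun A B C D => by abel,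
      ← map_add S, ← LinearMap.add_apply, ← LinearMap.add_apply, ← map_add ψ, ← map_add ψ]
    have ee : a * a - δ * (b * b) = e₀ := by rw [← hab]; ring
    congr 3 <;> (try refine congrArg ψ ?_) <;>
    · field_simp
      rw [← ee]; ring
  have hback : ∀ s t, ∃ s' t', ψ s w₁ + S (ψ t w₁) = ψ s' w₀ + S (ψ t' w₀) := fun s t => by
    refine ⟨s * a + δ * (t * b), s * b + t * a, ?_⟩
    rw [hcomb, hcomb, map_add, ← Module.End.mul_apply S (ψ (t * b)), ← Module.End.mul_apply S (S * ψ (t * b)), hψδ,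
      map_add ψ, map_add ψ, LinearMap.add_apply, LinearMap.add_apply, map_add]
    abel
  let U : Submodule F V := LinearMap.range (φ w₀) ⊔ LinearMap.range (S ∘ₗ φ w₀)
  have hU : ∀ z, z ∈ U ↔ ∃ s t, z = ψ s w₀ + S (ψ t w₀) := fun z => by
    constructor
    · intro hz
      obtain ⟨_, ⟨s, rfl⟩, _, ⟨t, rfl⟩, rfl⟩ := Submodule.mem_sup.1 hz
      exact ⟨s, t, rfl⟩
    · rintro ⟨s, t, rfl⟩
      exact add_mem (Submodule.mem_sup_left ⟨s, rfl⟩) (Submodule.mem_sup_right ⟨t, rfl⟩)
  have hfU : ∀ z ∈ U, f z ∈ U := fun z hz => by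
    obtain ⟨s, t, rfl⟩ := (hU z).1 hz
    exact (hU _).2 ⟨_, _, hfψ w₀ s t⟩
  have hUperp : U ⊓ polarPerp Q U = ⊥ := eq_bot_iff.2 fun z ⟨hz, hz'⟩ => by
    obtain ⟨s, t, rfl⟩ := (hU z).1 hz
    have hs0 : s = 0 := hβ s fun x => by
      have := mem_polarPerp.1 hz' (ψ x w₀) (Submodule.mem_sup_left ⟨x, rfl⟩)
      rwa [polar_add_right, hgram₀, hcross, add_zero] at this
    have ht0 : t * δ = 0 := hβ _ fun x => by
      have := mem_polarPerp.1 hz' (S (ψ x w₀)) (Submodule.mem_sup_right ⟨x, rfl⟩)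
      rw [polar_add_right, hS (ψ x w₀) (S _), ← Module.End.mul_apply S (ψ t),
        ← Module.End.mul_apply S (S * ψ t), hψδ, hgram₀, polar_comm, hcross, zero_add, neg_eq_zero,
        mul_comm δ t] at this
      exact this
    rw [Submodule.mem_bot, hs0, (mul_eq_zero.1 ht0).resolve_right hδ0]
    simp
  have htop : ∀ z, ∃ u ∈ U, ∃ u' ∈ polarPerp Q U, u + u' = z := fun z => by
    have h : U ⊔ polarPerp Q U = ⊤ := by
      refine Submodule.eq_top_of_finrank_eq ?_
      have := Submodule.finrank_sup_add_finrank_inf_eq U (polarPerp Q U)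
      rw [hUperp, finrank_bot] at this
      have := finrank_polarPerp hQ U
      omega
    exact Submodule.mem_sup.1 (h ▸ Submodule.mem_top)
  have hout : ∀ z ∈ polarPerp Q U,
      (R₀ : V ≃ₗ[F] V) z = z ∧ (R₁ : V ≃ₗ[F] V) z = z := fun z hz => by
    refine ⟨hR₀f z fun i => mem_polarPerp.1 hz _ (Submodule.mem_sup_left ⟨bK i, rfl⟩),
      hR₁f z fun i => mem_polarPerp.1 hz _ ?_⟩
    rw [hφ, hcomb]
    exact (hU _).2 ⟨_, _, rfl⟩
  have hfiU : ∀ z ∈ U, fi z ∈ U := fun z hz => by
    have e : ∀ n : ℕ, (f ^ n) z ∈ U := fun n => by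
      induction n with
      | zero => exact hz
      | succ n ih => rw [pow_succ', Module.End.mul_apply]; exact hfU _ ih
    exact e _
  intro z
  obtain ⟨u, hu, u', hu', rfl⟩ := htop z
  obtain ⟨-, -, -, -, -, hadj⟩ := moving_facts hQ h2 hf hr hfr
  have hfu' : f u' ∈ polarPerp Q U := mem_polarPerp.2 fun y hy => by
    rw [polar_comm, hadj, ← hfi, polar_comm]
    exact mem_polarPerp.1 hu' _ (hfiU y hy)
  simp only [map_add, Subgroup.coe_mul, LinearEquiv.mul_apply, (hout _ hu').1, (hout _ hu').2,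
    (hout _ hfu').1, (hout _ hfu').2, add_left_inj]
  obtain ⟨s, t, rfl⟩ := (hU u).1 hu
  obtain ⟨s₁, t₁, e₁⟩ := hchange s t
  obtain ⟨s₀, t₀, e₀'⟩ := hback (-s₁) t₁
  have g1 : (R₁ : V ≃ₗ[F] V) (ψ s w₀ + S (ψ t w₀)) = ψ s₀ w₀ + S (ψ t₀ w₀) := by
    rw [e₁, hact R₁ w₁ hR₁n hR₁f, ← e₀', map_neg ψ]; rfl
  rw [g1, hact R₀ w₀ hR₀n hR₀f]
  have g2 : (R₁ : V ≃ₗ[F] V) (f (ψ s w₀ + S (ψ t w₀))) =
      ψ (half * (τ * s₀ - δ * t₀)) w₀ + S (ψ (half * (-s₀ + τ * t₀)) w₀) := by
    have i0 : ψ (half * (τ * s₀ - δ * t₀)) w₀ + S (ψ (half * (-s₀ + τ * t₀)) w₀) =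
        (2 : F)⁻¹ • (T - S) (ψ s₀ w₀ + S (ψ t₀ w₀)) := by
      rw [hψhalf, hψhalf, map_sub ψ, map_add ψ (-s₀), map_neg ψ, ← hψτ, ← hψδ, ← hψτ t₀]
      simp only [map_add, map_sub, map_neg, LinearMap.smul_apply, LinearMap.sub_apply,
        LinearMap.add_apply, LinearMap.neg_apply, Module.End.mul_apply, map_smul]
      rw [← Module.End.mul_apply T S (ψ t₀ w₀), show T * S = S * T by
        have := hST (X : F[X]); rw [aeval_X] at this; exact this.symm, Module.End.mul_apply]
      module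
    rw [i0, ← e₀', e₁, hfψ, hact R₁ w₁ hR₁n hR₁f, hψhalf, hψhalf, map_add ψ, map_add ψ,
      ← hψτ, ← hψδ, ← hψτ t₁]
    simp only [map_add, map_neg, LinearMap.smul_apply, LinearMap.sub_apply, LinearMap.neg_apply,
      LinearMap.add_apply, Module.End.mul_apply, map_smul]
    rw [← Module.End.mul_apply T S (ψ t₁ w₁), show T * S = S * T by
      have := hST (X : F[X]); rw [aeval_X] at this; exact this.symm, Module.End.mul_apply]
    module
  rw [g2, hact R₀ w₀ hR₀n hR₀f, ← LinearMap.neg_apply, ← map_neg ψ, ← LinearMap.neg_apply, ← map_neg ψ,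
    hfψ]
  congr 3 <;> congr 1 <;> ring

end CfsgLib.Geometry
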