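import Cfsg.Agent.Lib.Geometry.SemisimpleSimilitude
import Cfsg.Agent.Lib.Geometry.PGOStd

/-! Conjugacy of semisimple elements of odd prime order under the similarity-induced groups. -/

set_option autoImplicit false

namespace CfsgLib.Geometry

open Matrix QuadraticMap

variable {ι : Type} [Fintype ι] [DecidableEq ι] {F : Type*} [Field F] [Finite F]
variable {M : Matrix ι ι F} {k : ℕ}

/-- An element of odd order lifts to an isometry of the same order. -/
theorem SimHyp.exists_lift_odd (D : SimHyp M k) {x : MulAut (Cfsg.POmega F ⇑(matQuad M))}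
    (hx : x ∈ Cfsg.pgoAut F ⇑(matQuad M)) {r : ℕ} (hr : Odd r) (hxr : x ^ r = 1) :
    ∃ h : Cfsg.isometryGroup F ⇑(matQuad M), h ^ r = 1 ∧ simAut _ (simIso _ h) = x := by
  rw [pgoAut_eq] at hx
  obtain ⟨g₀, rfl⟩ := hx
  have hsc : ∀ c, simAut ⇑(matQuad M) (simScalar (matQuad M) c) = 1 := fun c =>
    (simAut_eq_one_iff D.nondeg D.five_le _).2 (simScalar_mem_scalars _ c)
  obtain ⟨c, hc'⟩ := (simAut_eq_one_iff D.nondeg D.five_le (g₀ ^ r)).1 (by rw [map_pow, hxr])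
  have hc : g₀ ^ r = simScalar (matQuad M) c := (Subtype.ext hc').symm
  obtain ⟨j, hj⟩ := hr
  set μ := D.mult g₀ with hμ
  have hμr : μ ^ r = c * c := by
    rw [hμ, ← map_pow, hc, SimHyp.mult, simMult_scalar]
  set d := c * (μ ^ j)⁻¹ with hd
  have hdd : d * d = μ := by
    rw [hd, mul_mul_mul_comm, ← mul_inv, ← hμr, hj, pow_succ, two_mul, pow_add,
      mul_inv_eq_iff_eq_mul, mul_comm μ]
  have hcomm : ∀ a g, Commute (simScalar (matQuad M) a) g := fun a g => by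
    refine Subtype.ext (Units.ext ?_)
    show ((simScalar (matQuad M) a : GL ι F) : Matrix ι ι F) * ((g : GL ι F) : Matrix ι ι F) =
      ((g : GL ι F) : Matrix ι ι F) * _
    rw [simScalar_coe, smul_mul_assoc, one_mul, mul_smul_comm, mul_one]
  obtain ⟨e, he⟩ : ∃ e, e = (d ^ r)⁻¹ * c := ⟨_, rfl⟩
  have hee : e * e = 1 := by
    rw [he, mul_mul_mul_comm, ← mul_inv, ← mul_pow, hdd, hμr, inv_mul_cancel]
  set y := simScalar (matQuad M) e * ((simScalar (matQuad M) d)⁻¹ * g₀) with hy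
  have hyr : y ^ r = 1 := by
    rw [hy, (hcomm e _).mul_pow, (hcomm d g₀).inv_left.mul_pow, hc, ← map_inv, ← map_pow, ← map_pow,
      ← map_mul, ← map_mul, inv_pow, ← he, ← pow_succ, hj,
      show 2 * j + 1 + 1 = 2 * (j + 1) by ring, pow_mul, pow_two, hee, one_pow, map_one]
  have hym : (y : GL ι F) ∈ Cfsg.isometryGroup F ⇑(matQuad M) := by
    rw [← simMult_eq_one_iff D.ne, hy, map_mul, map_mul, map_inv, simMult_scalar, simMult_scalar,
      hee, hdd, one_mul, hμ, SimHyp.mult, inv_mul_cancel]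
  refine ⟨⟨_, hym⟩, Subtype.ext ?_, ?_⟩
  · exact congrArg (fun z : Cfsg.Geo.quadSimilarityGroup ⇑(matQuad M) => (z : GL ι F)) hyr
  · show simAut _ y = _
    rw [hy, map_mul, map_mul, map_inv, hsc, hsc, inv_one, one_mul, one_mul]

/-- The centraliser of a semisimple isometry of odd order contains a special isometry of nonsquare
spinor norm and a similitude of nonsquare multiplier. -/
theorem SimHyp.exists_centralizing (D : SimHyp M k) {ν : Fˣ} (hν : ¬ IsSquare (ν : F))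
    {h : Cfsg.isometryGroup F ⇑(matQuad M)} {r : ℕ} (hr : Odd r) (hrF : (r : F) ≠ 0)
    (hcop : (Nat.card F).Coprime r) (hhr : h ^ r = 1) (hh1 : h ≠ 1) :
    ∃ (s : Cfsg.isometryGroup F ⇑(matQuad M)) (t : SqClass F)
      (g : Cfsg.Geo.quadSimilarityGroup ⇑(matQuad M)), t ≠ 1 ∧
      isoInv D.nondeg D.two_ne s = (t, 1) ∧ D.mult g = ν ∧ D.chi g = 1 ∧
      Commute (simIso _ s) (simIso _ h) ∧ Commute g (simIso _ h) := by
  set A := ((h : GL ι F) : Matrix ι ι F) with hA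
  set f : Module.End F (ι → F) := Matrix.toLinAlgEquiv' A with hfdef
  have hfv : ∀ v, f v = A *ᵥ v := fun v => rfl
  have hf : ∀ v, matQuad M (f v) = matQuad M v := (mem_isometryGroup_iff _).1 h.2
  have hfr : f ^ r = 1 := by
    rw [hfdef, ← map_pow, hA, ← Units.val_pow_eq_pow_val, ← SubgroupClass.coe_pow, hhr,
      OneMemClass.coe_one, Units.val_one, map_one]
  have hf1 : f ≠ 1 := fun e => hh1 (Subtype.ext (Units.ext
    (Matrix.toLinAlgEquiv'.injective (e.trans (map_one _).symm))))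
  have hdim : Module.finrank F (ι → F) = 2 * k := by
    rw [Module.finrank_fintype_fun_eq_card, D.card_eq]
  obtain ⟨g₁, t, ht, hg₁, hgc⟩ := exists_special_commute D.nondeg
    (reflGroup_eq_orth_of_two_ne D.nondeg D.two_ne) D.two_ne hf hr hfr hf1 hcop
  obtain ⟨φ, hφ, hφc, hφd⟩ := exists_similitude_commute D.nondeg D.two_ne hdim hf hr hrF hfr hν
  have hBd : (LinearMap.toMatrix' φ).det ≠ 0 := by
    rw [LinearMap.det_toMatrix', hφd]; exact pow_ne_zero _ ν.ne_zero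
  let G := Matrix.GeneralLinearGroup.mkOfDetNeZero _ hBd
  have hG : ∀ v, matQuad M ((G : Matrix ι ι F) *ᵥ v) = (ν : F) * matQuad M v := fun v => by
    rw [show (G : Matrix ι ι F) = LinearMap.toMatrix' φ from rfl, LinearMap.toMatrix'_mulVec, hφ]
  let g : Cfsg.Geo.quadSimilarityGroup ⇑(matQuad M) := ⟨G, ν, hG⟩
  have hgm : D.mult g = ν := Units.ext (simMult_eq D.ne g hG)
  refine ⟨(isomEquiv (matQuad M)).symm g₁, t, g, ht, ?_, hgm, ?_, ?_, ?_⟩
  · show orthInvariant D.nondeg _ (isomEquiv (matQuad M) _) = _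
    rw [MulEquiv.apply_symm_apply, hg₁]
  · rw [SimHyp.chi, simChi_eq_one_iff, show simMult D.ne g = ν from hgm,
      show ((g : GL ι F) : Matrix ι ι F) = LinearMap.toMatrix' φ from rfl, LinearMap.det_toMatrix', hφd]
  · rw [Commute, SemiconjBy, ← map_mul, ← map_mul]
    refine congrArg _ (Subtype.ext (Units.ext (matrix_eq_of_mulVec fun v => ?_)))
    rw [Subgroup.coe_mul, Subgroup.coe_mul, Units.val_mul, Units.val_mul, ← mulVec_mulVec,
      ← mulVec_mulVec, isomEquiv_symm_mulVec, isomEquiv_symm_mulVec, ← hA, ← hfv, ← hfv, hgc]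
  · refine Subtype.ext (Units.ext (matrix_eq_of_mulVec fun v => ?_))
    show (LinearMap.toMatrix' φ * A) *ᵥ v = (A * LinearMap.toMatrix' φ) *ᵥ v
    rw [← mulVec_mulVec, ← mulVec_mulVec, LinearMap.toMatrix'_mulVec, LinearMap.toMatrix'_mulVec,
      ← hfv, ← hfv]
    exact LinearMap.congr_fun hφc v

/-- Conjugation by `H` and by a subgroup `N` agree when `H` is covered by `N` times the centraliser. -/
theorem isConjUnder_iff_of_cover {X : Type*} [Group X] {N H : Subgroup X} {x : X} (hle : N ≤ H)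
    (hcov : ∀ a ∈ H, ∃ n ∈ N, ∃ c, Commute c x ∧ a = n * c) (y : X) :
    Cfsg.IsConjUnder N x y ↔ Cfsg.IsConjUnder H x y := by
  refine ⟨fun ⟨a, ha, e⟩ => ⟨a, hle ha, e⟩, ?_⟩
  rintro ⟨a, ha, rfl⟩
  obtain ⟨n, hn, c, hc, rfl⟩ := hcov a ha
  refine ⟨n, hn, ?_⟩
  rw [_root_.mul_inv_rev, show n * c * x = n * (x * c) by rw [mul_assoc, hc.eq]]
  group

variable {P : Matrix ι ι F → Prop} {odd : Prop} {Q : (ι → F) → F}

/-- The classes of a semisimple element of odd prime order. -/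
theorem SimData.semisimple_conj (D : SimData M k P odd) (hQ : ⇑(matQuad M) = Q)
    (x : MulAut (Cfsg.POmega F Q)) (hx : x ∈ Cfsg.pgoAut F Q) {r : ℕ} (hr : Odd r)
    (hrF : (r : F) ≠ 0) (hcop : (Nat.card F).Coprime r) (hxr : x ^ r = 1) (hx1 : x ≠ 1) :
    (∀ y : MulAut (Cfsg.POmega F Q),
      (Cfsg.IsConjUnder (Cfsg.Inn (Cfsg.POmega F Q)) x y ↔ Cfsg.IsConjUnder (simSub Q P) x y) ∧
      (Cfsg.IsConjUnder (Cfsg.psoAut F Q) x y ↔ Cfsg.IsConjUnder (simSub Q P) x y)) ∧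
    (∀ y : MulAut (Cfsg.POmega F Q),
      Cfsg.IsConjUnder (Cfsg.poAut F Q) x y ↔ Cfsg.IsConjUnder (Cfsg.pgoAut F Q) x y) := by
  subst hQ
  obtain ⟨ν, g₀, h₀, hν, -⟩ := D.witness
  have E := D.hyp
  obtain ⟨h, hhr, rfl⟩ := E.exists_lift_odd hx hr hxr
  have hh1 : h ≠ 1 := by rintro rfl; exact hx1 (by rw [map_one, map_one])
  obtain ⟨s, t, g, ht, hs, hgm, hgc, hsh, hgh⟩ := E.exists_centralizing hν hr hrF hcop hhr hh1
  have hν' : sqHom F ν ≠ 1 := fun e => hν ((sqHom_eq_one_iff ν).1 e)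
  have hsd : E.chi (simIso _ s) = 1 := by
    rw [SimHyp.chi, simChi_iso, detHom_eq_one_iff E.nondeg E.two_ne, hs]
  have hcov : ∀ w, E.chi w = 1 → ∃ z, Commute z (simIso _ h) ∧
      outHom ⇑(matQuad M) w = outHom _ z := by
    intro w hw
    rcases sqClass_cases E.two_ne hν' (sqHom F (E.mult w)) with hw' | hw'
    · obtain ⟨c, h', rfl, hd⟩ := E.exists_scalar_mul_iso hw'
      rw [hw] at hd
      rw [map_mul, E.outHom_scalar, one_mul]
      rcases E.special_cover ht hs h' hd with e | e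
      · exact ⟨1, Commute.one_left _, e.trans (map_one _).symm⟩
      · exact ⟨simIso _ s, hsh, e⟩
    · obtain ⟨c, h', hch, hd⟩ := E.exists_scalar_mul_iso (g := g⁻¹ * w)
        (by rw [map_mul, map_mul, map_inv, map_inv, hgm, hw', inv_mul_cancel])
      rw [map_mul, map_inv, hgc, hw, inv_one, one_mul] at hd
      have e : outHom ⇑(matQuad M) w = outHom _ g * outHom _ (simIso _ h') := by
        rw [show w = g * (simScalar (matQuad M) c * simIso _ h') by rw [← hch, mul_inv_cancel_left],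
          map_mul, map_mul, E.outHom_scalar, one_mul]
      rcases E.special_cover ht hs h' hd with e' | e'
      · exact ⟨g, hgh, by rw [e, e', mul_one]⟩
      · exact ⟨g * simIso _ s, hgh.mul_left hsh, by rw [e, e', map_mul]⟩
  have hInnH : Cfsg.Inn (Cfsg.POmega F ⇑(matQuad M)) ≤ simSub ⇑(matQuad M) P := by
    rw [D.simSub_eq, inn_eq_map]
    rintro _ ⟨w, rfl⟩
    refine ⟨simIso _ w, ?_, rfl⟩
    rw [SetLike.mem_coe, MonoidHom.mem_ker, SimHyp.chi, simChi_iso,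
      detHom_eq_one_iff E.nondeg E.two_ne, (mem_Omega_iff_isoInv E.nondeg E.two_ne _).1 w.2]
    rfl
  have hInn : ∀ a ∈ simSub ⇑(matQuad M) P, ∃ n ∈ Cfsg.Inn (Cfsg.POmega F ⇑(matQuad M)),
      ∃ c, Commute c (simAut _ (simIso _ h)) ∧ a = n * c := by
    rw [D.simSub_eq]
    rintro _ ⟨w, hw, rfl⟩
    obtain ⟨z, hz, hwz⟩ := hcov w hw
    refine ⟨simAut _ (w * z⁻¹), ?_, simAut _ z, hz.map _, by rw [← map_mul, inv_mul_cancel_right]⟩
    have : outHom ⇑(matQuad M) (w * z⁻¹) = 1 := by rw [map_mul, map_inv, hwz, mul_inv_cancel]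
    exact (outHom_eq_one_iff _).1 this
  refine ⟨fun y => ⟨isConjUnder_iff_of_cover hInnH hInn y, isConjUnder_iff_of_cover ?_ ?_ y⟩,
    isConjUnder_iff_of_cover ?_ ?_⟩
  · rw [D.simSub_eq, psoAut_eq]
    rintro _ ⟨w, hw, rfl⟩
    obtain ⟨h', hd, rfl⟩ := (mem_specialIso_iff w).1 hw
    exact ⟨_, by rw [SetLike.mem_coe, MonoidHom.mem_ker, SimHyp.chi, simChi_iso, hd], rfl⟩
  · intro a ha
    obtain ⟨n, hn, c, hc, e⟩ := hInn a ha
    refine ⟨n, ?_, c, hc, e⟩
    rw [inn_eq_map] at hn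
    obtain ⟨w, rfl⟩ := hn
    rw [psoAut_eq]
    refine ⟨simIso _ w, (mem_specialIso_iff _).2 ⟨w, ?_, rfl⟩, rfl⟩
    rw [detHom_eq_one_iff E.nondeg E.two_ne, (mem_Omega_iff_isoInv E.nondeg E.two_ne _).1 w.2]
    rfl
  · rw [poAut_eq, pgoAut_eq]
    exact Subgroup.map_le_range _ _
  · rw [poAut_eq, pgoAut_eq]
    rintro _ ⟨w, rfl⟩
    have hcov' : ∃ z, Commute z (simIso _ h) ∧ sqHom F (E.mult (w * z⁻¹)) = 1 := by
      rcases sqClass_cases E.two_ne hν' (sqHom F (E.mult w)) with hw' | hw'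
      · exact ⟨1, Commute.one_left _, by rw [inv_one, mul_one, hw']⟩
      · exact ⟨g, hgh, by rw [map_mul, map_mul, map_inv, map_inv, hgm, hw', mul_inv_cancel]⟩
    obtain ⟨z, hz, hwz⟩ := hcov'
    obtain ⟨c, h', hch, -⟩ := E.exists_scalar_mul_iso hwz
    refine ⟨simAut _ (simIso _ h'), ⟨_, ⟨h', rfl⟩, rfl⟩, simAut _ z, hz.map _, ?_⟩
    rw [show w = simScalar (matQuad M) c * simIso _ h' * z by rw [← hch, inv_mul_cancel_right],
      map_mul, map_mul, (simAut_eq_one_iff E.nondeg E.five_le _).2 (simScalar_mem_scalars _ c), one_mul]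

omit [Finite F] in
theorem semisimple_prime_facts [Fintype F] {p : ℕ} [Fact p.Prime] [CharP F p] (hp : p ≠ 2)
    {r : ℕ} (hr : r.Prime) (hrp : r ≠ p) :
    (2 : F) ≠ 0 ∧ (r : F) ≠ 0 ∧ (Nat.card F).Coprime r := by
  have hpp : p.Prime := Fact.out
  refine ⟨fun h => hp ?_, fun h => hrp ?_, ?_⟩
  · have h' : ((2 : ℕ) : F) = 0 := by simpa using h
    exact (Nat.prime_dvd_prime_iff_eq hpp Nat.prime_two).1 ((CharP.cast_eq_zero_iff F p 2).1 h')
  · exact ((Nat.prime_dvd_prime_iff_eq hpp hr).1 ((CharP.cast_eq_zero_iff F p r).1 h)).symm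
  · obtain ⟨n, -, hn⟩ := FiniteField.card F p
    rw [Nat.card_eq_fintype_card, hn]
    exact ((Nat.coprime_primes hpp hr).2 (Ne.symm hrp)).pow_left _

end CfsgLib.Geometry
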