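import Cfsg.Agent.Lib.Geometry.SemisimpleCentral
import Cfsg.Agent.Lib.Geometry.FormClass
import Mathlib.LinearAlgebra.Transvection.Basic

/-! A similitude of nonsquare multiplier centralising an isometry of odd order. -/

set_option autoImplicit false

namespace CfsgLib.Geometry

open QuadraticMap CfsgLib.KnownB

universe u v

variable {F : Type u} {V : Type v} [Field F] [AddCommGroup V] [Module F V] [FiniteDimensional F V]
variable {Q : QuadraticForm F V}

/-- The determinant of a reflection. -/
theorem det_refl (a : V) (ha : Q a ≠ 0) :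
    LinearMap.det ((refl Q a ha : V ≃ₗ[F] V) : V →ₗ[F] V) = -1 := by
  have e : ((refl Q a ha : V ≃ₗ[F] V) : V →ₗ[F] V) =
      LinearMap.transvection (-(Q a)⁻¹ • polarLeft Q a) a := by
    refine LinearMap.ext fun v => ?_
    rw [LinearEquiv.coe_coe, refl_apply, LinearMap.transvection.apply]
    simp [sub_eq_add_neg, neg_smul]
  rw [e, LinearMap.transvection.det, LinearMap.smul_apply, polarLeft_apply, polar_self', smul_eq_mul]
  field_simp
  ring

/-- Gram determinants under a map with `polar (φ u) (φ v) = polar u (M v)`. -/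
theorem det_sq_of_polar (hQ : (polarBilin Q).Nondegenerate) {φ M : V →ₗ[F] V}
    (h : ∀ u v, polar Q (φ u) (φ v) = polar Q u (M v)) :
    LinearMap.det φ * LinearMap.det φ = LinearMap.det M := by
  classical
  let b := Module.finBasis F V
  have e : LinearMap.BilinForm.comp (polarBilin Q) φ φ = LinearMap.BilinForm.compRight (polarBilin Q) M :=
    LinearMap.BilinForm.ext fun u v => h u v
  have e' := congrArg (fun B => (LinearMap.BilinForm.toMatrix b B).det) e
  simp only [LinearMap.BilinForm.toMatrix_comp b b, LinearMap.BilinForm.toMatrix_compRight,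
    Matrix.det_mul, Matrix.det_transpose, LinearMap.det_toMatrix] at e'
  have hG : (LinearMap.BilinForm.toMatrix b (polarBilin Q)).det ≠ 0 :=
    (LinearMap.BilinForm.nondegenerate_iff_det_ne_zero b).1 hQ
  exact mul_right_cancel₀ hG (by linear_combination e')

/-- Nondegeneracy on the kernel of a self-adjoint idempotent. -/
theorem nondeg_ker_idem (hQ : (polarBilin Q).Nondegenerate) {e : Module.End F V}
    (he : e * e = e) (hsa : ∀ u v, polar Q (e u) v = polar Q u (e v)) :
    (polarBilin (Q.comp (LinearMap.ker e).subtype)).Nondegenerate := by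
  have hr : LinearMap.IsRefl (polarBilin (Q.comp (LinearMap.ker e).subtype)) := fun u v h => by
    rw [polarBilin_apply_apply, polar_comm]; exact h
  refine hr.nondegenerate_iff_separatingLeft.2 fun w hw => ?_
  refine Subtype.ext (hQ.1 _ fun v => ?_)
  show polar Q (w : V) v = 0
  have h1 : polar Q (w : V) (e v) = 0 := by
    rw [← hsa, LinearMap.mem_ker.1 w.2]; exact QuadraticMap.polar_zero_left ..
  have h2 : v - e v ∈ LinearMap.ker e := by
    rw [LinearMap.mem_ker, map_sub, ← Module.End.mul_apply, he, sub_self]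
  have h3 : polar Q (w : V) (v - e v) = 0 := by
    have := hw ⟨v - e v, h2⟩
    simpa only [polarBilin_apply_apply, polar, QuadraticMap.comp_apply, map_add,
      Submodule.coe_subtype] using this
  rw [← sub_add_cancel v (e v), polar_add_right, h3, h1, add_zero]

/-- An even-dimensional form is similar to itself with any multiplier. -/
theorem exists_similitude_self [Finite F] (h2 : (2 : F) ≠ 0) (hQ : (polarBilin Q).Nondegenerate)
    (hev : Even (Module.finrank F V)) {ν : F} (hν : ν ≠ 0) :
    ∃ g : V ≃ₗ[F] V, ∀ v, Q (g v) = ν * Q v := by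
  classical
  have hQν : (polarBilin (ν • Q)).Nondegenerate := by
    have hr : LinearMap.IsRefl (polarBilin (ν • Q)) := fun u v h => by
      rw [polarBilin_apply_apply, polar_comm]; exact h
    refine hr.nondegenerate_iff_separatingLeft.2 fun w hw => hQ.1 _ fun v => ?_
    have := hw v
    rw [polarBilin_apply_apply] at this ⊢
    rw [QuadraticMap.coeFn_smul, QuadraticMap.polar_smul, smul_eq_mul] at this
    exact (mul_eq_zero.1 this).resolve_left hν
  let b := Module.finBasis F V
  obtain ⟨g, hg⟩ := exists_isometry_of_disc h2 Q hQν hQ rfl b b (by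
    have : (Matrix.of fun i j => polar (ν • Q) (b i) (b j)) =
        ν • (Matrix.of fun i j => polar Q (b i) (b j)) := by
      ext i j
      simp [QuadraticMap.coeFn_smul, QuadraticMap.polar_smul]
    rw [this, Matrix.det_smul, Fintype.card_fin, mul_assoc]
    obtain ⟨t, ht⟩ := hev
    exact ⟨ν ^ t * (Matrix.of fun i j => polar Q (b i) (b j)).det, by rw [show ν ^ Module.finrank F V = ν ^ t * ν ^ t by rw [← pow_add, ← ht]]; ring⟩)
  exact ⟨g, fun v => by rw [hg, QuadraticMap.smul_apply, smul_eq_mul]⟩

/-- A similitude of nonsquare multiplier `ν` and determinant `ν ^ k` commuting with `f`. -/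
theorem exists_similitude_commute [Finite F] (hQ : (polarBilin Q).Nondegenerate)
    (h2 : (2 : F) ≠ 0) {k : ℕ} (hk : Module.finrank F V = 2 * k) {f : Module.End F V}
    (hf : ∀ v, Q (f v) = Q v) {r : ℕ} (hr : Odd r) (hrF : (r : F) ≠ 0) (hfr : f ^ r = 1)
    {ν : F} (hν : ¬ IsSquare ν) :
    ∃ φ : Module.End F V, (∀ v, Q (φ v) = ν * Q v) ∧ φ * f = f * φ ∧ LinearMap.det φ = ν ^ k := by
  have hν0 : ν ≠ 0 := fun h => hν (h ▸ IsSquare.zero)
  set B := polarBilin Q with hBdef
  have hsym : ∀ x y, B y x = 1 * B x y := fun x y => by rw [one_mul]; exact polar_comm _ _ _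
  have hfiso : ∀ x y, B (f x) (f y) = B x y := fun x y => by
    simp only [hBdef, polarBilin_apply_apply, polar, ← map_add, hf]
  obtain ⟨e, w, hM⟩ := BilinConj.exists_moving hrF hfr
  set fi := f ^ (r - 1) with hfi
  haveI : Finite V := Module.finite_of_finite F
  haveI : Finite (Module.End F V) := Finite.of_injective _ DFunLike.coe_injective
  have hI := BilinConj.isInvol_adj B hQ (one_mul 1) hsym
  obtain ⟨af, afi, ae, aw⟩ := hM.adj_facts B hQ (one_mul 1) hsym hfiso
  obtain ⟨hfe, hfw, hffi, hfie, hfiw⟩ := hM.self_commute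
  have hadj : ∀ X x y, polar Q (X x) y = polar Q x (BilinConj.adj B hQ X y) :=
    BilinConj.adj_spec' B hQ (one_mul 1) hsym
  have hsmul : ∀ (c : F) (X : Module.End F V), BilinConj.adj B hQ (c • X) = c • BilinConj.adj B hQ X :=
    fun c X => BilinConj.adj_eq B hQ fun x y => by simp [BilinConj.adj_spec]
  have hneg : ∀ φ, BilinConj.adj B hQ (-φ) = - BilinConj.adj B hQ φ := fun φ =>
    BilinConj.adj_eq B hQ fun x y => by simp [BilinConj.adj_spec]
  set θ : Module.End F V := (2⁻¹ : F) • e + (f - fi) with hθ
  have hst : BilinConj.adj B hQ θ = (2⁻¹ : F) • e - (f - fi) := by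
    rw [hθ, hI.map_add, hsmul, ae, sub_eq_add_neg f fi, hI.map_add, hneg, af, afi]
    abel
  have hfθ : Commute f θ := (hfe.smul_right _).add_right ((Commute.refl f).sub_right hffi)
  have hfθ' : Commute f (BilinConj.adj B hQ θ) :=
    hst ▸ (hfe.smul_right _).sub_right ((Commute.refl f).sub_right hffi)
  have hθ1 : θ + BilinConj.adj B hQ θ = e := by
    rw [hst, hθ]
    calc (2⁻¹ : F) • e + (f - fi) + ((2⁻¹ : F) • e - (f - fi)) = (2⁻¹ : F) • e + (2⁻¹ : F) • e := by abel
      _ = e := by rw [← add_smul, show (2⁻¹ : F) + 2⁻¹ = 1 by field_simp; norm_num, one_smul]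
  obtain ⟨c, -, hcc, hce, hccomm⟩ := NormTrick.exists_factor_corner hI (a := ν • (1 : Module.End F V))
    (θ := θ) (e := e) (w := (2⁻¹ : F) • w) hM.idem ae
    (by rw [hsmul, hI.map_one])
    (IsUnit.of_mul_eq_one (ν⁻¹ • (1 : Module.End F V))
      (by rw [smul_mul_smul_comm, mul_inv_cancel₀ hν0, one_mul, one_smul]))
    ((Commute.one_left e).smul_left ν) ((Commute.one_right θ).smul_right ν)
    ((hM.commute hfθ.symm).1)
    (by rw [hst]; exact ((hM.commute hfθ.symm).1.smul_right _).sub_right
          (hfθ.symm.sub_right (hM.commute hfθ.symm).2.2))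
    hθ1
    (by rw [hθ, add_mul, smul_mul_assoc, hM.idem, hM.De])
    (by rw [hst, hθ, show (2⁻¹ : F) • e + (f - fi) - ((2⁻¹ : F) • e - (f - fi)) = (2 : F) • (f - fi) by
          rw [two_smul]; abel, smul_mul_assoc, mul_smul_comm, smul_smul, mul_inv_cancel₀ h2, one_smul,
          hM.Dw])
    (by rw [mul_smul_comm, hM.ew])
  have hfc : Commute f c := hccomm f ((Commute.one_right f).smul_right ν) hfe hfθ hfθ'
  rw [smul_mul_assoc, one_mul] at hcc
  set M : Module.End F V := ν • e + (1 - e) with hMdef
  have hcM : ∀ u v, polar Q (c u) (c v) = polar Q u (M v) := fun u v => by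
    rw [hadj, ← Module.End.mul_apply, hcc]
  obtain ⟨hdetM, hdim⟩ := det_smul_proj hM.idem ν
  have hevd : Even (Module.finrank F (LinearMap.range e)) := by
    by_contra h
    obtain ⟨t, ht⟩ := Nat.not_even_iff_odd.1 h
    have h1 := det_sq_of_polar hQ hcM
    rw [hdetM, ht] at h1
    exact hν ⟨LinearMap.det c / ν ^ t, by
      field_simp
      rw [pow_add, pow_mul] at h1
      linear_combination -h1⟩
  set W := LinearMap.ker e with hW
  have hsa : ∀ u v, polar Q (e u) v = polar Q u (e v) := fun u v => by rw [hadj, ae]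
  have hevW : Even (Module.finrank F W) := by
    rw [hk] at hdim
    rcases hevd with ⟨t, ht⟩
    exact ⟨k - t, by omega⟩
  obtain ⟨σ, hσ⟩ := exists_similitude_self h2 (nondeg_ker_idem hQ hM.idem hsa) hevW hν0
  have hπ : ∀ v, (1 - e : Module.End F V) v ∈ W := fun v => by
    rw [hW, LinearMap.mem_ker, ← Module.End.mul_apply, mul_sub, mul_one, hM.idem, sub_self]
    rfl
  let π : V →ₗ[F] W := LinearMap.codRestrict W (1 - e : Module.End F V) hπ
  let ψ : Module.End F V := W.subtype ∘ₗ (σ : W →ₗ[F] W) ∘ₗ π + e
  have hψ : ∀ v, ψ v = (σ (π v) : V) + e v := fun v => rfl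
  have heψ : ∀ v, e (ψ v) = e v := fun v => by
    rw [hψ, map_add, LinearMap.mem_ker.1 (σ (π v)).2, zero_add, ← Module.End.mul_apply, hM.idem]
  have hfW : ∀ v ∈ W, f v = v := fun v hv => by
    obtain ⟨-, -, -, hker, -, -⟩ := moving_facts hQ h2 hf hr hfr
    refine hker v ?_
    rw [← hM.De, Module.End.mul_apply, LinearMap.mem_ker.1 hv, map_zero]
  have hfψ : ψ * f = f * ψ := by
    refine LinearMap.ext fun v => ?_
    have hπf : π (f v) = π v := by
      refine Subtype.ext ?_
      show f v - e (f v) = v - e v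
      rw [← Module.End.mul_apply e f, ← hfe.eq, Module.End.mul_apply, ← map_sub]
      exact hfW _ (hπ v)
    rw [Module.End.mul_apply, Module.End.mul_apply, hψ, hψ, hπf, map_add,
      hfW _ (σ (π v)).2, ← Module.End.mul_apply e f, ← hfe.eq, Module.End.mul_apply]
  -- the similitude
  set φ : Module.End F V := c * ψ with hφdef
  have hperp : ∀ (x : W) v, polar Q (x : V) (e v) = 0 := fun x v => by
    rw [← hsa, LinearMap.mem_ker.1 x.2]; exact QuadraticMap.polar_zero_left ..
  have hφp : ∀ v, Q (φ v) = ν * Q v := fun v => by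
    refine mul_left_cancel₀ h2 ?_
    rw [← polar_self', ← mul_assoc, mul_comm (2 : F) ν, mul_assoc, ← polar_self', hφdef,
      Module.End.mul_apply, hcM, hMdef]
    simp only [LinearMap.add_apply, LinearMap.smul_apply, LinearMap.sub_apply, Module.End.one_apply,
      polar_add_right, polar_sub_right, polar_smul_right', heψ]
    have hv : v = (π v : V) + e v := by
      show v = (v - e v) + e v
      rw [sub_add_cancel]
    conv_rhs => rw [hv, polar_add_left, polar_add_right, polar_add_right]
    have hσ' : polar Q (σ (π v) : V) (σ (π v) : V) = ν * polar Q (π v : V) (π v : V) := by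
      rw [polar_self', polar_self']
      have := hσ (π v)
      simp only [QuadraticMap.comp_apply, Submodule.coe_subtype] at this
      rw [this]; ring
    rw [hψ, polar_add_left, polar_add_left, polar_add_right, polar_add_right, hperp, hperp, hσ',
      polar_comm Q (e v) (σ (π v) : V), hperp, polar_comm Q (e v) (π v : V), hperp]
    ring
  have hφf : φ * f = f * φ := by
    rw [hφdef, mul_assoc, hfψ, ← mul_assoc, ← hfc.eq, mul_assoc]
  have hdet2 : LinearMap.det φ * LinearMap.det φ = (ν ^ k) * (ν ^ k) := by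
    rw [det_sq_of_polar hQ (M := ν • (1 : Module.End F V)) fun u v => by
      rw [LinearMap.smul_apply, Module.End.one_apply, polar_smul_right']
      simp only [polar, ← map_add, hφp]
      ring]
    rw [LinearMap.det_smul, map_one, mul_one, hk, two_mul, pow_add]
  rcases mul_self_eq_mul_self_iff.1 hdet2 with hd | hd
  · exact ⟨φ, hφp, hφf, hd⟩
  by_cases hWbot : W = ⊥
  · -- symplectic structure
    have hSinj : Function.Injective (f - fi) := (injective_iff_map_eq_zero (f - fi)).2 fun v hv => by
      have : v ∈ W := by rw [hW, LinearMap.mem_ker, ← hM.wD, Module.End.mul_apply, hv, map_zero]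
      rw [hWbot] at this; exact this
    obtain ⟨-, hS, -, -, -, -⟩ := moving_facts hQ h2 hf hr hfr
    let ω : LinearMap.BilinForm F V := LinearMap.BilinForm.compRight B (f - fi)
    have hω : ∀ u v, ω u v = polar Q u ((f - fi) v) := fun u v => rfl
    have hA : ω.IsAlt := fun u => by
      have h := hS u u
      rw [← hfi, polar_comm] at h
      rw [hω]
      exact (mul_eq_zero.1 (show (2 : F) * _ = 0 by linear_combination h)).resolve_left h2
    have hωn : ∀ u, (∀ v, ω u v = 0) → u = 0 := fun u hu => hQ.1 u fun v => by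
      obtain ⟨x, rfl⟩ := LinearMap.injective_iff_surjective.1 hSinj v
      exact hu x
    have hφS : ∀ v, (f - fi) (φ v) = φ ((f - fi) v) := fun v => by
      have h1 : Commute φ (f - fi) := Commute.sub_right hφf (Commute.pow_right hφf _)
      exact (LinearMap.congr_fun h1.eq v).symm
    refine ⟨φ, hφp, hφf, det_alt_similitude hA hωn hν0 (fun u v => ?_) hk⟩
    rw [hω, hω, hφS]
    simp only [polar, ← map_add, hφp]
    ring
  · obtain ⟨a, haW, hQa⟩ : ∃ a ∈ W, Q a ≠ 0 := by
      by_contra hcon
      push Not at hcon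
      refine hWbot (eq_bot_iff.2 fun x hx => ?_)
      have := (nondeg_ker_idem hQ hM.idem hsa).1 ⟨x, hx⟩ fun y => by
        simp only [polarBilin_apply_apply, polar, QuadraticMap.comp_apply, map_add,
          Submodule.coe_subtype]
        rw [hcon _ (add_mem hx y.2), hcon _ hx, hcon _ y.2, sub_zero, sub_zero]
      exact congrArg Subtype.val this
    refine ⟨φ * ((refl Q a hQa : V ≃ₗ[F] V) : V →ₗ[F] V), fun v => ?_, ?_, ?_⟩
    · rw [Module.End.mul_apply, hφp, LinearEquiv.coe_coe, mem_orth.1 (refl_mem_orth Q a hQa)]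
    · rw [mul_assoc, show ((refl Q a hQa : V ≃ₗ[F] V) : V →ₗ[F] V) * f =
        f * ((refl Q a hQa : V ≃ₗ[F] V) : V →ₗ[F] V) from ?_, ← mul_assoc, hφf, mul_assoc]
      refine LinearMap.ext fun v => ?_
      have hp : polar Q (f v) a = polar Q v a := by
        conv_lhs => rw [← hfW a haW]
        exact hfiso v a
      simp only [Module.End.mul_apply, LinearEquiv.coe_coe, refl_apply, map_sub, map_smul,
        hfW a haW, hp]
    · rw [map_mul, det_refl, hd, neg_mul_neg, mul_one]

end CfsgLib.Geometry
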