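import Cfsg.Agent.Lib.Geometry.SimInvariant
import Cfsg.Agent.Lib.Geometry.OmegaTrans

/-! Similarities of hyperbolic forms and the two classes of maximal totally singular subspaces. -/

set_option autoImplicit false

namespace CfsgLib.Geometry

open Matrix QuadraticMap

variable {ι : Type} [Fintype ι] [DecidableEq ι] {F : Type*} [Field F] [Finite F]

/-- A similarity of a hyperbolic form fixes the classes of maximal totally singular subspaces
exactly when its determinant is the power of the multiplier. -/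
theorem preservesSingularClasses_iff (h2 : (2 : F) ≠ 0) {Q : QuadraticForm F (ι → F)}
    (hQ : (polarBilin Q).Nondegenerate) {k : ℕ}
    (E : (ι → F) ≃ₗ[F] (Fin k ⊕ Fin k → F)) (hE : ∀ v, Cfsg.quadFormPlus k F (E v) = Q v)
    {g : Matrix ι ι F} {c : F} (hc : c ≠ 0) (hg : ∀ v, Q (g *ᵥ v) = c * Q v)
    (hdet : g.det ≠ 0) :
    Cfsg.PreservesSingularClasses ⇑Q g ↔ g.det = c ^ k := by
  have hR := reflGroup_eq_orth_of_two_ne hQ h2
  have hV : Module.finrank F (ι → F) = 2 * k := by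
    rw [E.finrank_eq, Module.finrank_fintype_fun_eq_card, Fintype.card_sum, Fintype.card_fin, two_mul]
  -- the standard maximal subspace and its scaling
  obtain ⟨U₀, hU₀⟩ : ∃ U₀ : Submodule F (ι → F), U₀ = (LinearMap.ker
    (LinearMap.funLeft F F (Sum.inr : Fin k → Fin k ⊕ Fin k))).map (E.symm : _ →ₗ[F] (ι → F)) :=
    ⟨_, rfl⟩
  have hU₀mem : ∀ v, v ∈ U₀ ↔ ∀ i, E v (Sum.inr i) = 0 := fun v => by
    rw [hU₀, Submodule.map_equiv_eq_comap_symm, Submodule.mem_comap, LinearMap.mem_ker,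
      funext_iff, LinearEquiv.symm_symm]
    rfl
  have hU₀max : IsMaxSing Q k U₀ := by
    refine ⟨?_, fun v hv => ?_⟩
    · rw [hU₀, LinearEquiv.finrank_map_eq]; exact (isMaxSing_ker_inr k).1
    · rw [← hE]
      exact Finset.sum_eq_zero fun i _ => by rw [(hU₀mem v).1 hv i, mul_zero]
  let d : Fin k ⊕ Fin k → F := Sum.elim (fun _ => c) fun _ => 1
  have hdd : (diagonal d).det = c ^ k := by
    rw [det_diagonal, Fintype.prod_sum_type]; simp [d]
  let D₀ : (Fin k ⊕ Fin k → F) ≃ₗ[F] (Fin k ⊕ Fin k → F) :=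
    glEquiv (Matrix.GeneralLinearGroup.mkOfDetNeZero (diagonal d)
      (by rw [hdd]; exact pow_ne_zero _ hc))
  let D : (ι → F) ≃ₗ[F] (ι → F) := (E.trans D₀).trans E.symm
  have hD₀ : ∀ y z, D₀ y z = d z * y z := fun y z => mulVec_diagonal d y z
  have hDQ : ∀ v, Q (D v) = c * Q v := fun v => by
    rw [← hE, ← hE, show E (D v) = D₀ (E v) from E.apply_symm_apply _]
    simp only [Cfsg.quadFormPlus, hD₀, d, Sum.elim_inl, Sum.elim_inr, Finset.mul_sum]
    exact Finset.sum_congr rfl fun i _ => by ring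
  have hDU : ∀ v, D v ∈ U₀ ↔ v ∈ U₀ := fun v => by
    simp only [hU₀mem, show E (D v) = D₀ (E v) from E.apply_symm_apply _, hD₀, d, Sum.elim_inr,
      one_mul]
  have hDdet : LinearMap.det (D : (ι → F) →ₗ[F] (ι → F)) = c ^ k := by
    rw [show (D : (ι → F) →ₗ[F] (ι → F)) = (E.symm : (Fin k ⊕ Fin k → F) →ₗ[F] (ι → F)) ∘ₗ
      (D₀ : (Fin k ⊕ Fin k → F) →ₗ[F] (Fin k ⊕ Fin k → F)) ∘ₗ
        (E : (ι → F) →ₗ[F] (Fin k ⊕ Fin k → F)) from LinearMap.ext fun v => rfl]
    rw [show (E : (ι → F) →ₗ[F] (Fin k ⊕ Fin k → F)) = (E.symm.symm : _ →ₗ[F] _) from rfl,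
      LinearMap.det_conj]
    exact (det_glEquiv _).trans hdd
  -- every maximal totally singular subspace is an image of the standard one
  have hmove : ∀ U : Submodule F (ι → F), Cfsg.IsMaxTotallySingular ⇑Q U →
      ∃ y : orth Q, U = U₀.map (y : (ι → F) ≃ₗ[F] (ι → F)).toLinearMap := by
    rintro U ⟨hts, hmax⟩
    have hj : Module.finrank F U ≤ k := by
      have hle : U ≤ polarPerp Q U := fun w hw =>
        mem_polarPerp.2 fun u hu => polar_eq_zero_of_singular hts hu hw
      have := Submodule.finrank_mono hle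
      have := finrank_polarPerp hQ U
      omega
    have hinj : Function.Injective (Sum.inl ∘ Fin.castLE hj : Fin (Module.finrank F U) → Fin k ⊕ Fin k) :=
      Sum.inl_injective.comp (Fin.castLE_injective hj)
    let φ₀ := Function.ExtendByZero.linearMap F (Sum.inl ∘ Fin.castLE hj : _ → Fin k ⊕ Fin k)
    let e := (Module.finBasis F U).equivFun
    let φ : U →ₗ[F] (ι → F) := (E.symm : _ →ₗ[F] _) ∘ₗ φ₀ ∘ₗ (e : U →ₗ[F] _)
    have hφ : Function.Injective φ := fun a b hab => e.injective (funext fun i => by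
      have := congrFun (E.symm.injective hab) (Sum.inl (Fin.castLE hj i))
      simpa [φ₀, Function.comp_apply] using
        (hinj.extend_apply (e a) 0 i).symm.trans (this.trans (hinj.extend_apply (e b) 0 i)))
    have hφU : ∀ u, φ u ∈ U₀ := fun u => (hU₀mem _).2 fun i => by
      rw [show E (φ u) = φ₀ (e u) from E.apply_symm_apply _]
      exact Function.extend_apply' _ _ _ (fun ⟨a, ha⟩ => Sum.inl_ne_inr ha)
    obtain ⟨x, hx, hxφ⟩ := quad_witt hQ U φ hφ fun u => by
      rw [hU₀max.2 _ (hφU u), hts _ u.2]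
    refine ⟨⟨x, hx⟩⁻¹, (hmax _ ?_ ?_).symm⟩
    · rintro _ ⟨w, hw, rfl⟩
      exact ((inv_mem hx : x⁻¹ ∈ orth Q) w).trans (hU₀max.2 w hw)
    · intro u hu
      exact ⟨x u, by rw [hxφ ⟨u, hu⟩]; exact hφU _, x.symm_apply_apply u⟩
  let G : (ι → F) ≃ₗ[F] (ι → F) := glEquiv (Matrix.GeneralLinearGroup.mkOfDetNeZero g hdet)
  have hGdet : LinearMap.det (G : (ι → F) →ₗ[F] (ι → F)) = g.det := det_glEquiv _
  have key : ∀ y : orth Q,
      (Cfsg.SameParityClass (U₀.map (y : (ι → F) ≃ₗ[F] (ι → F)).toLinearMap)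
        (Cfsg.imageSubmodule g (U₀.map (y : (ι → F) ≃ₗ[F] (ι → F)).toLinearMap)) ↔ g.det = c ^ k) := by
    intro y
    set Y := (y : (ι → F) ≃ₗ[F] (ι → F)) with hY
    let h : (ι → F) ≃ₗ[F] (ι → F) := ((D.symm.trans Y).trans G).trans Y.symm
    have hh : h ∈ orth Q := fun v => by
      show Q (Y.symm (g *ᵥ Y (D.symm v))) = Q v
      rw [← y.2 (Y.symm _), ← hY, Y.apply_symm_apply, hg, y.2, ← hDQ, D.apply_symm_apply]
    have hhU : U₀.map h.toLinearMap = ((U₀.map Y.toLinearMap).map (G : (ι → F) →ₗ[F] _)).map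
        (Y.symm : (ι → F) →ₗ[F] _) := by
      have e : U₀.map (D.symm : (ι → F) →ₗ[F] _) = U₀ := by
        rw [Submodule.map_equiv_eq_comap_symm]
        exact Submodule.ext fun v => by rw [Submodule.mem_comap]; exact hDU v
      conv_rhs => rw [← e]
      rw [← Submodule.map_comp, ← Submodule.map_comp, ← Submodule.map_comp]
      rfl
    have hinf : U₀.map Y.toLinearMap ⊓ Cfsg.imageSubmodule g (U₀.map Y.toLinearMap) =
        (U₀ ⊓ U₀.map h.toLinearMap).map Y.toLinearMap := by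
      rw [Submodule.map_inf _ Y.injective, hhU, ← Submodule.map_comp,
        show Y.toLinearMap ∘ₗ (Y.symm : (ι → F) →ₗ[F] _) = LinearMap.id from
          LinearMap.ext fun v => Y.apply_symm_apply v, Submodule.map_id]
      rfl
    rw [Cfsg.SameParityClass, hinf, LinearEquiv.finrank_map_eq, LinearEquiv.finrank_map_eq,
      hU₀max.1, maxSing_class_iff hQ hR hV hU₀max ⟨h, hh⟩]
    have hdm := detHom_eq_one_iff hQ h2 ((isomEquiv Q).symm ⟨h, hh⟩)
    rw [show (isoInv hQ h2 ((isomEquiv Q).symm ⟨h, hh⟩)).2 = dicksonHom hQ hR ⟨h, hh⟩ by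
      show (orthInvariant hQ hR (isomEquiv Q ((isomEquiv Q).symm ⟨h, hh⟩))).2 = _
      rw [MulEquiv.apply_symm_apply]; rfl] at hdm
    have hdeth : (detHom ⇑Q ((isomEquiv Q).symm ⟨h, hh⟩) : F) * c ^ k = g.det := by
      rw [detHom, MonoidHom.comp_apply, Matrix.GeneralLinearGroup.val_det_apply, ← det_glEquiv,
        ← hDdet, ← hGdet]
      have e1 : glEquiv (((isomEquiv Q).symm ⟨h, hh⟩ : Cfsg.isometryGroup F ⇑Q) : GL ι F) = h :=
        LinearEquiv.ext fun v => isomEquiv_symm_mulVec Q ⟨h, hh⟩ v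
      rw [Subgroup.coe_subtype, e1, ← LinearMap.det_comp,
        show h.toLinearMap ∘ₗ (D : (ι → F) →ₗ[F] _) = (Y.symm : (ι → F) →ₗ[F] _) ∘ₗ
          (G : (ι → F) →ₗ[F] _) ∘ₗ (Y.symm.symm : (ι → F) →ₗ[F] _) from
          LinearMap.ext fun v => by simp [h], LinearMap.det_conj]
    rw [← hdm, Units.ext_iff, Units.val_one, ← hdeth]
    exact ⟨fun e => by rw [e, one_mul],
      fun e => mul_right_cancel₀ (pow_ne_zero k hc) (by rw [e, one_mul])⟩
  constructor
  · intro h
    have hU₀ts : Cfsg.IsMaxTotallySingular ⇑Q U₀ := by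
      refine ⟨hU₀max.2, fun W hW hle => (Submodule.eq_of_le_of_finrank_le hle ?_).symm⟩
      have hle' : W ≤ polarPerp Q W := fun w hw =>
        mem_polarPerp.2 fun u hu => polar_eq_zero_of_singular hW hu hw
      have := Submodule.finrank_mono hle'
      have := finrank_polarPerp hQ W
      have := hU₀max.1
      omega
    have := (key 1).1
    rw [OneMemClass.coe_one, show ((1 : (ι → F) ≃ₗ[F] (ι → F))).toLinearMap = LinearMap.id from rfl,
      Submodule.map_id] at this
    exact this (h U₀ hU₀ts)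
  · intro h U hU
    obtain ⟨y, rfl⟩ := hmove U hU
    exact (key y).2 h

/-- The plus form: preserving the classes means trivial character. -/
theorem preserves_plus_iff (h2 : (2 : F) ≠ 0) {m : ℕ} (hne : ∃ v, matQuad (plusMat m F) v ≠ 0)
    (g : Cfsg.Geo.quadSimilarityGroup ⇑(matQuad (plusMat m F))) :
    Cfsg.PreservesSingularClasses ⇑(matQuad (plusMat m F))
        ((g : GL (Fin m ⊕ Fin m) F) : Matrix (Fin m ⊕ Fin m) (Fin m ⊕ Fin m) F) ↔
      simChi (plusMat m F) hne m g = 1 := by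
  rw [simChi_eq_one_iff]
  exact preservesSingularClasses_iff h2
    (nondegenerate_matQuad (by rw [det_plus_gram]; simp)) (LinearEquiv.refl F _)
    (fun v => (congrFun (coe_matQuad_plus m) v).symm) (Units.ne_zero _) (simMult_spec hne g)
    (by
      rw [← Matrix.GeneralLinearGroup.val_det_apply]
      exact Units.ne_zero _)

end CfsgLib.Geometry
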