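import Cfsg.Agent.Lib.Geometry.SpFourGraph
import Cfsg.Agent.Lib.KnownB.PSLAut.Out

/-! The order of the semilinear automorphism group of `PSp_{2m}(q)`. -/

set_option autoImplicit false

namespace CfsgLib.Geometry.SpAutCard

open Matrix CfsgLib.Classical CfsgLib.KnownB.PSpAut

universe u

variable {m : ℕ} {F : Type u} [Field F] [Finite F]

theorem conj_injective [NeZero m] (hm : 2 ≤ m) :
    Function.Injective (MulAut.conj : Cfsg.PSp m F →* MulAut (Cfsg.PSp m F)) := by
  rw [← MonoidHom.ker_eq_bot_iff, Subgroup.eq_bot_iff_forall]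
  intro x hx
  induction x using QuotientGroup.induction_on with
  | H s =>
    rw [MonoidHom.mem_ker, ← δ_spGSp] at hx
    obtain ⟨-, a, -, ha⟩ := eq_smul_of_δ_fld hm (g := spGSp s) (σ := 1) (by rw [map_one, mul_one, hx])
    refine (QuotientGroup.eq_one_iff s).2 (Subgroup.mem_center_iff.2 fun t => Subtype.ext ?_)
    have ha' : s.1 = a • 1 := ha
    show t.1 * s.1 = s.1 * t.1
    rw [ha', mul_smul_comm, smul_mul_assoc, one_mul, _root_.mul_one]

theorem card_inn [NeZero m] (hm : 2 ≤ m) : Nat.card (Cfsg.Inn (Cfsg.PSp m F)) = Nat.card (Cfsg.PSp m F) :=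
  (Nat.card_congr (MonoidHom.ofInjective (conj_injective hm)).toEquiv).symm

theorem card_range_δ [NeZero m] (hm : 2 ≤ m) :
    Nat.card (δ : Cfsg.GSp m F →* MulAut (Cfsg.PSp m F)).range =
      Nat.gcd 2 (Nat.card F - 1) * Nat.card (Cfsg.PSp m F) := by
  classical
  haveI := Fintype.ofFinite F
  have hcomap : (Cfsg.Inn (Cfsg.PSp m F)).comap (δ : Cfsg.GSp m F →* MulAut (Cfsg.PSp m F)) =
      ((powMonoidHom 2 : Fˣ →* Fˣ).range).comap mult := by
    ext g
    exact δ_mem_inn_iff hm g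
  have h1 := congrArg Subgroup.index hcomap
  rw [Subgroup.index_comap, Subgroup.index_comap_of_surjective _ mult_surjective,
    IsCyclic.index_powMonoidHom_range, Nat.card_units, Nat.gcd_comm] at h1
  rw [← Subgroup.relIndex_bot_left, ← Subgroup.relIndex_mul_relIndex ⊥ (Cfsg.Inn (Cfsg.PSp m F)) _ bot_le
    inn_le_range, Subgroup.relIndex_bot_left, card_inn hm, h1, mul_comm]

/-- The semilinear automorphisms as pairs. -/
theorem card_gamma [NeZero m] (hm : 2 ≤ m) {p f : ℕ} [Fact p.Prime] (hf : 1 ≤ f) [Fintype F]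
    (hF : Fintype.card F = p ^ f) :
    Nat.card (Cfsg.gammaPSp m F) = Nat.gcd 2 (p ^ f - 1) * f * Nat.card (Cfsg.PSp m F) := by
  let φ : (δ : Cfsg.GSp m F →* MulAut (Cfsg.PSp m F)).range × (F ≃+* F) → Cfsg.gammaPSp m F := fun x =>
    ⟨x.1.1 * fld x.2, mul_mem (by obtain ⟨g, hg⟩ := x.1.2; exact hg ▸ δ_mem_gamma g) (fld_mem_gamma _)⟩
  have hφ : Function.Bijective φ := by
    constructor
    · rintro ⟨⟨_, g, rfl⟩, σ⟩ ⟨⟨_, g', rfl⟩, σ'⟩ h
      have h' : (δ g * fld σ : MulAut (Cfsg.PSp m F)) = δ g' * fld σ' := congrArg Subtype.val h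
      have h'' : (δ (g'⁻¹ * g) * fld (σ * σ'⁻¹) : MulAut (Cfsg.PSp m F)) = 1 :=
        calc _ = (δ g')⁻¹ * (δ g * fld σ) * (fld σ')⁻¹ := by
              rw [map_mul, map_mul, map_inv, map_inv]; group
          _ = 1 := by rw [h']; group
      have hs : σ = σ' := mul_inv_eq_one.1 (eq_smul_of_δ_fld hm h'').1
      subst hs
      exact Prod.ext (Subtype.ext (mul_right_cancel h')) rfl
    · rintro ⟨α, hα⟩
      obtain ⟨g, σ, rfl⟩ := gamma_decomp hα
      exact ⟨(⟨δ g, g, rfl⟩, σ), rfl⟩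
  rw [← Nat.card_congr (Equiv.ofBijective φ hφ), Nat.card_prod, card_range_δ hm,
    CfsgLib.KnownB.PSLAut.card_gal hf hF, Nat.card_eq_fintype_card (α := F), hF]
  ring

theorem index_gamma_four [CharP F 2] : (Cfsg.gammaPSp 2 F).index = 2 := by
  refine Subgroup.index_eq_two_iff.2 ⟨SpFour.graphAut, fun b => ?_⟩
  by_cases hb : b ∈ Cfsg.gammaPSp 2 F
  · refine Or.inr ⟨hb, fun h => (SpFour.graphAut_not_mem (F := F)) ?_⟩
    exact (Subgroup.mul_mem_cancel_left _ hb).1 h
  · refine Or.inl ⟨?_, hb⟩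
    rcases SpFour.mem_or_graph b with h | h
    · exact absurd h hb
    rcases SpFour.mem_or_graph (b * SpFour.graphAut) with h' | h'
    · exact h'
    rw [← mul_assoc] at h'
    exact absurd ((Subgroup.mul_mem_cancel_left _ h).1 h') (SpFour.graphAut_not_mem (F := F))

/-- The outer automorphism group of `PSp₄(2^f)` is generated by the graph automorphism. -/
theorem out_four [CharP F 2] [Fintype F] {f : ℕ} (hf : 1 ≤ f) (hF : Fintype.card F = 2 ^ f) :
    IsCyclic (Cfsg.Out (Cfsg.PSp 2 F)) ∧ Nat.card (Cfsg.Out (Cfsg.PSp 2 F)) = 2 * f := by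
  haveI : NeZero 2 := ⟨two_ne_zero⟩
  refine ⟨⟨⟨QuotientGroup.mk SpFour.graphAut, fun x => ?_⟩⟩, ?_⟩
  · induction x using QuotientGroup.induction_on with
    | H α =>
      have hinn : ∀ g : Cfsg.GSp 2 F,
          (δ g : MulAut (Cfsg.PSp 2 F)) ∈ Cfsg.Inn (Cfsg.PSp 2 F) := fun g => by
        refine (δ_mem_inn_iff le_rfl g).2 (Finite.surjective_of_injective ?_ _)
        intro x y h
        exact Units.ext (sq_inj CharTwo.two_eq_zero (by simpa using congrArg Units.val h))
      have hfld : ∀ σ : F ≃+* F, (QuotientGroup.mk (fld σ) : Cfsg.Out (Cfsg.PSp 2 F)) ∈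
          Subgroup.zpowers (QuotientGroup.mk SpFour.graphAut) := by
        intro σ
        obtain ⟨k, rfl⟩ := Subgroup.mem_zpowers_iff.1
          (CfsgLib.KnownB.PSpAut.mem_zpowers_of_fix (frobeniusEquiv F 2) σ fun a ha => by
            have ha' : a ^ 2 = a := ha
            rcases eq_or_ne a 0 with rfl | h0
            · exact map_zero σ
            · rw [show a = 1 from mul_left_cancel₀ h0 (by rw [mul_one, ← sq, ha']), map_one])
        rw [map_zpow, ← SpFour.graphAut_sq, ← sq, ← zpow_natCast, ← _root_.zpow_mul, QuotientGroup.mk_zpow]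
        exact Subgroup.zpow_mem _ (Subgroup.mem_zpowers _) _
      have key : ∀ γ ∈ Cfsg.gammaPSp 2 F, (QuotientGroup.mk γ : Cfsg.Out (Cfsg.PSp 2 F)) ∈
          Subgroup.zpowers (QuotientGroup.mk SpFour.graphAut) := by
        intro γ hγ
        obtain ⟨g, σ, rfl⟩ := gamma_decomp hγ
        rw [QuotientGroup.mk_mul, (QuotientGroup.eq_one_iff _).2 (hinn g), one_mul]
        exact hfld σ
      rcases SpFour.mem_or_graph α with h | h
      · exact key α h
      · have h' := mul_mem (Subgroup.mem_zpowers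
          (QuotientGroup.mk SpFour.graphAut : Cfsg.Out (Cfsg.PSp 2 F))) (key _ h)
        rwa [← QuotientGroup.mk_mul, mul_inv_cancel_left] at h'
  · have h1 := (Cfsg.gammaPSp 2 F).index_mul_card
    rw [index_gamma_four, card_gamma le_rfl hf hF,
      ← (Cfsg.Inn (Cfsg.PSp 2 F)).index_mul_card, card_inn le_rfl] at h1
    have hg : Nat.gcd 2 (2 ^ f - 1) = 1 := by
      refine Nat.prime_two.coprime_iff_not_dvd.2 fun h => ?_
      have h' : 2 ∣ 2 ^ f := dvd_pow_self 2 (by omega)
      have := Nat.one_le_two_pow (n := f)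
      omega
    rw [hg, one_mul, ← mul_assoc] at h1
    exact (Nat.eq_of_mul_eq_mul_right Nat.card_pos h1).symm

end CfsgLib.Geometry.SpAutCard
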