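import Cfsg.Agent.Lib.KnownB.PSpAut.Four
import Cfsg.Agent.Lib.KnownB.PSpAut.FieldAut
import Cfsg.Agent.Lib.KnownB.PSpAut.Core

/-!
The graph automorphism of `Sp₄` in characteristic two: the action on `ω⊥/ω` inside the exterior
square, written on matrices through `2 × 2` minors.
-/

set_option autoImplicit false

namespace CfsgLib.Geometry.SpFour

open Matrix CfsgLib.Classical CfsgLib.KnownB.PSpAut

universe u

variable {F : Type u} [Field F]

local notation "ix" => Fin 2 ⊕ Fin 2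
local notation "Sp4" => Matrix.symplecticGroup (Fin 2) F

/-- The pairs of coordinates indexing the new basis. -/
def pr : ix → ix × ix
  | Sum.inl 0 => (Sum.inl 0, Sum.inl 1)
  | Sum.inl 1 => (Sum.inl 0, Sum.inr 1)
  | Sum.inr 0 => (Sum.inr 0, Sum.inr 1)
  | Sum.inr 1 => (Sum.inl 1, Sum.inr 0)

/-- The `2 × 2` minor, signs being irrelevant in characteristic two. -/
def minor (M : Matrix ix ix F) (r c : ix × ix) : F :=
  M r.1 c.1 * M r.2 c.2 + M r.1 c.2 * M r.2 c.1

/-- The matrix of `M` on `ω⊥/ω`. -/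
def wedge (M : Matrix ix ix F) : Matrix ix ix F := Matrix.of fun P Q => minor M (pr P) (pr Q)

theorem wedge_transpose (M : Matrix ix ix F) : wedge Mᵀ = (wedge M)ᵀ := by
  ext P Q
  simp [wedge, minor]
  ring

theorem wedge_one : wedge (1 : Matrix ix ix F) = 1 := by
  ext P Q
  rcases P with P | P <;> rcases Q with Q | Q <;> fin_cases P <;> fin_cases Q <;>
    simp [wedge, minor, pr, Matrix.one_apply]

variable [CharP F 2]

theorem wedge_J : wedge (Matrix.J (Fin 2) F) = Matrix.J (Fin 2) F := by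
  ext P Q
  rcases P with P | P <;> rcases Q with Q | Q <;> fin_cases P <;> fin_cases Q <;>
    simp [wedge, minor, pr, Matrix.J, Matrix.one_apply, CharTwo.neg_eq]

/-- The linear relation between the two paired minors of a symplectic matrix. -/
theorem minor_paired {M : Matrix ix ix F} (hM : M ∈ Matrix.symplecticGroup (Fin 2) F) (P : ix) :
    minor M (pr P) (Sum.inl 0, Sum.inr 0) + minor M (pr P) (Sum.inl 1, Sum.inr 1) = 0 := by
  have h := congrFun (congrFun (SymplecticGroup.mem_iff.1 hM) (pr P).1) (pr P).2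
  simp only [Matrix.mul_apply, Fintype.sum_sum_type, Fin.sum_univ_two, Matrix.transpose_apply] at h
  have h2 : (2 : F) = 0 := CharTwo.two_eq_zero
  rcases P with P | P <;> fin_cases P <;>
    simp [pr, minor, Matrix.J, Matrix.one_apply] at h ⊢ <;> grind

theorem wedge_mul {M N : Matrix ix ix F} (hM : M ∈ Matrix.symplecticGroup (Fin 2) F)
    (hN : N ∈ Matrix.symplecticGroup (Fin 2) F) : wedge (M * N) = wedge M * wedge N := by
  have hN' : Nᵀ ∈ Matrix.symplecticGroup (Fin 2) F := SymplecticGroup.transpose_mem hN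
  have h2 : (2 : F) = 0 := CharTwo.two_eq_zero
  ext P Q
  have rM := minor_paired hM P
  have rN := minor_paired hN' Q
  simp only [minor, Matrix.transpose_apply] at rM rN
  simp only [wedge, Matrix.of_apply, Matrix.mul_apply, Fintype.sum_sum_type, Fin.sum_univ_two, minor,
    show pr (Sum.inl 0) = (Sum.inl 0, Sum.inl 1) from rfl, show pr (Sum.inl 1) = (Sum.inl 0, Sum.inr 1) from rfl,
    show pr (Sum.inr 0) = (Sum.inr 0, Sum.inr 1) from rfl, show pr (Sum.inr 1) = (Sum.inl 1, Sum.inr 0) from rfl]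
  set r := (pr P).1
  set s := (pr P).2
  set c := (pr Q).1
  set d := (pr Q).2
  linear_combination (N (Sum.inl 0) c * N (Sum.inr 0) d + N (Sum.inl 0) d * N (Sum.inr 0) c) * rM +
    (M r (Sum.inl 1) * M s (Sum.inr 1) + M r (Sum.inr 1) * M s (Sum.inl 1)) * rN +
    (M r (Sum.inl 0) * M s (Sum.inl 0) * N (Sum.inl 0) c * N (Sum.inl 0) d +
      M r (Sum.inl 1) * M s (Sum.inl 1) * N (Sum.inl 1) c * N (Sum.inl 1) d +
      M r (Sum.inr 0) * M s (Sum.inr 0) * N (Sum.inr 0) c * N (Sum.inr 0) d +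
      M r (Sum.inr 1) * M s (Sum.inr 1) * N (Sum.inr 1) c * N (Sum.inr 1) d -
      (N (Sum.inl 0) c * N (Sum.inr 0) d + N (Sum.inl 0) d * N (Sum.inr 0) c) *
        (M r (Sum.inl 1) * M s (Sum.inr 1) + M r (Sum.inr 1) * M s (Sum.inl 1))) * h2

theorem wedge_mem {M : Matrix ix ix F} (hM : M ∈ Matrix.symplecticGroup (Fin 2) F) :
    wedge M ∈ Matrix.symplecticGroup (Fin 2) F := by
  have hJ : Matrix.J (Fin 2) F ∈ Matrix.symplecticGroup (Fin 2) F := SymplecticGroup.J_mem _ _
  have hT := SymplecticGroup.transpose_mem hM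
  have h := congrArg wedge (SymplecticGroup.mem_iff.1 hM)
  rw [wedge_mul (mul_mem hM hJ) hT, wedge_mul hM hJ, wedge_J, wedge_transpose] at h
  exact SymplecticGroup.mem_iff.2 h

/-- The graph endomorphism of `Sp₄`. -/
def graphHom : Sp4 →* Sp4 where
  toFun s := ⟨wedge s.1, wedge_mem s.2⟩
  map_one' := Subtype.ext wedge_one
  map_mul' s t := Subtype.ext (wedge_mul s.2 t.2)

variable [Finite F]

set_option maxHeartbeats 800000 in
theorem graphHom_graphHom (s : Sp4) :
    graphHom (graphHom s) = fieldSp (frobeniusEquiv F 2) s := by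
  have h : graphHom.comp graphHom = (fieldSp (frobeniusEquiv F 2)).toMonoidHom := by
    have htop := sp_eq_top_of_stv_mem
      (MonoidHom.eqLocus (graphHom.comp graphHom) (fieldSp (frobeniusEquiv F 2)).toMonoidHom) fun a v => by
      refine Subtype.ext ?_
      show wedge (wedge (stv a v).1) = (stv a v).1.map (frobeniusEquiv F 2)
      have h2 : (2 : F) = 0 := CharTwo.two_eq_zero
      have e : (3 : F) = 1 ∧ (4 : F) = 0 ∧ (6 : F) = 0 ∧ (8 : F) = 0 :=
        ⟨by linear_combination h2, by linear_combination 2 * h2, by linear_combination 3 * h2,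
          by linear_combination 4 * h2⟩
      ext P Q
      rcases P with P | P <;> rcases Q with Q | Q <;> fin_cases P <;> fin_cases Q <;>
        simp [wedge, minor, pr, stv, Matrix.one_apply, vecMulVec_apply, Matrix.vecMul, dotProduct, Matrix.J,
          frobeniusEquiv_def, Fin.sum_univ_two, CharTwo.neg_eq, frobenius_def] <;> ring_nf <;> simp [e.1, e.2.1, e.2.2.1, e.2.2.2, h2]
    refine MonoidHom.ext fun s => ?_
    exact htop.ge (Subgroup.mem_top s)
  exact DFunLike.congr_fun h s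

theorem graphHom_bijective : Function.Bijective (graphHom : Sp4 → Sp4) := by
  have h : Function.Injective (graphHom : Sp4 → Sp4) := fun s t e =>
    (fieldSp (frobeniusEquiv F 2) : MulAut Sp4).injective (by rw [← graphHom_graphHom, e, graphHom_graphHom])
  exact ⟨h, Finite.surjective_of_injective h⟩

/-- The graph automorphism of `PSp₄`. -/
noncomputable def graphAut : MulAut (Cfsg.PSp 2 F) :=
  CfsgLib.KnownB.PSLAut.descend (MulEquiv.ofBijective graphHom graphHom_bijective)

theorem graphAut_mk (s : Sp4) :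
    (graphAut : MulAut (Cfsg.PSp 2 F)) (QuotientGroup.mk s) = QuotientGroup.mk (graphHom s) := rfl

theorem graphAut_sq : (graphAut : MulAut (Cfsg.PSp 2 F)) * graphAut = fld (frobeniusEquiv F 2) := by
  refine MulEquiv.ext fun x => ?_
  induction x using QuotientGroup.induction_on with
  | H s => rw [MulAut.mul_apply, graphAut_mk, graphAut_mk, graphHom_graphHom, fld_mk]

theorem graphAut_T_ne (b : F) (w : ix → F) :
    (graphAut : MulAut (Cfsg.PSp 2 F)) (T 1 (bas (Sum.inl 0))) ≠ T b w := by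
  intro h
  have hs : graphHom (stv 1 (bas (Sum.inl 0))) = stv b w :=
    mk_injective_of_two CharTwo.two_eq_zero h
  have h1 := congrArg (fun s : Sp4 => s.1 *ᵥ bas (Sum.inr 0)) hs
  have h2 := congrArg (fun s : Sp4 => s.1 *ᵥ bas (Sum.inr 1)) hs
  simp only [stv_mulVec] at h1 h2
  set c1 := sbil w (bas (Sum.inr 0))
  set c2 := sbil w (bas (Sum.inr 1))
  have e1 := congrFun h1 (Sum.inl 1)
  have e2 := congrFun h2 (Sum.inl 0)
  have e3 := congrFun h1 (Sum.inl 0)
  simp [graphHom, wedge, minor, pr, stv, bas, Matrix.mulVec, Matrix.vecMul, dotProduct, Matrix.J,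
    Matrix.one_apply, vecMulVec_apply, Fin.sum_univ_two, Pi.single_apply] at e1 e2 e3
  grind

theorem graphAut_not_mem : (graphAut : MulAut (Cfsg.PSp 2 F)) ∉ Cfsg.gammaPSp 2 F := by
  intro h
  obtain ⟨g, σ, e⟩ := gamma_decomp h
  obtain ⟨w, -, hw⟩ := ((tpres_δ g).mul (tpres_fld σ)) (bas (Sum.inl 0)) (bas_ne_zero _)
  obtain ⟨b, hb⟩ := hw 1
  exact graphAut_T_ne b w (e ▸ hb)

theorem mem_or_graph (α : MulAut (Cfsg.PSp 2 F)) :
    α ∈ Cfsg.gammaPSp 2 F ∨ graphAut⁻¹ * α ∈ Cfsg.gammaPSp 2 F := by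
  haveI : NeZero 2 := ⟨two_ne_zero⟩
  have h2 : (2 : F) = 0 := CharTwo.two_eq_zero
  have he : (bas (Sum.inl 0) : ix → F) ≠ 0 := bas_ne_zero _
  have trans : ∀ β : MulAut (Cfsg.PSp 2 F),
      (∃ (b : F) (w : ix → F), b ≠ 0 ∧ w ≠ 0 ∧ β (T 1 (bas (Sum.inl 0))) = T b w) → β ∈ Cfsg.gammaPSp 2 F :=
    fun β ⟨b, w, hb, hw, h⟩ => mem_gamma_of_tpres le_rfl β (tpres_of_class le_rfl h2 β he hw hb h)
  by_cases hα : ∃ (b : F) (w : ix → F), b ≠ 0 ∧ w ≠ 0 ∧ α (T 1 (bas (Sum.inl 0))) = T b w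
  · exact Or.inl (trans α hα)
  push Not at hα
  refine Or.inr (trans _ ?_)
  obtain ⟨z, e, w, hz, hew, hli, hzx⟩ := image_form rfl h2 α he hα
  obtain ⟨z', e', w', hz', hew', hli', hzx'⟩ := image_form rfl h2 (graphAut : MulAut (Cfsg.PSp 2 F)) he
    fun b w _ _ => graphAut_T_ne b w
  obtain ⟨g, hg⟩ := CfsgLib.Geometry.sp_extend 2 F ![e', w'] ![e, w] hli' hli (by
    intro i j
    simp only [sympForm_eq_sbil]
    fin_cases i <;> fin_cases j <;> simp [hew, hew', sbil_swap e w, sbil_swap e' w'])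
  have hconj : g * z' * g⁻¹ = z := sp_ext fun x => by
    have hadj : ∀ u : ix → F, sbil u ((g⁻¹).1 *ᵥ x) = sbil (g.1 *ᵥ u) x := fun u => by
      conv_rhs => rw [← sp_mulVec_inv g x]
      rw [sbil_mulVec]
    rw [sp_mul_mulVec, sp_mul_mulVec, hzx, hzx', Matrix.mulVec_add, Matrix.mulVec_add, Matrix.mulVec_smul,
      Matrix.mulVec_smul, sp_mulVec_inv, hadj, hadj, show g.1 *ᵥ e' = e from hg 0, show g.1 *ᵥ w' = w from hg 1]
  obtain ⟨k, hk⟩ := QuotientGroup.mk_surjective
    ((graphAut : MulAut (Cfsg.PSp 2 F)).symm (QuotientGroup.mk g))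
  refine ⟨1, k.1 *ᵥ bas (Sum.inl 0), one_ne_zero, sp_mulVec_ne_zero k he, ?_⟩
  rw [T, T, ← stv_conj, MulAut.mul_apply, MulAut.inv_def, MulEquiv.symm_apply_eq,
    show α (QuotientGroup.mk (stv 1 (bas (Sum.inl 0)))) = QuotientGroup.mk z from hz.symm, ← hconj]
  show _ = graphAut (QuotientGroup.mk k * QuotientGroup.mk (stv 1 (bas (Sum.inl 0))) * (QuotientGroup.mk k)⁻¹)
  rw [map_mul, map_mul, map_inv, hk, MulEquiv.apply_symm_apply,
    show graphAut (QuotientGroup.mk (stv 1 (bas (Sum.inl 0)))) = QuotientGroup.mk z' from hz'.symm]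
  rfl

end CfsgLib.Geometry.SpFour
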