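import Cfsg.Prelude.Def_ClassicalGeometry
import Mathlib

/-! The normaliser of the diagonal torus of `Sp₂ₘ(q)`. -/

set_option autoImplicit false

namespace CfsgLib.Geometry.SpTorus

open Matrix

variable {F : Type*} [Field F] {m : ℕ}

local notation "ι" => (Fin m ⊕ Fin m)
local notation "J₀" => Matrix.J (Fin m) F
local notation "Sp" => Matrix.symplecticGroup (Fin m) F

/-- The diagonal torus. -/
def torus (m : ℕ) (F : Type*) [Field F] : Subgroup (Matrix.symplecticGroup (Fin m) F) :=
  ⨅ i : Fin m ⊕ Fin m, Cfsg.stabilizing (Cfsg.spToMat m F)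
    ((Submodule.span F {(Pi.single i (1 : F) : Fin m ⊕ Fin m → F)} : Submodule F (Fin m ⊕ Fin m → F)) : Set (Fin m ⊕ Fin m → F))

theorem mem_torus {g : Sp} : g ∈ torus m F ↔ ∀ i j, i ≠ j → g.1 i j = 0 := by
  have hspan : ∀ (i : ι) (v : ι → F), v ∈ Submodule.span F {(Pi.single i (1 : F) : ι → F)} ↔ ∀ j, j ≠ i → v j = 0 := by
    intro i v
    rw [Submodule.mem_span_singleton]
    constructor
    · rintro ⟨c, rfl⟩ j hj
      simp [hj]
    · intro h
      refine ⟨v i, funext fun j => ?_⟩
      rcases eq_or_ne j i with rfl | hj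
      · simp
      · simp [hj, h j hj]
  constructor
  · intro hg i j hij
    have h1 := ((Subgroup.mem_iInf.1 hg j) (Pi.single j 1)).1 (Submodule.mem_span_singleton_self _)
    have h2 := (hspan j _).1 h1 i hij
    simpa [Matrix.mulVec_single] using h2
  · intro hg
    have key : ∀ (v : ι → F) (k : ι), (g.1 *ᵥ v) k = g.1 k k * v k := fun v k =>
      Finset.sum_eq_single k (fun j _ hj => by show g.1 k j * v j = 0; rw [hg k j (Ne.symm hj), zero_mul]) (fun h => absurd (Finset.mem_univ _) h)
    have hnz : ∀ k, g.1 k k ≠ 0 := fun k h0 => by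
      have h1 := (g⁻¹).1
      have h2 := congrArg Matrix.det (SymplecticGroup.mem_iff'.1 g.2)
      rw [Matrix.det_mul, Matrix.det_mul, Matrix.det_transpose] at h2
      have : g.1.det = 0 := Matrix.det_eq_zero_of_row_eq_zero k fun j => by
        rcases eq_or_ne k j with rfl | h
        · exact h0
        · exact hg k j h
      rw [this] at h2
      simp only [zero_mul] at h2
      exact (IsUnit.ne_zero (Matrix.isUnit_det_J (Fin m) F)) h2.symm
    refine Subgroup.mem_iInf.2 fun i v => ?_
    show v ∈ Submodule.span F _ ↔ g.1 *ᵥ v ∈ Submodule.span F _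
    rw [hspan, hspan]
    refine forall₂_congr fun k _ => ?_
    rw [key]
    exact ⟨fun h => by rw [h, mul_zero], fun h => (mul_eq_zero.1 h).resolve_left (hnz k)⟩

theorem J_ne {a b : ι} (h : b ≠ Sum.swap a) : J₀ a b = 0 := by
  rcases a with a | a <;> rcases b with b | b <;> simp [Matrix.J, Matrix.one_apply] <;>
    · intro e; exact h (by simp [e])

theorem J_swap (a : ι) : J₀ a (Sum.swap a) ≠ 0 := by
  rcases a with a | a <;> simp [Matrix.J]

theorem J_anti (a b : ι) : J₀ b a = -J₀ a b := by
  have := congrFun (congrFun (Matrix.J_transpose (Fin m) F) a) b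
  simpa using this

/-- The monomial matrix of a permutation and scalars. -/
def mono (π : Equiv.Perm ι) (d : ι → F) : Matrix ι ι F := Matrix.of fun i j => if i = π j then d j else 0

theorem mono_apply (π : Equiv.Perm ι) (d : ι → F) (i j : ι) : mono π d i j = if i = π j then d j else 0 := rfl

theorem mono_form (π : Equiv.Perm ι) (d : ι → F) (i j : ι) :
    ((mono π d)ᵀ * J₀ * mono π d) i j = d i * J₀ (π i) (π j) * d j := by
  rw [Matrix.mul_apply, Finset.sum_eq_single (π j), Matrix.mul_apply, Finset.sum_eq_single (π i)]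
  · simp [mono_apply]
  · intro b _ hb; simp [mono_apply, hb]
  · simp
  · intro b _ hb; simp [mono_apply, hb]
  · simp

theorem card_pairs :
    Nat.card {π : Equiv.Perm (Fin m ⊕ Fin m) // ∀ x, π (Sum.swap x) = Sum.swap (π x)} = 2 ^ m * m.factorial := by
  classical
  let side : Bool → Fin m → Fin m ⊕ Fin m := fun b l => if b then Sum.inr l else Sum.inl l
  let mk : (Fin m → Bool) × Equiv.Perm (Fin m) → Fin m ⊕ Fin m → Fin m ⊕ Fin m := fun p x =>
    Sum.elim (fun l => side (p.1 l) (p.2 l)) (fun l => Sum.swap (side (p.1 l) (p.2 l))) x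
  have hswap : ∀ p x, mk p (Sum.swap x) = Sum.swap (mk p x) := by
    intro p x; rcases x with l | l <;> simp [mk]
  have hinj : ∀ p, Function.Injective (mk p) := by
    intro p x y h
    rcases x with x | x <;> rcases y with y | y <;> simp only [mk, side, Sum.elim_inl, Sum.elim_inr] at h <;>
      cases hx : p.1 x <;> cases hy : p.1 y <;> simp [hx, hy] at h <;>
      first | (subst h; rfl) | (subst h; simp_all) | (simp_all)
  let Φ : (Fin m → Bool) × Equiv.Perm (Fin m) → {π : Equiv.Perm (Fin m ⊕ Fin m) // ∀ x, π (Sum.swap x) = Sum.swap (π x)} :=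
    fun p => ⟨Equiv.ofBijective _ ((hinj p).bijective_of_finite), hswap p⟩
  have hΦ : Function.Bijective Φ := by
    refine ⟨fun p p' h => ?_, fun π => ?_⟩
    · have h' : mk p = mk p' := congrArg (fun z : {π : Equiv.Perm (Fin m ⊕ Fin m) // _} => (z.1 : _ → _)) h
      have : ∀ l, p.1 l = p'.1 l ∧ p.2 l = p'.2 l := fun l => by
        have h1 := congrFun h' (Sum.inl l)
        simp only [mk, side, Sum.elim_inl] at h1
        cases hx : p.1 l <;> cases hy : p'.1 l <;> simp [hx, hy] at h1 <;> simp [h1]
      exact Prod.ext (funext fun l => (this l).1) (Equiv.ext fun l => (this l).2)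
    · let un : Fin m ⊕ Fin m → Bool × Fin m := Sum.elim (fun l => (false, l)) (fun l => (true, l))
      have hun : ∀ z, side (un z).1 (un z).2 = z := fun z => by rcases z with z | z <;> simp [side, un]
      have hσ : Function.Injective fun l => (un (π.1 (Sum.inl l))).2 := by
        intro a b h
        have h1 := π.2 (Sum.inl a)
        rcases hA : π.1 (Sum.inl a) with a' | a' <;> rcases hB : π.1 (Sum.inl b) with b' | b' <;>
          simp [hA, hB, un] at h <;> subst h
        · simpa using π.1.injective (hA.trans hB.symm)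
        · simp only [hA, Sum.swap_inl] at h1
          rw [← hB] at h1
          simpa using π.1.injective h1
        · simp only [hA, Sum.swap_inl, Sum.swap_inr] at h1
          rw [← hB] at h1
          simpa using π.1.injective h1
        · simpa using π.1.injective (hA.trans hB.symm)
      refine ⟨(fun l => (un (π.1 (Sum.inl l))).1, Equiv.ofBijective _ hσ.bijective_of_finite), Subtype.ext (Equiv.ext fun x => ?_)⟩
      rcases x with l | l
      · exact hun _
      · show Sum.swap (side (un (π.1 (Sum.inl l))).1 (un (π.1 (Sum.inl l))).2) = _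
        rw [hun, ← π.2]
        rfl
  rw [← Nat.card_eq_of_bijective Φ hΦ, Nat.card_prod, Nat.card_fun, Nat.card_perm, Nat.card_fin]
  simp [Nat.card_eq_fintype_card]

variable [Finite F]

theorem exists_sep (hq : 4 ≤ Nat.card F) {i k : ι} (hik : i ≠ k) :
    ∃ t ∈ torus m F, t.1 i i ≠ t.1 k k := by
  classical
  haveI := Fintype.ofFinite F
  obtain ⟨a, ha⟩ : ∃ a : F, a ∉ ({0, 1, -1} : Finset F) := by
    by_contra h
    push Not at h
    have h1 : Finset.univ ⊆ ({0, 1, -1} : Finset F) := fun x _ => h x
    have h2 := Finset.card_le_card h1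
    rw [Finset.card_univ, ← Nat.card_eq_fintype_card] at h2
    have h3 : ({0, 1, -1} : Finset F).card ≤ 3 := Finset.card_le_three
    omega
  simp only [Finset.mem_insert, Finset.mem_singleton, not_or] at ha
  obtain ⟨ha0, ha1, ha2⟩ := ha
  let l₀ : Fin m := Sum.elim id id i
  let u : Fin m → F := Function.update (fun _ => 1) l₀ a
  let D : Matrix ι ι F := diagonal (Sum.elim u fun l => (u l)⁻¹)
  have hu : ∀ l, u l ≠ 0 := fun l => by
    rcases eq_or_ne l l₀ with rfl | h <;> simp [u, *]
  have hD : D ∈ Sp := by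
    rw [SymplecticGroup.mem_iff']
    ext x y
    simp only [D, diagonal_transpose, Matrix.mul_diagonal, Matrix.diagonal_mul]
    by_cases h : y = Sum.swap x
    · subst h
      rcases x with x | x <;> simp <;> field_simp [hu x]
    · rw [J_ne h, mul_zero, zero_mul]
  refine ⟨⟨D, hD⟩, mem_torus.2 fun x y hxy => diagonal_apply_ne _ hxy, ?_⟩
  show D i i ≠ D k k
  simp only [D, diagonal_apply_eq]
  have hinv : a⁻¹ ≠ a := fun h => by
    have : a * a = 1 := by
      calc a * a = a * a⁻¹ := by rw [h]
        _ = 1 := mul_inv_cancel₀ ha0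
    rcases mul_self_eq_one_iff.1 this with h | h
    · exact ha1 h
    · exact ha2 h
  have hinv1 : a⁻¹ ≠ 1 := fun h => ha1 (inv_eq_one.1 h)
  rcases i with i | i <;> rcases k with k | k <;> simp [u, l₀, Function.update_apply] <;>
    by_cases hk : k = i <;> simp_all [eq_comm]

/-- Normalising elements are monomial. -/
theorem exists_mono (hq : 4 ≤ Nat.card F) {g : Sp} (hg : g ∈ Subgroup.normalizer (torus m F : Set Sp)) :
    ∃ (π : Equiv.Perm ι) (d : ι → F), (∀ j, d j ≠ 0) ∧ g.1 = mono π d := by
  classical
  have hdet : g.1.det ≠ 0 := (SymplecticGroup.symplectic_det g.2).ne_zero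
  have hcol : ∀ j, ∃ i, g.1 i j ≠ 0 := fun j => by
    by_contra h
    push Not at h
    exact hdet (Matrix.det_eq_zero_of_column_eq_zero j h)
  choose π hπ using hcol
  have huniq : ∀ i j, g.1 i j ≠ 0 → i = π j := by
    intro i j hij
    by_contra hne
    obtain ⟨t, ht, hsep⟩ := exists_sep hq hne
    set d := g⁻¹ * t * g with hd
    have hdT : d ∈ torus m F := by
      have := (Subgroup.mem_normalizer_iff''.1 hg t).1 ht
      exact this
    have heq : t.1 * g.1 = g.1 * d.1 := by
      have : t * g = g * d := by rw [hd]; group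
      exact congrArg Subtype.val this
    have key : ∀ r, g.1 r j ≠ 0 → t.1 r r = d.1 j j := by
      intro r hr
      have h1 := congrFun (congrFun heq r) j
      rw [Matrix.mul_apply, Matrix.mul_apply, Finset.sum_eq_single r, Finset.sum_eq_single j] at h1
      · exact mul_right_cancel₀ hr (h1.trans (mul_comm _ _))
      · exact fun b _ hb => by rw [mem_torus.1 hdT b j hb, mul_zero]
      · simp
      · exact fun b _ hb => by rw [mem_torus.1 ht r b (Ne.symm hb), zero_mul]
      · simp
    exact hsep ((key i hij).trans (key (π j) (hπ j)).symm)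
  have hsurj : Function.Surjective π := by
    intro i
    by_contra h
    push Not at h
    refine hdet (Matrix.det_eq_zero_of_row_eq_zero i fun j => by_contra fun hij => h j (huniq i j hij).symm)
  refine ⟨Equiv.ofBijective π hsurj.bijective_of_finite, fun j => g.1 (π j) j, hπ, Matrix.ext fun i j => ?_⟩
  rw [mono_apply]
  show g.1 i j = if i = π j then g.1 (π j) j else 0
  split_ifs with h
  · rw [h]
  · exact not_not.1 fun hij => h (huniq i j hij)

/-- A monomial element normalises the torus. -/
theorem mono_normalizes {g : Sp} {π : Equiv.Perm ι} {d : ι → F} (hd : ∀ j, d j ≠ 0) (hg : g.1 = mono π d) :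
    g ∈ Subgroup.normalizer (torus m F : Set Sp) := by
  classical
  haveI : Finite Sp := by
    haveI : Finite (Matrix ι ι F) := inferInstanceAs (Finite (ι → ι → F))
    exact Finite.of_injective _ Subtype.val_injective
  have hmap : ∀ t ∈ torus m F, g * t * g⁻¹ ∈ torus m F := by
    intro t ht
    refine mem_torus.2 fun i k hik => ?_
    set s := g * t * g⁻¹ with hs
    have heq : s.1 * g.1 = g.1 * t.1 := by
      have : s * g = g * t := by rw [hs]; group
      exact congrArg Subtype.val this
    obtain ⟨j, rfl⟩ := π.surjective k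
    have h1 := congrFun (congrFun heq i) j
    rw [hg, Matrix.mul_apply, Matrix.mul_apply, Finset.sum_eq_single (π j), Finset.sum_eq_single j] at h1
    · simp only [mono_apply, if_true, if_neg hik, zero_mul] at h1
      exact (mul_eq_zero.1 h1).resolve_right (hd j)
    · exact fun b _ hb => by rw [mem_torus.1 ht b j hb, mul_zero]
    · simp
    · exact fun b _ hb => by rw [mono_apply, if_neg hb, mul_zero]
    · simp
  have hle : (torus m F).map (MulAut.conj g).toMonoidHom ≤ torus m F := by
    rintro _ ⟨t, ht, rfl⟩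
    exact hmap t ht
  have heq := Subgroup.eq_of_le_of_card_ge hle
    (Subgroup.card_map_of_injective (MulAut.conj g).injective).ge
  refine Subgroup.mem_normalizer_iff.2 fun t => ⟨hmap t, fun h => ?_⟩
  rw [← heq] at h
  obtain ⟨t', ht', he⟩ := h
  rwa [(MulAut.conj g).injective he] at ht'

theorem card_normalizer (hq : 4 ≤ Nat.card F) :
    Nat.card ↥(Subgroup.normalizer (torus m F : Set Sp)) = 2 ^ m * m.factorial * (Nat.card F - 1) ^ m := by
  classical
  let C := {π : Equiv.Perm ι // ∀ x, π (Sum.swap x) = Sum.swap (π x)}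
  let dd : C → (Fin m → Fˣ) → ι → F := fun π c => Sum.elim (fun l => (c l : F))
    (fun l => J₀ (Sum.inl l) (Sum.inr l) / ((c l : F) * J₀ (π.1 (Sum.inl l)) (π.1 (Sum.inr l))))
  have hJπ : ∀ (π : C) (l : Fin m), J₀ (π.1 (Sum.inl l)) (π.1 (Sum.inr l)) ≠ 0 := fun π l => by
    rw [show π.1 (Sum.inr l) = Sum.swap (π.1 (Sum.inl l)) from π.2 (Sum.inl l)]
    exact J_swap _
  have hdd : ∀ π c j, dd π c j ≠ 0 := by
    intro π c j
    rcases j with l | l
    · exact (c l).ne_zero
    · exact div_ne_zero (J_swap (Sum.inl l)) (mul_ne_zero (c l).ne_zero (hJπ π l))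
  have hmem : ∀ π c, mono π.1 (dd π c) ∈ Sp := by
    intro π c
    rw [SymplecticGroup.mem_iff']
    ext i j
    rw [mono_form]
    by_cases h : j = Sum.swap i
    · subst h
      rcases i with l | l
      · simp only [Sum.swap_inl, dd, Sum.elim_inl, Sum.elim_inr]
        have := hJπ π l
        field_simp
      · simp only [Sum.swap_inr, dd, Sum.elim_inl, Sum.elim_inr]
        rw [J_anti (π.1 (Sum.inl l)) (π.1 (Sum.inr l)), J_anti (Sum.inl l) (Sum.inr l)]
        have := hJπ π l
        field_simp
    · rw [J_ne h, J_ne (show π.1 j ≠ Sum.swap (π.1 i) by rw [← π.2]; exact π.1.injective.ne h), mul_zero, zero_mul]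
  let Ψ : C × (Fin m → Fˣ) → ↥(Subgroup.normalizer (torus m F : Set Sp)) := fun p =>
    ⟨⟨_, hmem p.1 p.2⟩, mono_normalizes (hdd p.1 p.2) rfl⟩
  have hΨ : Function.Bijective Ψ := by
    refine ⟨fun p p' h => ?_, fun g => ?_⟩
    · have h' : mono p.1.1 (dd p.1 p.2) = mono p'.1.1 (dd p'.1 p'.2) :=
        congrArg (fun z : ↥(Subgroup.normalizer (torus m F : Set Sp)) => z.1.1) h
      have hπ : p.1.1 = p'.1.1 := Equiv.ext fun j => by
        by_contra hne
        have h1 := congrFun (congrFun h' (p.1.1 j)) j
        rw [mono_apply, mono_apply, if_pos rfl, if_neg hne] at h1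
        exact hdd _ _ _ h1
      refine Prod.ext (Subtype.ext hπ) (funext fun l => Units.ext ?_)
      have h1 := congrFun (congrFun h' (p.1.1 (Sum.inl l))) (Sum.inl l)
      rw [mono_apply, mono_apply, if_pos rfl, if_pos (by rw [hπ])] at h1
      exact h1
    · obtain ⟨π, d, hd, hg⟩ := exists_mono hq g.2
      have hform : ∀ i j, d i * J₀ (π i) (π j) * d j = J₀ i j := fun i j => by
        rw [← mono_form, ← hg, SymplecticGroup.mem_iff'.1 g.1.2]
      have hsw : ∀ x, π (Sum.swap x) = Sum.swap (π x) := fun x => by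
        by_contra hne
        have h1 := hform x (Sum.swap x)
        rw [J_ne hne, mul_zero, zero_mul] at h1
        exact J_swap x h1.symm
      refine ⟨(⟨π, hsw⟩, fun l => Units.mk0 _ (hd (Sum.inl l))), Subtype.ext (Subtype.ext ?_)⟩
      show mono π _ = g.1.1
      rw [hg]
      congr 1
      funext j
      rcases j with l | l
      · rfl
      · show J₀ (Sum.inl l) (Sum.inr l) / _ = _
        rw [← hform (Sum.inl l) (Sum.inr l), Units.val_mk0,
          mul_div_cancel_left₀ _ (mul_ne_zero (hd (Sum.inl l)) (hJπ ⟨π, hsw⟩ l))]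
  rw [← Nat.card_eq_of_bijective Ψ hΨ, Nat.card_prod, card_pairs, Nat.card_fun, Nat.card_units, Nat.card_fin]

end CfsgLib.Geometry.SpTorus
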