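import Cfsg.Agent.Lib.Geometry.StabCount

/-! Parabolic subgroups of the symplectic group and its totally isotropic subspaces. -/

set_option autoImplicit false

namespace CfsgLib.Geometry.StabCount

open Matrix

variable {F : Type*} [Field F] [Fintype F] {m : ℕ}

/-- The order of `Sp` split along a totally isotropic subspace. -/
theorem sp_arith (q k n : ℕ) :
    q ^ ((n + k) ^ 2) * ∏ i ∈ Finset.range (n + k), (q ^ (2 * (i + 1)) - 1) =
      (∏ i ∈ Finset.range k, (q ^ (2 * (n + k) - i) - q ^ i)) *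
        (q ^ (k * (k + 1) / 2 + 2 * k * n) * (q ^ (n ^ 2) * ∏ i ∈ Finset.range n, (q ^ (2 * (i + 1)) - 1))) := by
  have hf : ∀ i ∈ Finset.range k, q ^ (2 * (n + k) - i) - q ^ i = q ^ i * (q ^ (2 * (n + (k - 1 - i) + 1)) - 1) := by
    intro i hi
    rw [Finset.mem_range] at hi
    rw [Nat.mul_sub, mul_one, ← pow_add]
    congr 2
    omega
  rw [Finset.prod_congr rfl hf, Finset.prod_mul_distrib, Finset.prod_pow_eq_pow_sum,
    Finset.prod_range_reflect (fun i => q ^ (2 * (n + i + 1)) - 1) k, Finset.prod_range_add, Finset.sum_range_id]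
  have h2 : k * (k - 1) / 2 + k * (k + 1) / 2 = k ^ 2 := by
    rcases Nat.even_mul_succ_self k with ⟨a, ha⟩
    rw [ha]
    rcases k with _ | j
    · simp at ha ⊢; omega
    · obtain ⟨b, hb⟩ := Nat.even_mul_succ_self j
      rw [Nat.add_sub_cancel, show (j + 1) * j = b + b by rw [mul_comm]; exact hb]
      have : (j + 1) ^ 2 = b + a := by nlinarith
      omega
  have h3 : q ^ ((n + k) ^ 2) = q ^ (k * (k - 1) / 2) * (q ^ (k * (k + 1) / 2 + 2 * k * n) * q ^ (n ^ 2)) := by
    rw [← pow_add, ← pow_add]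
    congr 1
    rw [← add_assoc, ← add_assoc, h2]
    ring
  rw [h3]; ring

theorem prod_tiFam_pos {k : ℕ} (hk : k ≤ m) :
    0 < ∏ i ∈ Finset.range k, (Fintype.card F ^ (2 * m - i) - Fintype.card F ^ i) :=
  Finset.prod_pos fun i hi => by
    rw [Finset.mem_range] at hi
    exact Nat.sub_pos_of_lt (Nat.pow_lt_pow_right Fintype.one_lt_card (by omega))

theorem card_sp_split {k : ℕ} (hk : k ≤ m) :
    Nat.card (Matrix.symplecticGroup (Fin m) F) =
      (∏ i ∈ Finset.range k, (Fintype.card F ^ (2 * m - i) - Fintype.card F ^ i)) *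
        (Fintype.card F ^ (k * (k + 1) / 2 + 2 * k * (m - k)) * (Fintype.card F ^ ((m - k) ^ 2) *
          ∏ i ∈ Finset.range (m - k), (Fintype.card F ^ (2 * (i + 1)) - 1))) := by
  obtain ⟨n, rfl⟩ := Nat.exists_eq_add_of_le hk
  rw [CfsgLib.Classical.card_symplecticGroup, Nat.card_eq_fintype_card, Fintype.card_fin,
    Nat.add_sub_cancel_left, Nat.add_comm k n, sp_arith]

/-- Coordinate subspaces of the Lagrangian. -/
def flagSub (F : Type*) [Field F] (m : ℕ) (k : Fin m) : Submodule F (Fin m ⊕ Fin m → F) where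
  carrier := {v | (∀ i : Fin m, (k : ℕ) < (i : ℕ) → v (Sum.inl i) = 0) ∧ ∀ i : Fin m, v (Sum.inr i) = 0}
  add_mem' := fun hu hv => ⟨fun i hi => by simp [hu.1 i hi, hv.1 i hi], fun i => by simp [hu.2 i, hv.2 i]⟩
  zero_mem' := ⟨fun _ _ => rfl, fun _ => rfl⟩
  smul_mem' := fun c _ hv => ⟨fun i hi => by simp [hv.1 i hi], fun i => by simp [hv.2 i]⟩

theorem card_borel :
    Nat.card ↥(⨅ k : Fin m, Cfsg.stabilizing (Cfsg.spToMat m F)
        {v : Fin m ⊕ Fin m → F | (∀ i : Fin m, (k : ℕ) < (i : ℕ) → v (Sum.inl i) = 0) ∧ ∀ i : Fin m, v (Sum.inr i) = 0}) *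
        ∏ i ∈ Finset.range m, (Fintype.card F ^ (2 * m - i) - Fintype.card F ^ i) =
      Nat.card (Matrix.symplecticGroup (Fin m) F) *
        ∏ i : Fin m, ((Fintype.card F - 1) * Fintype.card F ^ (i : ℕ)) := by
  classical
  let V := Fin m ⊕ Fin m → F
  let x : Fin m → V := fun i => Pi.single (Sum.inl i) 1
  let Q : (Fin m → V) → Prop := fun v =>
    (∀ i, v i ∈ flagSub F m i) ∧ ∀ i, v i (Sum.inl i) ≠ 0
  have htri : ∀ v : Fin m → V, (∀ i, v i ∈ flagSub F m i) →
      (LinearIndependent F v ↔ ∀ i, v i (Sum.inl i) ≠ 0) := by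
    intro v hv
    set M : Matrix (Fin m) (Fin m) F := Matrix.of fun i j => v i (Sum.inl j)
    have hdet : M.det = ∏ i, v i (Sum.inl i) := Matrix.det_of_lowerTriangular M fun i j hij =>
      (hv i).1 j hij
    let ε : V →ₗ[F] (Fin m → F) := LinearMap.funLeft F F Sum.inl
    have hLI : LinearIndependent F v ↔ LinearIndependent F M.row := by
      refine ⟨fun h => ?_, fun h => LinearIndependent.of_comp ε h⟩
      have : Function.Injective (ε.comp (Submodule.span F (Set.range v)).subtype) := by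
        rw [← LinearMap.ker_eq_bot, LinearMap.ker_eq_bot']
        rintro ⟨w, hw⟩ h0
        have hw' : ∀ i, w (Sum.inr i) = 0 := by
          intro i
          have : Submodule.span F (Set.range v) ≤ LinearMap.ker (LinearMap.proj (R := F) (Sum.inr i : Fin m ⊕ Fin m)) :=
            Submodule.span_le.2 (by rintro _ ⟨j, rfl⟩; exact (hv j).2 i)
          exact this hw
        refine Subtype.ext (funext fun i => ?_)
        rcases i with i | i
        · exact congrFun h0 i
        · exact hw' i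
      exact (linearIndependent_span h).map' _ (LinearMap.ker_eq_bot.2 this)
    rw [hLI, Matrix.linearIndependent_rows_iff_isUnit, Matrix.isUnit_iff_isUnit_det, isUnit_iff_ne_zero, hdet,
      Finset.prod_ne_zero_iff]
    simp
  have hQP : ∀ v, Q v → IsTIFam v := fun v hv => ⟨(htri v hv.1).2 hv.2, fun i j => by
    simp [Cfsg.sympForm, dotProduct, Matrix.J, Matrix.mulVec, Fintype.sum_sum_type, (hv.1 i).2, (hv.1 j).2,
      Matrix.one_apply]⟩
  have hx0 : Q x := ⟨fun i => ⟨fun j hj => by
    simp [x, Pi.single_apply, Fin.ext_iff]; omega, fun j => by simp [x]⟩, fun i => by simp [x]⟩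
  set S := ⨅ k : Fin m, Cfsg.stabilizing (Cfsg.spToMat m F) (flagSub F m k : Set V)
  have hmem : ∀ A : Matrix.symplecticGroup (Fin m) F, (∀ i, A.1 *ᵥ x i ∈ flagSub F m i) → A ∈ S := by
    intro A hA
    rw [Subgroup.mem_iInf]
    intro k
    have hle : (flagSub F m k).map (spEquiv m F A).toLinearMap ≤ flagSub F m k := by
      rintro _ ⟨w, hw, rfl⟩
      have : w = ∑ i, w (Sum.inl i) • x i := by
        funext j
        rcases j with j | j
        · erw [Finset.sum_apply]
          show _ = ∑ i, w (Sum.inl i) * (Pi.single (Sum.inl i) (1 : F) : Fin m ⊕ Fin m → F) (Sum.inl j)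
          simp [Pi.single_apply]
        · erw [Finset.sum_apply]
          show _ = ∑ i, w (Sum.inl i) * (Pi.single (Sum.inl i) (1 : F) : Fin m ⊕ Fin m → F) (Sum.inr j)
          simp [hw.2 j]
      show A.1 *ᵥ w ∈ flagSub F m k
      rw [this, mulVec_sum]
      refine Submodule.sum_mem _ fun i _ => ?_
      rw [mulVec_smul]
      rcases lt_or_ge (k : ℕ) (i : ℕ) with h | h
      · rw [hw.1 i h, zero_smul]; exact zero_mem _
      · exact Submodule.smul_mem _ _ ⟨fun j hj => (hA i).1 j (by omega), (hA i).2⟩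
    have heq := Submodule.eq_of_le_of_finrank_eq hle (LinearEquiv.finrank_map_eq _ _)
    intro v
    constructor
    · intro hv; exact hle ⟨v, hv, rfl⟩
    · intro hv
      have hv' : A.1 *ᵥ v ∈ (flagSub F m k).map (spEquiv m F A).toLinearMap := by rw [heq]; exact hv
      obtain ⟨u, hu, e⟩ := hv'
      show v ∈ flagSub F m k
      rwa [← (spEquiv m F A).injective (e : spEquiv m F A u = spEquiv m F A v)]
  have hcount : Nat.card {v : Fin m → V // Q v} =
      ∏ i : Fin m, ((Fintype.card F - 1) * Fintype.card F ^ (i : ℕ)) := by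
    let e : {v : Fin m → V // Q v} ≃ ∀ i : Fin m, Fˣ × ({j : Fin m // j < i} → F) :=
      { toFun := fun v i => (Units.mk0 _ (v.2.2 i), fun j => v.1 i (Sum.inl j.1))
        invFun := fun p => ⟨fun i => Sum.elim (fun j =>
            if h : j < i then (p i).2 ⟨j, h⟩ else if j = i then ((p i).1 : F) else 0) 0,
          fun i => ⟨fun j hj => by
            have h1 : ¬ j < i := by
              simp only [Fin.lt_def, not_lt]; omega
            have h2 : j ≠ i := by rintro rfl; omega
            simp [h1, h2], fun j => rfl⟩, fun i => by simp⟩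
        left_inv := fun v => Subtype.ext (funext fun i => funext fun j => by
          rcases j with j | j
          · rcases lt_trichotomy j i with h | rfl | h
            · simp [h]
            · simp
            · simp [h.not_gt, h.ne', (v.2.1 i).1 j h]
          · simp [(v.2.1 i).2 j])
        right_inv := fun p => funext fun i => Prod.ext (Units.ext (by simp)) (funext fun j => by simp [j.2]) }
    rw [Nat.card_congr e, Nat.card_pi]
    refine Finset.prod_congr rfl fun i _ => ?_
    rw [Nat.card_prod, Nat.card_units, Nat.card_fun, Nat.card_eq_fintype_card (α := F),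
      show Nat.card {j : Fin m // j < i} = i from by
        rw [Nat.card_eq_fintype_card, Fintype.card_subtype, Finset.filter_gt_eq_Iio, Fin.card_Iio]]
  rw [← hcount, ← Nat.card_eq_fintype_card (α := F), ← card_tiFam m]
  exact card_stab_mul (Cfsg.spToMat m F) IsTIFam (fun A v hv => isTIFam_map A hv)
    (fun v w hv hw => tiFam_transitive hv hw) S (hQP x hx0)
    (fun A hA => hmem A fun i => by rw [show A.1 *ᵥ x i = x i from hA i]; exact hx0.1 i)
    Q hQP
    (fun A hA => by
      rw [Subgroup.mem_iInf] at hA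
      have h := fun i => (hA i (x i)).1 (hx0.1 i)
      exact ⟨h, (htri _ h).1 (isTIFam_map A (hQP x hx0)).1⟩)
    (fun A hA => hmem A hA.1)

/-- Counting subspaces by the families spanning them. -/
theorem card_ti_subspaces {k : ℕ} (P : Submodule F (Fin m ⊕ Fin m → F) → Prop) :
    Nat.card {W : Submodule F (Fin m ⊕ Fin m → F) //
        (Module.finrank F W = k ∧ ∀ u ∈ W, ∀ v ∈ W, Cfsg.sympForm m F u v = 0) ∧ P W} *
      ∏ i : Fin k, (Fintype.card F ^ k - Fintype.card F ^ (i : ℕ)) =
    Nat.card {v : Fin k → (Fin m ⊕ Fin m → F) // IsTIFam v ∧ P (Submodule.span F (Set.range v))} := by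
  classical
  have hspanTI : ∀ {v : Fin k → (Fin m ⊕ Fin m → F)}, IsTIFam v →
      ∀ u ∈ Submodule.span F (Set.range v), ∀ w ∈ Submodule.span F (Set.range v),
        Cfsg.sympForm m F u w = 0 := by
    intro v hv u hu w hw
    rw [← sympBilin_apply]
    have h1 : w ∈ perp v := span_le_perp hv hw
    exact (LinearMap.BilinForm.mem_orthogonal_iff.1 h1) u hu
  let A := {W : Submodule F (Fin m ⊕ Fin m → F) //
    (Module.finrank F W = k ∧ ∀ u ∈ W, ∀ v ∈ W, Cfsg.sympForm m F u v = 0) ∧ P W}
  haveI : Finite (Submodule F (Fin m ⊕ Fin m → F)) := Finite.of_injective _ SetLike.coe_injective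
  haveI : Fintype A := Fintype.ofFinite A
  let g : {v : Fin k → (Fin m ⊕ Fin m → F) // IsTIFam v ∧ P (Submodule.span F (Set.range v))} ≃
      Σ W : A, {v : Fin k → (Fin m ⊕ Fin m → F) // LinearIndependent F v ∧ ∀ i, v i ∈ W.1} :=
    { toFun := fun v => ⟨⟨Submodule.span F (Set.range v.1),
        ⟨by rw [finrank_span_eq_card v.2.1.1, Fintype.card_fin], hspanTI v.2.1⟩, v.2.2⟩,
        ⟨v.1, v.2.1.1, fun i => Submodule.subset_span ⟨i, rfl⟩⟩⟩
      invFun := fun p => ⟨p.2.1, ⟨p.2.2.1, fun i j => p.1.2.1.2 _ (p.2.2.2 i) _ (p.2.2.2 j)⟩, by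
        rw [span_eq_of_famIn p.1.2.1.1 p.2.2.1 p.2.2.2]; exact p.1.2.2⟩
      left_inv := fun v => rfl
      right_inv := fun p => by
        obtain ⟨⟨W, ⟨hW, hT⟩, hP⟩, v, hv, hm⟩ := p
        obtain rfl := span_eq_of_famIn hW hv hm
        rfl }
  rw [Nat.card_congr g, Nat.card_sigma, Finset.sum_congr rfl fun W _ => card_famIn W.2.1.1, Finset.sum_const,
    Finset.card_univ, ← Nat.card_eq_fintype_card (α := A), smul_eq_mul]

end CfsgLib.Geometry.StabCount

namespace CfsgLib.Geometry.StabCount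

open Matrix

variable {F : Type*} [Field F] [Fintype F]

/-- The lines of the symplectic quadrangle through a point. -/
theorem card_ti_planes_through {v : Fin 2 ⊕ Fin 2 → F} (hv : v ≠ 0) :
    Nat.card {W : Submodule F (Fin 2 ⊕ Fin 2 → F) //
        Module.finrank F W = 2 ∧ v ∈ W ∧ ∀ u ∈ W, ∀ w ∈ W, Cfsg.sympForm 2 F u w = 0} =
      Fintype.card F + 1 := by
  classical
  let x : Fin 1 → (Fin 2 ⊕ Fin 2 → F) := fun _ => v
  have hx : IsTIFam x := ⟨linearIndependent_unique_iff.2 hv, fun _ _ => sympForm_self v⟩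
  have hrange : Submodule.span F (Set.range x) = Submodule.span F {v} := by simp [x, Set.range_const]
  let A := {W : Submodule F (Fin 2 ⊕ Fin 2 → F) //
    Module.finrank F W = 2 ∧ v ∈ W ∧ ∀ u ∈ W, ∀ w ∈ W, Cfsg.sympForm 2 F u w = 0}
  haveI : Finite (Submodule F (Fin 2 ⊕ Fin 2 → F)) := Finite.of_injective _ SetLike.coe_injective
  haveI : Fintype A := Fintype.ofFinite A
  have hle : ∀ W : A, Submodule.span F {v} ≤ W.1 := fun W =>
    (Submodule.span_singleton_le_iff_mem _ _).2 W.2.2.1
  have hfam : ∀ {y}, y ∈ perp x → y ∉ Submodule.span F (Set.range x) → IsTIFam (Fin.cons y x) :=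
    fun h1 h2 => isTIFam_cons.2 ⟨hx, h1, h2⟩
  let g : {y // y ∈ perp x ∧ y ∉ Submodule.span F (Set.range x)} ≃
      Σ W : A, {y : Fin 2 ⊕ Fin 2 → F // y ∈ W.1 ∧ y ∉ Submodule.span F {v}} :=
    { toFun := fun y => ⟨⟨Submodule.span F (Set.range (Fin.cons y.1 x : Fin 2 → Fin 2 ⊕ Fin 2 → F)),
        by rw [finrank_span_eq_card (hfam y.2.1 y.2.2).1, Fintype.card_fin],
        Submodule.subset_span ⟨1, rfl⟩, fun a ha b hb => by
          rw [← sympBilin_apply]
          exact (LinearMap.BilinForm.mem_orthogonal_iff.1 (span_le_perp (hfam y.2.1 y.2.2) hb)) a ha⟩,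
        y.1, Submodule.subset_span ⟨0, rfl⟩, by rw [← hrange]; exact y.2.2⟩
      invFun := fun p => ⟨p.2.1, mem_perp.2 fun _ => p.1.2.2.2 _ p.1.2.2.1 _ p.2.2.1, by rw [hrange]; exact p.2.2.2⟩
      left_inv := fun y => rfl
      right_inv := fun p => by
        obtain ⟨⟨W, hW, hvW, hT⟩, y, hy, hy'⟩ := p
        have hli : LinearIndependent F (Fin.cons y x : Fin 2 → Fin 2 ⊕ Fin 2 → F) :=
          linearIndependent_finCons.2 ⟨hx.1, by rw [hrange]; exact hy'⟩
        obtain rfl := span_eq_of_famIn hW hli (fun i => by fin_cases i <;> assumption)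
        rfl }
  have h := card_fibre hx
  rw [Nat.card_congr g, Nat.card_sigma, Finset.sum_congr rfl fun W _ => card_diff_sub (hle W)] at h
  rw [finrank_span_singleton hv, Finset.sum_congr rfl fun W _ => by rw [W.2.1], Finset.sum_const, Finset.card_univ,
    ← Nat.card_eq_fintype_card (α := A), smul_eq_mul, Nat.card_eq_fintype_card (α := F)] at h
  have h2 : 2 ≤ Fintype.card F := Fintype.one_lt_card
  refine Nat.eq_of_mul_eq_mul_right (show 0 < Fintype.card F ^ 2 - Fintype.card F ^ 1 by
    exact Nat.sub_pos_of_lt (Nat.pow_lt_pow_right h2 one_lt_two)) (h.trans ?_)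
  rw [Nat.mul_sub, show (2 * 2 - 1 : ℕ) = 3 from rfl]
  obtain ⟨c, hc⟩ := Nat.exists_eq_add_of_le h2
  rw [hc]
  zify [Nat.pow_le_pow_right (show 2 + c > 0 by omega) (show 1 ≤ 3 by omega),
    Nat.mul_le_mul_left (2 + c + 1) (Nat.pow_le_pow_right (show 2 + c > 0 by omega) (show 1 ≤ 2 by omega))]
  ring

end CfsgLib.Geometry.StabCount
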