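import Cfsg.Agent.Lib.Geometry.Octonion
import Cfsg.Agent.Lib.Geometry.OutEven
import Cfsg.Agent.Lib.Geometry.EvenTypes

/-! Related triples of similarities of the octonion algebra. -/

set_option autoImplicit false

namespace CfsgLib.Geometry.Oct

open Matrix QuadraticMap

variable {F : Type*} [Field F]

/-- The form. -/
noncomputable abbrev Q (F : Type*) [Field F] : QuadraticForm F (V F) := matQuad (plusMat 4 F)

/-- The similarities. -/
noncomputable abbrev Sim (F : Type*) [Field F] := Cfsg.Geo.quadSimilarityGroup ⇑(Q F)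

/-- The simple group. -/
noncomputable abbrev G8 (F : Type*) [Field F] := Cfsg.POmega F ⇑(Q F)

/-- Application of a similarity. -/
noncomputable def ap (g : Sim F) (v : V F) : V F := ((g : GL (Fin 4 ⊕ Fin 4) F) : Matrix _ _ F) *ᵥ v

theorem ap_mul (g h : Sim F) (v : V F) : ap (g * h) v = ap g (ap h v) := by
  simp [ap, mulVec_mulVec]

theorem ap_one (v : V F) : ap (1 : Sim F) v = v := by simp [ap]

theorem ap_inv_ap (g : Sim F) (v : V F) : ap g⁻¹ (ap g v) = v := by
  rw [← ap_mul, inv_mul_cancel, ap_one]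

theorem ap_ap_inv (g : Sim F) (v : V F) : ap g (ap g⁻¹ v) = v := by
  rw [← ap_mul, mul_inv_cancel, ap_one]

theorem ap_smul (g : Sim F) (c : F) (v : V F) : ap g (c • v) = c • ap g v := mulVec_smul _ _ _

theorem ap_scalar (c : Fˣ) (v : V F) : ap (simScalar (Q F) c) v = (c : F) • v := by
  rw [ap, simScalar_coe, smul_mulVec, one_mulVec]

theorem ext_ap {g h : Sim F} (e : ∀ v, ap g v = ap h v) : g = h :=
  Subtype.ext (Units.ext (matrix_eq_of_mulVec e))

variable [Finite F]

theorem evenHyp8 : EvenHyp (plusMat 4 F) 4 := evenHyp_plus le_rfl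

theorem Q_ap (g : Sim F) (v : V F) : Q F (ap g v) = (simMult evenHyp8.ne g : F) * Q F v :=
  simMult_spec _ g v

theorem Q_ap_one_ne (g : Sim F) : Q F (ap g one) ≠ 0 := by
  rw [Q_ap, Q8_one, mul_one]; exact Units.ne_zero _

theorem mem_scalars_of_ap {g : Sim F} {c : F} (h : ∀ v, ap g v = c • v) :
    (g : GL (Fin 4 ⊕ Fin 4) F) ∈ Cfsg.Geo.scalars _ F := by
  have hc : c ≠ 0 := fun e => Q_ap_one_ne g (by rw [h, e, zero_smul, map_zero])
  refine (Cfsg.Geo.mem_scalars_iff _).2 ⟨Units.mk0 c hc, matrix_eq_of_mulVec fun v => ?_⟩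
  rw [smul_mulVec, one_mulVec]
  exact h v

theorem simAut_one_iff (g : Sim F) : simAut ⇑(Q F) g = 1 ↔ ∃ c : F, ∀ v, ap g v = c • v := by
  rw [simAut_eq_one_iff (evenHyp8 (F := F)).nondeg (evenHyp8 (F := F)).five_le]
  refine ⟨fun h => ?_, fun ⟨c, hc⟩ => mem_scalars_of_ap hc⟩
  obtain ⟨c, hc⟩ := (Cfsg.Geo.mem_scalars_iff _).1 h
  exact ⟨c, fun v => by rw [ap, hc, smul_mulVec, one_mulVec]⟩

/-- The related triples. -/
noncomputable def Trip (F : Type*) [Field F] [Finite F] : Subgroup (Sim F × Sim F × Sim F) where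
  carrier := {t | ∀ x y, ap t.1 (mul x y) = mul (ap t.2.1 x) (ap t.2.2 y)}
  one_mem' := fun x y => by simp only [Prod.fst_one, Prod.snd_one, ap_one]
  mul_mem' := fun {s t} hs ht x y => by
    simp only [Prod.fst_mul, Prod.snd_mul, ap_mul, ht x y, hs _ _]
  inv_mem' := fun {t} ht x y => by
    have h := congrArg (ap t.1⁻¹) (ht (ap t.2.1⁻¹ x) (ap t.2.2⁻¹ y))
    rw [ap_inv_ap, ap_ap_inv, ap_ap_inv] at h
    exact h.symm

/-- The action through the first component. -/
noncomputable def pi0 (F : Type*) [Field F] [Finite F] : Trip F →* MulAut (G8 F) :=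
  (simAut ⇑(Q F)).comp ((MonoidHom.fst _ _).comp (Trip F).subtype)

/-- The action through the second component. -/
noncomputable def pi1 (F : Type*) [Field F] [Finite F] : Trip F →* MulAut (G8 F) :=
  (simAut ⇑(Q F)).comp (((MonoidHom.fst _ _).comp (MonoidHom.snd _ _)).comp (Trip F).subtype)

/-- The middle nucleus. -/
theorem eq_one_of_right_assoc (b : V F) (h : ∀ x z, mul (mul x z) b = mul x (mul z b)) :
    b = b (.inl 0) • one := by
  have key : ∀ i j k, mul (mul (Pi.single i 1) (Pi.single j 1)) b k =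
      mul (Pi.single i 1) (mul (Pi.single j 1) b) k := fun i j k => congrFun (h _ _) k
  have e3 : b (.inl 3) = 0 := by simpa [mul, eq_comm] using key (.inl 0) (.inl 1) (.inr 2)
  have e2 : b (.inl 2) = 0 := by simpa [mul, eq_comm] using key (.inl 0) (.inl 1) (.inr 3)
  have e1 : b (.inl 1) = 0 := by simpa [mul, eq_comm] using key (.inl 0) (.inl 2) (.inr 3)
  have e7 : b (.inr 3) = 0 := by simpa [mul, eq_comm] using key (.inl 0) (.inr 1) (.inl 2)
  have e6 : b (.inr 2) = 0 := by simpa [mul, eq_comm] using key (.inl 0) (.inr 1) (.inl 3)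
  have e5 : b (.inr 1) = 0 := by simpa [mul, eq_comm] using key (.inl 0) (.inr 2) (.inl 3)
  have e0 : b (.inr 0) = b (.inl 0) := by simpa [mul, eq_comm] using key (.inl 1) (.inl 2) (.inr 3)
  apply ext8 <;> simp [one, e0, e1, e2, e3, e5, e6, e7]

theorem pi1_eq_one {t : Trip F} (h : pi0 F t = 1) : pi1 F t = 1 := by
  obtain ⟨⟨g, g₁, g₂⟩, ht⟩ := t
  obtain ⟨c, hc⟩ := (simAut_one_iff g).1 h
  have ht' : ∀ x y, c • mul x y = mul (ap g₁ x) (ap g₂ y) := fun x y => by rw [← hc]; exact ht x y
  set B := ap g₂ one with hB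
  set A := ap g₁ one with hA
  set K := (Q F A)⁻¹ * (Q F B)⁻¹ with hK
  have hA0 : Q F A ≠ 0 := Q_ap_one_ne g₁
  have hB0 : Q F B ≠ 0 := Q_ap_one_ne g₂
  have hx : ∀ x, ap g₁ x = ((Q F B)⁻¹ * c) • mul x (conj B) := fun x => by
    have := congrArg (fun z => mul z (conj B)) (ht' x one)
    simp only [mul_one', smul_mul'] at this
    rw [mul_conj_cancel] at this
    rw [mul_smul, this, smul_smul, inv_mul_cancel₀ hB0, one_smul]
  have hy : ∀ y, ap g₂ y = ((Q F A)⁻¹ * c) • mul (conj A) y := fun y => by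
    have := congrArg (mul (conj A)) (ht' one y)
    rw [conj_mul_cancel, mul_smul', one_mul'] at this
    rw [mul_smul, this, smul_smul, inv_mul_cancel₀ hA0, one_smul]
  have hc0 : c ≠ 0 := fun e => Q_ap_one_ne g (by rw [hc, e, zero_smul, map_zero])
  set L := c * K with hL
  have hL0 : L ≠ 0 := mul_ne_zero hc0 (mul_ne_zero (inv_ne_zero hA0) (inv_ne_zero hB0))
  have hid : ∀ x y, L • mul (mul x (conj B)) (mul (conj A) y) = mul x y := fun x y => by
    have h := ht' x y
    rw [hx, hy, smul_mul', mul_smul', smul_smul] at h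
    apply smul_right_injective (V F) hc0
    show c • (L • _) = c • _
    rw [h, smul_smul]
    congr 1
    rw [hL, hK]; ring
  set a := conj B with ha
  have haQ : Q F a ≠ 0 := by rw [ha, Q8_conj]; exact hB0
  have h11 : L • mul a (conj A) = one := by
    have := hid one one
    rwa [one_mul', mul_one', one_mul'] at this
  have hA' : conj A = ((Q F a)⁻¹ * L⁻¹) • conj a := by
    have := congrArg (mul (conj a)) h11
    rw [mul_smul', conj_mul_cancel, mul_one', smul_smul] at this
    rw [← this, smul_smul, show (Q F a)⁻¹ * L⁻¹ * (L * Q F a) = 1 by field_simp, one_smul]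
  have hassoc : ∀ x z, mul (mul x a) z = mul x (mul a z) := fun x z => by
    have := hid x (mul a z)
    rw [hA', smul_mul', conj_mul_cancel, smul_smul, mul_smul', smul_smul,
      show L * ((Q F a)⁻¹ * L⁻¹ * Q F a) = 1 by field_simp, one_smul] at this
    exact this
  refine (simAut_one_iff g₁).2 ⟨(Q F B)⁻¹ * c * a (.inl 0), fun v => ?_⟩
  rw [hx]
  conv_lhs => rw [eq_smul_one_of_assoc a hassoc, mul_smul', mul_one', smul_smul]

theorem pi0_eq_one {t : Trip F} (h : pi1 F t = 1) : pi0 F t = 1 := by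
  obtain ⟨⟨g, g₁, g₂⟩, ht⟩ := t
  obtain ⟨c, hc⟩ := (simAut_one_iff g₁).1 h
  have ht' : ∀ x y, ap g (mul x y) = c • mul x (ap g₂ y) := fun x y => by
    rw [← smul_mul', ← hc]; exact ht x y
  have h2 : ∀ y, ap g y = c • ap g₂ y := fun y => by
    have := ht' one y
    rwa [one_mul', one_mul'] at this
  have h3 : ∀ x y, ap g (mul x y) = mul x (ap g y) := fun x y => by rw [ht', h2, mul_smul']
  set b := ap g one
  have h4 : ∀ x, ap g x = mul x b := fun x => by
    have := h3 x one
    rwa [mul_one'] at this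
  refine (simAut_one_iff g).2 ⟨b (.inl 0), fun v => ?_⟩
  rw [h4, eq_one_of_right_assoc b fun x z => by rw [← h4, ← h4, h3], mul_smul', mul_one']
  simp [one]

/-- A similarity from a linear map. -/
noncomputable def mkSim (L : V F →ₗ[F] V F) (c : Fˣ) (h : ∀ v, Q F (L v) = (c : F) * Q F v) : Sim F :=
  ⟨glEquiv.symm (LinearEquiv.ofBijective L ⟨fun u v huv => by
    have hz : L (u - v) = 0 := by rw [map_sub, huv, sub_self]
    refine sub_eq_zero.1 (evenHyp8.nondeg.1 (u - v) fun w => ?_)
    have h1 : (c : F) * polar (Q F) (u - v) w = polar (Q F) (L (u - v)) (L w) := by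
      simp only [polar, ← map_add, h]; ring
    rw [hz, QuadraticMap.polar_zero_left] at h1
    exact (mul_eq_zero.1 h1).resolve_left c.ne_zero,
    (LinearMap.injective_iff_surjective (f := L)).1 (fun u v huv => by
      have hz : L (u - v) = 0 := by rw [map_sub, huv, sub_self]
      refine sub_eq_zero.1 (evenHyp8.nondeg.1 (u - v) fun w => ?_)
      have h1 : (c : F) * polar (Q F) (u - v) w = polar (Q F) (L (u - v)) (L w) := by
        simp only [polar, ← map_add, h]; ring
      rw [hz, QuadraticMap.polar_zero_left] at h1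
      exact (mul_eq_zero.1 h1).resolve_left c.ne_zero)⟩), c, fun v => by rw [glEquiv_symm_mulVec]; exact h v⟩

theorem ap_mkSim (L : V F →ₗ[F] V F) (c : Fˣ) (h : ∀ v, Q F (L v) = (c : F) * Q F v) (v : V F) :
    ap (mkSim L c h) v = L v := glEquiv_symm_mulVec _ v

/-- Left multiplication. -/
noncomputable def lmul (a : V F) (ha : Q F a ≠ 0) : Sim F :=
  mkSim { toFun := mul a, map_add' := mul_add' a, map_smul' := fun r v => mul_smul' r a v } (Units.mk0 _ ha)
    (Q8_mul a)

/-- Right multiplication. -/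
noncomputable def rmul (a : V F) (ha : Q F a ≠ 0) : Sim F :=
  mkSim { toFun := fun v => mul v a, map_add' := fun u v => add_mul' u v a,
          map_smul' := fun r v => smul_mul' r v a } (Units.mk0 _ ha) (fun v => (Q8_mul v a).trans (mul_comm _ _))

theorem ap_lmul (a : V F) (ha : Q F a ≠ 0) (v : V F) : ap (lmul a ha) v = mul a v := ap_mkSim _ _ _ v

theorem ap_rmul (a : V F) (ha : Q F a ≠ 0) (v : V F) : ap (rmul a ha) v = mul v a := ap_mkSim _ _ _ v

/-- The triple of the sandwich map. -/
theorem trip_mem (a : V F) (ha : Q F a ≠ 0) :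
    ((rmul a ha * lmul a ha, lmul a ha, rmul a ha) : Sim F × Sim F × Sim F) ∈ Trip F := fun x y => by
  simp only [ap_mul, ap_lmul, ap_rmul]
  exact moufang a x y

theorem polar_one_conj (x : V F) : x - polar (Q F) x one • one = -conj x := by
  apply ext8 <;> simp [polar, Q8_apply, one, conj] <;> ring

/-- The isometry of two reflections. -/
noncomputable def twoRefl (a : V F) (ha : Q F a ≠ 0) : Cfsg.isometryGroup F ⇑(Q F) :=
  (isomEquiv (Q F)).symm (oRefl (Q F) a ha * oRefl (Q F) one (by rw [Q8_one]; exact one_ne_zero))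

theorem ap_twoRefl (a : V F) (ha : Q F a ≠ 0) (v : V F) :
    ap (simIso _ (twoRefl a ha)) v = (Q F a)⁻¹ • mul (mul a v) a := by
  show (((isomEquiv (Q F)).symm _ : Cfsg.isometryGroup F ⇑(Q F)) : GL (Fin 4 ⊕ Fin 4) F).1 *ᵥ v = _
  rw [isomEquiv_symm_mulVec]
  show refl (Q F) a ha (refl (Q F) one (by rw [Q8_one]; exact one_ne_zero) v) = _
  have e1 : refl (Q F) one (by rw [Q8_one]; exact one_ne_zero) v = -conj v := by
    rw [refl_apply, Q8_one, inv_one, one_mul, polar_one_conj]
  have e2 : mul (mul a v) a = polar (Q F) a (conj v) • a - Q F a • conj v := by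
    have := sandwich a (conj v)
    rwa [show conj (conj v) = v by apply ext8 <;> simp [conj]] at this
  rw [e1, e2, map_neg, refl_apply, polar_comm, smul_sub, smul_smul, smul_smul, inv_mul_cancel₀ ha, one_smul]
  abel

theorem sandwich_eq (a : V F) (ha : Q F a ≠ 0) :
    rmul a ha * lmul a ha = simScalar (Q F) (Units.mk0 _ ha) * simIso _ (twoRefl a ha) := by
  refine ext_ap fun v => ?_
  rw [ap_mul, ap_rmul, ap_lmul, ap_mul, ap_scalar, ap_twoRefl, smul_smul, Units.val_mk0, mul_inv_cancel₀ ha,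
    one_smul]

theorem simAut_sandwich (a : V F) (ha : Q F a ≠ 0) :
    simAut _ (rmul a ha * lmul a ha) = simAut _ (simIso _ (twoRefl a ha)) := by
  rw [sandwich_eq, map_mul, (simAut_eq_one_iff (evenHyp8 (F := F)).nondeg (evenHyp8 (F := F)).five_le _).2
    (simScalar_mem_scalars _ _), one_mul]

theorem inn_le_range : Cfsg.Inn (G8 F) ≤ (pi0 F).range := by
  set P : Subgroup (orth (Q F)) :=
    ((pi0 F).range.comap ((simAut _).comp (simIso ⇑(Q F)))).map (isomEquiv (Q F)).toMonoidHom with hP
  have h1 : Q F (one : V F) ≠ 0 := by rw [Q8_one]; exact one_ne_zero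
  set R := oRefl (Q F) one h1
  have hmem : ∀ a (ha : Q F a ≠ 0), oRefl (Q F) a ha * R ∈ P := fun a ha =>
    ⟨twoRefl a ha, ⟨⟨_, trip_mem a ha⟩, simAut_sandwich a ha⟩, MulEquiv.apply_symm_apply _ _⟩
  have hRR : R * R = 1 := oRefl_mul_self one h1
  have hcov : ∀ g : orth (Q F), g ∈ P ∨ g * R ∈ P := by
    have hgen := closure_oRefl (evenHyp8 (F := F)).reflGroup
    intro g
    have hg : g ∈ Subgroup.closure {g : orth (Q F) | ∃ (a : V F) (ha : Q F a ≠ 0), g = oRefl (Q F) a ha} :=
      hgen ▸ Subgroup.mem_top g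
    have hsym : ∀ a (ha : Q F a ≠ 0), R * oRefl (Q F) a ha ∈ P := fun a ha => by
      have := inv_mem (hmem a ha)
      rwa [_root_.mul_inv_rev, inv_eq_of_mul_eq_one_left hRR,
        inv_eq_of_mul_eq_one_left (oRefl_mul_self a ha)] at this
    induction hg using Subgroup.closure_induction_right with
    | one => exact Or.inl (one_mem _)
    | mul_right x _ y hy ih =>
      obtain ⟨a, ha, rfl⟩ := hy
      rcases ih with h | h
      · exact Or.inr (by rw [mul_assoc]; exact mul_mem h (hmem a ha))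
      · refine Or.inl ?_
        have := mul_mem h (hsym a ha)
        rwa [mul_assoc, ← mul_assoc R, hRR, one_mul] at this
    | mul_inv_cancel x _ y hy ih =>
      obtain ⟨a, ha, rfl⟩ := hy
      rw [inv_eq_of_mul_eq_one_left (oRefl_mul_self a ha)]
      rcases ih with h | h
      · exact Or.inr (by rw [mul_assoc]; exact mul_mem h (hmem a ha))
      · refine Or.inl ?_
        have := mul_mem h (hsym a ha)
        rwa [mul_assoc, ← mul_assoc R, hRR, one_mul] at this
  have hcomm : commutator (orth (Q F)) ≤ P := by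
    by_cases hR : R ∈ P
    · intro g _
      rcases hcov g with h | h
      · exact h
      · have := mul_mem h hR
        rwa [mul_assoc, hRR, mul_one] at this
    · have hidx : P.index = 2 := by
        rw [Subgroup.index_eq_two_iff]
        refine ⟨R, fun g => ?_⟩
        rcases hcov g with h | h
        · exact Or.inr ⟨h, fun h' => hR ((Subgroup.mul_mem_cancel_left _ h).1 h')⟩
        · exact Or.inl ⟨h, fun h' => hR ((Subgroup.mul_mem_cancel_left _ h').1 h)⟩
      rw [commutator_def, Subgroup.commutator_le]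
      intro x _ y _
      rw [commutatorElement_def, Subgroup.mul_mem_iff_of_index_two hidx, Subgroup.mul_mem_iff_of_index_two hidx,
        Subgroup.mul_mem_iff_of_index_two hidx, inv_mem_iff, inv_mem_iff]
      tauto
  rintro _ ⟨s, rfl⟩
  induction s using QuotientGroup.induction_on with
  | H s =>
    rw [← simAut_simIso_omega]
    obtain ⟨h, hh, e⟩ := hcomm ((mem_Omega_iff_commutator (Q F) _).1 s.2)
    rw [← (isomEquiv (Q F)).injective e]
    exact hh

end CfsgLib.Geometry.Oct
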