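import Cfsg.Agent.Lib.Geometry.HermCount
import Cfsg.Agent.Lib.Classical.UnitaryFrame
import Cfsg.Agent.Lib.Classical.UnitarySU
import Cfsg.Prelude.Def_ClassicalGeometry

/-! The stabiliser of a totally isotropic subspace in `SU_n(q)`. -/

set_option autoImplicit false

namespace CfsgLib.Geometry.UnitaryStab

open Matrix CfsgLib.Geometry CfsgLib.Classical CfsgLib.Classical.Unitary

variable {F : Type*} [Field F] [Finite F] {q n : ℕ}

/-- Independent families of mutually orthogonal isotropic vectors. -/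
def IsTIFam (F : Type*) [Field F] (q n : ℕ) {k : ℕ} (v : Fin k → Fin n → F) : Prop :=
  LinearIndependent F v ∧ ∀ i j, Cfsg.hermForm n F q (v i) (v j) = 0

theorem gu_transitive (hF : Nat.card F = q ^ 2) {k : ℕ} {v w : Fin k → Fin n → F}
    (hv : IsTIFam F q n v) (hw : IsTIFam F q n w) :
    ∃ g ∈ Cfsg.GU n F q, ∀ i, (g : Matrix (Fin n) (Fin n) F) *ᵥ v i = w i := by
  obtain ⟨σ, hσ, hσne, hσ2⟩ := exists_frob hF
  obtain ⟨g, hg, hgv⟩ := herm_extend (B := hermB σ n) hσne hσ2 (hermB_isSymm hσ2 _) (hermB_nondeg hσ2 _)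
    v w hv.1 hw.1 fun i j => by rw [hermB_eq hσ, hermB_eq hσ, hv.2, hw.2]
  refine ⟨glEquiv.symm g, fun a b => ?_, fun i => ?_⟩
  · show Cfsg.hermForm n F q _ _ = _
    simp only [Units.coeHom_apply, glEquiv_symm_mulVec]
    rw [← hermB_eq hσ, ← hermB_eq hσ]
    exact mem_unit_.1 hg b a
  · rw [glEquiv_symm_mulVec]; exact hgv i

/-- The fibre over a standard family. -/
theorem card_fibre (hF : Nat.card F = q ^ 2) {k r : ℕ} (hn : 2 * k + r = n) {v : Fin k → Fin n → F}
    (hv : IsTIFam F q n v) :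
    Nat.card {w : Fin n → F // Cfsg.hermForm n F q w w = 0 ∧ ∀ i, Cfsg.hermForm n F q w (v i) = 0} =
      q ^ (2 * k) * normCount F q r 0 := by
  classical
  obtain ⟨σ, hσ, hσne, hσ2⟩ := exists_frob hF
  have hq : q ≠ 0 := by have := two_le_q hF; omega
  obtain ⟨t, ht⟩ := exists_pow_succ_eq hF (c := (-1 : F)) (by rw [← hσ, map_neg, map_one])
  let e : (Fin k ⊕ Fin k) ⊕ Fin r ≃ Fin n := Fintype.equivFinOfCardEq (by simp; omega)
  let v₀ : Fin k → Fin n → F := fun i l =>
    Sum.elim (Sum.elim (fun j => if j = i then 1 else 0) (fun j => if j = i then t else 0)) (fun _ => 0) (e.symm l)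
  have hsum : ∀ (f : Fin n → F), ∑ l, f l = (∑ j, f (e (.inl (.inl j))) + ∑ j, f (e (.inl (.inr j)))) +
      ∑ j, f (e (.inr j)) := fun f => by
    rw [← e.sum_comp, Fintype.sum_sum_type, Fintype.sum_sum_type]
  have hform : ∀ (w : Fin n → F) (i : Fin k),
      Cfsg.hermForm n F q w (v₀ i) = w (e (.inl (.inl i))) + w (e (.inl (.inr i))) * t ^ q := by
    intro w i
    rw [Cfsg.hermForm, hsum]
    simp [v₀, ite_pow, hq]
  have hv₀ : IsTIFam F q n v₀ := by
    refine ⟨Fintype.linearIndependent_iff.2 fun g hg i => ?_, fun i j => ?_⟩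
    · have := congrFun hg (e (.inl (.inl i)))
      simpa [v₀] using this
    · rw [hform]
      simp only [v₀, Equiv.symm_apply_apply, Sum.elim_inl, Sum.elim_inr]
      split_ifs with h
      · rw [← pow_succ', ht]; ring
      · ring
  obtain ⟨g, hg, hgv⟩ := gu_transitive hF hv hv₀
  have hg' : ∀ a b, Cfsg.hermForm n F q ((g : Matrix (Fin n) (Fin n) F) *ᵥ a) ((g : Matrix (Fin n) (Fin n) F) *ᵥ b) =
      Cfsg.hermForm n F q a b := hg
  have hbij : Function.Bijective fun w : Fin n → F => (g : Matrix (Fin n) (Fin n) F) *ᵥ w :=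
    (Matrix.mulVec_injective_iff_isUnit.2 g.isUnit).bijective_of_finite
  rw [Nat.card_congr ((Equiv.ofBijective _ hbij).subtypeEquiv
    (q := fun w => Cfsg.hermForm n F q w w = 0 ∧ ∀ i, Cfsg.hermForm n F q w (v₀ i) = 0)
    fun w => by simp only [Equiv.ofBijective_apply, ← hgv, hg'])]
  have hts : (t ^ q) ^ (q + 1) = -1 := by rw [← pow_mul, mul_comm, pow_mul, ht, ← hσ, map_neg, map_one]
  have hneg : ((-1 : F)) ^ (q + 1) = 1 := by rw [pow_succ, ← hσ, map_neg, map_one]; ring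
  have key : ∀ w : Fin n → F,
      (Cfsg.hermForm n F q w w = 0 ∧ ∀ i, Cfsg.hermForm n F q w (v₀ i) = 0) ↔
        ((∀ i, w (e (.inl (.inl i))) = -(w (e (.inl (.inr i))) * t ^ q)) ∧
          ∑ j, w (e (.inr j)) ^ (q + 1) = 0) := by
    intro w
    simp only [hform, ← eq_neg_iff_add_eq_zero]
    rw [hermForm_self, hsum, and_comm, and_congr_right_iff]
    intro h
    have h0 : ∑ j, w (e (.inl (.inl j))) ^ (q + 1) + ∑ j, w (e (.inl (.inr j))) ^ (q + 1) = 0 := by
      rw [← Finset.sum_add_distrib]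
      refine Finset.sum_eq_zero fun j _ => ?_
      rw [h j, neg_pow, mul_pow, hts, hneg]; ring
    rw [h0, zero_add]
  let f : {w : Fin n → F // (∀ i, w (e (.inl (.inl i))) = -(w (e (.inl (.inr i))) * t ^ q)) ∧
      ∑ j, w (e (.inr j)) ^ (q + 1) = 0} ≃ (Fin k → F) × {u : Fin r → F // ∑ i, u i ^ (q + 1) = 0} :=
    { toFun := fun w => (fun i => w.1 (e (.inl (.inr i))), ⟨fun j => w.1 (e (.inr j)), w.2.2⟩)
      invFun := fun p => ⟨fun l => Sum.elim (Sum.elim (fun i => -(p.1 i * t ^ q)) p.1) p.2.1 (e.symm l),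
        fun i => by simp, by simpa using p.2.2⟩
      left_inv := fun w => Subtype.ext (funext fun l => by
        obtain ⟨x, rfl⟩ := e.surjective l
        rcases x with (x | x) | x <;> simp [w.2.1 _])
      right_inv := fun p => by simp }
  rw [Nat.card_congr ((Equiv.subtypeEquivRight key).trans f), Nat.card_prod, Nat.card_fun, Nat.card_fin, hF,
    ← pow_mul]
  rfl

theorem isTIFam_cons (hF : Nat.card F = q ^ 2) {k : ℕ} {x : Fin n → F} {v : Fin k → Fin n → F} :
    IsTIFam F q n (Fin.cons x v : Fin (k + 1) → Fin n → F) ↔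
      IsTIFam F q n v ∧ ((Cfsg.hermForm n F q x x = 0 ∧ ∀ i, Cfsg.hermForm n F q x (v i) = 0) ∧
        x ∉ Submodule.span F (Set.range v)) := by
  obtain ⟨σ, hσ⟩ := exists_uFrob hF
  have hsym : ∀ {a b : Fin n → F}, Cfsg.hermForm n F q a b = 0 → Cfsg.hermForm n F q b a = 0 := fun {a b} h => by
    rw [hσ.hermForm_eq] at h ⊢
    exact hσ.swap_zero h
  rw [IsTIFam, linearIndependent_finCons, IsTIFam]
  constructor
  · rintro ⟨⟨h1, h2⟩, h⟩
    exact ⟨⟨h1, fun i j => by simpa using h i.succ j.succ⟩, ⟨by simpa using h 0 0, fun i => by simpa using h 0 i.succ⟩, h2⟩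
  · rintro ⟨⟨h1, h⟩, ⟨hx, hxv⟩, h2⟩
    refine ⟨⟨h1, h2⟩, fun i j => ?_⟩
    induction i using Fin.cases with
    | zero =>
      induction j using Fin.cases with
      | zero => simpa using hx
      | succ j => simpa using hxv j
    | succ i =>
      induction j using Fin.cases with
      | zero => simpa using hsym (hxv i)
      | succ j => simpa using h i j

theorem card_fam_succ (hF : Nat.card F = q ^ 2) {k r : ℕ} (hn : 2 * k + r = n) :
    Nat.card {v : Fin (k + 1) → Fin n → F // IsTIFam F q n v} =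
      Nat.card {v : Fin k → Fin n → F // IsTIFam F q n v} * (q ^ (2 * k) * normCount F q r 0 - q ^ (2 * k)) := by
  classical
  obtain ⟨σ, hσ⟩ := exists_uFrob hF
  haveI : Fintype {v : Fin k → Fin n → F // IsTIFam F q n v} := Fintype.ofFinite _
  let B := fun v : {v : Fin k → Fin n → F // IsTIFam F q n v} => {x : Fin n → F //
    (Cfsg.hermForm n F q x x = 0 ∧ ∀ i, Cfsg.hermForm n F q x (v.1 i) = 0) ∧ x ∉ Submodule.span F (Set.range v.1)}
  let e : {v : Fin (k + 1) → Fin n → F // IsTIFam F q n v} ≃ Σ v, B v :=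
    { toFun := fun v => ⟨⟨Fin.tail v.1, ((isTIFam_cons hF).1 (by rw [Fin.cons_self_tail]; exact v.2)).1⟩,
        v.1 0, ((isTIFam_cons hF).1 (by rw [Fin.cons_self_tail]; exact v.2)).2⟩
      invFun := fun p => ⟨Fin.cons p.2.1 p.1.1, (isTIFam_cons hF).2 ⟨p.1.2, p.2.2⟩⟩
      left_inv := fun v => Subtype.ext (Fin.cons_self_tail _)
      right_inv := fun p => rfl }
  have hB : ∀ v, Nat.card (B v) = q ^ (2 * k) * normCount F q r 0 - q ^ (2 * k) := by
    intro v
    rw [← card_fibre hF hn v.2, show q ^ (2 * k) = Nat.card (Submodule.span F (Set.range v.1)) by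
      rw [Module.natCard_eq_pow_finrank (K := F), finrank_span_eq_card v.2.1, Fintype.card_fin, hF, ← pow_mul]]
    let T : Set (Fin n → F) := {x | Cfsg.hermForm n F q x x = 0 ∧ ∀ i, Cfsg.hermForm n F q x (v.1 i) = 0}
    show Nat.card ↥(T \ (Submodule.span F (Set.range v.1) : Set (Fin n → F))) = Nat.card ↥T - _
    rw [Nat.card_coe_set_eq, Set.ncard_sdiff ?_ (Set.toFinite _), Nat.card_coe_set_eq, ← Nat.card_coe_set_eq]
    · rfl
    · intro x hx
      obtain ⟨a, rfl⟩ := (Submodule.mem_span_range_iff_exists_fun F).1 hx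
      have key : ∀ i, uh σ (∑ j, a j • v.1 j) (v.1 i) = 0 := fun i => by
        have hh : ∀ j, uh σ (v.1 j) (v.1 i) = 0 := fun j => by rw [← hσ.hermForm_eq]; exact v.2.2 j i
        rw [uh, sum_dotProduct]
        exact Finset.sum_eq_zero fun j _ => by rw [smul_dotProduct]; exact smul_eq_zero_of_right _ (hh j)
      refine ⟨?_, fun i => by rw [hσ.hermForm_eq]; exact key i⟩
      rw [hσ.hermForm_eq]
      refine hσ.swap_zero ?_
      rw [uh, sum_dotProduct]
      exact Finset.sum_eq_zero fun j _ => by rw [smul_dotProduct]; exact smul_eq_zero_of_right _ (hσ.swap_zero (key j))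
  rw [Nat.card_congr e, Nat.card_sigma, Finset.sum_congr rfl fun v _ => hB v, Finset.sum_const, Finset.card_univ,
    ← Nat.card_eq_fintype_card, smul_eq_mul]

theorem card_GU_succ_succ (hF : Nat.card F = q ^ 2) (r : ℕ) :
    (normCount F q (r + 2) 0 - 1) * q ^ (2 * r + 1) * Nat.card (Cfsg.GU r F q) = Nat.card (Cfsg.GU (r + 2) F q) := by
  have hq2 := two_le_q hF
  rw [card_GU hF, card_GU hF, Finset.prod_range_succ, Finset.prod_range_succ]
  have hexp : (r + 2) * (r + 2 - 1) / 2 = r * (r - 1) / 2 + (2 * r + 1) := by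
    rcases r with _ | r
    · rfl
    · rw [show (r + 1 + 2) * (r + 1 + 2 - 1) = (r + 1) * (r + 1 - 1) + 2 * (2 * (r + 1) + 1) by
        rw [show r + 1 + 2 - 1 = r + 2 by omega, show r + 1 - 1 = r by omega]; ring,
        Nat.add_mul_div_left _ _ (by norm_num : 0 < 2)]
  rw [hexp, pow_add]
  have hN : normCount F q (r + 2) 0 - 1 = (if Even r then q ^ (r + 1) + 1 else q ^ (r + 1) - 1) *
      (if Even (r + 1) then q ^ (r + 1 + 1) + 1 else q ^ (r + 1 + 1) - 1) := by
    have h := (normCount_closed hF (r + 2)).1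
    have hq : (q : ℤ) ≠ 0 := by omega
    have h1 : 1 ≤ q ^ (r + 1) := Nat.one_le_pow _ _ (by omega)
    have h2 : 1 ≤ q ^ (r + 1 + 1) := Nat.one_le_pow _ _ (by omega)
    have h3 : 1 ≤ normCount F q (r + 2) 0 := Nat.card_pos_iff.2 ⟨⟨⟨0, by simp⟩⟩, inferInstance⟩
    zify [h3]
    rcases Nat.even_or_odd r with he | ho
    · rw [if_pos he, if_neg (by rw [Nat.even_add_one]; exact fun h => h he)]
      push_cast [h2]
      have hs : ((-1 : ℤ)) ^ (r + 2) = 1 := (Even.add he even_two).neg_one_pow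
      rw [hs] at h
      refine mul_left_cancel₀ hq ?_
      linear_combination h
    · rw [if_neg (Nat.not_even_iff_odd.2 ho), if_pos (by rw [Nat.even_add_one]; exact Nat.not_even_iff_odd.2 ho)]
      push_cast [h1]
      have hs : ((-1 : ℤ)) ^ (r + 2) = -1 := (Odd.add_even ho even_two).neg_one_pow
      rw [hs] at h
      refine mul_left_cancel₀ hq ?_
      linear_combination h
  rw [hN]
  ring

theorem card_fam_mul (hF : Nat.card F = q ^ 2) : ∀ k r : ℕ, 2 * k + r = n →
    Nat.card {v : Fin k → Fin n → F // IsTIFam F q n v} * q ^ (k * (k + 2 * r)) * Nat.card (Cfsg.GU r F q) =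
      Nat.card (Cfsg.GU n F q) := by
  intro k
  induction k with
  | zero =>
    intro r hn
    obtain rfl : r = n := by omega
    haveI : Unique {v : Fin 0 → Fin r → F // IsTIFam F q r v} :=
      { default := ⟨Fin.elim0, linearIndependent_empty_type, fun i => i.elim0⟩
        uniq := fun v => Subtype.ext (Subsingleton.elim _ _) }
    simp
  | succ k ih =>
    intro r hn
    rw [← ih (r + 2) (by omega), card_fam_succ hF (r := r + 2) (by omega), ← card_GU_succ_succ hF r]
    have e : q ^ (2 * k) * normCount F q (r + 2) 0 - q ^ (2 * k) = q ^ (2 * k) * (normCount F q (r + 2) 0 - 1) := by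
      rw [Nat.mul_sub, mul_one]
    rw [e, show (k + 1) * (k + 1 + 2 * r) = k * (k + 2 * (r + 2)) + (2 * r + 1) - 2 * k by
      rw [show k * (k + 2 * (r + 2)) + (2 * r + 1) = (k + 1) * (k + 1 + 2 * r) + 2 * k by ring, Nat.add_sub_cancel]]
    have hle : 2 * k ≤ k * (k + 2 * (r + 2)) + (2 * r + 1) := by nlinarith
    calc _ = Nat.card {v : Fin k → Fin n → F // IsTIFam F q n v} *
          (q ^ (2 * k) * q ^ (k * (k + 2 * (r + 2)) + (2 * r + 1) - 2 * k)) * (normCount F q (r + 2) 0 - 1) *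
            Nat.card (Cfsg.GU r F q) := by ring
      _ = _ := by rw [← pow_add, Nat.add_sub_cancel' hle, pow_add]; ring

/-- A torus element with prescribed determinant fixing a totally isotropic subspace. -/
theorem exists_det (hF : Nat.card F = q ^ 2) (hn : 1 ≤ n) {k : ℕ} (W : Submodule F (Fin n → F))
    (hWk : Module.finrank F W = k) (hW : ∀ u ∈ W, ∀ v ∈ W, Cfsg.hermForm n F q u v = 0) (c : normOne F q) :
    ∃ g ∈ Cfsg.stabilizing ((Cfsg.glToMat (Fin n) F).comp (Cfsg.GU n F q).subtype) (W : Set (Fin n → F)),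
      guDet n F q g = c := by
  classical
  rcases Nat.eq_zero_or_pos k with hk | hk
  · subst hk
    obtain ⟨g, hg⟩ := (guDet_range hF hn).ge c.2
    refine ⟨g, fun v => ?_, hg⟩
    rw [Submodule.finrank_eq_zero.1 hWk]
    show v ∈ (⊥ : Submodule F _) ↔ (g.1 : Matrix (Fin n) (Fin n) F) *ᵥ v ∈ (⊥ : Submodule F _)
    rw [Submodule.mem_bot, Submodule.mem_bot]
    exact ⟨fun h => by rw [h, mulVec_zero], fun h => Matrix.mulVec_injective_iff_isUnit.2 g.1.isUnit (by rw [h, mulVec_zero])⟩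
  obtain ⟨σ, h⟩ := exists_uFrob hF
  haveI : Nontrivial W := Module.finrank_pos_iff.1 (by rw [hWk]; exact hk)
  obtain ⟨⟨d, hdW⟩, hd0⟩ := exists_ne (0 : W)
  have hd : d ≠ 0 := fun h' => hd0 (Subtype.ext h')
  have hdd : uh σ d d = 0 := by rw [← h.hermForm_eq]; exact hW d hdW d hdW
  obtain ⟨e, hee, hde, hed, -⟩ := exists_partner h ⊥ (d := d) (by simpa using hd) hdd
    (fun x hx => by rw [(Submodule.mem_bot F).1 hx, uh_zero_left])
  have hcq : ((c : Fˣ) : F) * σ ((c : Fˣ) : F) = 1 := by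
    have := congrArg Units.val (MonoidHom.mem_ker.1 c.2)
    rwa [powMonoidHom_apply, Units.val_pow_eq_pow_val, Units.val_one, pow_succ', ← h.pow] at this
  obtain ⟨a, ha, hac⟩ : ∃ a : F, a ≠ 0 ∧ a * (σ a)⁻¹ = ((c : Fˣ) : F) := by
    by_cases hc : ((c : Fˣ) : F) = -1
    · obtain ⟨x, hx⟩ : ∃ x, σ x ≠ x := by
        by_contra h'
        push Not at h'
        exact h.ne (RingHom.ext h')
      refine ⟨x - σ x, sub_ne_zero.2 (Ne.symm hx), ?_⟩
      rw [map_sub, h.invol, hc, ← neg_sub x (σ x), inv_neg, mul_neg, mul_inv_cancel₀ (sub_ne_zero.2 (Ne.symm hx))]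
    · have h1 : 1 + ((c : Fˣ) : F) ≠ 0 := fun h0 => hc (by linear_combination h0)
      refine ⟨1 + ((c : Fˣ) : F), h1, ?_⟩
      rw [mul_inv_eq_iff_eq_mul₀ ((map_ne_zero σ).2 h1), map_add, map_one, mul_add, hcq]
      ring
  have hσa : σ a ≠ 0 := (map_ne_zero σ).2 ha
  set U : Matrix (Fin n) (Fin 2) F := Matrix.of fun i j => ![d i, e i] j with hU
  set R : Matrix (Fin 2) (Fin n) F := Matrix.of ![(a - 1) • (σ ∘ e), ((σ a)⁻¹ - 1) • (σ ∘ d)] with hR
  set T : Matrix (Fin n) (Fin n) F := 1 + U * R with hT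
  have hTx : ∀ x, T *ᵥ x = x + ((a - 1) * uh σ x e) • d + (((σ a)⁻¹ - 1) * uh σ x d) • e := by
    intro x
    funext i
    rw [hT, add_mulVec, one_mulVec, ← mulVec_mulVec]
    have h0 : (R *ᵥ x) 0 = (a - 1) * uh σ x e := by
      show ((a - 1) • (σ ∘ e)) ⬝ᵥ x = _
      rw [smul_dotProduct, smul_eq_mul, uh, dotProduct_comm]
    have h1 : (R *ᵥ x) 1 = ((σ a)⁻¹ - 1) * uh σ x d := by
      show (((σ a)⁻¹ - 1) • (σ ∘ d)) ⬝ᵥ x = _
      rw [smul_dotProduct, smul_eq_mul, uh, dotProduct_comm]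
    show x i + ∑ j, U i j * (R *ᵥ x) j = _
    rw [Fin.sum_univ_two, h0, h1]
    simp [hU]
    ring
  have hdet : T.det = ((c : Fˣ) : F) := by
    rw [hT, Matrix.det_one_add_mul_comm]
    have h00 : (R * U) 0 0 = a - 1 := by
      show ((a - 1) • (σ ∘ e)) ⬝ᵥ d = _
      rw [smul_dotProduct, smul_eq_mul, dotProduct_comm, ← uh, hde, mul_one]
    have h01 : (R * U) 0 1 = 0 := by
      show ((a - 1) • (σ ∘ e)) ⬝ᵥ e = _
      rw [smul_dotProduct, smul_eq_mul, dotProduct_comm, ← uh, hee, mul_zero]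
    have h10 : (R * U) 1 0 = 0 := by
      show (((σ a)⁻¹ - 1) • (σ ∘ d)) ⬝ᵥ d = _
      rw [smul_dotProduct, smul_eq_mul, dotProduct_comm, ← uh, hdd, mul_zero]
    have h11 : (R * U) 1 1 = (σ a)⁻¹ - 1 := by
      show (((σ a)⁻¹ - 1) • (σ ∘ d)) ⬝ᵥ e = _
      rw [smul_dotProduct, smul_eq_mul, dotProduct_comm, ← uh, hed, mul_one]
    rw [Matrix.det_fin_two]
    simp only [Matrix.add_apply, h00, h01, h10, h11, Matrix.one_apply_eq, Matrix.one_apply_ne zero_ne_one,
      Matrix.one_apply_ne one_ne_zero]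
    rw [← hac]
    ring
  let g : GL (Fin n) F := GeneralLinearGroup.mkOfDetNeZero T (by rw [hdet]; exact Units.ne_zero _)
  have hgU : g ∈ Cfsg.GU n F q := by
    intro x y
    show Cfsg.hermForm n F q (T *ᵥ x) (T *ᵥ y) = _
    rw [h.hermForm_eq, h.hermForm_eq, hTx, hTx]
    simp only [uh_add_left, uh_add_right, uh_smul_left, uh_smul_right, hdd, hee, hde, hed, map_mul, map_sub, map_one,
      map_inv₀, h.invol, h.symm y d, h.symm y e]
    field_simp
    ring
  refine ⟨⟨g, hgU⟩, ?_, Units.ext hdet⟩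
  have hmap : ∀ x ∈ W, T *ᵥ x ∈ W := fun x hx => by
    rw [hTx, show uh σ x d = 0 by rw [← h.hermForm_eq]; exact hW x hx d hdW, mul_zero, zero_smul, add_zero]
    exact W.add_mem hx (W.smul_mem _ hdW)
  intro v
  refine ⟨hmap v, fun hv => ?_⟩
  have hinj : Function.Injective fun x : W => (⟨T *ᵥ x, hmap x x.2⟩ : W) := fun x y hxy =>
    Subtype.ext (Matrix.mulVec_injective_iff_isUnit.2 g.isUnit (congrArg Subtype.val hxy))
  obtain ⟨u, hu⟩ := hinj.bijective_of_finite.2 ⟨_, hv⟩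
  rw [← Matrix.mulVec_injective_iff_isUnit.2 g.isUnit (congrArg Subtype.val hu : T *ᵥ (u : Fin n → F) = T *ᵥ v)]
  exact u.2

/-- The order of the stabiliser. -/
theorem card_stab (hF : Nat.card F = q ^ 2) (hn : 1 ≤ n) {k : ℕ} (hk : 2 * k ≤ n) (W : Submodule F (Fin n → F))
    (hWk : Module.finrank F W = k) (hW : ∀ u ∈ W, ∀ v ∈ W, Cfsg.hermForm n F q u v = 0) :
    (q + 1) * Nat.card ↥((Cfsg.stabilizing (Cfsg.slToMat n F) (W : Set (Fin n → F))).subgroupOf (Cfsg.SU n F q)) =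
      q ^ (k * (2 * n - 3 * k)) * (∏ i : Fin k, ((q ^ 2) ^ k - (q ^ 2) ^ (i : ℕ))) *
        Nat.card (Cfsg.GU (n - 2 * k) F q) := by
  classical
  haveI := Fintype.ofFinite F
  obtain ⟨σ, h⟩ := exists_uFrob hF
  set toMat := (Cfsg.glToMat (Fin n) F).comp (Cfsg.GU n F q).subtype with htoMat
  set S := Cfsg.stabilizing toMat (W : Set (Fin n → F)) with hS
  set b := Module.finBasisOfFinrankEq F W hWk
  set x : Fin k → Fin n → F := fun i => (b i : Fin n → F) with hx
  have hxli : LinearIndependent F x := b.linearIndependent.map' W.subtype W.ker_subtype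
  have hspan := StabCount.span_eq_of_famIn hWk hxli fun i => (b i).2
  have hP : ∀ (g : Cfsg.GU n F q) v, IsTIFam F q n (k := k) v → IsTIFam F q n fun i => toMat g *ᵥ v i := by
    intro g v hv
    refine ⟨?_, fun i j => ?_⟩
    · exact hv.1.map' (Matrix.mulVecLin (g.1 : Matrix (Fin n) (Fin n) F))
        (LinearMap.ker_eq_bot.2 (Matrix.mulVec_injective_iff_isUnit.2 g.1.isUnit))
    · exact (g.2 (v i) (v j)).trans (hv.2 i j)
  have hmem : ∀ g : Cfsg.GU n F q, g ∈ S ↔ ∀ i, toMat g *ᵥ x i ∈ W := by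
    intro g
    refine ⟨fun hg i => (hg _).1 (b i).2, fun hg v => ?_⟩
    let L : (Fin n → F) →ₗ[F] (Fin n → F) := Matrix.mulVecLin (g.1 : Matrix (Fin n) (Fin n) F)
    have hinj : Function.Injective L := Matrix.mulVec_injective_iff_isUnit.2 g.1.isUnit
    have hmap : W.map L = W := by
      rw [← hspan, Submodule.map_span, ← Set.range_comp]
      exact (StabCount.span_eq_of_famIn hWk (hxli.map' L (LinearMap.ker_eq_bot.2 hinj)) fun i => hg i).trans hspan.symm
    show v ∈ W ↔ L v ∈ W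
    constructor
    · intro hv; rw [← hmap]; exact ⟨v, hv, rfl⟩
    · intro hv
      rw [← hmap] at hv
      obtain ⟨u, hu, e⟩ := hv
      rwa [← hinj e]
  have hxP : IsTIFam F q n x := ⟨hxli, fun i j => hW _ (b i).2 _ (b j).2⟩
  have hcount := StabCount.card_stab_mul toMat (IsTIFam F q n (k := k)) hP
    (fun v w hv hw => by
      obtain ⟨g, hg, hgv⟩ := gu_transitive hF hv hw
      exact ⟨⟨g, hg⟩, hgv⟩) S hxP
    (fun g hg => (hmem g).2 fun i => by rw [hg i]; exact (b i).2)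
    (fun v => LinearIndependent F v ∧ ∀ i, v i ∈ W) (fun v hv => ⟨hv.1, fun i j => hW _ (hv.2 i) _ (hv.2 j)⟩)
    (fun g hg => ⟨(hP g x hxP).1, (hmem g).1 hg⟩) (fun g hg => (hmem g).2 hg.2)
  rw [StabCount.card_famIn hWk, ← Nat.card_eq_fintype_card, hF] at hcount
  obtain ⟨r, rfl⟩ : ∃ r, n = 2 * k + r := ⟨n - 2 * k, by omega⟩
  rw [← card_fam_mul hF k r rfl] at hcount
  -- the determinant
  set D := (guDet (2 * k + r) F q).comp S.subtype with hD
  have hrange : D.range = normOne F q := by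
    refine le_antisymm ?_ fun c hc => ?_
    · rintro _ ⟨g, rfl⟩
      exact (guDet_range hF hn).le ⟨_, rfl⟩
    · obtain ⟨g, hg, hgc⟩ := exists_det hF hn W hWk hW ⟨c, hc⟩
      exact ⟨⟨g, hg⟩, hgc⟩
  have hker : Nat.card D.ker =
      Nat.card ↥((Cfsg.stabilizing (Cfsg.slToMat (2 * k + r) F) (W : Set (Fin (2 * k + r) → F))).subgroupOf
        (Cfsg.SU (2 * k + r) F q)) :=
    Nat.card_congr
      { toFun := fun g => ⟨⟨⟨g.1.1.1.1, congrArg Units.val (MonoidHom.mem_ker.1 g.2)⟩, g.1.1.2⟩, g.1.2⟩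
        invFun := fun s => ⟨⟨⟨Matrix.SpecialLinearGroup.toGL s.1.1, s.1.2⟩, s.2⟩, MonoidHom.mem_ker.2 (Units.ext s.1.1.2)⟩
        left_inv := fun g => Subtype.ext (Subtype.ext (Subtype.ext (Units.ext rfl)))
        right_inv := fun s => rfl }
  have hmul := D.ker.card_mul_index
  rw [Subgroup.index_ker, hrange, card_normOne hF, hker, mul_comm] at hmul
  rw [hmul]
  have hpos : 0 < Nat.card {v : Fin k → Fin (2 * k + r) → F // IsTIFam F q (2 * k + r) v} :=
    Nat.card_pos_iff.2 ⟨⟨⟨x, hxP⟩⟩, inferInstance⟩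
  refine Nat.eq_of_mul_eq_mul_right hpos ?_
  rw [hcount, show 2 * (2 * k + r) - 3 * k = k + 2 * r by omega, Nat.add_sub_cancel_left]
  ring

end CfsgLib.Geometry.UnitaryStab
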