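import Cfsg.Agent.Lib.Geometry.ReflectionGen

/-! Dickson invariant and spinor norm through the Wall form. -/

set_option autoImplicit false

namespace CfsgLib.Geometry

open QuadraticMap

variable {F V : Type*} [Field F] [AddCommGroup V] [Module F V]

/-- `w ↦ w - g w`. -/
def movMap (g : V ≃ₗ[F] V) : V →ₗ[F] V := LinearMap.id - g.toLinearMap

@[simp]
theorem movMap_apply (g : V ≃ₗ[F] V) (w : V) : movMap g w = w - g w := rfl

/-- The moved space `[V, g]`. -/
def movSpace (g : V ≃ₗ[F] V) : Submodule F V := LinearMap.range (movMap g)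

theorem sub_mem_movSpace (g : V ≃ₗ[F] V) (w : V) : w - g w ∈ movSpace g := ⟨w, rfl⟩

/-- `F*` modulo squares. -/
def SqClass (F : Type*) [Field F] : Type _ := Fˣ ⧸ (powMonoidHom 2 : Fˣ →* Fˣ).range

instance sqClassCommGroup (F : Type*) [Field F] : CommGroup (SqClass F) :=
  inferInstanceAs (CommGroup (Fˣ ⧸ (powMonoidHom 2 : Fˣ →* Fˣ).range))

/-- The quotient map onto square classes. -/
def sqHom (F : Type*) [Field F] : Fˣ →* SqClass F := QuotientGroup.mk' _

/-- The square class of a non-zero element. -/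
def sqMk {c : F} (hc : c ≠ 0) : SqClass F := sqHom F (Units.mk0 c hc)

theorem sqMk_mul {a b : F} (ha : a ≠ 0) (hb : b ≠ 0) :
    sqMk (mul_ne_zero ha hb) = sqMk ha * sqMk hb := by
  rw [sqMk, sqMk, sqMk, ← map_mul]; congr 1; ext; rfl

theorem sqHom_surjective : Function.Surjective (sqHom F) := QuotientGroup.mk'_surjective _

theorem sqHom_eq_one_iff (u : Fˣ) : sqHom F u = 1 ↔ IsSquare (u : F) := by
  rw [← MonoidHom.mem_ker, show (sqHom F).ker = (powMonoidHom 2 : Fˣ →* Fˣ).range from
    QuotientGroup.ker_mk' _]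
  constructor
  · rintro ⟨t, rfl⟩
    exact ⟨t, by simp [pow_two]⟩
  · rintro ⟨t, ht⟩
    exact ⟨Units.mk0 t (fun h => u.ne_zero (by rw [ht, h, mul_zero])), by ext; simp [pow_two, ht]⟩

theorem sqMk_eq_one_iff {c : F} (hc : c ≠ 0) : sqMk hc = 1 ↔ IsSquare c :=
  sqHom_eq_one_iff _

theorem sqClass_mul_self (s : SqClass F) : s * s = 1 := by
  obtain ⟨u, rfl⟩ := sqHom_surjective s
  rw [← map_mul, sqHom_eq_one_iff]
  exact ⟨u, by simp⟩

theorem sqMk_mul_sq {c t : F} (hc : c ≠ 0) (h : c * t * t ≠ 0) : sqMk h = sqMk hc := by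
  have ht : t * t ≠ 0 := fun h0 => h (by rw [mul_assoc, h0, mul_zero])
  have e : Units.mk0 _ h = Units.mk0 c hc * Units.mk0 _ ht := Units.ext (mul_assoc _ _ _)
  rw [sqMk, sqMk, e, map_mul, (sqHom_eq_one_iff _).2 ⟨t, Units.val_mk0 ht⟩, mul_one]

variable {Q : QuadraticForm F V}

theorem polar_mov_fix {g : V ≃ₗ[F] V} (hg : g ∈ orth Q) {v : V} (hv : g v = v) {u : V}
    (hu : u ∈ movSpace g) : polar Q u v = 0 := by
  obtain ⟨w, rfl⟩ := hu
  rw [movMap_apply, polar_sub_left]
  nth_rw 2 [← hv]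
  rw [orth_polar hg, sub_self]

theorem fixed_of_perp_mov (hQ : (polarBilin Q).Nondegenerate) {g : V ≃ₗ[F] V} (hg : g ∈ orth Q)
    {v : V} (hv : ∀ u ∈ movSpace g, polar Q v u = 0) : g v = v := by
  refine sub_eq_zero.1 (hQ.1 (g v - v) fun y => ?_)
  obtain ⟨w, rfl⟩ := g.surjective y
  have h := hv _ (sub_mem_movSpace g w)
  rw [polarBilin_apply_apply, polar_sub_left, orth_polar hg]
  rw [polar_sub_right] at h
  exact h

theorem mul_refl_fix {g : V ≃ₗ[F] V} (hg : g ∈ orth Q) {a : V} (ha : Q a ≠ 0)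
    (ham : a ∈ movSpace g) : a ∉ movSpace (g * refl Q a ha) := by
  intro h
  obtain ⟨w, hw⟩ := ham
  have hgw : Q (g w) = Q w := mem_orth.1 hg w
  rw [movMap_apply] at hw
  have hp : polar Q (g w) a = -Q a := by
    rw [← hw, polar_sub_right, polar_self', map_sub', hgw, polar_comm Q w]; ring
  have hr : refl Q a ha (g w) = w := by
    rw [refl_apply, hp, mul_neg, inv_mul_cancel₀ ha, ← hw]; module
  have hfix : (g * refl Q a ha) (g w) = g w := by
    show g (refl Q a ha (g w)) = g w
    rw [hr]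
  have := polar_mov_fix (mul_mem hg (refl_mem_orth Q a ha)) hfix h
  rw [polar_comm, hp] at this
  exact ha (neg_eq_zero.1 this)

theorem mul_refl_refl (g : V ≃ₗ[F] V) (a : V) (ha : Q a ≠ 0) :
    g * refl Q a ha * refl Q a ha = g := by
  rw [mul_assoc, refl_mul_self, mul_one]

variable [FiniteDimensional F V]

theorem exists_fix_polar (hQ : (polarBilin Q).Nondegenerate) {g : V ≃ₗ[F] V} (hg : g ∈ orth Q)
    {a : V} (ham : a ∉ movSpace g) :
    ∃ v, g v = v ∧ polar Q v a = 1 ∧ ∀ u ∈ movSpace g, polar Q v u = 0 := by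
  obtain ⟨v, hv, hva⟩ := exists_polar hQ _ ham 1
  exact ⟨v, fixed_of_perp_mov hQ hg hv, hva, hv⟩

theorem movSpace_mul_refl (hQ : (polarBilin Q).Nondegenerate) {g : V ≃ₗ[F] V} (hg : g ∈ orth Q)
    {a : V} (ha : Q a ≠ 0) (ham : a ∉ movSpace g) :
    movSpace (g * refl Q a ha) = movSpace g ⊔ Submodule.span F {a} := by
  set g' := g * refl Q a ha with hg'
  have hgaz : g a ∈ movSpace g ⊔ Submodule.span F {a} := by
    rw [show g a = -(a - g a) + a by abel]
    exact add_mem (Submodule.mem_sup_left (neg_mem (sub_mem_movSpace g a)))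
      (Submodule.mem_sup_right (Submodule.mem_span_singleton_self a))
  have key : ∀ u, u - g' u = (u - g u) + ((Q a)⁻¹ * polar Q u a) • g a := fun u => by
    show u - g (refl Q a ha u) = _
    rw [refl_apply, map_sub, map_smul]; abel
  obtain ⟨v, hgv, hva, -⟩ := exists_fix_polar hQ hg ham
  have hga : g a ∈ movSpace g' := by
    have := key v
    rw [hgv, sub_self, zero_add, hva, mul_one] at this
    have h2 : g a = Q a • (v - g' v) := by rw [this, smul_smul, mul_inv_cancel₀ ha, one_smul]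
    rw [h2]; exact Submodule.smul_mem _ _ (sub_mem_movSpace _ _)
  have hsub : ∀ u, u - g u ∈ movSpace g' := fun u => by
    rw [show u - g u = (u - g' u) - ((Q a)⁻¹ * polar Q u a) • g a by rw [key]; abel]
    exact sub_mem (sub_mem_movSpace _ _) (Submodule.smul_mem _ _ hga)
  refine le_antisymm ?_ (sup_le ?_ ?_)
  · rintro _ ⟨u, rfl⟩
    rw [movMap_apply, key]
    exact add_mem (Submodule.mem_sup_left (sub_mem_movSpace g u)) (Submodule.smul_mem _ _ hgaz)
  · rintro _ ⟨u, rfl⟩
    exact hsub u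
  · rw [Submodule.span_singleton_le_iff_mem, show a = (a - g a) + g a by abel]
    exact add_mem (hsub a) hga

theorem finrank_movSpace_mul_refl (hQ : (polarBilin Q).Nondegenerate) {g : V ≃ₗ[F] V}
    (hg : g ∈ orth Q) {a : V} (ha : Q a ≠ 0) (ham : a ∉ movSpace g) :
    Module.finrank F (movSpace (g * refl Q a ha)) = Module.finrank F (movSpace g) + 1 := by
  have ha0 : a ≠ 0 := fun h => ha (by rw [h, QuadraticMap.map_zero])
  rw [movSpace_mul_refl hQ hg ha ham]
  have h := Submodule.finrank_sup_add_finrank_inf_eq (movSpace g) (Submodule.span F {a})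
  have hdisj : movSpace g ⊓ Submodule.span F {a} = ⊥ := by
    rw [eq_bot_iff]
    rintro z ⟨hz1, hz2⟩
    obtain ⟨t, rfl⟩ := Submodule.mem_span_singleton.1 hz2
    by_contra ht
    exact ham (by simpa [show t ≠ 0 from fun h => ht (by simp [h])] using
      Submodule.smul_mem _ t⁻¹ hz1)
  rw [hdisj, finrank_bot, finrank_span_singleton ha0] at h
  omega

/-- The Dickson invariant. -/
noncomputable def dickson (g : V ≃ₗ[F] V) : ZMod 2 := (Module.finrank F (movSpace g) : ZMod 2)

omit [FiniteDimensional F V] in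
theorem movSpace_one : movSpace (1 : V ≃ₗ[F] V) = ⊥ := by
  rw [eq_bot_iff]; rintro _ ⟨w, rfl⟩; simp

theorem dickson_mul_refl (hQ : (polarBilin Q).Nondegenerate) {g : V ≃ₗ[F] V} (hg : g ∈ orth Q)
    {a : V} (ha : Q a ≠ 0) : dickson (g * refl Q a ha) = dickson g + 1 := by
  by_cases ham : a ∈ movSpace g
  · have h := finrank_movSpace_mul_refl hQ (mul_mem hg (refl_mem_orth Q a ha)) ha
      (mul_refl_fix hg ha ham)
    rw [mul_refl_refl] at h
    unfold dickson
    rw [h, Nat.cast_add, Nat.cast_one, add_assoc, CharTwo.add_self_eq_zero, add_zero]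
  · unfold dickson
    rw [finrank_movSpace_mul_refl hQ hg ha ham, Nat.cast_add, Nat.cast_one]

theorem dickson_one : dickson (1 : V ≃ₗ[F] V) = 0 := by
  rw [dickson, movSpace_one, finrank_bot, Nat.cast_zero]

theorem dickson_refl (hQ : (polarBilin Q).Nondegenerate) {a : V} (ha : Q a ≠ 0) :
    dickson (refl Q a ha) = 1 := by
  have := dickson_mul_refl hQ (one_mem (orth Q)) ha
  rwa [one_mul, dickson_one, zero_add] at this

/-- `c` is a determinant of the Wall form of `g`. -/
def IsSpinorRep (Q : QuadraticForm F V) (g : V ≃ₗ[F] V) (c : F) : Prop :=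
  ∃ (k : ℕ) (w : Fin k → V), LinearIndependent F (fun i => w i - g (w i)) ∧
    Module.finrank F (movSpace g) = k ∧
    c = Matrix.det (Matrix.of fun i j => polar Q (w i) (w j - g (w j)))

theorem exists_spinorRep (g : V ≃ₗ[F] V) : ∃ c, IsSpinorRep Q g c := by
  let b := Module.finBasis F (movSpace g)
  choose w hw using fun i => (b i).2
  refine ⟨_, _, w, ?_, rfl, rfl⟩
  rw [show (fun i => w i - g (w i)) = (movSpace g).subtype ∘ b from funext fun i => hw i]
  exact b.linearIndependent.map' (movSpace g).subtype (Submodule.ker_subtype _)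

theorem span_eq_movSpace {g : V ≃ₗ[F] V} {k : ℕ} {w : Fin k → V}
    (hli : LinearIndependent F (fun i => w i - g (w i)))
    (hk : Module.finrank F (movSpace g) = k) :
    Submodule.span F (Set.range fun i => w i - g (w i)) = movSpace g :=
  Submodule.eq_of_le_of_finrank_eq (Submodule.span_le.2 (by
      rintro _ ⟨i, rfl⟩; exact sub_mem_movSpace g _))
    (by rw [finrank_span_eq_card hli, Fintype.card_fin, hk])

theorem spinorRep_ne_zero (hQ : (polarBilin Q).Nondegenerate) {g : V ≃ₗ[F] V} (hg : g ∈ orth Q)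
    {c : F} (h : IsSpinorRep Q g c) : c ≠ 0 := by
  obtain ⟨k, w, hli, hk, rfl⟩ := h
  intro hdet
  obtain ⟨x, hx0, hx⟩ := Matrix.exists_vecMul_eq_zero_iff.2 hdet
  apply hx0
  have hperp : ∀ u ∈ movSpace g, polar Q (∑ i, x i • w i) u = 0 := by
    have hle : movSpace g ≤ LinearMap.ker (polarBilin Q (∑ i, x i • w i)) := by
      rw [← span_eq_movSpace hli hk, Submodule.span_le]
      rintro _ ⟨j, rfl⟩
      have := congrFun hx j
      simp only [Matrix.vecMul, dotProduct, Matrix.of_apply, Pi.zero_apply] at this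
      simp only [SetLike.mem_coe, LinearMap.mem_ker, map_sum, map_smul, LinearMap.sum_apply,
        LinearMap.smul_apply, smul_eq_mul]
      exact this
    exact fun u hu => hle hu
  have hfix := fixed_of_perp_mov hQ hg hperp
  funext i
  refine Fintype.linearIndependent_iff.1 hli x ?_ i
  simp only [smul_sub, Finset.sum_sub_distrib]
  rw [map_sum] at hfix
  simp only [map_smul] at hfix
  rw [hfix, sub_self]

theorem spinorRep_unique (hQ : (polarBilin Q).Nondegenerate) {g : V ≃ₗ[F] V} (hg : g ∈ orth Q)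
    {c d : F} (hc : IsSpinorRep Q g c) (hd : IsSpinorRep Q g d) :
    sqMk (spinorRep_ne_zero hQ hg hc) = sqMk (spinorRep_ne_zero hQ hg hd) := by
  have hc0 := spinorRep_ne_zero hQ hg hc
  have hd0 := spinorRep_ne_zero hQ hg hd
  obtain ⟨k, w, hli, hk, rfl⟩ := hc
  obtain ⟨k', w', hli', hk', rfl⟩ := hd
  obtain rfl : k' = k := by omega
  have hmem : ∀ i, w' i - g (w' i) ∈ Submodule.span F (Set.range fun i => w i - g (w i)) :=
    fun i => by rw [span_eq_movSpace hli hk]; exact sub_mem_movSpace g _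
  choose P hP using fun i => (Submodule.mem_span_range_iff_exists_fun F).1 (hmem i)
  let M := Matrix.of fun i j => polar Q (w i) (w j - g (w j))
  let P' : Matrix (Fin k') (Fin k') F := Matrix.of P
  have hz : ∀ i, g (w' i - ∑ l, P i l • w l) = w' i - ∑ l, P i l • w l := fun i => by
    have := hP i
    simp only [smul_sub, Finset.sum_sub_distrib] at this
    simp only [map_sub, map_sum, map_smul]
    rw [← sub_eq_zero]
    rw [← sub_eq_zero] at this
    rw [← this]; abel
  have hM : (Matrix.of fun i j => polar Q (w' i) (w' j - g (w' j))) = P' * M * P'.transpose := by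
    ext i j
    have h0 := polar_mov_fix hg (hz i) (sub_mem_movSpace g (w' j))
    rw [polar_comm, polar_sub_left, sub_eq_zero] at h0
    rw [Matrix.of_apply, h0, ← hP j,
      show polar Q (∑ l, P i l • w l) (∑ l, P j l • (w l - g (w l))) =
        polarBilin Q (∑ l, P i l • w l) (∑ l, P j l • (w l - g (w l))) from rfl]
    simp only [map_sum, map_smul, LinearMap.sum_apply, LinearMap.smul_apply, smul_eq_mul,
      polarBilin_apply_apply, Matrix.mul_apply, Matrix.transpose_apply, M, P', Matrix.of_apply,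
      Finset.sum_mul, Finset.mul_sum]
    exact Finset.sum_congr rfl fun l _ => Finset.sum_congr rfl fun l' _ => by ring
  have hdet := congrArg Matrix.det hM
  rw [Matrix.det_mul, Matrix.det_mul, Matrix.det_transpose] at hdet
  have e : Matrix.det (Matrix.of fun i j => polar Q (w' i) (w' j - g (w' j))) =
      M.det * P'.det * P'.det := by rw [hdet]; ring
  have h2 : M.det * P'.det * P'.det ≠ 0 := e ▸ hd0
  calc sqMk hc0 = sqMk h2 := (sqMk_mul_sq hc0 h2).symm
    _ = sqMk hd0 := by simp only [e]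

open Classical in
/-- The spinor norm. -/
noncomputable def spinor (Q : QuadraticForm F V) (g : V ≃ₗ[F] V) : SqClass F :=
  if h : ∃ c, c ≠ 0 ∧ IsSpinorRep Q g c then sqMk h.choose_spec.1 else 1

theorem spinor_eq (hQ : (polarBilin Q).Nondegenerate) {g : V ≃ₗ[F] V} (hg : g ∈ orth Q)
    {c : F} (hc : IsSpinorRep Q g c) : spinor Q g = sqMk (spinorRep_ne_zero hQ hg hc) := by
  have h : ∃ c, c ≠ 0 ∧ IsSpinorRep Q g c := ⟨c, spinorRep_ne_zero hQ hg hc, hc⟩
  rw [spinor, dif_pos h]
  exact spinorRep_unique hQ hg h.choose_spec.2 hc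

theorem spinor_one (hQ : (polarBilin Q).Nondegenerate) : spinor Q (1 : V ≃ₗ[F] V) = 1 := by
  have hc : IsSpinorRep Q (1 : V ≃ₗ[F] V) 1 :=
    ⟨0, fun i => i.elim0, linearIndependent_empty_type, by rw [movSpace_one, finrank_bot],
      by simp⟩
  rw [spinor_eq hQ (one_mem _) hc, sqMk_eq_one_iff]
  exact IsSquare.one

theorem spinor_mul_refl_of_notMem (hQ : (polarBilin Q).Nondegenerate) {g : V ≃ₗ[F] V}
    (hg : g ∈ orth Q) {a : V} (ha : Q a ≠ 0) (ham : a ∉ movSpace g) :
    spinor Q (g * refl Q a ha) = spinor Q g * sqMk ha := by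
  obtain ⟨c, hc⟩ := exists_spinorRep (Q := Q) g
  have hc0 := spinorRep_ne_zero hQ hg hc
  have hceq := spinor_eq hQ hg hc
  obtain ⟨k, w, hli, hk, hcdef⟩ := hc
  obtain ⟨v, hgv, hva, hvm⟩ := exists_fix_polar hQ hg ham
  set g' := g * refl Q a ha with hg'def
  have hg' : g' ∈ orth Q := mul_mem hg (refl_mem_orth Q a ha)
  obtain ⟨z, hz⟩ : a ∈ movSpace g' := by
    rw [movSpace_mul_refl hQ hg ha ham]
    exact Submodule.mem_sup_right (Submodule.mem_span_singleton_self a)
  rw [movMap_apply] at hz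
  let w₁ : Fin k → V := fun i => w i - polar Q (w i) a • v
  have hw₁a : ∀ i, polar Q (w₁ i) a = 0 := fun i => by
    simp [w₁, polar_sub_left, polar_smul_left', hva]
  have hb : ∀ i, w₁ i - g' (w₁ i) = w i - g (w i) := fun i => by
    rw [show g' (w₁ i) = g (refl Q a ha (w₁ i)) from rfl, refl_eq_self Q a ha (hw₁a i)]
    simp only [w₁, map_sub, map_smul, hgv]; abel
  have hli' : LinearIndependent F
      (fun i => (Fin.cons z w₁ : Fin (k+1) → V) i - g' ((Fin.cons z w₁ : Fin (k+1) → V) i)) := by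
    have e : (fun i => (Fin.cons z w₁ : Fin (k+1) → V) i - g' ((Fin.cons z w₁ : Fin (k+1) → V) i)) =
        Fin.cons a (fun i => w i - g (w i)) := by
      funext i; induction i using Fin.cases <;> simp [hz, hb]
    rw [e, linearIndependent_finCons, span_eq_movSpace hli hk]
    exact ⟨hli, ham⟩
  have hrep : IsSpinorRep Q g' (Q a * c) := by
    refine ⟨k+1, Fin.cons z w₁, hli', by rw [finrank_movSpace_mul_refl hQ hg ha ham, hk], ?_⟩
    rw [Matrix.det_succ_column_zero, Finset.sum_eq_single 0]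
    · have hza : polar Q z a = Q a := by
        have h1 : Q (z - a) = Q z := by
          rw [show z - a = g' z by rw [← hz]; abel]
          exact mem_orth.1 hg' z
        rw [map_sub'] at h1
        linear_combination -h1
      simp only [Fin.val_zero, pow_zero, one_mul, Matrix.of_apply, Fin.cons_zero, hz, hza,
        Fin.succAbove_zero, hcdef]
      congr 2
      ext i j
      simp only [Matrix.of_apply, Matrix.submatrix_apply, Fin.cons_succ, hb]
      simp only [w₁]
      rw [polar_sub_left, polar_smul_left', hvm _ (sub_mem_movSpace g (w j)), mul_zero, sub_zero]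
    · intro i _ hi
      obtain ⟨i', rfl⟩ := Fin.exists_succ_eq.2 hi
      rw [Matrix.of_apply]
      simp only [Fin.cons_succ, Fin.cons_zero, hz, hw₁a, mul_zero, zero_mul]
    · simp
  rw [spinor_eq hQ hg' hrep, hceq]
  exact (sqMk_mul ha hc0).trans (mul_comm _ _)

theorem spinor_mul_refl (hQ : (polarBilin Q).Nondegenerate) {g : V ≃ₗ[F] V}
    (hg : g ∈ orth Q) {a : V} (ha : Q a ≠ 0) :
    spinor Q (g * refl Q a ha) = spinor Q g * sqMk ha := by
  by_cases ham : a ∈ movSpace g
  · have h := spinor_mul_refl_of_notMem hQ (mul_mem hg (refl_mem_orth Q a ha)) ha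
      (mul_refl_fix hg ha ham)
    rw [mul_refl_refl] at h
    rw [h, mul_assoc, sqClass_mul_self, mul_one]
  · exact spinor_mul_refl_of_notMem hQ hg ha ham

theorem spinor_refl (hQ : (polarBilin Q).Nondegenerate) {a : V} (ha : Q a ≠ 0) :
    spinor Q (refl Q a ha) = sqMk ha := by
  have := spinor_mul_refl hQ (one_mem (orth Q)) ha
  rwa [one_mul, spinor_one hQ, one_mul] at this

/-- A function multiplicative against reflections on the right is multiplicative on `reflGroup`. -/
theorem mul_of_mul_refl {M : Type*} [CommGroup M] (f : (V ≃ₗ[F] V) → M) (h1 : f 1 = 1)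
    (hf : ∀ g ∈ orth Q, ∀ (a : V) (ha : Q a ≠ 0), f (g * refl Q a ha) = f g * f (refl Q a ha)) :
    ∀ b ∈ reflGroup Q, ∀ g ∈ orth Q, f (g * b) = f g * f b := by
  intro b hb
  induction hb using Subgroup.closure_induction with
  | mem x hx => obtain ⟨a, ha, rfl⟩ := hx; exact fun g hg => hf g hg a ha
  | one => intro g _; rw [mul_one, h1, mul_one]
  | mul x y hx _ ihx ihy =>
    intro g hg
    have hxo : x ∈ orth Q := reflGroup_le_orth Q hx
    rw [← mul_assoc, ihy _ (mul_mem hg hxo), ihx g hg, ihy x hxo, mul_assoc]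
  | inv x hx ihx =>
    intro g hg
    have hxo : x ∈ orth Q := reflGroup_le_orth Q hx
    have e1 := ihx _ (mul_mem hg (inv_mem hxo))
    have e2 := ihx _ (inv_mem hxo)
    rw [inv_mul_cancel_right] at e1
    rw [inv_mul_cancel, h1] at e2
    rw [e1, mul_assoc, mul_comm (f x), ← e2, mul_one]

/-- The spinor norm as a homomorphism. -/
noncomputable def spinorHom (hQ : (polarBilin Q).Nondegenerate) (hR : reflGroup Q = orth Q) :
    orth Q →* SqClass F :=
  MonoidHom.mk' (fun g => spinor Q (g : V ≃ₗ[F] V)) fun g b => by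
    show spinor Q ((g : V ≃ₗ[F] V) * (b : V ≃ₗ[F] V)) = _
    exact mul_of_mul_refl (spinor Q) (spinor_one hQ)
      (fun g hg a ha => (spinor_mul_refl hQ hg ha).trans
        (congrArg (spinor Q g * ·) (spinor_refl hQ ha).symm))
      (b : V ≃ₗ[F] V) (hR.ge b.2) (g : V ≃ₗ[F] V) g.2

/-- The Dickson invariant, written multiplicatively. -/
noncomputable def dicksonMul (g : V ≃ₗ[F] V) : Multiplicative (ZMod 2) :=
  Multiplicative.ofAdd (dickson g)

theorem dicksonMul_one : dicksonMul (1 : V ≃ₗ[F] V) = 1 := by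
  unfold dicksonMul; rw [dickson_one, ofAdd_zero]

theorem dicksonMul_refl (hQ : (polarBilin Q).Nondegenerate) {a : V} (ha : Q a ≠ 0) :
    dicksonMul (refl Q a ha) = Multiplicative.ofAdd 1 := by
  unfold dicksonMul; rw [dickson_refl hQ ha]

theorem dicksonMul_mul_refl (hQ : (polarBilin Q).Nondegenerate) {g : V ≃ₗ[F] V} (hg : g ∈ orth Q)
    {a : V} (ha : Q a ≠ 0) :
    dicksonMul (g * refl Q a ha) = dicksonMul g * Multiplicative.ofAdd 1 := by
  unfold dicksonMul; rw [dickson_mul_refl hQ hg ha, ofAdd_add]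

/-- The Dickson invariant as a homomorphism. -/
noncomputable def dicksonHom (hQ : (polarBilin Q).Nondegenerate) (hR : reflGroup Q = orth Q) :
    orth Q →* Multiplicative (ZMod 2) :=
  MonoidHom.mk' (fun g => dicksonMul (g : V ≃ₗ[F] V)) fun g b => by
    show dicksonMul ((g : V ≃ₗ[F] V) * (b : V ≃ₗ[F] V)) = _
    exact mul_of_mul_refl dicksonMul dicksonMul_one
      (fun g hg a ha => (dicksonMul_mul_refl hQ hg ha).trans
        (congrArg (dicksonMul g * ·) (dicksonMul_refl hQ ha).symm))
      (b : V ≃ₗ[F] V) (hR.ge b.2) (g : V ≃ₗ[F] V) g.2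

theorem spinorHom_refl (hQ : (polarBilin Q).Nondegenerate) (hR : reflGroup Q = orth Q) {a : V}
    (ha : Q a ≠ 0) : spinorHom hQ hR ⟨refl Q a ha, refl_mem_orth Q a ha⟩ = sqMk ha :=
  spinor_refl hQ ha

theorem dicksonHom_refl (hQ : (polarBilin Q).Nondegenerate) (hR : reflGroup Q = orth Q) {a : V}
    (ha : Q a ≠ 0) :
    dicksonHom hQ hR ⟨refl Q a ha, refl_mem_orth Q a ha⟩ = Multiplicative.ofAdd 1 :=
  dicksonMul_refl hQ ha

end CfsgLib.Geometry
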